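import Cfsg.Agent.Lib.Helper9.TCData.HeE0.Main

set_option autoImplicit false
set_option maxRecDepth 1000000

namespace Cfsg.Agent.Helper9.TCData.HeE0
open Cfsg.Agent.Helper9.TC2

theorem e0_8 : allRange 18045 1890 (fun u => chkE tab 0 u) = true := by decide +kernel

theorem e0_9 : allRange 19935 2206 (fun u => chkE tab 0 u) = true := by decide +kernel

theorem e0_10 : allRange 22141 2167 (fun u => chkE tab 0 u) = true := by decide +kernel

theorem e0_11 : allRange 24308 2332 (fun u => chkE tab 0 u) = true := by decide +kernel

theorem e0_12 : allRange 26640 3294 (fun u => chkE tab 0 u) = true := by decide +kernel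

theorem e0_13 : allRange 29934 2291 (fun u => chkE tab 0 u) = true := by decide +kernel

theorem e0_14 : allRange 32225 1909 (fun u => chkE tab 0 u) = true := by decide +kernel

theorem e0_15 : allRange 34134 2071 (fun u => chkE tab 0 u) = true := by decide +kernel


end Cfsg.Agent.Helper9.TCData.HeE0
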