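import Cfsg.Agent.Lib.Helper9.TCData.HeE0.Main

set_option autoImplicit false
set_option maxRecDepth 1000000

namespace Cfsg.Agent.Helper9.TCData.HeE0
open Cfsg.Agent.Helper9.TC2

theorem e1_3 : allRange 6738 2251 (fun u => chkE tab 1 u) = true := by decide +kernel

theorem e1_4 : allRange 8989 2250 (fun u => chkE tab 1 u) = true := by decide +kernel

theorem e1_5 : allRange 11239 2315 (fun u => chkE tab 1 u) = true := by decide +kernel

theorem e1_6 : allRange 13554 2254 (fun u => chkE tab 1 u) = true := by decide +kernel

theorem e1_7 : allRange 15808 2255 (fun u => chkE tab 1 u) = true := by decide +kernel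

theorem e1_8 : allRange 18063 2336 (fun u => chkE tab 1 u) = true := by decide +kernel

theorem e1_9 : allRange 20399 2455 (fun u => chkE tab 1 u) = true := by decide +kernel

theorem e1_10 : allRange 22854 2421 (fun u => chkE tab 1 u) = true := by decide +kernel


end Cfsg.Agent.Helper9.TCData.HeE0
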