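import Cfsg.Agent.Lib.Helper9.TCData.HeE0.Main

set_option autoImplicit false
set_option maxRecDepth 1000000

namespace Cfsg.Agent.Helper9.TCData.HeE0
open Cfsg.Agent.Helper9.TC2

theorem f_296 : allRange 103008 348 (fun u => chkFin tab u) = true := by decide +kernel

theorem f_297 : allRange 103356 348 (fun u => chkFin tab u) = true := by decide +kernel

theorem f_298 : allRange 103704 348 (fun u => chkFin tab u) = true := by decide +kernel

theorem f_299 : allRange 104052 348 (fun u => chkFin tab u) = true := by decide +kernel

theorem f_300 : allRange 104400 348 (fun u => chkFin tab u) = true := by decide +kernel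

theorem f_301 : allRange 104748 348 (fun u => chkFin tab u) = true := by decide +kernel

theorem f_302 : allRange 105096 348 (fun u => chkFin tab u) = true := by decide +kernel

theorem f_303 : allRange 105444 348 (fun u => chkFin tab u) = true := by decide +kernel


end Cfsg.Agent.Helper9.TCData.HeE0
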