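import Cfsg.Agent.Lib.Helper9.TCData.HeE0.Main

set_option autoImplicit false
set_option maxRecDepth 1000000

namespace Cfsg.Agent.Helper9.TCData.HeE0
open Cfsg.Agent.Helper9.TC2

theorem f_328 : allRange 114144 348 (fun u => chkFin tab u) = true := by decide +kernel

theorem f_329 : allRange 114492 348 (fun u => chkFin tab u) = true := by decide +kernel

theorem f_330 : allRange 114840 348 (fun u => chkFin tab u) = true := by decide +kernel

theorem f_331 : allRange 115188 348 (fun u => chkFin tab u) = true := by decide +kernel

theorem f_332 : allRange 115536 348 (fun u => chkFin tab u) = true := by decide +kernel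

theorem f_333 : allRange 115884 348 (fun u => chkFin tab u) = true := by decide +kernel

theorem f_334 : allRange 116232 348 (fun u => chkFin tab u) = true := by decide +kernel

theorem f_335 : allRange 116580 348 (fun u => chkFin tab u) = true := by decide +kernel


end Cfsg.Agent.Helper9.TCData.HeE0
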