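import Cfsg.Agent.Lib.Helper9.TCData.HeE0.Main

set_option autoImplicit false
set_option maxRecDepth 1000000

namespace Cfsg.Agent.Helper9.TCData.HeE0
open Cfsg.Agent.Helper9.TC2

theorem f_336 : allRange 116928 348 (fun u => chkFin tab u) = true := by decide +kernel

theorem f_337 : allRange 117276 348 (fun u => chkFin tab u) = true := by decide +kernel

theorem f_338 : allRange 117624 348 (fun u => chkFin tab u) = true := by decide +kernel

theorem f_339 : allRange 117972 348 (fun u => chkFin tab u) = true := by decide +kernel

theorem f_340 : allRange 118320 348 (fun u => chkFin tab u) = true := by decide +kernel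

theorem f_341 : allRange 118668 348 (fun u => chkFin tab u) = true := by decide +kernel

theorem f_342 : allRange 119016 348 (fun u => chkFin tab u) = true := by decide +kernel

theorem f_343 : allRange 119364 348 (fun u => chkFin tab u) = true := by decide +kernel


end Cfsg.Agent.Helper9.TCData.HeE0
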