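import Cfsg.Agent.Lib.Helper9.TCData.HeE0.Main

set_option autoImplicit false
set_option maxRecDepth 1000000

namespace Cfsg.Agent.Helper9.TCData.HeE0
open Cfsg.Agent.Helper9.TC2

theorem f_344 : allRange 119712 348 (fun u => chkFin tab u) = true := by decide +kernel

theorem f_345 : allRange 120060 348 (fun u => chkFin tab u) = true := by decide +kernel

theorem f_346 : allRange 120408 348 (fun u => chkFin tab u) = true := by decide +kernel

theorem f_347 : allRange 120756 348 (fun u => chkFin tab u) = true := by decide +kernel

theorem f_348 : allRange 121104 348 (fun u => chkFin tab u) = true := by decide +kernel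

theorem f_349 : allRange 121452 348 (fun u => chkFin tab u) = true := by decide +kernel

theorem f_350 : allRange 121800 348 (fun u => chkFin tab u) = true := by decide +kernel

theorem f_351 : allRange 122148 348 (fun u => chkFin tab u) = true := by decide +kernel


end Cfsg.Agent.Helper9.TCData.HeE0
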