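import Cfsg.Agent.Lib.Helper9.TCData.HeE0.Main

set_option autoImplicit false
set_option maxRecDepth 1000000

namespace Cfsg.Agent.Helper9.TCData.HeE0
open Cfsg.Agent.Helper9.TC2

theorem f_368 : allRange 128064 348 (fun u => chkFin tab u) = true := by decide +kernel

theorem f_369 : allRange 128412 348 (fun u => chkFin tab u) = true := by decide +kernel

theorem f_370 : allRange 128760 348 (fun u => chkFin tab u) = true := by decide +kernel

theorem f_371 : allRange 129108 348 (fun u => chkFin tab u) = true := by decide +kernel

theorem f_372 : allRange 129456 348 (fun u => chkFin tab u) = true := by decide +kernel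

theorem f_373 : allRange 129804 348 (fun u => chkFin tab u) = true := by decide +kernel

theorem f_374 : allRange 130152 348 (fun u => chkFin tab u) = true := by decide +kernel

theorem f_375 : allRange 130500 348 (fun u => chkFin tab u) = true := by decide +kernel


end Cfsg.Agent.Helper9.TCData.HeE0
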