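import Cfsg.Agent.Lib.Helper9.TCData.HeE0.Main

set_option autoImplicit false
set_option maxRecDepth 1000000

namespace Cfsg.Agent.Helper9.TCData.HeE0
open Cfsg.Agent.Helper9.TC2

theorem e1_11 : allRange 25275 2242 (fun u => chkE tab 1 u) = true := by decide +kernel

theorem e1_12 : allRange 27517 2401 (fun u => chkE tab 1 u) = true := by decide +kernel

theorem e1_13 : allRange 29918 2352 (fun u => chkE tab 1 u) = true := by decide +kernel

theorem e1_14 : allRange 32270 2392 (fun u => chkE tab 1 u) = true := by decide +kernel

theorem e1_15 : allRange 34662 2418 (fun u => chkE tab 1 u) = true := by decide +kernel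

theorem e1_16 : allRange 37080 2462 (fun u => chkE tab 1 u) = true := by decide +kernel

theorem e1_17 : allRange 39542 2490 (fun u => chkE tab 1 u) = true := by decide +kernel

theorem e1_18 : allRange 42032 2511 (fun u => chkE tab 1 u) = true := by decide +kernel


end Cfsg.Agent.Helper9.TCData.HeE0
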