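import Cfsg.Agent.Lib.Helper9.TCData.HeE0.Main

set_option autoImplicit false
set_option maxRecDepth 1000000

namespace Cfsg.Agent.Helper9.TCData.HeE0
open Cfsg.Agent.Helper9.TC2

theorem f_376 : allRange 130848 348 (fun u => chkFin tab u) = true := by decide +kernel

theorem f_377 : allRange 131196 348 (fun u => chkFin tab u) = true := by decide +kernel

theorem f_378 : allRange 131544 348 (fun u => chkFin tab u) = true := by decide +kernel

theorem f_379 : allRange 131892 348 (fun u => chkFin tab u) = true := by decide +kernel

theorem f_380 : allRange 132240 348 (fun u => chkFin tab u) = true := by decide +kernel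

theorem f_381 : allRange 132588 348 (fun u => chkFin tab u) = true := by decide +kernel

theorem f_382 : allRange 132936 348 (fun u => chkFin tab u) = true := by decide +kernel

theorem f_383 : allRange 133284 348 (fun u => chkFin tab u) = true := by decide +kernel


end Cfsg.Agent.Helper9.TCData.HeE0
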