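import Cfsg.Agent.Lib.Helper9.TCData.HeE0.Main

set_option autoImplicit false
set_option maxRecDepth 1000000

namespace Cfsg.Agent.Helper9.TCData.HeE0
open Cfsg.Agent.Helper9.TC2

theorem f_392 : allRange 136416 348 (fun u => chkFin tab u) = true := by decide +kernel

theorem f_393 : allRange 136764 348 (fun u => chkFin tab u) = true := by decide +kernel

theorem f_394 : allRange 137112 348 (fun u => chkFin tab u) = true := by decide +kernel

theorem f_395 : allRange 137460 348 (fun u => chkFin tab u) = true := by decide +kernel

theorem f_396 : allRange 137808 348 (fun u => chkFin tab u) = true := by decide +kernel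

theorem f_397 : allRange 138156 348 (fun u => chkFin tab u) = true := by decide +kernel

theorem f_398 : allRange 138504 348 (fun u => chkFin tab u) = true := by decide +kernel

theorem f_399 : allRange 138852 348 (fun u => chkFin tab u) = true := by decide +kernel


end Cfsg.Agent.Helper9.TCData.HeE0
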