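import Cfsg.Agent.Lib.Helper9.TCData.HeE0.Main

set_option autoImplicit false
set_option maxRecDepth 1000000

namespace Cfsg.Agent.Helper9.TCData.HeE0
open Cfsg.Agent.Helper9.TC2

theorem f_424 : allRange 147552 348 (fun u => chkFin tab u) = true := by decide +kernel

theorem f_425 : allRange 147900 348 (fun u => chkFin tab u) = true := by decide +kernel

theorem f_426 : allRange 148248 348 (fun u => chkFin tab u) = true := by decide +kernel

theorem f_427 : allRange 148596 348 (fun u => chkFin tab u) = true := by decide +kernel

theorem f_428 : allRange 148944 348 (fun u => chkFin tab u) = true := by decide +kernel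

theorem f_429 : allRange 149292 348 (fun u => chkFin tab u) = true := by decide +kernel

theorem f_430 : allRange 149640 348 (fun u => chkFin tab u) = true := by decide +kernel

theorem f_431 : allRange 149988 348 (fun u => chkFin tab u) = true := by decide +kernel


end Cfsg.Agent.Helper9.TCData.HeE0
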