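import Cfsg.Agent.Lib.Helper9.TCData.HeE0.Main

set_option autoImplicit false
set_option maxRecDepth 1000000

namespace Cfsg.Agent.Helper9.TCData.HeE0
open Cfsg.Agent.Helper9.TC2

theorem f_448 : allRange 155904 348 (fun u => chkFin tab u) = true := by decide +kernel

theorem f_449 : allRange 156252 348 (fun u => chkFin tab u) = true := by decide +kernel

theorem f_450 : allRange 156600 348 (fun u => chkFin tab u) = true := by decide +kernel

theorem f_451 : allRange 156948 348 (fun u => chkFin tab u) = true := by decide +kernel

theorem f_452 : allRange 157296 348 (fun u => chkFin tab u) = true := by decide +kernel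

theorem f_453 : allRange 157644 348 (fun u => chkFin tab u) = true := by decide +kernel

theorem f_454 : allRange 157992 348 (fun u => chkFin tab u) = true := by decide +kernel

theorem f_455 : allRange 158340 348 (fun u => chkFin tab u) = true := by decide +kernel


end Cfsg.Agent.Helper9.TCData.HeE0
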