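import Cfsg.Agent.Lib.Helper9.TCData.HeE0.Main

set_option autoImplicit false
set_option maxRecDepth 1000000

namespace Cfsg.Agent.Helper9.TCData.HeE0
open Cfsg.Agent.Helper9.TC2

theorem f_488 : allRange 169824 348 (fun u => chkFin tab u) = true := by decide +kernel

theorem f_489 : allRange 170172 348 (fun u => chkFin tab u) = true := by decide +kernel

theorem f_490 : allRange 170520 348 (fun u => chkFin tab u) = true := by decide +kernel

theorem f_491 : allRange 170868 348 (fun u => chkFin tab u) = true := by decide +kernel

theorem f_492 : allRange 171216 348 (fun u => chkFin tab u) = true := by decide +kernel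

theorem f_493 : allRange 171564 348 (fun u => chkFin tab u) = true := by decide +kernel

theorem f_494 : allRange 171912 348 (fun u => chkFin tab u) = true := by decide +kernel

theorem f_495 : allRange 172260 348 (fun u => chkFin tab u) = true := by decide +kernel


end Cfsg.Agent.Helper9.TCData.HeE0
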