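import Cfsg.Agent.Lib.Helper9.TCData.HeE0.Main

set_option autoImplicit false
set_option maxRecDepth 1000000

namespace Cfsg.Agent.Helper9.TCData.HeE0
open Cfsg.Agent.Helper9.TC2

theorem f_496 : allRange 172608 348 (fun u => chkFin tab u) = true := by decide +kernel

theorem f_497 : allRange 172956 348 (fun u => chkFin tab u) = true := by decide +kernel

theorem f_498 : allRange 173304 348 (fun u => chkFin tab u) = true := by decide +kernel

theorem f_499 : allRange 173652 348 (fun u => chkFin tab u) = true := by decide +kernel

theorem f_500 : allRange 174000 348 (fun u => chkFin tab u) = true := by decide +kernel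

theorem f_501 : allRange 174348 348 (fun u => chkFin tab u) = true := by decide +kernel

theorem f_502 : allRange 174696 348 (fun u => chkFin tab u) = true := by decide +kernel

theorem f_503 : allRange 175044 348 (fun u => chkFin tab u) = true := by decide +kernel


end Cfsg.Agent.Helper9.TCData.HeE0
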