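import Cfsg.Agent.Lib.Helper9.TCData.HeE0.Main

set_option autoImplicit false
set_option maxRecDepth 1000000

namespace Cfsg.Agent.Helper9.TCData.HeE0
open Cfsg.Agent.Helper9.TC2

theorem f_504 : allRange 175392 348 (fun u => chkFin tab u) = true := by decide +kernel

theorem f_505 : allRange 175740 348 (fun u => chkFin tab u) = true := by decide +kernel

theorem f_506 : allRange 176088 348 (fun u => chkFin tab u) = true := by decide +kernel

theorem f_507 : allRange 176436 348 (fun u => chkFin tab u) = true := by decide +kernel

theorem f_508 : allRange 176784 348 (fun u => chkFin tab u) = true := by decide +kernel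

theorem f_509 : allRange 177132 348 (fun u => chkFin tab u) = true := by decide +kernel

theorem f_510 : allRange 177480 348 (fun u => chkFin tab u) = true := by decide +kernel

theorem f_511 : allRange 177828 348 (fun u => chkFin tab u) = true := by decide +kernel


end Cfsg.Agent.Helper9.TCData.HeE0
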