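import Cfsg.Agent.Lib.Helper9.TCData.HeE0.Main

set_option autoImplicit false
set_option maxRecDepth 1000000

namespace Cfsg.Agent.Helper9.TCData.HeE0
open Cfsg.Agent.Helper9.TC2

theorem f_512 : allRange 178176 348 (fun u => chkFin tab u) = true := by decide +kernel

theorem f_513 : allRange 178524 348 (fun u => chkFin tab u) = true := by decide +kernel

theorem f_514 : allRange 178872 348 (fun u => chkFin tab u) = true := by decide +kernel

theorem f_515 : allRange 179220 348 (fun u => chkFin tab u) = true := by decide +kernel

theorem f_516 : allRange 179568 348 (fun u => chkFin tab u) = true := by decide +kernel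

theorem f_517 : allRange 179916 348 (fun u => chkFin tab u) = true := by decide +kernel

theorem f_518 : allRange 180264 348 (fun u => chkFin tab u) = true := by decide +kernel

theorem f_519 : allRange 180612 348 (fun u => chkFin tab u) = true := by decide +kernel


end Cfsg.Agent.Helper9.TCData.HeE0
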