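import Cfsg.Agent.Lib.Helper9.TCData.HeE0.Main

set_option autoImplicit false
set_option maxRecDepth 1000000

namespace Cfsg.Agent.Helper9.TCData.HeE0
open Cfsg.Agent.Helper9.TC2

theorem f_528 : allRange 183744 348 (fun u => chkFin tab u) = true := by decide +kernel

theorem f_529 : allRange 184092 348 (fun u => chkFin tab u) = true := by decide +kernel

theorem f_530 : allRange 184440 348 (fun u => chkFin tab u) = true := by decide +kernel

theorem f_531 : allRange 184788 348 (fun u => chkFin tab u) = true := by decide +kernel

theorem f_532 : allRange 185136 348 (fun u => chkFin tab u) = true := by decide +kernel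

theorem f_533 : allRange 185484 348 (fun u => chkFin tab u) = true := by decide +kernel

theorem f_534 : allRange 185832 348 (fun u => chkFin tab u) = true := by decide +kernel

theorem f_535 : allRange 186180 348 (fun u => chkFin tab u) = true := by decide +kernel


end Cfsg.Agent.Helper9.TCData.HeE0
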