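import Cfsg.Agent.Lib.Helper9.TCData.HeE0.Main

set_option autoImplicit false
set_option maxRecDepth 1000000

namespace Cfsg.Agent.Helper9.TCData.HeE0
open Cfsg.Agent.Helper9.TC2

theorem e1_27 : allRange 64346 2728 (fun u => chkE tab 1 u) = true := by decide +kernel

theorem e1_28 : allRange 67074 2758 (fun u => chkE tab 1 u) = true := by decide +kernel

theorem e1_29 : allRange 69832 2460 (fun u => chkE tab 1 u) = true := by decide +kernel

theorem e1_30 : allRange 72292 2414 (fun u => chkE tab 1 u) = true := by decide +kernel

theorem e1_31 : allRange 74706 2779 (fun u => chkE tab 1 u) = true := by decide +kernel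

theorem e1_32 : allRange 77485 2317 (fun u => chkE tab 1 u) = true := by decide +kernel

theorem e1_33 : allRange 79802 2662 (fun u => chkE tab 1 u) = true := by decide +kernel

theorem e1_34 : allRange 82464 2461 (fun u => chkE tab 1 u) = true := by decide +kernel


end Cfsg.Agent.Helper9.TCData.HeE0
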