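import Cfsg.Agent.Lib.Helper9.TCData.HeE0.Main

set_option autoImplicit false
set_option maxRecDepth 1000000

namespace Cfsg.Agent.Helper9.TCData.HeE0
open Cfsg.Agent.Helper9.TC2

theorem c_21 : allRange 56007 2667 (fun u => chkCls tab u) = true := by decide +kernel

theorem c_22 : allRange 58674 2667 (fun u => chkCls tab u) = true := by decide +kernel

theorem c_23 : allRange 61341 2667 (fun u => chkCls tab u) = true := by decide +kernel

theorem c_24 : allRange 64008 2667 (fun u => chkCls tab u) = true := by decide +kernel

theorem c_25 : allRange 66675 2667 (fun u => chkCls tab u) = true := by decide +kernel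

theorem c_26 : allRange 69342 2667 (fun u => chkCls tab u) = true := by decide +kernel

theorem c_27 : allRange 72009 2667 (fun u => chkCls tab u) = true := by decide +kernel

theorem c_28 : allRange 74676 2667 (fun u => chkCls tab u) = true := by decide +kernel


end Cfsg.Agent.Helper9.TCData.HeE0
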