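import Cfsg.Agent.Lib.Helper9.TCData.HeE0.Main

set_option autoImplicit false
set_option maxRecDepth 1000000

namespace Cfsg.Agent.Helper9.TCData.HeE0
open Cfsg.Agent.Helper9.TC2

theorem c_29 : allRange 77343 2667 (fun u => chkCls tab u) = true := by decide +kernel

theorem c_30 : allRange 80010 2667 (fun u => chkCls tab u) = true := by decide +kernel

theorem c_31 : allRange 82677 2667 (fun u => chkCls tab u) = true := by decide +kernel

theorem c_32 : allRange 85344 2667 (fun u => chkCls tab u) = true := by decide +kernel

theorem c_33 : allRange 88011 2667 (fun u => chkCls tab u) = true := by decide +kernel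

theorem c_34 : allRange 90678 2667 (fun u => chkCls tab u) = true := by decide +kernel

theorem c_35 : allRange 93345 2667 (fun u => chkCls tab u) = true := by decide +kernel

theorem c_36 : allRange 96012 2667 (fun u => chkCls tab u) = true := by decide +kernel


end Cfsg.Agent.Helper9.TCData.HeE0
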