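import Cfsg.Agent.Lib.Helper9.TCData.HeE0.Main

set_option autoImplicit false
set_option maxRecDepth 1000000

namespace Cfsg.Agent.Helper9.TCData.HeE0
open Cfsg.Agent.Helper9.TC2

theorem c_45 : allRange 120015 2667 (fun u => chkCls tab u) = true := by decide +kernel

theorem c_46 : allRange 122682 2667 (fun u => chkCls tab u) = true := by decide +kernel

theorem c_47 : allRange 125349 2667 (fun u => chkCls tab u) = true := by decide +kernel

theorem c_48 : allRange 128016 2667 (fun u => chkCls tab u) = true := by decide +kernel

theorem c_49 : allRange 130683 2667 (fun u => chkCls tab u) = true := by decide +kernel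

theorem c_50 : allRange 133350 2667 (fun u => chkCls tab u) = true := by decide +kernel

theorem c_51 : allRange 136017 2667 (fun u => chkCls tab u) = true := by decide +kernel

theorem c_52 : allRange 138684 2667 (fun u => chkCls tab u) = true := by decide +kernel


end Cfsg.Agent.Helper9.TCData.HeE0
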