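import Cfsg.Agent.Lib.Helper9.TCData.HeE0.Main

set_option autoImplicit false
set_option maxRecDepth 1000000

namespace Cfsg.Agent.Helper9.TCData.HeE0
open Cfsg.Agent.Helper9.TC2

theorem c_53 : allRange 141351 2667 (fun u => chkCls tab u) = true := by decide +kernel

theorem c_54 : allRange 144018 2667 (fun u => chkCls tab u) = true := by decide +kernel

theorem c_55 : allRange 146685 2667 (fun u => chkCls tab u) = true := by decide +kernel

theorem c_56 : allRange 149352 2667 (fun u => chkCls tab u) = true := by decide +kernel

theorem c_57 : allRange 152019 2667 (fun u => chkCls tab u) = true := by decide +kernel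

theorem c_58 : allRange 154686 2667 (fun u => chkCls tab u) = true := by decide +kernel

theorem c_59 : allRange 157353 2667 (fun u => chkCls tab u) = true := by decide +kernel

theorem c_60 : allRange 160020 2667 (fun u => chkCls tab u) = true := by decide +kernel


end Cfsg.Agent.Helper9.TCData.HeE0
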