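import Cfsg.Agent.Lib.Helper9.TCData.HeE0.Main

set_option autoImplicit false
set_option maxRecDepth 1000000

namespace Cfsg.Agent.Helper9.TCData.HeE0
open Cfsg.Agent.Helper9.TC2

theorem c_61 : allRange 162687 2667 (fun u => chkCls tab u) = true := by decide +kernel

theorem c_62 : allRange 165354 2667 (fun u => chkCls tab u) = true := by decide +kernel

theorem c_63 : allRange 168021 2667 (fun u => chkCls tab u) = true := by decide +kernel

theorem c_64 : allRange 170688 2667 (fun u => chkCls tab u) = true := by decide +kernel

theorem c_65 : allRange 173355 2667 (fun u => chkCls tab u) = true := by decide +kernel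

theorem c_66 : allRange 176022 2667 (fun u => chkCls tab u) = true := by decide +kernel

theorem c_67 : allRange 178689 2667 (fun u => chkCls tab u) = true := by decide +kernel

theorem c_68 : allRange 181356 2667 (fun u => chkCls tab u) = true := by decide +kernel


end Cfsg.Agent.Helper9.TCData.HeE0
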