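import Cfsg.Agent.Lib.Helper9.TCData.HeE0.Main

set_option autoImplicit false
set_option maxRecDepth 1000000

namespace Cfsg.Agent.Helper9.TCData.HeE0
open Cfsg.Agent.Helper9.TC2

theorem e1_35 : allRange 84925 2417 (fun u => chkE tab 1 u) = true := by decide +kernel

theorem e1_36 : allRange 87342 2373 (fun u => chkE tab 1 u) = true := by decide +kernel

theorem e1_37 : allRange 89715 2452 (fun u => chkE tab 1 u) = true := by decide +kernel

theorem e1_38 : allRange 92167 2583 (fun u => chkE tab 1 u) = true := by decide +kernel

theorem e1_39 : allRange 94750 2549 (fun u => chkE tab 1 u) = true := by decide +kernel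

theorem e1_40 : allRange 97299 2699 (fun u => chkE tab 1 u) = true := by decide +kernel

theorem e1_41 : allRange 99998 2483 (fun u => chkE tab 1 u) = true := by decide +kernel

theorem e1_42 : allRange 102481 2401 (fun u => chkE tab 1 u) = true := by decide +kernel


end Cfsg.Agent.Helper9.TCData.HeE0
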