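import Cfsg.Agent.Lib.Helper9.TCData.HeE0.Main

set_option autoImplicit false
set_option maxRecDepth 1000000

namespace Cfsg.Agent.Helper9.TCData.HeE0
open Cfsg.Agent.Helper9.TC2

theorem m1_64 : allRange 57536 899 (fun u => chkM1 tab u) = true := by decide +kernel

theorem m1_65 : allRange 58435 899 (fun u => chkM1 tab u) = true := by decide +kernel

theorem m1_66 : allRange 59334 899 (fun u => chkM1 tab u) = true := by decide +kernel

theorem m1_67 : allRange 60233 899 (fun u => chkM1 tab u) = true := by decide +kernel

theorem m1_68 : allRange 61132 899 (fun u => chkM1 tab u) = true := by decide +kernel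

theorem m1_69 : allRange 62031 899 (fun u => chkM1 tab u) = true := by decide +kernel

theorem m1_70 : allRange 62930 899 (fun u => chkM1 tab u) = true := by decide +kernel

theorem m1_71 : allRange 63829 899 (fun u => chkM1 tab u) = true := by decide +kernel


end Cfsg.Agent.Helper9.TCData.HeE0
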