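import Cfsg.Agent.Lib.Helper9.TCData.HeE0.Main

set_option autoImplicit false
set_option maxRecDepth 1000000

namespace Cfsg.Agent.Helper9.TCData.HeE0
open Cfsg.Agent.Helper9.TC2

theorem e1_43 : allRange 104882 2496 (fun u => chkE tab 1 u) = true := by decide +kernel

theorem e1_44 : allRange 107378 2503 (fun u => chkE tab 1 u) = true := by decide +kernel

theorem e1_45 : allRange 109881 2421 (fun u => chkE tab 1 u) = true := by decide +kernel

theorem e1_46 : allRange 112302 2455 (fun u => chkE tab 1 u) = true := by decide +kernel

theorem e1_47 : allRange 114757 2464 (fun u => chkE tab 1 u) = true := by decide +kernel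

theorem e1_48 : allRange 117221 2475 (fun u => chkE tab 1 u) = true := by decide +kernel

theorem e1_49 : allRange 119696 2399 (fun u => chkE tab 1 u) = true := by decide +kernel

theorem e1_50 : allRange 122095 2494 (fun u => chkE tab 1 u) = true := by decide +kernel


end Cfsg.Agent.Helper9.TCData.HeE0
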