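import Cfsg.Agent.Lib.Helper9.TCData.HeE0.Main

set_option autoImplicit false
set_option maxRecDepth 1000000

namespace Cfsg.Agent.Helper9.TCData.HeE0
open Cfsg.Agent.Helper9.TC2

theorem m1_96 : allRange 86304 899 (fun u => chkM1 tab u) = true := by decide +kernel

theorem m1_97 : allRange 87203 899 (fun u => chkM1 tab u) = true := by decide +kernel

theorem m1_98 : allRange 88102 899 (fun u => chkM1 tab u) = true := by decide +kernel

theorem m1_99 : allRange 89001 899 (fun u => chkM1 tab u) = true := by decide +kernel

theorem m1_100 : allRange 89900 899 (fun u => chkM1 tab u) = true := by decide +kernel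

theorem m1_101 : allRange 90799 899 (fun u => chkM1 tab u) = true := by decide +kernel

theorem m1_102 : allRange 91698 899 (fun u => chkM1 tab u) = true := by decide +kernel

theorem m1_103 : allRange 92597 899 (fun u => chkM1 tab u) = true := by decide +kernel


end Cfsg.Agent.Helper9.TCData.HeE0
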