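import Cfsg.Agent.Lib.Helper9.TCData.HeE0.Main

set_option autoImplicit false
set_option maxRecDepth 1000000

namespace Cfsg.Agent.Helper9.TCData.HeE0
open Cfsg.Agent.Helper9.TC2

theorem m1_136 : allRange 122264 899 (fun u => chkM1 tab u) = true := by decide +kernel

theorem m1_137 : allRange 123163 899 (fun u => chkM1 tab u) = true := by decide +kernel

theorem m1_138 : allRange 124062 899 (fun u => chkM1 tab u) = true := by decide +kernel

theorem m1_139 : allRange 124961 899 (fun u => chkM1 tab u) = true := by decide +kernel

theorem m1_140 : allRange 125860 899 (fun u => chkM1 tab u) = true := by decide +kernel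

theorem m1_141 : allRange 126759 899 (fun u => chkM1 tab u) = true := by decide +kernel

theorem m1_142 : allRange 127658 899 (fun u => chkM1 tab u) = true := by decide +kernel

theorem m1_143 : allRange 128557 899 (fun u => chkM1 tab u) = true := by decide +kernel


end Cfsg.Agent.Helper9.TCData.HeE0
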