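import Cfsg.Agent.Lib.Helper9.TCData.HeE0.Main

set_option autoImplicit false
set_option maxRecDepth 1000000

namespace Cfsg.Agent.Helper9.TCData.HeE0
open Cfsg.Agent.Helper9.TC2

theorem e1_51 : allRange 124589 2461 (fun u => chkE tab 1 u) = true := by decide +kernel

theorem e1_52 : allRange 127050 2524 (fun u => chkE tab 1 u) = true := by decide +kernel

theorem e1_53 : allRange 129574 2564 (fun u => chkE tab 1 u) = true := by decide +kernel

theorem e1_54 : allRange 132138 2562 (fun u => chkE tab 1 u) = true := by decide +kernel

theorem e1_55 : allRange 134700 2688 (fun u => chkE tab 1 u) = true := by decide +kernel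

theorem e1_56 : allRange 137388 2568 (fun u => chkE tab 1 u) = true := by decide +kernel

theorem e1_57 : allRange 139956 2681 (fun u => chkE tab 1 u) = true := by decide +kernel

theorem e1_58 : allRange 142637 2750 (fun u => chkE tab 1 u) = true := by decide +kernel


end Cfsg.Agent.Helper9.TCData.HeE0
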