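import Cfsg.Agent.Lib.Helper9.TCData.HeE0.Main

set_option autoImplicit false
set_option maxRecDepth 1000000

namespace Cfsg.Agent.Helper9.TCData.HeE0
open Cfsg.Agent.Helper9.TC2

theorem m1_160 : allRange 143840 899 (fun u => chkM1 tab u) = true := by decide +kernel

theorem m1_161 : allRange 144739 899 (fun u => chkM1 tab u) = true := by decide +kernel

theorem m1_162 : allRange 145638 899 (fun u => chkM1 tab u) = true := by decide +kernel

theorem m1_163 : allRange 146537 899 (fun u => chkM1 tab u) = true := by decide +kernel

theorem m1_164 : allRange 147436 899 (fun u => chkM1 tab u) = true := by decide +kernel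

theorem m1_165 : allRange 148335 899 (fun u => chkM1 tab u) = true := by decide +kernel

theorem m1_166 : allRange 149234 899 (fun u => chkM1 tab u) = true := by decide +kernel

theorem m1_167 : allRange 150133 899 (fun u => chkM1 tab u) = true := by decide +kernel


end Cfsg.Agent.Helper9.TCData.HeE0
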