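import Cfsg.Agent.Lib.Helper9.TCData.HeE0.Main

set_option autoImplicit false
set_option maxRecDepth 1000000

namespace Cfsg.Agent.Helper9.TCData.HeE0
open Cfsg.Agent.Helper9.TC2

theorem m1_184 : allRange 165416 899 (fun u => chkM1 tab u) = true := by decide +kernel

theorem m1_185 : allRange 166315 899 (fun u => chkM1 tab u) = true := by decide +kernel

theorem m1_186 : allRange 167214 899 (fun u => chkM1 tab u) = true := by decide +kernel

theorem m1_187 : allRange 168113 899 (fun u => chkM1 tab u) = true := by decide +kernel

theorem m1_188 : allRange 169012 899 (fun u => chkM1 tab u) = true := by decide +kernel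

theorem m1_189 : allRange 169911 899 (fun u => chkM1 tab u) = true := by decide +kernel

theorem m1_190 : allRange 170810 899 (fun u => chkM1 tab u) = true := by decide +kernel

theorem m1_191 : allRange 171709 899 (fun u => chkM1 tab u) = true := by decide +kernel


end Cfsg.Agent.Helper9.TCData.HeE0
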