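import Cfsg.Agent.Lib.Helper9.TCData.HeE0.Main

set_option autoImplicit false
set_option maxRecDepth 1000000

namespace Cfsg.Agent.Helper9.TCData.HeE0
open Cfsg.Agent.Helper9.TC2

theorem m1_200 : allRange 179800 899 (fun u => chkM1 tab u) = true := by decide +kernel

theorem m1_201 : allRange 180699 899 (fun u => chkM1 tab u) = true := by decide +kernel

theorem m1_202 : allRange 181598 899 (fun u => chkM1 tab u) = true := by decide +kernel

theorem m1_203 : allRange 182497 899 (fun u => chkM1 tab u) = true := by decide +kernel

theorem m1_204 : allRange 183396 899 (fun u => chkM1 tab u) = true := by decide +kernel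

theorem m1_205 : allRange 184295 899 (fun u => chkM1 tab u) = true := by decide +kernel

theorem m1_206 : allRange 185194 899 (fun u => chkM1 tab u) = true := by decide +kernel

theorem m1_207 : allRange 186093 899 (fun u => chkM1 tab u) = true := by decide +kernel


end Cfsg.Agent.Helper9.TCData.HeE0
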