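import Cfsg.Agent.Lib.Helper9.TCData.HeE0.Main

set_option autoImplicit false
set_option maxRecDepth 1000000

namespace Cfsg.Agent.Helper9.TCData.HeE0
open Cfsg.Agent.Helper9.TC2

theorem m1_208 : allRange 186992 433 (fun u => chkM1 tab u) = true := by decide +kernel

theorem ma_0 : allRange 0 1819 (fun u => chkAux tab aux u) = true := by decide +kernel

theorem ma_1 : allRange 1819 1819 (fun u => chkAux tab aux u) = true := by decide +kernel

theorem ma_2 : allRange 3638 1819 (fun u => chkAux tab aux u) = true := by decide +kernel

theorem ma_3 : allRange 5457 1819 (fun u => chkAux tab aux u) = true := by decide +kernel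

theorem ma_4 : allRange 7276 1819 (fun u => chkAux tab aux u) = true := by decide +kernel

theorem ma_5 : allRange 9095 1819 (fun u => chkAux tab aux u) = true := by decide +kernel

theorem ma_6 : allRange 10914 1819 (fun u => chkAux tab aux u) = true := by decide +kernel


end Cfsg.Agent.Helper9.TCData.HeE0
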