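import Cfsg.Agent.Lib.Helper9.TCData.HeE0.Main

set_option autoImplicit false
set_option maxRecDepth 1000000

namespace Cfsg.Agent.Helper9.TCData.HeE0
open Cfsg.Agent.Helper9.TC2

theorem e1_59 : allRange 145387 2809 (fun u => chkE tab 1 u) = true := by decide +kernel

theorem e1_60 : allRange 148196 2651 (fun u => chkE tab 1 u) = true := by decide +kernel

theorem e1_61 : allRange 150847 2845 (fun u => chkE tab 1 u) = true := by decide +kernel

theorem e1_62 : allRange 153692 2773 (fun u => chkE tab 1 u) = true := by decide +kernel

theorem e1_63 : allRange 156465 2726 (fun u => chkE tab 1 u) = true := by decide +kernel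

theorem e1_64 : allRange 159191 2764 (fun u => chkE tab 1 u) = true := by decide +kernel

theorem e1_65 : allRange 161955 2862 (fun u => chkE tab 1 u) = true := by decide +kernel

theorem e1_66 : allRange 164817 3121 (fun u => chkE tab 1 u) = true := by decide +kernel


end Cfsg.Agent.Helper9.TCData.HeE0
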