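import Cfsg.Agent.Lib.Helper9.TCData.HeE0.Main

set_option autoImplicit false
set_option maxRecDepth 1000000

namespace Cfsg.Agent.Helper9.TCData.HeE0
open Cfsg.Agent.Helper9.TC2

theorem ma_39 : allRange 70941 1819 (fun u => chkAux tab aux u) = true := by decide +kernel

theorem ma_40 : allRange 72760 1819 (fun u => chkAux tab aux u) = true := by decide +kernel

theorem ma_41 : allRange 74579 1819 (fun u => chkAux tab aux u) = true := by decide +kernel

theorem ma_42 : allRange 76398 1819 (fun u => chkAux tab aux u) = true := by decide +kernel

theorem ma_43 : allRange 78217 1819 (fun u => chkAux tab aux u) = true := by decide +kernel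

theorem ma_44 : allRange 80036 1819 (fun u => chkAux tab aux u) = true := by decide +kernel

theorem ma_45 : allRange 81855 1819 (fun u => chkAux tab aux u) = true := by decide +kernel

theorem ma_46 : allRange 83674 1819 (fun u => chkAux tab aux u) = true := by decide +kernel


end Cfsg.Agent.Helper9.TCData.HeE0
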