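import Cfsg.Agent.Lib.Helper9.TCData.HeE0.Main

set_option autoImplicit false
set_option maxRecDepth 1000000

namespace Cfsg.Agent.Helper9.TCData.HeE0
open Cfsg.Agent.Helper9.TC2

theorem ma_55 : allRange 100045 1819 (fun u => chkAux tab aux u) = true := by decide +kernel

theorem ma_56 : allRange 101864 1819 (fun u => chkAux tab aux u) = true := by decide +kernel

theorem ma_57 : allRange 103683 1819 (fun u => chkAux tab aux u) = true := by decide +kernel

theorem ma_58 : allRange 105502 1819 (fun u => chkAux tab aux u) = true := by decide +kernel

theorem ma_59 : allRange 107321 1819 (fun u => chkAux tab aux u) = true := by decide +kernel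

theorem ma_60 : allRange 109140 1819 (fun u => chkAux tab aux u) = true := by decide +kernel

theorem ma_61 : allRange 110959 1819 (fun u => chkAux tab aux u) = true := by decide +kernel

theorem ma_62 : allRange 112778 1819 (fun u => chkAux tab aux u) = true := by decide +kernel


end Cfsg.Agent.Helper9.TCData.HeE0
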