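import Cfsg.Agent.Lib.Helper9.TCData.HeE0.Main

set_option autoImplicit false
set_option maxRecDepth 1000000

namespace Cfsg.Agent.Helper9.TCData.HeE0
open Cfsg.Agent.Helper9.TC2

theorem ma_63 : allRange 114597 1819 (fun u => chkAux tab aux u) = true := by decide +kernel

theorem ma_64 : allRange 116416 1819 (fun u => chkAux tab aux u) = true := by decide +kernel

theorem ma_65 : allRange 118235 1819 (fun u => chkAux tab aux u) = true := by decide +kernel

theorem ma_66 : allRange 120054 1819 (fun u => chkAux tab aux u) = true := by decide +kernel

theorem ma_67 : allRange 121873 1819 (fun u => chkAux tab aux u) = true := by decide +kernel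

theorem ma_68 : allRange 123692 1819 (fun u => chkAux tab aux u) = true := by decide +kernel

theorem ma_69 : allRange 125511 1819 (fun u => chkAux tab aux u) = true := by decide +kernel

theorem ma_70 : allRange 127330 1819 (fun u => chkAux tab aux u) = true := by decide +kernel


end Cfsg.Agent.Helper9.TCData.HeE0
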