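import Cfsg.Agent.Lib.Helper9.TCData.HeE0.Main

set_option autoImplicit false
set_option maxRecDepth 1000000

namespace Cfsg.Agent.Helper9.TCData.HeE0
open Cfsg.Agent.Helper9.TC2

theorem ma_79 : allRange 143701 1819 (fun u => chkAux tab aux u) = true := by decide +kernel

theorem ma_80 : allRange 145520 1819 (fun u => chkAux tab aux u) = true := by decide +kernel

theorem ma_81 : allRange 147339 1819 (fun u => chkAux tab aux u) = true := by decide +kernel

theorem ma_82 : allRange 149158 1819 (fun u => chkAux tab aux u) = true := by decide +kernel

theorem ma_83 : allRange 150977 1819 (fun u => chkAux tab aux u) = true := by decide +kernel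

theorem ma_84 : allRange 152796 1819 (fun u => chkAux tab aux u) = true := by decide +kernel

theorem ma_85 : allRange 154615 1819 (fun u => chkAux tab aux u) = true := by decide +kernel

theorem ma_86 : allRange 156434 1819 (fun u => chkAux tab aux u) = true := by decide +kernel


end Cfsg.Agent.Helper9.TCData.HeE0
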