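import Cfsg.Agent.Lib.Helper9.TCData.HeE0.Main

set_option autoImplicit false
set_option maxRecDepth 1000000

namespace Cfsg.Agent.Helper9.TCData.HeE0
open Cfsg.Agent.Helper9.TC2

theorem ma_95 : allRange 172805 1819 (fun u => chkAux tab aux u) = true := by decide +kernel

theorem ma_96 : allRange 174624 1819 (fun u => chkAux tab aux u) = true := by decide +kernel

theorem ma_97 : allRange 176443 1819 (fun u => chkAux tab aux u) = true := by decide +kernel

theorem ma_98 : allRange 178262 1819 (fun u => chkAux tab aux u) = true := by decide +kernel

theorem ma_99 : allRange 180081 1819 (fun u => chkAux tab aux u) = true := by decide +kernel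

theorem ma_100 : allRange 181900 1819 (fun u => chkAux tab aux u) = true := by decide +kernel

theorem ma_101 : allRange 183719 1819 (fun u => chkAux tab aux u) = true := by decide +kernel

theorem ma_102 : allRange 185538 1819 (fun u => chkAux tab aux u) = true := by decide +kernel


end Cfsg.Agent.Helper9.TCData.HeE0
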