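import Cfsg.Agent.Lib.Helper9.TCData.HeE0.Main

set_option autoImplicit false
set_option maxRecDepth 1000000

namespace Cfsg.Agent.Helper9.TCData.HeE0
open Cfsg.Agent.Helper9.TC2

theorem ma_103 : allRange 187357 68 (fun u => chkAux tab aux u) = true := by decide +kernel

theorem m2_0 : allRange 0 94 (fun u => chkFix tab mwordsA u) = true := by decide +kernel

theorem m2_1 : allRange 94 94 (fun u => chkFix tab mwordsA u) = true := by decide +kernel

theorem m2_2 : allRange 188 94 (fun u => chkFix tab mwordsA u) = true := by decide +kernel

theorem m2_3 : allRange 282 94 (fun u => chkFix tab mwordsA u) = true := by decide +kernel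

theorem m2_4 : allRange 376 94 (fun u => chkFix tab mwordsA u) = true := by decide +kernel

theorem m2_5 : allRange 470 94 (fun u => chkFix tab mwordsA u) = true := by decide +kernel

theorem m2_6 : allRange 564 94 (fun u => chkFix tab mwordsA u) = true := by decide +kernel


end Cfsg.Agent.Helper9.TCData.HeE0
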