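import Cfsg.Agent.Lib.Helper9.TCData.HeE0.Main

set_option autoImplicit false
set_option maxRecDepth 1000000

namespace Cfsg.Agent.Helper9.TCData.HeE0
open Cfsg.Agent.Helper9.TC2

theorem e1_67 : allRange 167938 3078 (fun u => chkE tab 1 u) = true := by decide +kernel

theorem e1_68 : allRange 171016 3014 (fun u => chkE tab 1 u) = true := by decide +kernel

theorem e1_69 : allRange 174030 3309 (fun u => chkE tab 1 u) = true := by decide +kernel

theorem e1_70 : allRange 177339 3083 (fun u => chkE tab 1 u) = true := by decide +kernel

theorem e1_71 : allRange 180422 3218 (fun u => chkE tab 1 u) = true := by decide +kernel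

theorem e1_72 : allRange 183640 3705 (fun u => chkE tab 1 u) = true := by decide +kernel

theorem e1_73 : allRange 187345 1902 (fun u => chkE tab 1 u) = true := by decide +kernel

theorem e2_0 : allRange 0 2512 (fun u => chkE tab 2 u) = true := by decide +kernel


end Cfsg.Agent.Helper9.TCData.HeE0
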