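import Cfsg.Agent.Lib.Helper9.TCData.HeE0.Main

set_option autoImplicit false
set_option maxRecDepth 1000000

namespace Cfsg.Agent.Helper9.TCData.HeE0
open Cfsg.Agent.Helper9.TC2

theorem e2_1 : allRange 2512 2498 (fun u => chkE tab 2 u) = true := by decide +kernel

theorem e2_2 : allRange 5010 2461 (fun u => chkE tab 2 u) = true := by decide +kernel

theorem e2_3 : allRange 7471 2506 (fun u => chkE tab 2 u) = true := by decide +kernel

theorem e2_4 : allRange 9977 2550 (fun u => chkE tab 2 u) = true := by decide +kernel

theorem e2_5 : allRange 12527 2533 (fun u => chkE tab 2 u) = true := by decide +kernel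

theorem e2_6 : allRange 15060 2485 (fun u => chkE tab 2 u) = true := by decide +kernel

theorem e2_7 : allRange 17545 2469 (fun u => chkE tab 2 u) = true := by decide +kernel

theorem e2_8 : allRange 20014 2460 (fun u => chkE tab 2 u) = true := by decide +kernel


end Cfsg.Agent.Helper9.TCData.HeE0
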