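import Cfsg.Agent.Lib.Helper9.TCData.HeE0.Main

set_option autoImplicit false
set_option maxRecDepth 1000000

namespace Cfsg.Agent.Helper9.TCData.HeE0
open Cfsg.Agent.Helper9.TC2

theorem e0_16 : allRange 36205 2192 (fun u => chkE tab 0 u) = true := by decide +kernel

theorem e0_17 : allRange 38397 2257 (fun u => chkE tab 0 u) = true := by decide +kernel

theorem e0_18 : allRange 40654 2318 (fun u => chkE tab 0 u) = true := by decide +kernel

theorem e0_19 : allRange 42972 2478 (fun u => chkE tab 0 u) = true := by decide +kernel

theorem e0_20 : allRange 45450 2666 (fun u => chkE tab 0 u) = true := by decide +kernel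

theorem e0_21 : allRange 48116 2813 (fun u => chkE tab 0 u) = true := by decide +kernel

theorem e0_22 : allRange 50929 2142 (fun u => chkE tab 0 u) = true := by decide +kernel

theorem e0_23 : allRange 53071 2326 (fun u => chkE tab 0 u) = true := by decide +kernel


end Cfsg.Agent.Helper9.TCData.HeE0
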