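import Cfsg.Agent.Lib.Helper9.TCData.HeE0.Main

set_option autoImplicit false
set_option maxRecDepth 1000000

namespace Cfsg.Agent.Helper9.TCData.HeE0
open Cfsg.Agent.Helper9.TC2

theorem m2_215 : allRange 20210 94 (fun u => chkFix tab mwordsA u) = true := by decide +kernel

theorem m2_216 : allRange 20304 94 (fun u => chkFix tab mwordsA u) = true := by decide +kernel

theorem m2_217 : allRange 20398 94 (fun u => chkFix tab mwordsA u) = true := by decide +kernel

theorem m2_218 : allRange 20492 94 (fun u => chkFix tab mwordsA u) = true := by decide +kernel

theorem m2_219 : allRange 20586 94 (fun u => chkFix tab mwordsA u) = true := by decide +kernel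

theorem m2_220 : allRange 20680 94 (fun u => chkFix tab mwordsA u) = true := by decide +kernel

theorem m2_221 : allRange 20774 94 (fun u => chkFix tab mwordsA u) = true := by decide +kernel

theorem m2_222 : allRange 20868 94 (fun u => chkFix tab mwordsA u) = true := by decide +kernel


end Cfsg.Agent.Helper9.TCData.HeE0
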