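import Cfsg.Agent.Lib.Helper9.TCData.HeE0.Main

set_option autoImplicit false
set_option maxRecDepth 1000000

namespace Cfsg.Agent.Helper9.TCData.HeE0
open Cfsg.Agent.Helper9.TC2

theorem m2_223 : allRange 20962 94 (fun u => chkFix tab mwordsA u) = true := by decide +kernel

theorem m2_224 : allRange 21056 94 (fun u => chkFix tab mwordsA u) = true := by decide +kernel

theorem m2_225 : allRange 21150 94 (fun u => chkFix tab mwordsA u) = true := by decide +kernel

theorem m2_226 : allRange 21244 94 (fun u => chkFix tab mwordsA u) = true := by decide +kernel

theorem m2_227 : allRange 21338 94 (fun u => chkFix tab mwordsA u) = true := by decide +kernel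

theorem m2_228 : allRange 21432 94 (fun u => chkFix tab mwordsA u) = true := by decide +kernel

theorem m2_229 : allRange 21526 94 (fun u => chkFix tab mwordsA u) = true := by decide +kernel

theorem m2_230 : allRange 21620 94 (fun u => chkFix tab mwordsA u) = true := by decide +kernel


end Cfsg.Agent.Helper9.TCData.HeE0
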