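import Cfsg.Agent.Lib.Helper9.TCData.HeE0.Main

set_option autoImplicit false
set_option maxRecDepth 1000000

namespace Cfsg.Agent.Helper9.TCData.HeE0
open Cfsg.Agent.Helper9.TC2

theorem e2_17 : allRange 41595 2339 (fun u => chkE tab 2 u) = true := by decide +kernel

theorem e2_18 : allRange 43934 2459 (fun u => chkE tab 2 u) = true := by decide +kernel

theorem e2_19 : allRange 46393 2428 (fun u => chkE tab 2 u) = true := by decide +kernel

theorem e2_20 : allRange 48821 2489 (fun u => chkE tab 2 u) = true := by decide +kernel

theorem e2_21 : allRange 51310 2367 (fun u => chkE tab 2 u) = true := by decide +kernel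

theorem e2_22 : allRange 53677 2524 (fun u => chkE tab 2 u) = true := by decide +kernel

theorem e2_23 : allRange 56201 2508 (fun u => chkE tab 2 u) = true := by decide +kernel

theorem e2_24 : allRange 58709 2452 (fun u => chkE tab 2 u) = true := by decide +kernel


end Cfsg.Agent.Helper9.TCData.HeE0
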