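import Cfsg.Agent.Lib.Helper9.TCData.HeE0.Main

set_option autoImplicit false
set_option maxRecDepth 1000000

namespace Cfsg.Agent.Helper9.TCData.HeE0
open Cfsg.Agent.Helper9.TC2

theorem m2_271 : allRange 25474 94 (fun u => chkFix tab mwordsA u) = true := by decide +kernel

theorem m2_272 : allRange 25568 94 (fun u => chkFix tab mwordsA u) = true := by decide +kernel

theorem m2_273 : allRange 25662 94 (fun u => chkFix tab mwordsA u) = true := by decide +kernel

theorem m2_274 : allRange 25756 94 (fun u => chkFix tab mwordsA u) = true := by decide +kernel

theorem m2_275 : allRange 25850 94 (fun u => chkFix tab mwordsA u) = true := by decide +kernel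

theorem m2_276 : allRange 25944 94 (fun u => chkFix tab mwordsA u) = true := by decide +kernel

theorem m2_277 : allRange 26038 94 (fun u => chkFix tab mwordsA u) = true := by decide +kernel

theorem m2_278 : allRange 26132 94 (fun u => chkFix tab mwordsA u) = true := by decide +kernel


end Cfsg.Agent.Helper9.TCData.HeE0
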