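import Cfsg.Agent.Lib.Helper9.TCData.HeE0.Main

set_option autoImplicit false
set_option maxRecDepth 1000000

namespace Cfsg.Agent.Helper9.TCData.HeE0
open Cfsg.Agent.Helper9.TC2

theorem m2_279 : allRange 26226 94 (fun u => chkFix tab mwordsA u) = true := by decide +kernel

theorem m2_280 : allRange 26320 94 (fun u => chkFix tab mwordsA u) = true := by decide +kernel

theorem m2_281 : allRange 26414 94 (fun u => chkFix tab mwordsA u) = true := by decide +kernel

theorem m2_282 : allRange 26508 94 (fun u => chkFix tab mwordsA u) = true := by decide +kernel

theorem m2_283 : allRange 26602 94 (fun u => chkFix tab mwordsA u) = true := by decide +kernel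

theorem m2_284 : allRange 26696 94 (fun u => chkFix tab mwordsA u) = true := by decide +kernel

theorem m2_285 : allRange 26790 94 (fun u => chkFix tab mwordsA u) = true := by decide +kernel

theorem m2_286 : allRange 26884 94 (fun u => chkFix tab mwordsA u) = true := by decide +kernel


end Cfsg.Agent.Helper9.TCData.HeE0
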