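import Cfsg.Agent.Lib.Helper9.TCData.HeE0.Main

set_option autoImplicit false
set_option maxRecDepth 1000000

namespace Cfsg.Agent.Helper9.TCData.HeE0
open Cfsg.Agent.Helper9.TC2

theorem m2_399 : allRange 37506 94 (fun u => chkFix tab mwordsA u) = true := by decide +kernel

theorem m2_400 : allRange 37600 94 (fun u => chkFix tab mwordsA u) = true := by decide +kernel

theorem m2_401 : allRange 37694 94 (fun u => chkFix tab mwordsA u) = true := by decide +kernel

theorem m2_402 : allRange 37788 94 (fun u => chkFix tab mwordsA u) = true := by decide +kernel

theorem m2_403 : allRange 37882 94 (fun u => chkFix tab mwordsA u) = true := by decide +kernel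

theorem m2_404 : allRange 37976 94 (fun u => chkFix tab mwordsA u) = true := by decide +kernel

theorem m2_405 : allRange 38070 94 (fun u => chkFix tab mwordsA u) = true := by decide +kernel

theorem m2_406 : allRange 38164 94 (fun u => chkFix tab mwordsA u) = true := by decide +kernel


end Cfsg.Agent.Helper9.TCData.HeE0
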