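import Cfsg.Agent.Lib.Helper9.TCData.HeE0.Main

set_option autoImplicit false
set_option maxRecDepth 1000000

namespace Cfsg.Agent.Helper9.TCData.HeE0
open Cfsg.Agent.Helper9.TC2

theorem e2_33 : allRange 81328 2471 (fun u => chkE tab 2 u) = true := by decide +kernel

theorem e2_34 : allRange 83799 2510 (fun u => chkE tab 2 u) = true := by decide +kernel

theorem e2_35 : allRange 86309 2431 (fun u => chkE tab 2 u) = true := by decide +kernel

theorem e2_36 : allRange 88740 2431 (fun u => chkE tab 2 u) = true := by decide +kernel

theorem e2_37 : allRange 91171 2593 (fun u => chkE tab 2 u) = true := by decide +kernel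

theorem e2_38 : allRange 93764 2643 (fun u => chkE tab 2 u) = true := by decide +kernel

theorem e2_39 : allRange 96407 2516 (fun u => chkE tab 2 u) = true := by decide +kernel

theorem e2_40 : allRange 98923 2413 (fun u => chkE tab 2 u) = true := by decide +kernel


end Cfsg.Agent.Helper9.TCData.HeE0
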