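import Cfsg.Agent.Lib.Helper9.TCData.HeE0.Main

set_option autoImplicit false
set_option maxRecDepth 1000000

namespace Cfsg.Agent.Helper9.TCData.HeE0
open Cfsg.Agent.Helper9.TC2

theorem m2_415 : allRange 39010 94 (fun u => chkFix tab mwordsA u) = true := by decide +kernel

theorem m2_416 : allRange 39104 94 (fun u => chkFix tab mwordsA u) = true := by decide +kernel

theorem m2_417 : allRange 39198 94 (fun u => chkFix tab mwordsA u) = true := by decide +kernel

theorem m2_418 : allRange 39292 94 (fun u => chkFix tab mwordsA u) = true := by decide +kernel

theorem m2_419 : allRange 39386 94 (fun u => chkFix tab mwordsA u) = true := by decide +kernel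

theorem m2_420 : allRange 39480 94 (fun u => chkFix tab mwordsA u) = true := by decide +kernel

theorem m2_421 : allRange 39574 94 (fun u => chkFix tab mwordsA u) = true := by decide +kernel

theorem m2_422 : allRange 39668 94 (fun u => chkFix tab mwordsA u) = true := by decide +kernel


end Cfsg.Agent.Helper9.TCData.HeE0
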