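import Cfsg.Agent.Lib.Helper9.TCData.HeE0.Main

set_option autoImplicit false
set_option maxRecDepth 1000000

namespace Cfsg.Agent.Helper9.TCData.HeE0
open Cfsg.Agent.Helper9.TC2

theorem m2_423 : allRange 39762 94 (fun u => chkFix tab mwordsA u) = true := by decide +kernel

theorem m2_424 : allRange 39856 94 (fun u => chkFix tab mwordsA u) = true := by decide +kernel

theorem m2_425 : allRange 39950 94 (fun u => chkFix tab mwordsA u) = true := by decide +kernel

theorem m2_426 : allRange 40044 94 (fun u => chkFix tab mwordsA u) = true := by decide +kernel

theorem m2_427 : allRange 40138 94 (fun u => chkFix tab mwordsA u) = true := by decide +kernel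

theorem m2_428 : allRange 40232 94 (fun u => chkFix tab mwordsA u) = true := by decide +kernel

theorem m2_429 : allRange 40326 94 (fun u => chkFix tab mwordsA u) = true := by decide +kernel

theorem m2_430 : allRange 40420 94 (fun u => chkFix tab mwordsA u) = true := by decide +kernel


end Cfsg.Agent.Helper9.TCData.HeE0
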