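import Cfsg.Agent.Lib.Helper9.TCData.HeE0.Main

set_option autoImplicit false
set_option maxRecDepth 1000000

namespace Cfsg.Agent.Helper9.TCData.HeE0
open Cfsg.Agent.Helper9.TC2

theorem m2_431 : allRange 40514 94 (fun u => chkFix tab mwordsA u) = true := by decide +kernel

theorem m2_432 : allRange 40608 94 (fun u => chkFix tab mwordsA u) = true := by decide +kernel

theorem m2_433 : allRange 40702 94 (fun u => chkFix tab mwordsA u) = true := by decide +kernel

theorem m2_434 : allRange 40796 94 (fun u => chkFix tab mwordsA u) = true := by decide +kernel

theorem m2_435 : allRange 40890 94 (fun u => chkFix tab mwordsA u) = true := by decide +kernel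

theorem m2_436 : allRange 40984 94 (fun u => chkFix tab mwordsA u) = true := by decide +kernel

theorem m2_437 : allRange 41078 94 (fun u => chkFix tab mwordsA u) = true := by decide +kernel

theorem m2_438 : allRange 41172 94 (fun u => chkFix tab mwordsA u) = true := by decide +kernel


end Cfsg.Agent.Helper9.TCData.HeE0
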