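import Cfsg.Agent.Lib.Helper9.TCData.HeE0.Main

set_option autoImplicit false
set_option maxRecDepth 1000000

namespace Cfsg.Agent.Helper9.TCData.HeE0
open Cfsg.Agent.Helper9.TC2

theorem m2_471 : allRange 44274 94 (fun u => chkFix tab mwordsA u) = true := by decide +kernel

theorem m2_472 : allRange 44368 94 (fun u => chkFix tab mwordsA u) = true := by decide +kernel

theorem m2_473 : allRange 44462 94 (fun u => chkFix tab mwordsA u) = true := by decide +kernel

theorem m2_474 : allRange 44556 94 (fun u => chkFix tab mwordsA u) = true := by decide +kernel

theorem m2_475 : allRange 44650 94 (fun u => chkFix tab mwordsA u) = true := by decide +kernel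

theorem m2_476 : allRange 44744 94 (fun u => chkFix tab mwordsA u) = true := by decide +kernel

theorem m2_477 : allRange 44838 94 (fun u => chkFix tab mwordsA u) = true := by decide +kernel

theorem m2_478 : allRange 44932 94 (fun u => chkFix tab mwordsA u) = true := by decide +kernel


end Cfsg.Agent.Helper9.TCData.HeE0
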