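import Cfsg.Agent.Lib.Helper9.TCData.HeE0.Main

set_option autoImplicit false
set_option maxRecDepth 1000000

namespace Cfsg.Agent.Helper9.TCData.HeE0
open Cfsg.Agent.Helper9.TC2

theorem m2_503 : allRange 47282 94 (fun u => chkFix tab mwordsA u) = true := by decide +kernel

theorem m2_504 : allRange 47376 94 (fun u => chkFix tab mwordsA u) = true := by decide +kernel

theorem m2_505 : allRange 47470 94 (fun u => chkFix tab mwordsA u) = true := by decide +kernel

theorem m2_506 : allRange 47564 94 (fun u => chkFix tab mwordsA u) = true := by decide +kernel

theorem m2_507 : allRange 47658 94 (fun u => chkFix tab mwordsA u) = true := by decide +kernel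

theorem m2_508 : allRange 47752 94 (fun u => chkFix tab mwordsA u) = true := by decide +kernel

theorem m2_509 : allRange 47846 94 (fun u => chkFix tab mwordsA u) = true := by decide +kernel

theorem m2_510 : allRange 47940 94 (fun u => chkFix tab mwordsA u) = true := by decide +kernel


end Cfsg.Agent.Helper9.TCData.HeE0
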