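import Cfsg.Agent.Lib.Helper9.TCData.HeE0.Main

set_option autoImplicit false
set_option maxRecDepth 1000000

namespace Cfsg.Agent.Helper9.TCData.HeE0
open Cfsg.Agent.Helper9.TC2

theorem m2_519 : allRange 48786 94 (fun u => chkFix tab mwordsA u) = true := by decide +kernel

theorem m2_520 : allRange 48880 94 (fun u => chkFix tab mwordsA u) = true := by decide +kernel

theorem m2_521 : allRange 48974 94 (fun u => chkFix tab mwordsA u) = true := by decide +kernel

theorem m2_522 : allRange 49068 94 (fun u => chkFix tab mwordsA u) = true := by decide +kernel

theorem m2_523 : allRange 49162 94 (fun u => chkFix tab mwordsA u) = true := by decide +kernel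

theorem m2_524 : allRange 49256 94 (fun u => chkFix tab mwordsA u) = true := by decide +kernel

theorem m2_525 : allRange 49350 94 (fun u => chkFix tab mwordsA u) = true := by decide +kernel

theorem m2_526 : allRange 49444 94 (fun u => chkFix tab mwordsA u) = true := by decide +kernel


end Cfsg.Agent.Helper9.TCData.HeE0
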