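import Cfsg.Agent.Lib.Helper9.TCData.HeE0.Main

set_option autoImplicit false
set_option maxRecDepth 1000000

namespace Cfsg.Agent.Helper9.TCData.HeE0
open Cfsg.Agent.Helper9.TC2

theorem m2_535 : allRange 50290 94 (fun u => chkFix tab mwordsA u) = true := by decide +kernel

theorem m2_536 : allRange 50384 94 (fun u => chkFix tab mwordsA u) = true := by decide +kernel

theorem m2_537 : allRange 50478 94 (fun u => chkFix tab mwordsA u) = true := by decide +kernel

theorem m2_538 : allRange 50572 94 (fun u => chkFix tab mwordsA u) = true := by decide +kernel

theorem m2_539 : allRange 50666 94 (fun u => chkFix tab mwordsA u) = true := by decide +kernel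

theorem m2_540 : allRange 50760 94 (fun u => chkFix tab mwordsA u) = true := by decide +kernel

theorem m2_541 : allRange 50854 94 (fun u => chkFix tab mwordsA u) = true := by decide +kernel

theorem m2_542 : allRange 50948 94 (fun u => chkFix tab mwordsA u) = true := by decide +kernel


end Cfsg.Agent.Helper9.TCData.HeE0
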