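import Cfsg.Agent.Lib.Helper9.TCData.HeE0.Main

set_option autoImplicit false
set_option maxRecDepth 1000000

namespace Cfsg.Agent.Helper9.TCData.HeE0
open Cfsg.Agent.Helper9.TC2

theorem m2_543 : allRange 51042 94 (fun u => chkFix tab mwordsA u) = true := by decide +kernel

theorem m2_544 : allRange 51136 94 (fun u => chkFix tab mwordsA u) = true := by decide +kernel

theorem m2_545 : allRange 51230 94 (fun u => chkFix tab mwordsA u) = true := by decide +kernel

theorem m2_546 : allRange 51324 94 (fun u => chkFix tab mwordsA u) = true := by decide +kernel

theorem m2_547 : allRange 51418 94 (fun u => chkFix tab mwordsA u) = true := by decide +kernel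

theorem m2_548 : allRange 51512 94 (fun u => chkFix tab mwordsA u) = true := by decide +kernel

theorem m2_549 : allRange 51606 94 (fun u => chkFix tab mwordsA u) = true := by decide +kernel

theorem m2_550 : allRange 51700 94 (fun u => chkFix tab mwordsA u) = true := by decide +kernel


end Cfsg.Agent.Helper9.TCData.HeE0
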