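import Cfsg.Agent.Lib.Helper9.TCData.HeE0.Main

set_option autoImplicit false
set_option maxRecDepth 1000000

namespace Cfsg.Agent.Helper9.TCData.HeE0
open Cfsg.Agent.Helper9.TC2

theorem m2_559 : allRange 52546 94 (fun u => chkFix tab mwordsA u) = true := by decide +kernel

theorem m2_560 : allRange 52640 94 (fun u => chkFix tab mwordsA u) = true := by decide +kernel

theorem m2_561 : allRange 52734 94 (fun u => chkFix tab mwordsA u) = true := by decide +kernel

theorem m2_562 : allRange 52828 94 (fun u => chkFix tab mwordsA u) = true := by decide +kernel

theorem m2_563 : allRange 52922 94 (fun u => chkFix tab mwordsA u) = true := by decide +kernel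

theorem m2_564 : allRange 53016 94 (fun u => chkFix tab mwordsA u) = true := by decide +kernel

theorem m2_565 : allRange 53110 94 (fun u => chkFix tab mwordsA u) = true := by decide +kernel

theorem m2_566 : allRange 53204 94 (fun u => chkFix tab mwordsA u) = true := by decide +kernel


end Cfsg.Agent.Helper9.TCData.HeE0
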