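import Cfsg.Agent.Lib.Helper9.TCData.HeE0.Main

set_option autoImplicit false
set_option maxRecDepth 1000000

namespace Cfsg.Agent.Helper9.TCData.HeE0
open Cfsg.Agent.Helper9.TC2

theorem m2_591 : allRange 55554 94 (fun u => chkFix tab mwordsA u) = true := by decide +kernel

theorem m2_592 : allRange 55648 94 (fun u => chkFix tab mwordsA u) = true := by decide +kernel

theorem m2_593 : allRange 55742 94 (fun u => chkFix tab mwordsA u) = true := by decide +kernel

theorem m2_594 : allRange 55836 94 (fun u => chkFix tab mwordsA u) = true := by decide +kernel

theorem m2_595 : allRange 55930 94 (fun u => chkFix tab mwordsA u) = true := by decide +kernel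

theorem m2_596 : allRange 56024 94 (fun u => chkFix tab mwordsA u) = true := by decide +kernel

theorem m2_597 : allRange 56118 94 (fun u => chkFix tab mwordsA u) = true := by decide +kernel

theorem m2_598 : allRange 56212 94 (fun u => chkFix tab mwordsA u) = true := by decide +kernel


end Cfsg.Agent.Helper9.TCData.HeE0
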