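import Cfsg.Agent.Lib.Helper9.TCData.HeE0.Main

set_option autoImplicit false
set_option maxRecDepth 1000000

namespace Cfsg.Agent.Helper9.TCData.HeE0
open Cfsg.Agent.Helper9.TC2

theorem m2_615 : allRange 57810 94 (fun u => chkFix tab mwordsA u) = true := by decide +kernel

theorem m2_616 : allRange 57904 94 (fun u => chkFix tab mwordsA u) = true := by decide +kernel

theorem m2_617 : allRange 57998 94 (fun u => chkFix tab mwordsA u) = true := by decide +kernel

theorem m2_618 : allRange 58092 94 (fun u => chkFix tab mwordsA u) = true := by decide +kernel

theorem m2_619 : allRange 58186 94 (fun u => chkFix tab mwordsA u) = true := by decide +kernel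

theorem m2_620 : allRange 58280 94 (fun u => chkFix tab mwordsA u) = true := by decide +kernel

theorem m2_621 : allRange 58374 94 (fun u => chkFix tab mwordsA u) = true := by decide +kernel

theorem m2_622 : allRange 58468 94 (fun u => chkFix tab mwordsA u) = true := by decide +kernel


end Cfsg.Agent.Helper9.TCData.HeE0
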