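import Cfsg.Agent.Lib.Helper9.TCData.HeE0.Main

set_option autoImplicit false
set_option maxRecDepth 1000000

namespace Cfsg.Agent.Helper9.TCData.HeE0
open Cfsg.Agent.Helper9.TC2

theorem m2_623 : allRange 58562 94 (fun u => chkFix tab mwordsA u) = true := by decide +kernel

theorem m2_624 : allRange 58656 94 (fun u => chkFix tab mwordsA u) = true := by decide +kernel

theorem m2_625 : allRange 58750 94 (fun u => chkFix tab mwordsA u) = true := by decide +kernel

theorem m2_626 : allRange 58844 94 (fun u => chkFix tab mwordsA u) = true := by decide +kernel

theorem m2_627 : allRange 58938 94 (fun u => chkFix tab mwordsA u) = true := by decide +kernel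

theorem m2_628 : allRange 59032 94 (fun u => chkFix tab mwordsA u) = true := by decide +kernel

theorem m2_629 : allRange 59126 94 (fun u => chkFix tab mwordsA u) = true := by decide +kernel

theorem m2_630 : allRange 59220 94 (fun u => chkFix tab mwordsA u) = true := by decide +kernel


end Cfsg.Agent.Helper9.TCData.HeE0
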