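import Cfsg.Agent.Lib.Helper9.TCData.HeE0.Main

set_option autoImplicit false
set_option maxRecDepth 1000000

namespace Cfsg.Agent.Helper9.TCData.HeE0
open Cfsg.Agent.Helper9.TC2

theorem e2_57 : allRange 138636 2250 (fun u => chkE tab 2 u) = true := by decide +kernel

theorem e2_58 : allRange 140886 2249 (fun u => chkE tab 2 u) = true := by decide +kernel

theorem e2_59 : allRange 143135 2331 (fun u => chkE tab 2 u) = true := by decide +kernel

theorem e2_60 : allRange 145466 2295 (fun u => chkE tab 2 u) = true := by decide +kernel

theorem e2_61 : allRange 147761 2273 (fun u => chkE tab 2 u) = true := by decide +kernel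

theorem e2_62 : allRange 150034 2333 (fun u => chkE tab 2 u) = true := by decide +kernel

theorem e2_63 : allRange 152367 2554 (fun u => chkE tab 2 u) = true := by decide +kernel

theorem e2_64 : allRange 154921 2411 (fun u => chkE tab 2 u) = true := by decide +kernel


end Cfsg.Agent.Helper9.TCData.HeE0
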