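import Cfsg.Agent.Lib.Helper9.TCData.HeE0.Main

set_option autoImplicit false
set_option maxRecDepth 1000000

namespace Cfsg.Agent.Helper9.TCData.HeE0
open Cfsg.Agent.Helper9.TC2

theorem m2_687 : allRange 64578 94 (fun u => chkFix tab mwordsA u) = true := by decide +kernel

theorem m2_688 : allRange 64672 94 (fun u => chkFix tab mwordsA u) = true := by decide +kernel

theorem m2_689 : allRange 64766 94 (fun u => chkFix tab mwordsA u) = true := by decide +kernel

theorem m2_690 : allRange 64860 94 (fun u => chkFix tab mwordsA u) = true := by decide +kernel

theorem m2_691 : allRange 64954 94 (fun u => chkFix tab mwordsA u) = true := by decide +kernel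

theorem m2_692 : allRange 65048 94 (fun u => chkFix tab mwordsA u) = true := by decide +kernel

theorem m2_693 : allRange 65142 94 (fun u => chkFix tab mwordsA u) = true := by decide +kernel

theorem m2_694 : allRange 65236 94 (fun u => chkFix tab mwordsA u) = true := by decide +kernel


end Cfsg.Agent.Helper9.TCData.HeE0
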