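import Cfsg.Agent.Lib.Helper9.TCData.HeE0.Main

set_option autoImplicit false
set_option maxRecDepth 1000000

namespace Cfsg.Agent.Helper9.TCData.HeE0
open Cfsg.Agent.Helper9.TC2

theorem m2_703 : allRange 66082 94 (fun u => chkFix tab mwordsA u) = true := by decide +kernel

theorem m2_704 : allRange 66176 94 (fun u => chkFix tab mwordsA u) = true := by decide +kernel

theorem m2_705 : allRange 66270 94 (fun u => chkFix tab mwordsA u) = true := by decide +kernel

theorem m2_706 : allRange 66364 94 (fun u => chkFix tab mwordsA u) = true := by decide +kernel

theorem m2_707 : allRange 66458 94 (fun u => chkFix tab mwordsA u) = true := by decide +kernel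

theorem m2_708 : allRange 66552 94 (fun u => chkFix tab mwordsA u) = true := by decide +kernel

theorem m2_709 : allRange 66646 94 (fun u => chkFix tab mwordsA u) = true := by decide +kernel

theorem m2_710 : allRange 66740 94 (fun u => chkFix tab mwordsA u) = true := by decide +kernel


end Cfsg.Agent.Helper9.TCData.HeE0
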