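import Cfsg.Agent.Lib.Helper9.TCData.HeE0.Main

set_option autoImplicit false
set_option maxRecDepth 1000000

namespace Cfsg.Agent.Helper9.TCData.HeE0
open Cfsg.Agent.Helper9.TC2

theorem e2_65 : allRange 157332 2461 (fun u => chkE tab 2 u) = true := by decide +kernel

theorem e2_66 : allRange 159793 2360 (fun u => chkE tab 2 u) = true := by decide +kernel

theorem e2_67 : allRange 162153 2320 (fun u => chkE tab 2 u) = true := by decide +kernel

theorem e2_68 : allRange 164473 2219 (fun u => chkE tab 2 u) = true := by decide +kernel

theorem e2_69 : allRange 166692 2503 (fun u => chkE tab 2 u) = true := by decide +kernel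

theorem e2_70 : allRange 169195 2409 (fun u => chkE tab 2 u) = true := by decide +kernel

theorem e2_71 : allRange 171604 2447 (fun u => chkE tab 2 u) = true := by decide +kernel

theorem e2_72 : allRange 174051 2679 (fun u => chkE tab 2 u) = true := by decide +kernel


end Cfsg.Agent.Helper9.TCData.HeE0
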