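import Cfsg.Agent.Lib.Helper9.TCData.HeE0.Main

set_option autoImplicit false
set_option maxRecDepth 1000000

namespace Cfsg.Agent.Helper9.TCData.HeE0
open Cfsg.Agent.Helper9.TC2

theorem m2_727 : allRange 68338 94 (fun u => chkFix tab mwordsA u) = true := by decide +kernel

theorem m2_728 : allRange 68432 94 (fun u => chkFix tab mwordsA u) = true := by decide +kernel

theorem m2_729 : allRange 68526 94 (fun u => chkFix tab mwordsA u) = true := by decide +kernel

theorem m2_730 : allRange 68620 94 (fun u => chkFix tab mwordsA u) = true := by decide +kernel

theorem m2_731 : allRange 68714 94 (fun u => chkFix tab mwordsA u) = true := by decide +kernel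

theorem m2_732 : allRange 68808 94 (fun u => chkFix tab mwordsA u) = true := by decide +kernel

theorem m2_733 : allRange 68902 94 (fun u => chkFix tab mwordsA u) = true := by decide +kernel

theorem m2_734 : allRange 68996 94 (fun u => chkFix tab mwordsA u) = true := by decide +kernel


end Cfsg.Agent.Helper9.TCData.HeE0
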