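import Cfsg.Agent.Lib.Helper9.TCData.HeE0.Main

set_option autoImplicit false
set_option maxRecDepth 1000000

namespace Cfsg.Agent.Helper9.TCData.HeE0
open Cfsg.Agent.Helper9.TC2

theorem m2_735 : allRange 69090 94 (fun u => chkFix tab mwordsA u) = true := by decide +kernel

theorem m2_736 : allRange 69184 94 (fun u => chkFix tab mwordsA u) = true := by decide +kernel

theorem m2_737 : allRange 69278 94 (fun u => chkFix tab mwordsA u) = true := by decide +kernel

theorem m2_738 : allRange 69372 94 (fun u => chkFix tab mwordsA u) = true := by decide +kernel

theorem m2_739 : allRange 69466 94 (fun u => chkFix tab mwordsA u) = true := by decide +kernel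

theorem m2_740 : allRange 69560 94 (fun u => chkFix tab mwordsA u) = true := by decide +kernel

theorem m2_741 : allRange 69654 94 (fun u => chkFix tab mwordsA u) = true := by decide +kernel

theorem m2_742 : allRange 69748 94 (fun u => chkFix tab mwordsA u) = true := by decide +kernel


end Cfsg.Agent.Helper9.TCData.HeE0
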