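import Cfsg.Agent.Lib.Helper9.TCData.HeE0.Main

set_option autoImplicit false
set_option maxRecDepth 1000000

namespace Cfsg.Agent.Helper9.TCData.HeE0
open Cfsg.Agent.Helper9.TC2

theorem m2_743 : allRange 69842 94 (fun u => chkFix tab mwordsA u) = true := by decide +kernel

theorem m2_744 : allRange 69936 94 (fun u => chkFix tab mwordsA u) = true := by decide +kernel

theorem m2_745 : allRange 70030 94 (fun u => chkFix tab mwordsA u) = true := by decide +kernel

theorem m2_746 : allRange 70124 94 (fun u => chkFix tab mwordsA u) = true := by decide +kernel

theorem m2_747 : allRange 70218 94 (fun u => chkFix tab mwordsA u) = true := by decide +kernel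

theorem m2_748 : allRange 70312 94 (fun u => chkFix tab mwordsA u) = true := by decide +kernel

theorem m2_749 : allRange 70406 94 (fun u => chkFix tab mwordsA u) = true := by decide +kernel

theorem m2_750 : allRange 70500 94 (fun u => chkFix tab mwordsA u) = true := by decide +kernel


end Cfsg.Agent.Helper9.TCData.HeE0
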