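import Cfsg.Agent.Lib.Helper9.TCData.HeE0.Main

set_option autoImplicit false
set_option maxRecDepth 1000000

namespace Cfsg.Agent.Helper9.TCData.HeE0
open Cfsg.Agent.Helper9.TC2

theorem m2_759 : allRange 71346 94 (fun u => chkFix tab mwordsA u) = true := by decide +kernel

theorem m2_760 : allRange 71440 94 (fun u => chkFix tab mwordsA u) = true := by decide +kernel

theorem m2_761 : allRange 71534 94 (fun u => chkFix tab mwordsA u) = true := by decide +kernel

theorem m2_762 : allRange 71628 94 (fun u => chkFix tab mwordsA u) = true := by decide +kernel

theorem m2_763 : allRange 71722 94 (fun u => chkFix tab mwordsA u) = true := by decide +kernel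

theorem m2_764 : allRange 71816 94 (fun u => chkFix tab mwordsA u) = true := by decide +kernel

theorem m2_765 : allRange 71910 94 (fun u => chkFix tab mwordsA u) = true := by decide +kernel

theorem m2_766 : allRange 72004 94 (fun u => chkFix tab mwordsA u) = true := by decide +kernel


end Cfsg.Agent.Helper9.TCData.HeE0
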