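import Cfsg.Agent.Lib.Helper9.TCData.HeE0.Main

set_option autoImplicit false
set_option maxRecDepth 1000000

namespace Cfsg.Agent.Helper9.TCData.HeE0
open Cfsg.Agent.Helper9.TC2

theorem e2_73 : allRange 176730 2548 (fun u => chkE tab 2 u) = true := by decide +kernel

theorem e2_74 : allRange 179278 2646 (fun u => chkE tab 2 u) = true := by decide +kernel

theorem e2_75 : allRange 181924 2677 (fun u => chkE tab 2 u) = true := by decide +kernel

theorem e2_76 : allRange 184601 2729 (fun u => chkE tab 2 u) = true := by decide +kernel

theorem e2_77 : allRange 187330 1917 (fun u => chkE tab 2 u) = true := by decide +kernel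

theorem e3_0 : allRange 0 4061 (fun u => chkE tab 3 u) = true := by decide +kernel

theorem e3_1 : allRange 4061 3900 (fun u => chkE tab 3 u) = true := by decide +kernel

theorem e3_2 : allRange 7961 3883 (fun u => chkE tab 3 u) = true := by decide +kernel


end Cfsg.Agent.Helper9.TCData.HeE0
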