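import Cfsg.Agent.Lib.Helper9.TCData.HeE0.Main

set_option autoImplicit false
set_option maxRecDepth 1000000

namespace Cfsg.Agent.Helper9.TCData.HeE0
open Cfsg.Agent.Helper9.TC2

theorem m2_807 : allRange 75858 94 (fun u => chkFix tab mwordsA u) = true := by decide +kernel

theorem m2_808 : allRange 75952 94 (fun u => chkFix tab mwordsA u) = true := by decide +kernel

theorem m2_809 : allRange 76046 94 (fun u => chkFix tab mwordsA u) = true := by decide +kernel

theorem m2_810 : allRange 76140 94 (fun u => chkFix tab mwordsA u) = true := by decide +kernel

theorem m2_811 : allRange 76234 94 (fun u => chkFix tab mwordsA u) = true := by decide +kernel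

theorem m2_812 : allRange 76328 94 (fun u => chkFix tab mwordsA u) = true := by decide +kernel

theorem m2_813 : allRange 76422 94 (fun u => chkFix tab mwordsA u) = true := by decide +kernel

theorem m2_814 : allRange 76516 94 (fun u => chkFix tab mwordsA u) = true := by decide +kernel


end Cfsg.Agent.Helper9.TCData.HeE0
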