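import Cfsg.Agent.Lib.Helper9.TCData.HeE0.Main

set_option autoImplicit false
set_option maxRecDepth 1000000

namespace Cfsg.Agent.Helper9.TCData.HeE0
open Cfsg.Agent.Helper9.TC2

theorem m2_839 : allRange 78866 94 (fun u => chkFix tab mwordsA u) = true := by decide +kernel

theorem m2_840 : allRange 78960 94 (fun u => chkFix tab mwordsA u) = true := by decide +kernel

theorem m2_841 : allRange 79054 94 (fun u => chkFix tab mwordsA u) = true := by decide +kernel

theorem m2_842 : allRange 79148 94 (fun u => chkFix tab mwordsA u) = true := by decide +kernel

theorem m2_843 : allRange 79242 94 (fun u => chkFix tab mwordsA u) = true := by decide +kernel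

theorem m2_844 : allRange 79336 94 (fun u => chkFix tab mwordsA u) = true := by decide +kernel

theorem m2_845 : allRange 79430 94 (fun u => chkFix tab mwordsA u) = true := by decide +kernel

theorem m2_846 : allRange 79524 94 (fun u => chkFix tab mwordsA u) = true := by decide +kernel


end Cfsg.Agent.Helper9.TCData.HeE0
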