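import Cfsg.Agent.Lib.Helper9.TCData.HeE0.Main

set_option autoImplicit false
set_option maxRecDepth 1000000

namespace Cfsg.Agent.Helper9.TCData.HeE0
open Cfsg.Agent.Helper9.TC2

theorem m2_847 : allRange 79618 94 (fun u => chkFix tab mwordsA u) = true := by decide +kernel

theorem m2_848 : allRange 79712 94 (fun u => chkFix tab mwordsA u) = true := by decide +kernel

theorem m2_849 : allRange 79806 94 (fun u => chkFix tab mwordsA u) = true := by decide +kernel

theorem m2_850 : allRange 79900 94 (fun u => chkFix tab mwordsA u) = true := by decide +kernel

theorem m2_851 : allRange 79994 94 (fun u => chkFix tab mwordsA u) = true := by decide +kernel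

theorem m2_852 : allRange 80088 94 (fun u => chkFix tab mwordsA u) = true := by decide +kernel

theorem m2_853 : allRange 80182 94 (fun u => chkFix tab mwordsA u) = true := by decide +kernel

theorem m2_854 : allRange 80276 94 (fun u => chkFix tab mwordsA u) = true := by decide +kernel


end Cfsg.Agent.Helper9.TCData.HeE0
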