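import Cfsg.Agent.Lib.Helper9.TCData.HeE0.Main

set_option autoImplicit false
set_option maxRecDepth 1000000

namespace Cfsg.Agent.Helper9.TCData.HeE0
open Cfsg.Agent.Helper9.TC2

theorem m2_855 : allRange 80370 94 (fun u => chkFix tab mwordsA u) = true := by decide +kernel

theorem m2_856 : allRange 80464 94 (fun u => chkFix tab mwordsA u) = true := by decide +kernel

theorem m2_857 : allRange 80558 94 (fun u => chkFix tab mwordsA u) = true := by decide +kernel

theorem m2_858 : allRange 80652 94 (fun u => chkFix tab mwordsA u) = true := by decide +kernel

theorem m2_859 : allRange 80746 94 (fun u => chkFix tab mwordsA u) = true := by decide +kernel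

theorem m2_860 : allRange 80840 94 (fun u => chkFix tab mwordsA u) = true := by decide +kernel

theorem m2_861 : allRange 80934 94 (fun u => chkFix tab mwordsA u) = true := by decide +kernel

theorem m2_862 : allRange 81028 94 (fun u => chkFix tab mwordsA u) = true := by decide +kernel


end Cfsg.Agent.Helper9.TCData.HeE0
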