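import Cfsg.Agent.Lib.Helper9.TCData.HeE0.Main

set_option autoImplicit false
set_option maxRecDepth 1000000

namespace Cfsg.Agent.Helper9.TCData.HeE0
open Cfsg.Agent.Helper9.TC2

theorem m2_879 : allRange 82626 94 (fun u => chkFix tab mwordsA u) = true := by decide +kernel

theorem m2_880 : allRange 82720 94 (fun u => chkFix tab mwordsA u) = true := by decide +kernel

theorem m2_881 : allRange 82814 94 (fun u => chkFix tab mwordsA u) = true := by decide +kernel

theorem m2_882 : allRange 82908 94 (fun u => chkFix tab mwordsA u) = true := by decide +kernel

theorem m2_883 : allRange 83002 94 (fun u => chkFix tab mwordsA u) = true := by decide +kernel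

theorem m2_884 : allRange 83096 94 (fun u => chkFix tab mwordsA u) = true := by decide +kernel

theorem m2_885 : allRange 83190 94 (fun u => chkFix tab mwordsA u) = true := by decide +kernel

theorem m2_886 : allRange 83284 94 (fun u => chkFix tab mwordsA u) = true := by decide +kernel


end Cfsg.Agent.Helper9.TCData.HeE0
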