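import Cfsg.Agent.Lib.Helper9.TCData.HeE0.Main

set_option autoImplicit false
set_option maxRecDepth 1000000

namespace Cfsg.Agent.Helper9.TCData.HeE0
open Cfsg.Agent.Helper9.TC2

theorem m2_895 : allRange 84130 94 (fun u => chkFix tab mwordsA u) = true := by decide +kernel

theorem m2_896 : allRange 84224 94 (fun u => chkFix tab mwordsA u) = true := by decide +kernel

theorem m2_897 : allRange 84318 94 (fun u => chkFix tab mwordsA u) = true := by decide +kernel

theorem m2_898 : allRange 84412 94 (fun u => chkFix tab mwordsA u) = true := by decide +kernel

theorem m2_899 : allRange 84506 94 (fun u => chkFix tab mwordsA u) = true := by decide +kernel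

theorem m2_900 : allRange 84600 94 (fun u => chkFix tab mwordsA u) = true := by decide +kernel

theorem m2_901 : allRange 84694 94 (fun u => chkFix tab mwordsA u) = true := by decide +kernel

theorem m2_902 : allRange 84788 94 (fun u => chkFix tab mwordsA u) = true := by decide +kernel


end Cfsg.Agent.Helper9.TCData.HeE0
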