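import Cfsg.Agent.Lib.Helper9.TCData.HeE0.Main

set_option autoImplicit false
set_option maxRecDepth 1000000

namespace Cfsg.Agent.Helper9.TCData.HeE0
open Cfsg.Agent.Helper9.TC2

theorem m2_903 : allRange 84882 94 (fun u => chkFix tab mwordsA u) = true := by decide +kernel

theorem m2_904 : allRange 84976 94 (fun u => chkFix tab mwordsA u) = true := by decide +kernel

theorem m2_905 : allRange 85070 94 (fun u => chkFix tab mwordsA u) = true := by decide +kernel

theorem m2_906 : allRange 85164 94 (fun u => chkFix tab mwordsA u) = true := by decide +kernel

theorem m2_907 : allRange 85258 94 (fun u => chkFix tab mwordsA u) = true := by decide +kernel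

theorem m2_908 : allRange 85352 94 (fun u => chkFix tab mwordsA u) = true := by decide +kernel

theorem m2_909 : allRange 85446 94 (fun u => chkFix tab mwordsA u) = true := by decide +kernel

theorem m2_910 : allRange 85540 94 (fun u => chkFix tab mwordsA u) = true := by decide +kernel


end Cfsg.Agent.Helper9.TCData.HeE0
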