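import Cfsg.Agent.Lib.Helper9.TCData.HeE0.Main

set_option autoImplicit false
set_option maxRecDepth 1000000

namespace Cfsg.Agent.Helper9.TCData.HeE0
open Cfsg.Agent.Helper9.TC2

theorem m2_919 : allRange 86386 94 (fun u => chkFix tab mwordsA u) = true := by decide +kernel

theorem m2_920 : allRange 86480 94 (fun u => chkFix tab mwordsA u) = true := by decide +kernel

theorem m2_921 : allRange 86574 94 (fun u => chkFix tab mwordsA u) = true := by decide +kernel

theorem m2_922 : allRange 86668 94 (fun u => chkFix tab mwordsA u) = true := by decide +kernel

theorem m2_923 : allRange 86762 94 (fun u => chkFix tab mwordsA u) = true := by decide +kernel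

theorem m2_924 : allRange 86856 94 (fun u => chkFix tab mwordsA u) = true := by decide +kernel

theorem m2_925 : allRange 86950 94 (fun u => chkFix tab mwordsA u) = true := by decide +kernel

theorem m2_926 : allRange 87044 94 (fun u => chkFix tab mwordsA u) = true := by decide +kernel


end Cfsg.Agent.Helper9.TCData.HeE0
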