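import Cfsg.Agent.Lib.Helper9.TCData.HeE0.Main

set_option autoImplicit false
set_option maxRecDepth 1000000

namespace Cfsg.Agent.Helper9.TCData.HeE0
open Cfsg.Agent.Helper9.TC2

theorem m2_927 : allRange 87138 94 (fun u => chkFix tab mwordsA u) = true := by decide +kernel

theorem m2_928 : allRange 87232 94 (fun u => chkFix tab mwordsA u) = true := by decide +kernel

theorem m2_929 : allRange 87326 94 (fun u => chkFix tab mwordsA u) = true := by decide +kernel

theorem m2_930 : allRange 87420 94 (fun u => chkFix tab mwordsA u) = true := by decide +kernel

theorem m2_931 : allRange 87514 94 (fun u => chkFix tab mwordsA u) = true := by decide +kernel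

theorem m2_932 : allRange 87608 94 (fun u => chkFix tab mwordsA u) = true := by decide +kernel

theorem m2_933 : allRange 87702 94 (fun u => chkFix tab mwordsA u) = true := by decide +kernel

theorem m2_934 : allRange 87796 94 (fun u => chkFix tab mwordsA u) = true := by decide +kernel


end Cfsg.Agent.Helper9.TCData.HeE0
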