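import Cfsg.Agent.Lib.Helper9.TCData.HeE0.Main

set_option autoImplicit false
set_option maxRecDepth 1000000

namespace Cfsg.Agent.Helper9.TCData.HeE0
open Cfsg.Agent.Helper9.TC2

theorem e3_11 : allRange 38125 2782 (fun u => chkE tab 3 u) = true := by decide +kernel

theorem e3_12 : allRange 40907 2619 (fun u => chkE tab 3 u) = true := by decide +kernel

theorem e3_13 : allRange 43526 3201 (fun u => chkE tab 3 u) = true := by decide +kernel

theorem e3_14 : allRange 46727 2854 (fun u => chkE tab 3 u) = true := by decide +kernel

theorem e3_15 : allRange 49581 2815 (fun u => chkE tab 3 u) = true := by decide +kernel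

theorem e3_16 : allRange 52396 2897 (fun u => chkE tab 3 u) = true := by decide +kernel

theorem e3_17 : allRange 55293 3476 (fun u => chkE tab 3 u) = true := by decide +kernel

theorem e3_18 : allRange 58769 3322 (fun u => chkE tab 3 u) = true := by decide +kernel


end Cfsg.Agent.Helper9.TCData.HeE0
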