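import Cfsg.Agent.Lib.Helper9.TCData.HeE0.Main

set_option autoImplicit false
set_option maxRecDepth 1000000

namespace Cfsg.Agent.Helper9.TCData.HeE0
open Cfsg.Agent.Helper9.TC2

theorem m2_975 : allRange 91650 94 (fun u => chkFix tab mwordsA u) = true := by decide +kernel

theorem m2_976 : allRange 91744 94 (fun u => chkFix tab mwordsA u) = true := by decide +kernel

theorem m2_977 : allRange 91838 94 (fun u => chkFix tab mwordsA u) = true := by decide +kernel

theorem m2_978 : allRange 91932 94 (fun u => chkFix tab mwordsA u) = true := by decide +kernel

theorem m2_979 : allRange 92026 94 (fun u => chkFix tab mwordsA u) = true := by decide +kernel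

theorem m2_980 : allRange 92120 94 (fun u => chkFix tab mwordsA u) = true := by decide +kernel

theorem m2_981 : allRange 92214 94 (fun u => chkFix tab mwordsA u) = true := by decide +kernel

theorem m2_982 : allRange 92308 94 (fun u => chkFix tab mwordsA u) = true := by decide +kernel


end Cfsg.Agent.Helper9.TCData.HeE0
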