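import Cfsg.Agent.Lib.Helper9.TCData.HeE0.Main

set_option autoImplicit false
set_option maxRecDepth 1000000

namespace Cfsg.Agent.Helper9.TCData.HeE0
open Cfsg.Agent.Helper9.TC2

theorem m2_983 : allRange 92402 94 (fun u => chkFix tab mwordsA u) = true := by decide +kernel

theorem m2_984 : allRange 92496 94 (fun u => chkFix tab mwordsA u) = true := by decide +kernel

theorem m2_985 : allRange 92590 94 (fun u => chkFix tab mwordsA u) = true := by decide +kernel

theorem m2_986 : allRange 92684 94 (fun u => chkFix tab mwordsA u) = true := by decide +kernel

theorem m2_987 : allRange 92778 94 (fun u => chkFix tab mwordsA u) = true := by decide +kernel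

theorem m2_988 : allRange 92872 94 (fun u => chkFix tab mwordsA u) = true := by decide +kernel

theorem m2_989 : allRange 92966 94 (fun u => chkFix tab mwordsA u) = true := by decide +kernel

theorem m2_990 : allRange 93060 94 (fun u => chkFix tab mwordsA u) = true := by decide +kernel


end Cfsg.Agent.Helper9.TCData.HeE0
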