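import Cfsg.Agent.Lib.Helper9.TCData.HeE0.Main

set_option autoImplicit false
set_option maxRecDepth 1000000

namespace Cfsg.Agent.Helper9.TCData.HeE0
open Cfsg.Agent.Helper9.TC2

theorem m2_991 : allRange 93154 94 (fun u => chkFix tab mwordsA u) = true := by decide +kernel

theorem m2_992 : allRange 93248 94 (fun u => chkFix tab mwordsA u) = true := by decide +kernel

theorem m2_993 : allRange 93342 94 (fun u => chkFix tab mwordsA u) = true := by decide +kernel

theorem m2_994 : allRange 93436 94 (fun u => chkFix tab mwordsA u) = true := by decide +kernel

theorem m2_995 : allRange 93530 94 (fun u => chkFix tab mwordsA u) = true := by decide +kernel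

theorem m2_996 : allRange 93624 94 (fun u => chkFix tab mwordsA u) = true := by decide +kernel

theorem m2_997 : allRange 93718 94 (fun u => chkFix tab mwordsA u) = true := by decide +kernel

theorem m2_998 : allRange 93812 94 (fun u => chkFix tab mwordsA u) = true := by decide +kernel


end Cfsg.Agent.Helper9.TCData.HeE0
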