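import Cfsg.Agent.Lib.Helper9.TCData.HeE0.Main

set_option autoImplicit false
set_option maxRecDepth 1000000

namespace Cfsg.Agent.Helper9.TCData.HeE0
open Cfsg.Agent.Helper9.TC2

theorem m2_999 : allRange 93906 94 (fun u => chkFix tab mwordsA u) = true := by decide +kernel

theorem m2_1000 : allRange 94000 94 (fun u => chkFix tab mwordsA u) = true := by decide +kernel

theorem m2_1001 : allRange 94094 94 (fun u => chkFix tab mwordsA u) = true := by decide +kernel

theorem m2_1002 : allRange 94188 94 (fun u => chkFix tab mwordsA u) = true := by decide +kernel

theorem m2_1003 : allRange 94282 94 (fun u => chkFix tab mwordsA u) = true := by decide +kernel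

theorem m2_1004 : allRange 94376 94 (fun u => chkFix tab mwordsA u) = true := by decide +kernel

theorem m2_1005 : allRange 94470 94 (fun u => chkFix tab mwordsA u) = true := by decide +kernel

theorem m2_1006 : allRange 94564 94 (fun u => chkFix tab mwordsA u) = true := by decide +kernel


end Cfsg.Agent.Helper9.TCData.HeE0
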