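import Cfsg.Agent.Lib.Helper9.TCData.HeE0.Main

set_option autoImplicit false
set_option maxRecDepth 1000000

namespace Cfsg.Agent.Helper9.TCData.HeE0
open Cfsg.Agent.Helper9.TC2

theorem m2_1015 : allRange 95410 94 (fun u => chkFix tab mwordsA u) = true := by decide +kernel

theorem m2_1016 : allRange 95504 94 (fun u => chkFix tab mwordsA u) = true := by decide +kernel

theorem m2_1017 : allRange 95598 94 (fun u => chkFix tab mwordsA u) = true := by decide +kernel

theorem m2_1018 : allRange 95692 94 (fun u => chkFix tab mwordsA u) = true := by decide +kernel

theorem m2_1019 : allRange 95786 94 (fun u => chkFix tab mwordsA u) = true := by decide +kernel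

theorem m2_1020 : allRange 95880 94 (fun u => chkFix tab mwordsA u) = true := by decide +kernel

theorem m2_1021 : allRange 95974 94 (fun u => chkFix tab mwordsA u) = true := by decide +kernel

theorem m2_1022 : allRange 96068 94 (fun u => chkFix tab mwordsA u) = true := by decide +kernel


end Cfsg.Agent.Helper9.TCData.HeE0
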