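import Cfsg.Agent.Lib.Helper9.TCData.HeE0.Main

set_option autoImplicit false
set_option maxRecDepth 1000000

namespace Cfsg.Agent.Helper9.TCData.HeE0
open Cfsg.Agent.Helper9.TC2

theorem m2_1031 : allRange 96914 94 (fun u => chkFix tab mwordsA u) = true := by decide +kernel

theorem m2_1032 : allRange 97008 94 (fun u => chkFix tab mwordsA u) = true := by decide +kernel

theorem m2_1033 : allRange 97102 94 (fun u => chkFix tab mwordsA u) = true := by decide +kernel

theorem m2_1034 : allRange 97196 94 (fun u => chkFix tab mwordsA u) = true := by decide +kernel

theorem m2_1035 : allRange 97290 94 (fun u => chkFix tab mwordsA u) = true := by decide +kernel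

theorem m2_1036 : allRange 97384 94 (fun u => chkFix tab mwordsA u) = true := by decide +kernel

theorem m2_1037 : allRange 97478 94 (fun u => chkFix tab mwordsA u) = true := by decide +kernel

theorem m2_1038 : allRange 97572 94 (fun u => chkFix tab mwordsA u) = true := by decide +kernel


end Cfsg.Agent.Helper9.TCData.HeE0
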