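import Cfsg.Agent.Lib.Helper9.TCData.HeE0.Main

set_option autoImplicit false
set_option maxRecDepth 1000000

namespace Cfsg.Agent.Helper9.TCData.HeE0
open Cfsg.Agent.Helper9.TC2

theorem m2_1039 : allRange 97666 94 (fun u => chkFix tab mwordsA u) = true := by decide +kernel

theorem m2_1040 : allRange 97760 94 (fun u => chkFix tab mwordsA u) = true := by decide +kernel

theorem m2_1041 : allRange 97854 94 (fun u => chkFix tab mwordsA u) = true := by decide +kernel

theorem m2_1042 : allRange 97948 94 (fun u => chkFix tab mwordsA u) = true := by decide +kernel

theorem m2_1043 : allRange 98042 94 (fun u => chkFix tab mwordsA u) = true := by decide +kernel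

theorem m2_1044 : allRange 98136 94 (fun u => chkFix tab mwordsA u) = true := by decide +kernel

theorem m2_1045 : allRange 98230 94 (fun u => chkFix tab mwordsA u) = true := by decide +kernel

theorem m2_1046 : allRange 98324 94 (fun u => chkFix tab mwordsA u) = true := by decide +kernel


end Cfsg.Agent.Helper9.TCData.HeE0
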