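import Cfsg.Agent.Lib.Helper9.TCData.HeE0.Main

set_option autoImplicit false
set_option maxRecDepth 1000000

namespace Cfsg.Agent.Helper9.TCData.HeE0
open Cfsg.Agent.Helper9.TC2

theorem e3_19 : allRange 62091 2849 (fun u => chkE tab 3 u) = true := by decide +kernel

theorem e3_20 : allRange 64940 2945 (fun u => chkE tab 3 u) = true := by decide +kernel

theorem e3_21 : allRange 67885 2989 (fun u => chkE tab 3 u) = true := by decide +kernel

theorem e3_22 : allRange 70874 3015 (fun u => chkE tab 3 u) = true := by decide +kernel

theorem e3_23 : allRange 73889 3106 (fun u => chkE tab 3 u) = true := by decide +kernel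

theorem e3_24 : allRange 76995 3290 (fun u => chkE tab 3 u) = true := by decide +kernel

theorem e3_25 : allRange 80285 3052 (fun u => chkE tab 3 u) = true := by decide +kernel

theorem e3_26 : allRange 83337 3356 (fun u => chkE tab 3 u) = true := by decide +kernel


end Cfsg.Agent.Helper9.TCData.HeE0
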