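import Cfsg.Agent.Lib.Helper9.TCData.HeE0.Main

set_option autoImplicit false
set_option maxRecDepth 1000000

namespace Cfsg.Agent.Helper9.TCData.HeE0
open Cfsg.Agent.Helper9.TC2

theorem m2_1071 : allRange 100674 94 (fun u => chkFix tab mwordsA u) = true := by decide +kernel

theorem m2_1072 : allRange 100768 94 (fun u => chkFix tab mwordsA u) = true := by decide +kernel

theorem m2_1073 : allRange 100862 94 (fun u => chkFix tab mwordsA u) = true := by decide +kernel

theorem m2_1074 : allRange 100956 94 (fun u => chkFix tab mwordsA u) = true := by decide +kernel

theorem m2_1075 : allRange 101050 94 (fun u => chkFix tab mwordsA u) = true := by decide +kernel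

theorem m2_1076 : allRange 101144 94 (fun u => chkFix tab mwordsA u) = true := by decide +kernel

theorem m2_1077 : allRange 101238 94 (fun u => chkFix tab mwordsA u) = true := by decide +kernel

theorem m2_1078 : allRange 101332 94 (fun u => chkFix tab mwordsA u) = true := by decide +kernel


end Cfsg.Agent.Helper9.TCData.HeE0
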