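import Cfsg.Agent.Lib.Helper9.TCData.HeE0.Main

set_option autoImplicit false
set_option maxRecDepth 1000000

namespace Cfsg.Agent.Helper9.TCData.HeE0
open Cfsg.Agent.Helper9.TC2

theorem m2_1079 : allRange 101426 94 (fun u => chkFix tab mwordsA u) = true := by decide +kernel

theorem m2_1080 : allRange 101520 94 (fun u => chkFix tab mwordsA u) = true := by decide +kernel

theorem m2_1081 : allRange 101614 94 (fun u => chkFix tab mwordsA u) = true := by decide +kernel

theorem m2_1082 : allRange 101708 94 (fun u => chkFix tab mwordsA u) = true := by decide +kernel

theorem m2_1083 : allRange 101802 94 (fun u => chkFix tab mwordsA u) = true := by decide +kernel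

theorem m2_1084 : allRange 101896 94 (fun u => chkFix tab mwordsA u) = true := by decide +kernel

theorem m2_1085 : allRange 101990 94 (fun u => chkFix tab mwordsA u) = true := by decide +kernel

theorem m2_1086 : allRange 102084 94 (fun u => chkFix tab mwordsA u) = true := by decide +kernel


end Cfsg.Agent.Helper9.TCData.HeE0
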