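import Cfsg.Agent.Lib.Helper9.TCData.HeE0.Main

set_option autoImplicit false
set_option maxRecDepth 1000000

namespace Cfsg.Agent.Helper9.TCData.HeE0
open Cfsg.Agent.Helper9.TC2

theorem m2_1103 : allRange 103682 94 (fun u => chkFix tab mwordsA u) = true := by decide +kernel

theorem m2_1104 : allRange 103776 94 (fun u => chkFix tab mwordsA u) = true := by decide +kernel

theorem m2_1105 : allRange 103870 94 (fun u => chkFix tab mwordsA u) = true := by decide +kernel

theorem m2_1106 : allRange 103964 94 (fun u => chkFix tab mwordsA u) = true := by decide +kernel

theorem m2_1107 : allRange 104058 94 (fun u => chkFix tab mwordsA u) = true := by decide +kernel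

theorem m2_1108 : allRange 104152 94 (fun u => chkFix tab mwordsA u) = true := by decide +kernel

theorem m2_1109 : allRange 104246 94 (fun u => chkFix tab mwordsA u) = true := by decide +kernel

theorem m2_1110 : allRange 104340 94 (fun u => chkFix tab mwordsA u) = true := by decide +kernel


end Cfsg.Agent.Helper9.TCData.HeE0
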