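import Cfsg.Agent.Lib.Helper9.TCData.HeE0.Main

set_option autoImplicit false
set_option maxRecDepth 1000000

namespace Cfsg.Agent.Helper9.TCData.HeE0
open Cfsg.Agent.Helper9.TC2

theorem m2_1111 : allRange 104434 94 (fun u => chkFix tab mwordsA u) = true := by decide +kernel

theorem m2_1112 : allRange 104528 94 (fun u => chkFix tab mwordsA u) = true := by decide +kernel

theorem m2_1113 : allRange 104622 94 (fun u => chkFix tab mwordsA u) = true := by decide +kernel

theorem m2_1114 : allRange 104716 94 (fun u => chkFix tab mwordsA u) = true := by decide +kernel

theorem m2_1115 : allRange 104810 94 (fun u => chkFix tab mwordsA u) = true := by decide +kernel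

theorem m2_1116 : allRange 104904 94 (fun u => chkFix tab mwordsA u) = true := by decide +kernel

theorem m2_1117 : allRange 104998 94 (fun u => chkFix tab mwordsA u) = true := by decide +kernel

theorem m2_1118 : allRange 105092 94 (fun u => chkFix tab mwordsA u) = true := by decide +kernel


end Cfsg.Agent.Helper9.TCData.HeE0
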