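import Cfsg.Agent.Lib.Helper9.TCData.HeE0.Main

set_option autoImplicit false
set_option maxRecDepth 1000000

namespace Cfsg.Agent.Helper9.TCData.HeE0
open Cfsg.Agent.Helper9.TC2

theorem e3_27 : allRange 86693 2943 (fun u => chkE tab 3 u) = true := by decide +kernel

theorem e3_28 : allRange 89636 2976 (fun u => chkE tab 3 u) = true := by decide +kernel

theorem e3_29 : allRange 92612 2816 (fun u => chkE tab 3 u) = true := by decide +kernel

theorem e3_30 : allRange 95428 2882 (fun u => chkE tab 3 u) = true := by decide +kernel

theorem e3_31 : allRange 98310 2844 (fun u => chkE tab 3 u) = true := by decide +kernel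

theorem e3_32 : allRange 101154 2750 (fun u => chkE tab 3 u) = true := by decide +kernel

theorem e3_33 : allRange 103904 2558 (fun u => chkE tab 3 u) = true := by decide +kernel

theorem e3_34 : allRange 106462 2510 (fun u => chkE tab 3 u) = true := by decide +kernel


end Cfsg.Agent.Helper9.TCData.HeE0
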