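import Cfsg.Agent.Lib.Helper9.TCData.HeE0.Main

set_option autoImplicit false
set_option maxRecDepth 1000000

namespace Cfsg.Agent.Helper9.TCData.HeE0
open Cfsg.Agent.Helper9.TC2

theorem m2_1127 : allRange 105938 94 (fun u => chkFix tab mwordsA u) = true := by decide +kernel

theorem m2_1128 : allRange 106032 94 (fun u => chkFix tab mwordsA u) = true := by decide +kernel

theorem m2_1129 : allRange 106126 94 (fun u => chkFix tab mwordsA u) = true := by decide +kernel

theorem m2_1130 : allRange 106220 94 (fun u => chkFix tab mwordsA u) = true := by decide +kernel

theorem m2_1131 : allRange 106314 94 (fun u => chkFix tab mwordsA u) = true := by decide +kernel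

theorem m2_1132 : allRange 106408 94 (fun u => chkFix tab mwordsA u) = true := by decide +kernel

theorem m2_1133 : allRange 106502 94 (fun u => chkFix tab mwordsA u) = true := by decide +kernel

theorem m2_1134 : allRange 106596 94 (fun u => chkFix tab mwordsA u) = true := by decide +kernel


end Cfsg.Agent.Helper9.TCData.HeE0
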