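import Cfsg.Agent.Lib.Helper9.TCData.HeE0.Main

set_option autoImplicit false
set_option maxRecDepth 1000000

namespace Cfsg.Agent.Helper9.TCData.HeE0
open Cfsg.Agent.Helper9.TC2

theorem m2_1143 : allRange 107442 94 (fun u => chkFix tab mwordsA u) = true := by decide +kernel

theorem m2_1144 : allRange 107536 94 (fun u => chkFix tab mwordsA u) = true := by decide +kernel

theorem m2_1145 : allRange 107630 94 (fun u => chkFix tab mwordsA u) = true := by decide +kernel

theorem m2_1146 : allRange 107724 94 (fun u => chkFix tab mwordsA u) = true := by decide +kernel

theorem m2_1147 : allRange 107818 94 (fun u => chkFix tab mwordsA u) = true := by decide +kernel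

theorem m2_1148 : allRange 107912 94 (fun u => chkFix tab mwordsA u) = true := by decide +kernel

theorem m2_1149 : allRange 108006 94 (fun u => chkFix tab mwordsA u) = true := by decide +kernel

theorem m2_1150 : allRange 108100 94 (fun u => chkFix tab mwordsA u) = true := by decide +kernel


end Cfsg.Agent.Helper9.TCData.HeE0
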