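import Cfsg.Agent.Lib.Helper9.TCData.HeE0.Main

set_option autoImplicit false
set_option maxRecDepth 1000000

namespace Cfsg.Agent.Helper9.TCData.HeE0
open Cfsg.Agent.Helper9.TC2

theorem m2_1175 : allRange 110450 94 (fun u => chkFix tab mwordsA u) = true := by decide +kernel

theorem m2_1176 : allRange 110544 94 (fun u => chkFix tab mwordsA u) = true := by decide +kernel

theorem m2_1177 : allRange 110638 94 (fun u => chkFix tab mwordsA u) = true := by decide +kernel

theorem m2_1178 : allRange 110732 94 (fun u => chkFix tab mwordsA u) = true := by decide +kernel

theorem m2_1179 : allRange 110826 94 (fun u => chkFix tab mwordsA u) = true := by decide +kernel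

theorem m2_1180 : allRange 110920 94 (fun u => chkFix tab mwordsA u) = true := by decide +kernel

theorem m2_1181 : allRange 111014 94 (fun u => chkFix tab mwordsA u) = true := by decide +kernel

theorem m2_1182 : allRange 111108 94 (fun u => chkFix tab mwordsA u) = true := by decide +kernel


end Cfsg.Agent.Helper9.TCData.HeE0
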