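import Cfsg.Agent.Lib.Helper9.TCData.HeE0.Main

set_option autoImplicit false
set_option maxRecDepth 1000000

namespace Cfsg.Agent.Helper9.TCData.HeE0
open Cfsg.Agent.Helper9.TC2

theorem m2_1191 : allRange 111954 94 (fun u => chkFix tab mwordsA u) = true := by decide +kernel

theorem m2_1192 : allRange 112048 94 (fun u => chkFix tab mwordsA u) = true := by decide +kernel

theorem m2_1193 : allRange 112142 94 (fun u => chkFix tab mwordsA u) = true := by decide +kernel

theorem m2_1194 : allRange 112236 94 (fun u => chkFix tab mwordsA u) = true := by decide +kernel

theorem m2_1195 : allRange 112330 94 (fun u => chkFix tab mwordsA u) = true := by decide +kernel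

theorem m2_1196 : allRange 112424 94 (fun u => chkFix tab mwordsA u) = true := by decide +kernel

theorem m2_1197 : allRange 112518 94 (fun u => chkFix tab mwordsA u) = true := by decide +kernel

theorem m2_1198 : allRange 112612 94 (fun u => chkFix tab mwordsA u) = true := by decide +kernel


end Cfsg.Agent.Helper9.TCData.HeE0
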