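import Cfsg.Agent.Lib.Helper9.TCData.HeE0.Main

set_option autoImplicit false
set_option maxRecDepth 1000000

namespace Cfsg.Agent.Helper9.TCData.HeE0
open Cfsg.Agent.Helper9.TC2

theorem e3_35 : allRange 108972 2660 (fun u => chkE tab 3 u) = true := by decide +kernel

theorem e3_36 : allRange 111632 2794 (fun u => chkE tab 3 u) = true := by decide +kernel

theorem e3_37 : allRange 114426 2423 (fun u => chkE tab 3 u) = true := by decide +kernel

theorem e3_38 : allRange 116849 2632 (fun u => chkE tab 3 u) = true := by decide +kernel

theorem e3_39 : allRange 119481 2532 (fun u => chkE tab 3 u) = true := by decide +kernel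

theorem e3_40 : allRange 122013 2504 (fun u => chkE tab 3 u) = true := by decide +kernel

theorem e3_41 : allRange 124517 2518 (fun u => chkE tab 3 u) = true := by decide +kernel

theorem e3_42 : allRange 127035 2463 (fun u => chkE tab 3 u) = true := by decide +kernel


end Cfsg.Agent.Helper9.TCData.HeE0
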