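import Cfsg.Agent.Lib.Helper9.TCData.HeE0.Main

set_option autoImplicit false
set_option maxRecDepth 1000000

namespace Cfsg.Agent.Helper9.TCData.HeE0
open Cfsg.Agent.Helper9.TC2

theorem m2_1207 : allRange 113458 94 (fun u => chkFix tab mwordsA u) = true := by decide +kernel

theorem m2_1208 : allRange 113552 94 (fun u => chkFix tab mwordsA u) = true := by decide +kernel

theorem m2_1209 : allRange 113646 94 (fun u => chkFix tab mwordsA u) = true := by decide +kernel

theorem m2_1210 : allRange 113740 94 (fun u => chkFix tab mwordsA u) = true := by decide +kernel

theorem m2_1211 : allRange 113834 94 (fun u => chkFix tab mwordsA u) = true := by decide +kernel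

theorem m2_1212 : allRange 113928 94 (fun u => chkFix tab mwordsA u) = true := by decide +kernel

theorem m2_1213 : allRange 114022 94 (fun u => chkFix tab mwordsA u) = true := by decide +kernel

theorem m2_1214 : allRange 114116 94 (fun u => chkFix tab mwordsA u) = true := by decide +kernel


end Cfsg.Agent.Helper9.TCData.HeE0
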