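import Cfsg.Agent.Lib.Helper9.TCData.HeE0.Main

set_option autoImplicit false
set_option maxRecDepth 1000000

namespace Cfsg.Agent.Helper9.TCData.HeE0
open Cfsg.Agent.Helper9.TC2

theorem m2_1215 : allRange 114210 94 (fun u => chkFix tab mwordsA u) = true := by decide +kernel

theorem m2_1216 : allRange 114304 94 (fun u => chkFix tab mwordsA u) = true := by decide +kernel

theorem m2_1217 : allRange 114398 94 (fun u => chkFix tab mwordsA u) = true := by decide +kernel

theorem m2_1218 : allRange 114492 94 (fun u => chkFix tab mwordsA u) = true := by decide +kernel

theorem m2_1219 : allRange 114586 94 (fun u => chkFix tab mwordsA u) = true := by decide +kernel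

theorem m2_1220 : allRange 114680 94 (fun u => chkFix tab mwordsA u) = true := by decide +kernel

theorem m2_1221 : allRange 114774 94 (fun u => chkFix tab mwordsA u) = true := by decide +kernel

theorem m2_1222 : allRange 114868 94 (fun u => chkFix tab mwordsA u) = true := by decide +kernel


end Cfsg.Agent.Helper9.TCData.HeE0
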