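import Cfsg.Agent.Lib.Helper9.TCData.HeE0.Main

set_option autoImplicit false
set_option maxRecDepth 1000000

namespace Cfsg.Agent.Helper9.TCData.HeE0
open Cfsg.Agent.Helper9.TC2

theorem m2_1231 : allRange 115714 94 (fun u => chkFix tab mwordsA u) = true := by decide +kernel

theorem m2_1232 : allRange 115808 94 (fun u => chkFix tab mwordsA u) = true := by decide +kernel

theorem m2_1233 : allRange 115902 94 (fun u => chkFix tab mwordsA u) = true := by decide +kernel

theorem m2_1234 : allRange 115996 94 (fun u => chkFix tab mwordsA u) = true := by decide +kernel

theorem m2_1235 : allRange 116090 94 (fun u => chkFix tab mwordsA u) = true := by decide +kernel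

theorem m2_1236 : allRange 116184 94 (fun u => chkFix tab mwordsA u) = true := by decide +kernel

theorem m2_1237 : allRange 116278 94 (fun u => chkFix tab mwordsA u) = true := by decide +kernel

theorem m2_1238 : allRange 116372 94 (fun u => chkFix tab mwordsA u) = true := by decide +kernel


end Cfsg.Agent.Helper9.TCData.HeE0
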