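import Cfsg.Agent.Lib.Helper9.TCData.HeE0.Main

set_option autoImplicit false
set_option maxRecDepth 1000000

namespace Cfsg.Agent.Helper9.TCData.HeE0
open Cfsg.Agent.Helper9.TC2

theorem m2_1263 : allRange 118722 94 (fun u => chkFix tab mwordsA u) = true := by decide +kernel

theorem m2_1264 : allRange 118816 94 (fun u => chkFix tab mwordsA u) = true := by decide +kernel

theorem m2_1265 : allRange 118910 94 (fun u => chkFix tab mwordsA u) = true := by decide +kernel

theorem m2_1266 : allRange 119004 94 (fun u => chkFix tab mwordsA u) = true := by decide +kernel

theorem m2_1267 : allRange 119098 94 (fun u => chkFix tab mwordsA u) = true := by decide +kernel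

theorem m2_1268 : allRange 119192 94 (fun u => chkFix tab mwordsA u) = true := by decide +kernel

theorem m2_1269 : allRange 119286 94 (fun u => chkFix tab mwordsA u) = true := by decide +kernel

theorem m2_1270 : allRange 119380 94 (fun u => chkFix tab mwordsA u) = true := by decide +kernel


end Cfsg.Agent.Helper9.TCData.HeE0
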