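import Cfsg.Agent.Lib.Helper9.TCData.HeE0.Main

set_option autoImplicit false
set_option maxRecDepth 1000000

namespace Cfsg.Agent.Helper9.TCData.HeE0
open Cfsg.Agent.Helper9.TC2

theorem m2_1271 : allRange 119474 94 (fun u => chkFix tab mwordsA u) = true := by decide +kernel

theorem m2_1272 : allRange 119568 94 (fun u => chkFix tab mwordsA u) = true := by decide +kernel

theorem m2_1273 : allRange 119662 94 (fun u => chkFix tab mwordsA u) = true := by decide +kernel

theorem m2_1274 : allRange 119756 94 (fun u => chkFix tab mwordsA u) = true := by decide +kernel

theorem m2_1275 : allRange 119850 94 (fun u => chkFix tab mwordsA u) = true := by decide +kernel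

theorem m2_1276 : allRange 119944 94 (fun u => chkFix tab mwordsA u) = true := by decide +kernel

theorem m2_1277 : allRange 120038 94 (fun u => chkFix tab mwordsA u) = true := by decide +kernel

theorem m2_1278 : allRange 120132 94 (fun u => chkFix tab mwordsA u) = true := by decide +kernel


end Cfsg.Agent.Helper9.TCData.HeE0
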