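import Cfsg.Agent.Lib.Helper9.TCData.HeE0.Main

set_option autoImplicit false
set_option maxRecDepth 1000000

namespace Cfsg.Agent.Helper9.TCData.HeE0
open Cfsg.Agent.Helper9.TC2

theorem e3_43 : allRange 129498 2488 (fun u => chkE tab 3 u) = true := by decide +kernel

theorem e3_44 : allRange 131986 2458 (fun u => chkE tab 3 u) = true := by decide +kernel

theorem e3_45 : allRange 134444 2400 (fun u => chkE tab 3 u) = true := by decide +kernel

theorem e3_46 : allRange 136844 2424 (fun u => chkE tab 3 u) = true := by decide +kernel

theorem e3_47 : allRange 139268 2435 (fun u => chkE tab 3 u) = true := by decide +kernel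

theorem e3_48 : allRange 141703 2436 (fun u => chkE tab 3 u) = true := by decide +kernel

theorem e3_49 : allRange 144139 2498 (fun u => chkE tab 3 u) = true := by decide +kernel

theorem e3_50 : allRange 146637 2399 (fun u => chkE tab 3 u) = true := by decide +kernel


end Cfsg.Agent.Helper9.TCData.HeE0
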