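import Cfsg.Agent.Lib.Helper9.TCData.HeE0.Main

set_option autoImplicit false
set_option maxRecDepth 1000000

namespace Cfsg.Agent.Helper9.TCData.HeE0
open Cfsg.Agent.Helper9.TC2

theorem m2_1303 : allRange 122482 94 (fun u => chkFix tab mwordsA u) = true := by decide +kernel

theorem m2_1304 : allRange 122576 94 (fun u => chkFix tab mwordsA u) = true := by decide +kernel

theorem m2_1305 : allRange 122670 94 (fun u => chkFix tab mwordsA u) = true := by decide +kernel

theorem m2_1306 : allRange 122764 94 (fun u => chkFix tab mwordsA u) = true := by decide +kernel

theorem m2_1307 : allRange 122858 94 (fun u => chkFix tab mwordsA u) = true := by decide +kernel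

theorem m2_1308 : allRange 122952 94 (fun u => chkFix tab mwordsA u) = true := by decide +kernel

theorem m2_1309 : allRange 123046 94 (fun u => chkFix tab mwordsA u) = true := by decide +kernel

theorem m2_1310 : allRange 123140 94 (fun u => chkFix tab mwordsA u) = true := by decide +kernel


end Cfsg.Agent.Helper9.TCData.HeE0
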