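import Cfsg.Agent.Lib.Helper9.TCData.HeE0.Main

set_option autoImplicit false
set_option maxRecDepth 1000000

namespace Cfsg.Agent.Helper9.TCData.HeE0
open Cfsg.Agent.Helper9.TC2

theorem m2_1319 : allRange 123986 94 (fun u => chkFix tab mwordsA u) = true := by decide +kernel

theorem m2_1320 : allRange 124080 94 (fun u => chkFix tab mwordsA u) = true := by decide +kernel

theorem m2_1321 : allRange 124174 94 (fun u => chkFix tab mwordsA u) = true := by decide +kernel

theorem m2_1322 : allRange 124268 94 (fun u => chkFix tab mwordsA u) = true := by decide +kernel

theorem m2_1323 : allRange 124362 94 (fun u => chkFix tab mwordsA u) = true := by decide +kernel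

theorem m2_1324 : allRange 124456 94 (fun u => chkFix tab mwordsA u) = true := by decide +kernel

theorem m2_1325 : allRange 124550 94 (fun u => chkFix tab mwordsA u) = true := by decide +kernel

theorem m2_1326 : allRange 124644 94 (fun u => chkFix tab mwordsA u) = true := by decide +kernel


end Cfsg.Agent.Helper9.TCData.HeE0
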