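import Cfsg.Agent.Lib.Helper9.TCData.HeE0.Main

set_option autoImplicit false
set_option maxRecDepth 1000000

namespace Cfsg.Agent.Helper9.TCData.HeE0
open Cfsg.Agent.Helper9.TC2

theorem m2_1335 : allRange 125490 94 (fun u => chkFix tab mwordsA u) = true := by decide +kernel

theorem m2_1336 : allRange 125584 94 (fun u => chkFix tab mwordsA u) = true := by decide +kernel

theorem m2_1337 : allRange 125678 94 (fun u => chkFix tab mwordsA u) = true := by decide +kernel

theorem m2_1338 : allRange 125772 94 (fun u => chkFix tab mwordsA u) = true := by decide +kernel

theorem m2_1339 : allRange 125866 94 (fun u => chkFix tab mwordsA u) = true := by decide +kernel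

theorem m2_1340 : allRange 125960 94 (fun u => chkFix tab mwordsA u) = true := by decide +kernel

theorem m2_1341 : allRange 126054 94 (fun u => chkFix tab mwordsA u) = true := by decide +kernel

theorem m2_1342 : allRange 126148 94 (fun u => chkFix tab mwordsA u) = true := by decide +kernel


end Cfsg.Agent.Helper9.TCData.HeE0
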