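import Cfsg.Agent.Lib.Helper9.TCData.HeE0.Main

set_option autoImplicit false
set_option maxRecDepth 1000000

namespace Cfsg.Agent.Helper9.TCData.HeE0
open Cfsg.Agent.Helper9.TC2

theorem m2_1399 : allRange 131506 94 (fun u => chkFix tab mwordsA u) = true := by decide +kernel

theorem m2_1400 : allRange 131600 94 (fun u => chkFix tab mwordsA u) = true := by decide +kernel

theorem m2_1401 : allRange 131694 94 (fun u => chkFix tab mwordsA u) = true := by decide +kernel

theorem m2_1402 : allRange 131788 94 (fun u => chkFix tab mwordsA u) = true := by decide +kernel

theorem m2_1403 : allRange 131882 94 (fun u => chkFix tab mwordsA u) = true := by decide +kernel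

theorem m2_1404 : allRange 131976 94 (fun u => chkFix tab mwordsA u) = true := by decide +kernel

theorem m2_1405 : allRange 132070 94 (fun u => chkFix tab mwordsA u) = true := by decide +kernel

theorem m2_1406 : allRange 132164 94 (fun u => chkFix tab mwordsA u) = true := by decide +kernel


end Cfsg.Agent.Helper9.TCData.HeE0
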