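import Cfsg.Agent.Lib.Helper9.TCData.HeE0.Main

set_option autoImplicit false
set_option maxRecDepth 1000000

namespace Cfsg.Agent.Helper9.TCData.HeE0
open Cfsg.Agent.Helper9.TC2

theorem m2_1415 : allRange 133010 94 (fun u => chkFix tab mwordsA u) = true := by decide +kernel

theorem m2_1416 : allRange 133104 94 (fun u => chkFix tab mwordsA u) = true := by decide +kernel

theorem m2_1417 : allRange 133198 94 (fun u => chkFix tab mwordsA u) = true := by decide +kernel

theorem m2_1418 : allRange 133292 94 (fun u => chkFix tab mwordsA u) = true := by decide +kernel

theorem m2_1419 : allRange 133386 94 (fun u => chkFix tab mwordsA u) = true := by decide +kernel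

theorem m2_1420 : allRange 133480 94 (fun u => chkFix tab mwordsA u) = true := by decide +kernel

theorem m2_1421 : allRange 133574 94 (fun u => chkFix tab mwordsA u) = true := by decide +kernel

theorem m2_1422 : allRange 133668 94 (fun u => chkFix tab mwordsA u) = true := by decide +kernel


end Cfsg.Agent.Helper9.TCData.HeE0
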