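import Cfsg.Agent.Lib.Helper9.TCData.HeE0.Main

set_option autoImplicit false
set_option maxRecDepth 1000000

namespace Cfsg.Agent.Helper9.TCData.HeE0
open Cfsg.Agent.Helper9.TC2

theorem m2_1431 : allRange 134514 94 (fun u => chkFix tab mwordsA u) = true := by decide +kernel

theorem m2_1432 : allRange 134608 94 (fun u => chkFix tab mwordsA u) = true := by decide +kernel

theorem m2_1433 : allRange 134702 94 (fun u => chkFix tab mwordsA u) = true := by decide +kernel

theorem m2_1434 : allRange 134796 94 (fun u => chkFix tab mwordsA u) = true := by decide +kernel

theorem m2_1435 : allRange 134890 94 (fun u => chkFix tab mwordsA u) = true := by decide +kernel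

theorem m2_1436 : allRange 134984 94 (fun u => chkFix tab mwordsA u) = true := by decide +kernel

theorem m2_1437 : allRange 135078 94 (fun u => chkFix tab mwordsA u) = true := by decide +kernel

theorem m2_1438 : allRange 135172 94 (fun u => chkFix tab mwordsA u) = true := by decide +kernel


end Cfsg.Agent.Helper9.TCData.HeE0
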