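import Cfsg.Agent.Lib.Helper9.TCData.HeE0.Main

set_option autoImplicit false
set_option maxRecDepth 1000000

namespace Cfsg.Agent.Helper9.TCData.HeE0
open Cfsg.Agent.Helper9.TC2

theorem m2_1439 : allRange 135266 94 (fun u => chkFix tab mwordsA u) = true := by decide +kernel

theorem m2_1440 : allRange 135360 94 (fun u => chkFix tab mwordsA u) = true := by decide +kernel

theorem m2_1441 : allRange 135454 94 (fun u => chkFix tab mwordsA u) = true := by decide +kernel

theorem m2_1442 : allRange 135548 94 (fun u => chkFix tab mwordsA u) = true := by decide +kernel

theorem m2_1443 : allRange 135642 94 (fun u => chkFix tab mwordsA u) = true := by decide +kernel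

theorem m2_1444 : allRange 135736 94 (fun u => chkFix tab mwordsA u) = true := by decide +kernel

theorem m2_1445 : allRange 135830 94 (fun u => chkFix tab mwordsA u) = true := by decide +kernel

theorem m2_1446 : allRange 135924 94 (fun u => chkFix tab mwordsA u) = true := by decide +kernel


end Cfsg.Agent.Helper9.TCData.HeE0
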