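import Cfsg.Agent.Lib.Helper9.TCData.HeE0.Main

set_option autoImplicit false
set_option maxRecDepth 1000000

namespace Cfsg.Agent.Helper9.TCData.HeE0
open Cfsg.Agent.Helper9.TC2

theorem m2_1463 : allRange 137522 94 (fun u => chkFix tab mwordsA u) = true := by decide +kernel

theorem m2_1464 : allRange 137616 94 (fun u => chkFix tab mwordsA u) = true := by decide +kernel

theorem m2_1465 : allRange 137710 94 (fun u => chkFix tab mwordsA u) = true := by decide +kernel

theorem m2_1466 : allRange 137804 94 (fun u => chkFix tab mwordsA u) = true := by decide +kernel

theorem m2_1467 : allRange 137898 94 (fun u => chkFix tab mwordsA u) = true := by decide +kernel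

theorem m2_1468 : allRange 137992 94 (fun u => chkFix tab mwordsA u) = true := by decide +kernel

theorem m2_1469 : allRange 138086 94 (fun u => chkFix tab mwordsA u) = true := by decide +kernel

theorem m2_1470 : allRange 138180 94 (fun u => chkFix tab mwordsA u) = true := by decide +kernel


end Cfsg.Agent.Helper9.TCData.HeE0
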