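import Cfsg.Agent.Lib.Helper9.TCData.HeE0.Main

set_option autoImplicit false
set_option maxRecDepth 1000000

namespace Cfsg.Agent.Helper9.TCData.HeE0
open Cfsg.Agent.Helper9.TC2

theorem m2_1471 : allRange 138274 94 (fun u => chkFix tab mwordsA u) = true := by decide +kernel

theorem m2_1472 : allRange 138368 94 (fun u => chkFix tab mwordsA u) = true := by decide +kernel

theorem m2_1473 : allRange 138462 94 (fun u => chkFix tab mwordsA u) = true := by decide +kernel

theorem m2_1474 : allRange 138556 94 (fun u => chkFix tab mwordsA u) = true := by decide +kernel

theorem m2_1475 : allRange 138650 94 (fun u => chkFix tab mwordsA u) = true := by decide +kernel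

theorem m2_1476 : allRange 138744 94 (fun u => chkFix tab mwordsA u) = true := by decide +kernel

theorem m2_1477 : allRange 138838 94 (fun u => chkFix tab mwordsA u) = true := by decide +kernel

theorem m2_1478 : allRange 138932 94 (fun u => chkFix tab mwordsA u) = true := by decide +kernel


end Cfsg.Agent.Helper9.TCData.HeE0
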