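import Cfsg.Agent.Lib.Helper9.TCData.HeE0.Main

set_option autoImplicit false
set_option maxRecDepth 1000000

namespace Cfsg.Agent.Helper9.TCData.HeE0
open Cfsg.Agent.Helper9.TC2

theorem m2_1495 : allRange 140530 94 (fun u => chkFix tab mwordsA u) = true := by decide +kernel

theorem m2_1496 : allRange 140624 94 (fun u => chkFix tab mwordsA u) = true := by decide +kernel

theorem m2_1497 : allRange 140718 94 (fun u => chkFix tab mwordsA u) = true := by decide +kernel

theorem m2_1498 : allRange 140812 94 (fun u => chkFix tab mwordsA u) = true := by decide +kernel

theorem m2_1499 : allRange 140906 94 (fun u => chkFix tab mwordsA u) = true := by decide +kernel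

theorem m2_1500 : allRange 141000 94 (fun u => chkFix tab mwordsA u) = true := by decide +kernel

theorem m2_1501 : allRange 141094 94 (fun u => chkFix tab mwordsA u) = true := by decide +kernel

theorem m2_1502 : allRange 141188 94 (fun u => chkFix tab mwordsA u) = true := by decide +kernel


end Cfsg.Agent.Helper9.TCData.HeE0
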