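import Cfsg.Agent.Lib.Helper9.TCData.HeE0.Main

set_option autoImplicit false
set_option maxRecDepth 1000000

namespace Cfsg.Agent.Helper9.TCData.HeE0
open Cfsg.Agent.Helper9.TC2

theorem m2_1503 : allRange 141282 94 (fun u => chkFix tab mwordsA u) = true := by decide +kernel

theorem m2_1504 : allRange 141376 94 (fun u => chkFix tab mwordsA u) = true := by decide +kernel

theorem m2_1505 : allRange 141470 94 (fun u => chkFix tab mwordsA u) = true := by decide +kernel

theorem m2_1506 : allRange 141564 94 (fun u => chkFix tab mwordsA u) = true := by decide +kernel

theorem m2_1507 : allRange 141658 94 (fun u => chkFix tab mwordsA u) = true := by decide +kernel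

theorem m2_1508 : allRange 141752 94 (fun u => chkFix tab mwordsA u) = true := by decide +kernel

theorem m2_1509 : allRange 141846 94 (fun u => chkFix tab mwordsA u) = true := by decide +kernel

theorem m2_1510 : allRange 141940 94 (fun u => chkFix tab mwordsA u) = true := by decide +kernel


end Cfsg.Agent.Helper9.TCData.HeE0
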