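import Cfsg.Agent.Lib.Helper9.TCData.HeE0.Main

set_option autoImplicit false
set_option maxRecDepth 1000000

namespace Cfsg.Agent.Helper9.TCData.HeE0
open Cfsg.Agent.Helper9.TC2

theorem m2_1519 : allRange 142786 94 (fun u => chkFix tab mwordsA u) = true := by decide +kernel

theorem m2_1520 : allRange 142880 94 (fun u => chkFix tab mwordsA u) = true := by decide +kernel

theorem m2_1521 : allRange 142974 94 (fun u => chkFix tab mwordsA u) = true := by decide +kernel

theorem m2_1522 : allRange 143068 94 (fun u => chkFix tab mwordsA u) = true := by decide +kernel

theorem m2_1523 : allRange 143162 94 (fun u => chkFix tab mwordsA u) = true := by decide +kernel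

theorem m2_1524 : allRange 143256 94 (fun u => chkFix tab mwordsA u) = true := by decide +kernel

theorem m2_1525 : allRange 143350 94 (fun u => chkFix tab mwordsA u) = true := by decide +kernel

theorem m2_1526 : allRange 143444 94 (fun u => chkFix tab mwordsA u) = true := by decide +kernel


end Cfsg.Agent.Helper9.TCData.HeE0
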