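import Cfsg.Agent.Lib.Helper9.TCData.HeE0.Main

set_option autoImplicit false
set_option maxRecDepth 1000000

namespace Cfsg.Agent.Helper9.TCData.HeE0
open Cfsg.Agent.Helper9.TC2

theorem e4_0 : allRange 0 3060 (fun u => chkE tab 4 u) = true := by decide +kernel

theorem e4_1 : allRange 3060 2997 (fun u => chkE tab 4 u) = true := by decide +kernel

theorem e4_2 : allRange 6057 3025 (fun u => chkE tab 4 u) = true := by decide +kernel

theorem e4_3 : allRange 9082 2933 (fun u => chkE tab 4 u) = true := by decide +kernel

theorem e4_4 : allRange 12015 2895 (fun u => chkE tab 4 u) = true := by decide +kernel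

theorem e4_5 : allRange 14910 3010 (fun u => chkE tab 4 u) = true := by decide +kernel

theorem e4_6 : allRange 17920 2909 (fun u => chkE tab 4 u) = true := by decide +kernel

theorem e4_7 : allRange 20829 2960 (fun u => chkE tab 4 u) = true := by decide +kernel


end Cfsg.Agent.Helper9.TCData.HeE0
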