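import Cfsg.Agent.Lib.Helper9.TCData.HeE0.Main

set_option autoImplicit false
set_option maxRecDepth 1000000

namespace Cfsg.Agent.Helper9.TCData.HeE0
open Cfsg.Agent.Helper9.TC2

theorem m2_1551 : allRange 145794 94 (fun u => chkFix tab mwordsA u) = true := by decide +kernel

theorem m2_1552 : allRange 145888 94 (fun u => chkFix tab mwordsA u) = true := by decide +kernel

theorem m2_1553 : allRange 145982 94 (fun u => chkFix tab mwordsA u) = true := by decide +kernel

theorem m2_1554 : allRange 146076 94 (fun u => chkFix tab mwordsA u) = true := by decide +kernel

theorem m2_1555 : allRange 146170 94 (fun u => chkFix tab mwordsA u) = true := by decide +kernel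

theorem m2_1556 : allRange 146264 94 (fun u => chkFix tab mwordsA u) = true := by decide +kernel

theorem m2_1557 : allRange 146358 94 (fun u => chkFix tab mwordsA u) = true := by decide +kernel

theorem m2_1558 : allRange 146452 94 (fun u => chkFix tab mwordsA u) = true := by decide +kernel


end Cfsg.Agent.Helper9.TCData.HeE0
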