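import Cfsg.Agent.Lib.Helper9.TCData.HeE0.Main

set_option autoImplicit false
set_option maxRecDepth 1000000

namespace Cfsg.Agent.Helper9.TCData.HeE0
open Cfsg.Agent.Helper9.TC2

theorem m2_1559 : allRange 146546 94 (fun u => chkFix tab mwordsA u) = true := by decide +kernel

theorem m2_1560 : allRange 146640 94 (fun u => chkFix tab mwordsA u) = true := by decide +kernel

theorem m2_1561 : allRange 146734 94 (fun u => chkFix tab mwordsA u) = true := by decide +kernel

theorem m2_1562 : allRange 146828 94 (fun u => chkFix tab mwordsA u) = true := by decide +kernel

theorem m2_1563 : allRange 146922 94 (fun u => chkFix tab mwordsA u) = true := by decide +kernel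

theorem m2_1564 : allRange 147016 94 (fun u => chkFix tab mwordsA u) = true := by decide +kernel

theorem m2_1565 : allRange 147110 94 (fun u => chkFix tab mwordsA u) = true := by decide +kernel

theorem m2_1566 : allRange 147204 94 (fun u => chkFix tab mwordsA u) = true := by decide +kernel


end Cfsg.Agent.Helper9.TCData.HeE0
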