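import Cfsg.Agent.Lib.Helper9.TCData.HeE0.Main

set_option autoImplicit false
set_option maxRecDepth 1000000

namespace Cfsg.Agent.Helper9.TCData.HeE0
open Cfsg.Agent.Helper9.TC2

theorem m2_1575 : allRange 148050 94 (fun u => chkFix tab mwordsA u) = true := by decide +kernel

theorem m2_1576 : allRange 148144 94 (fun u => chkFix tab mwordsA u) = true := by decide +kernel

theorem m2_1577 : allRange 148238 94 (fun u => chkFix tab mwordsA u) = true := by decide +kernel

theorem m2_1578 : allRange 148332 94 (fun u => chkFix tab mwordsA u) = true := by decide +kernel

theorem m2_1579 : allRange 148426 94 (fun u => chkFix tab mwordsA u) = true := by decide +kernel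

theorem m2_1580 : allRange 148520 94 (fun u => chkFix tab mwordsA u) = true := by decide +kernel

theorem m2_1581 : allRange 148614 94 (fun u => chkFix tab mwordsA u) = true := by decide +kernel

theorem m2_1582 : allRange 148708 94 (fun u => chkFix tab mwordsA u) = true := by decide +kernel


end Cfsg.Agent.Helper9.TCData.HeE0
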