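import Cfsg.Agent.Lib.Helper9.TCData.HeE0.Main

set_option autoImplicit false
set_option maxRecDepth 1000000

namespace Cfsg.Agent.Helper9.TCData.HeE0
open Cfsg.Agent.Helper9.TC2

theorem m2_1591 : allRange 149554 94 (fun u => chkFix tab mwordsA u) = true := by decide +kernel

theorem m2_1592 : allRange 149648 94 (fun u => chkFix tab mwordsA u) = true := by decide +kernel

theorem m2_1593 : allRange 149742 94 (fun u => chkFix tab mwordsA u) = true := by decide +kernel

theorem m2_1594 : allRange 149836 94 (fun u => chkFix tab mwordsA u) = true := by decide +kernel

theorem m2_1595 : allRange 149930 94 (fun u => chkFix tab mwordsA u) = true := by decide +kernel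

theorem m2_1596 : allRange 150024 94 (fun u => chkFix tab mwordsA u) = true := by decide +kernel

theorem m2_1597 : allRange 150118 94 (fun u => chkFix tab mwordsA u) = true := by decide +kernel

theorem m2_1598 : allRange 150212 94 (fun u => chkFix tab mwordsA u) = true := by decide +kernel


end Cfsg.Agent.Helper9.TCData.HeE0
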