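import Cfsg.Agent.Lib.Helper9.TCData.HeE0.Main

set_option autoImplicit false
set_option maxRecDepth 1000000

namespace Cfsg.Agent.Helper9.TCData.HeE0
open Cfsg.Agent.Helper9.TC2

theorem e4_8 : allRange 23789 2868 (fun u => chkE tab 4 u) = true := by decide +kernel

theorem e4_9 : allRange 26657 2790 (fun u => chkE tab 4 u) = true := by decide +kernel

theorem e4_10 : allRange 29447 2825 (fun u => chkE tab 4 u) = true := by decide +kernel

theorem e4_11 : allRange 32272 2842 (fun u => chkE tab 4 u) = true := by decide +kernel

theorem e4_12 : allRange 35114 2850 (fun u => chkE tab 4 u) = true := by decide +kernel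

theorem e4_13 : allRange 37964 2894 (fun u => chkE tab 4 u) = true := by decide +kernel

theorem e4_14 : allRange 40858 2810 (fun u => chkE tab 4 u) = true := by decide +kernel

theorem e4_15 : allRange 43668 2945 (fun u => chkE tab 4 u) = true := by decide +kernel


end Cfsg.Agent.Helper9.TCData.HeE0
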