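import Cfsg.Agent.Lib.Helper9.TCData.HeE0.Main

set_option autoImplicit false
set_option maxRecDepth 1000000

namespace Cfsg.Agent.Helper9.TCData.HeE0
open Cfsg.Agent.Helper9.TC2

theorem m2_1607 : allRange 151058 94 (fun u => chkFix tab mwordsA u) = true := by decide +kernel

theorem m2_1608 : allRange 151152 94 (fun u => chkFix tab mwordsA u) = true := by decide +kernel

theorem m2_1609 : allRange 151246 94 (fun u => chkFix tab mwordsA u) = true := by decide +kernel

theorem m2_1610 : allRange 151340 94 (fun u => chkFix tab mwordsA u) = true := by decide +kernel

theorem m2_1611 : allRange 151434 94 (fun u => chkFix tab mwordsA u) = true := by decide +kernel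

theorem m2_1612 : allRange 151528 94 (fun u => chkFix tab mwordsA u) = true := by decide +kernel

theorem m2_1613 : allRange 151622 94 (fun u => chkFix tab mwordsA u) = true := by decide +kernel

theorem m2_1614 : allRange 151716 94 (fun u => chkFix tab mwordsA u) = true := by decide +kernel


end Cfsg.Agent.Helper9.TCData.HeE0
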