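import Cfsg.Agent.Lib.Helper9.TCData.HeE0.Main

set_option autoImplicit false
set_option maxRecDepth 1000000

namespace Cfsg.Agent.Helper9.TCData.HeE0
open Cfsg.Agent.Helper9.TC2

theorem m2_1615 : allRange 151810 94 (fun u => chkFix tab mwordsA u) = true := by decide +kernel

theorem m2_1616 : allRange 151904 94 (fun u => chkFix tab mwordsA u) = true := by decide +kernel

theorem m2_1617 : allRange 151998 94 (fun u => chkFix tab mwordsA u) = true := by decide +kernel

theorem m2_1618 : allRange 152092 94 (fun u => chkFix tab mwordsA u) = true := by decide +kernel

theorem m2_1619 : allRange 152186 94 (fun u => chkFix tab mwordsA u) = true := by decide +kernel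

theorem m2_1620 : allRange 152280 94 (fun u => chkFix tab mwordsA u) = true := by decide +kernel

theorem m2_1621 : allRange 152374 94 (fun u => chkFix tab mwordsA u) = true := by decide +kernel

theorem m2_1622 : allRange 152468 94 (fun u => chkFix tab mwordsA u) = true := by decide +kernel


end Cfsg.Agent.Helper9.TCData.HeE0
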