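import Cfsg.Agent.Lib.Helper9.TCData.HeE0.Main

set_option autoImplicit false
set_option maxRecDepth 1000000

namespace Cfsg.Agent.Helper9.TCData.HeE0
open Cfsg.Agent.Helper9.TC2

theorem m2_1647 : allRange 154818 94 (fun u => chkFix tab mwordsA u) = true := by decide +kernel

theorem m2_1648 : allRange 154912 94 (fun u => chkFix tab mwordsA u) = true := by decide +kernel

theorem m2_1649 : allRange 155006 94 (fun u => chkFix tab mwordsA u) = true := by decide +kernel

theorem m2_1650 : allRange 155100 94 (fun u => chkFix tab mwordsA u) = true := by decide +kernel

theorem m2_1651 : allRange 155194 94 (fun u => chkFix tab mwordsA u) = true := by decide +kernel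

theorem m2_1652 : allRange 155288 94 (fun u => chkFix tab mwordsA u) = true := by decide +kernel

theorem m2_1653 : allRange 155382 94 (fun u => chkFix tab mwordsA u) = true := by decide +kernel

theorem m2_1654 : allRange 155476 94 (fun u => chkFix tab mwordsA u) = true := by decide +kernel


end Cfsg.Agent.Helper9.TCData.HeE0
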