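import Cfsg.Agent.Lib.Helper9.TCData.HeE0.Main

set_option autoImplicit false
set_option maxRecDepth 1000000

namespace Cfsg.Agent.Helper9.TCData.HeE0
open Cfsg.Agent.Helper9.TC2

theorem m2_1655 : allRange 155570 94 (fun u => chkFix tab mwordsA u) = true := by decide +kernel

theorem m2_1656 : allRange 155664 94 (fun u => chkFix tab mwordsA u) = true := by decide +kernel

theorem m2_1657 : allRange 155758 94 (fun u => chkFix tab mwordsA u) = true := by decide +kernel

theorem m2_1658 : allRange 155852 94 (fun u => chkFix tab mwordsA u) = true := by decide +kernel

theorem m2_1659 : allRange 155946 94 (fun u => chkFix tab mwordsA u) = true := by decide +kernel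

theorem m2_1660 : allRange 156040 94 (fun u => chkFix tab mwordsA u) = true := by decide +kernel

theorem m2_1661 : allRange 156134 94 (fun u => chkFix tab mwordsA u) = true := by decide +kernel

theorem m2_1662 : allRange 156228 94 (fun u => chkFix tab mwordsA u) = true := by decide +kernel


end Cfsg.Agent.Helper9.TCData.HeE0
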