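import Cfsg.Agent.Lib.Helper9.TCData.HeE0.Main

set_option autoImplicit false
set_option maxRecDepth 1000000

namespace Cfsg.Agent.Helper9.TCData.HeE0
open Cfsg.Agent.Helper9.TC2

theorem e4_16 : allRange 46613 2815 (fun u => chkE tab 4 u) = true := by decide +kernel

theorem e4_17 : allRange 49428 2912 (fun u => chkE tab 4 u) = true := by decide +kernel

theorem e4_18 : allRange 52340 2800 (fun u => chkE tab 4 u) = true := by decide +kernel

theorem e4_19 : allRange 55140 2974 (fun u => chkE tab 4 u) = true := by decide +kernel

theorem e4_20 : allRange 58114 2828 (fun u => chkE tab 4 u) = true := by decide +kernel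

theorem e4_21 : allRange 60942 2963 (fun u => chkE tab 4 u) = true := by decide +kernel

theorem e4_22 : allRange 63905 2907 (fun u => chkE tab 4 u) = true := by decide +kernel

theorem e4_23 : allRange 66812 2963 (fun u => chkE tab 4 u) = true := by decide +kernel


end Cfsg.Agent.Helper9.TCData.HeE0
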