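import Cfsg.Agent.Lib.Helper9.TCData.HeE0.Main

set_option autoImplicit false
set_option maxRecDepth 1000000

namespace Cfsg.Agent.Helper9.TCData.HeE0
open Cfsg.Agent.Helper9.TC2

theorem m2_1687 : allRange 158578 94 (fun u => chkFix tab mwordsA u) = true := by decide +kernel

theorem m2_1688 : allRange 158672 94 (fun u => chkFix tab mwordsA u) = true := by decide +kernel

theorem m2_1689 : allRange 158766 94 (fun u => chkFix tab mwordsA u) = true := by decide +kernel

theorem m2_1690 : allRange 158860 94 (fun u => chkFix tab mwordsA u) = true := by decide +kernel

theorem m2_1691 : allRange 158954 94 (fun u => chkFix tab mwordsA u) = true := by decide +kernel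

theorem m2_1692 : allRange 159048 94 (fun u => chkFix tab mwordsA u) = true := by decide +kernel

theorem m2_1693 : allRange 159142 94 (fun u => chkFix tab mwordsA u) = true := by decide +kernel

theorem m2_1694 : allRange 159236 94 (fun u => chkFix tab mwordsA u) = true := by decide +kernel


end Cfsg.Agent.Helper9.TCData.HeE0
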