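import Cfsg.Agent.Lib.Helper9.TCData.HeE0.Main

set_option autoImplicit false
set_option maxRecDepth 1000000

namespace Cfsg.Agent.Helper9.TCData.HeE0
open Cfsg.Agent.Helper9.TC2

theorem m2_1719 : allRange 161586 94 (fun u => chkFix tab mwordsA u) = true := by decide +kernel

theorem m2_1720 : allRange 161680 94 (fun u => chkFix tab mwordsA u) = true := by decide +kernel

theorem m2_1721 : allRange 161774 94 (fun u => chkFix tab mwordsA u) = true := by decide +kernel

theorem m2_1722 : allRange 161868 94 (fun u => chkFix tab mwordsA u) = true := by decide +kernel

theorem m2_1723 : allRange 161962 94 (fun u => chkFix tab mwordsA u) = true := by decide +kernel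

theorem m2_1724 : allRange 162056 94 (fun u => chkFix tab mwordsA u) = true := by decide +kernel

theorem m2_1725 : allRange 162150 94 (fun u => chkFix tab mwordsA u) = true := by decide +kernel

theorem m2_1726 : allRange 162244 94 (fun u => chkFix tab mwordsA u) = true := by decide +kernel


end Cfsg.Agent.Helper9.TCData.HeE0
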