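import Cfsg.Agent.Lib.Helper9.TCData.HeE0.Main

set_option autoImplicit false
set_option maxRecDepth 1000000

namespace Cfsg.Agent.Helper9.TCData.HeE0
open Cfsg.Agent.Helper9.TC2

theorem m2_1743 : allRange 163842 94 (fun u => chkFix tab mwordsA u) = true := by decide +kernel

theorem m2_1744 : allRange 163936 94 (fun u => chkFix tab mwordsA u) = true := by decide +kernel

theorem m2_1745 : allRange 164030 94 (fun u => chkFix tab mwordsA u) = true := by decide +kernel

theorem m2_1746 : allRange 164124 94 (fun u => chkFix tab mwordsA u) = true := by decide +kernel

theorem m2_1747 : allRange 164218 94 (fun u => chkFix tab mwordsA u) = true := by decide +kernel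

theorem m2_1748 : allRange 164312 94 (fun u => chkFix tab mwordsA u) = true := by decide +kernel

theorem m2_1749 : allRange 164406 94 (fun u => chkFix tab mwordsA u) = true := by decide +kernel

theorem m2_1750 : allRange 164500 94 (fun u => chkFix tab mwordsA u) = true := by decide +kernel


end Cfsg.Agent.Helper9.TCData.HeE0
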