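import Cfsg.Agent.Lib.Helper9.TCData.HeE0.Main

set_option autoImplicit false
set_option maxRecDepth 1000000

namespace Cfsg.Agent.Helper9.TCData.HeE0
open Cfsg.Agent.Helper9.TC2

theorem m2_1759 : allRange 165346 94 (fun u => chkFix tab mwordsA u) = true := by decide +kernel

theorem m2_1760 : allRange 165440 94 (fun u => chkFix tab mwordsA u) = true := by decide +kernel

theorem m2_1761 : allRange 165534 94 (fun u => chkFix tab mwordsA u) = true := by decide +kernel

theorem m2_1762 : allRange 165628 94 (fun u => chkFix tab mwordsA u) = true := by decide +kernel

theorem m2_1763 : allRange 165722 94 (fun u => chkFix tab mwordsA u) = true := by decide +kernel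

theorem m2_1764 : allRange 165816 94 (fun u => chkFix tab mwordsA u) = true := by decide +kernel

theorem m2_1765 : allRange 165910 94 (fun u => chkFix tab mwordsA u) = true := by decide +kernel

theorem m2_1766 : allRange 166004 94 (fun u => chkFix tab mwordsA u) = true := by decide +kernel


end Cfsg.Agent.Helper9.TCData.HeE0
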