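import Cfsg.Agent.Lib.Helper9.TCData.HeE0.Main

set_option autoImplicit false
set_option maxRecDepth 1000000

namespace Cfsg.Agent.Helper9.TCData.HeE0
open Cfsg.Agent.Helper9.TC2

theorem e0_32 : allRange 74153 2720 (fun u => chkE tab 0 u) = true := by decide +kernel

theorem e0_33 : allRange 76873 2351 (fun u => chkE tab 0 u) = true := by decide +kernel

theorem e0_34 : allRange 79224 1953 (fun u => chkE tab 0 u) = true := by decide +kernel

theorem e0_35 : allRange 81177 2542 (fun u => chkE tab 0 u) = true := by decide +kernel

theorem e0_36 : allRange 83719 2089 (fun u => chkE tab 0 u) = true := by decide +kernel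

theorem e0_37 : allRange 85808 2455 (fun u => chkE tab 0 u) = true := by decide +kernel

theorem e0_38 : allRange 88263 2238 (fun u => chkE tab 0 u) = true := by decide +kernel

theorem e0_39 : allRange 90501 2369 (fun u => chkE tab 0 u) = true := by decide +kernel


end Cfsg.Agent.Helper9.TCData.HeE0
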