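import Cfsg.Agent.Lib.Helper9.TCData.HeE0.Main

set_option autoImplicit false
set_option maxRecDepth 1000000

namespace Cfsg.Agent.Helper9.TCData.HeE0
open Cfsg.Agent.Helper9.TC2

theorem e4_24 : allRange 69775 3014 (fun u => chkE tab 4 u) = true := by decide +kernel

theorem e4_25 : allRange 72789 2924 (fun u => chkE tab 4 u) = true := by decide +kernel

theorem e4_26 : allRange 75713 2858 (fun u => chkE tab 4 u) = true := by decide +kernel

theorem e4_27 : allRange 78571 2827 (fun u => chkE tab 4 u) = true := by decide +kernel

theorem e4_28 : allRange 81398 2921 (fun u => chkE tab 4 u) = true := by decide +kernel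

theorem e4_29 : allRange 84319 2959 (fun u => chkE tab 4 u) = true := by decide +kernel

theorem e4_30 : allRange 87278 2891 (fun u => chkE tab 4 u) = true := by decide +kernel

theorem e4_31 : allRange 90169 2886 (fun u => chkE tab 4 u) = true := by decide +kernel


end Cfsg.Agent.Helper9.TCData.HeE0
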