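import Cfsg.Agent.Lib.Helper9.TCData.HeE0.Main

set_option autoImplicit false
set_option maxRecDepth 1000000

namespace Cfsg.Agent.Helper9.TCData.HeE0
open Cfsg.Agent.Helper9.TC2

theorem m2_1775 : allRange 166850 94 (fun u => chkFix tab mwordsA u) = true := by decide +kernel

theorem m2_1776 : allRange 166944 94 (fun u => chkFix tab mwordsA u) = true := by decide +kernel

theorem m2_1777 : allRange 167038 94 (fun u => chkFix tab mwordsA u) = true := by decide +kernel

theorem m2_1778 : allRange 167132 94 (fun u => chkFix tab mwordsA u) = true := by decide +kernel

theorem m2_1779 : allRange 167226 94 (fun u => chkFix tab mwordsA u) = true := by decide +kernel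

theorem m2_1780 : allRange 167320 94 (fun u => chkFix tab mwordsA u) = true := by decide +kernel

theorem m2_1781 : allRange 167414 94 (fun u => chkFix tab mwordsA u) = true := by decide +kernel

theorem m2_1782 : allRange 167508 94 (fun u => chkFix tab mwordsA u) = true := by decide +kernel


end Cfsg.Agent.Helper9.TCData.HeE0
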