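import Cfsg.Agent.Lib.Helper9.TCData.HeE0.Main

set_option autoImplicit false
set_option maxRecDepth 1000000

namespace Cfsg.Agent.Helper9.TCData.HeE0
open Cfsg.Agent.Helper9.TC2

theorem m2_1783 : allRange 167602 94 (fun u => chkFix tab mwordsA u) = true := by decide +kernel

theorem m2_1784 : allRange 167696 94 (fun u => chkFix tab mwordsA u) = true := by decide +kernel

theorem m2_1785 : allRange 167790 94 (fun u => chkFix tab mwordsA u) = true := by decide +kernel

theorem m2_1786 : allRange 167884 94 (fun u => chkFix tab mwordsA u) = true := by decide +kernel

theorem m2_1787 : allRange 167978 94 (fun u => chkFix tab mwordsA u) = true := by decide +kernel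

theorem m2_1788 : allRange 168072 94 (fun u => chkFix tab mwordsA u) = true := by decide +kernel

theorem m2_1789 : allRange 168166 94 (fun u => chkFix tab mwordsA u) = true := by decide +kernel

theorem m2_1790 : allRange 168260 94 (fun u => chkFix tab mwordsA u) = true := by decide +kernel


end Cfsg.Agent.Helper9.TCData.HeE0
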