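import Cfsg.Agent.Lib.Helper9.TCData.HeE0.Main

set_option autoImplicit false
set_option maxRecDepth 1000000

namespace Cfsg.Agent.Helper9.TCData.HeE0
open Cfsg.Agent.Helper9.TC2

theorem m2_1799 : allRange 169106 94 (fun u => chkFix tab mwordsA u) = true := by decide +kernel

theorem m2_1800 : allRange 169200 94 (fun u => chkFix tab mwordsA u) = true := by decide +kernel

theorem m2_1801 : allRange 169294 94 (fun u => chkFix tab mwordsA u) = true := by decide +kernel

theorem m2_1802 : allRange 169388 94 (fun u => chkFix tab mwordsA u) = true := by decide +kernel

theorem m2_1803 : allRange 169482 94 (fun u => chkFix tab mwordsA u) = true := by decide +kernel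

theorem m2_1804 : allRange 169576 94 (fun u => chkFix tab mwordsA u) = true := by decide +kernel

theorem m2_1805 : allRange 169670 94 (fun u => chkFix tab mwordsA u) = true := by decide +kernel

theorem m2_1806 : allRange 169764 94 (fun u => chkFix tab mwordsA u) = true := by decide +kernel


end Cfsg.Agent.Helper9.TCData.HeE0
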