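import Cfsg.Agent.Lib.Helper9.TCData.HeE0.Main

set_option autoImplicit false
set_option maxRecDepth 1000000

namespace Cfsg.Agent.Helper9.TCData.HeE0
open Cfsg.Agent.Helper9.TC2

theorem m2_1823 : allRange 171362 94 (fun u => chkFix tab mwordsA u) = true := by decide +kernel

theorem m2_1824 : allRange 171456 94 (fun u => chkFix tab mwordsA u) = true := by decide +kernel

theorem m2_1825 : allRange 171550 94 (fun u => chkFix tab mwordsA u) = true := by decide +kernel

theorem m2_1826 : allRange 171644 94 (fun u => chkFix tab mwordsA u) = true := by decide +kernel

theorem m2_1827 : allRange 171738 94 (fun u => chkFix tab mwordsA u) = true := by decide +kernel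

theorem m2_1828 : allRange 171832 94 (fun u => chkFix tab mwordsA u) = true := by decide +kernel

theorem m2_1829 : allRange 171926 94 (fun u => chkFix tab mwordsA u) = true := by decide +kernel

theorem m2_1830 : allRange 172020 94 (fun u => chkFix tab mwordsA u) = true := by decide +kernel


end Cfsg.Agent.Helper9.TCData.HeE0
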