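import Cfsg.Agent.Lib.Helper9.TCData.HeE0.Main

set_option autoImplicit false
set_option maxRecDepth 1000000

namespace Cfsg.Agent.Helper9.TCData.HeE0
open Cfsg.Agent.Helper9.TC2

theorem e4_32 : allRange 93055 2930 (fun u => chkE tab 4 u) = true := by decide +kernel

theorem e4_33 : allRange 95985 2878 (fun u => chkE tab 4 u) = true := by decide +kernel

theorem e4_34 : allRange 98863 2791 (fun u => chkE tab 4 u) = true := by decide +kernel

theorem e4_35 : allRange 101654 2803 (fun u => chkE tab 4 u) = true := by decide +kernel

theorem e4_36 : allRange 104457 2832 (fun u => chkE tab 4 u) = true := by decide +kernel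

theorem e4_37 : allRange 107289 2856 (fun u => chkE tab 4 u) = true := by decide +kernel

theorem e4_38 : allRange 110145 2757 (fun u => chkE tab 4 u) = true := by decide +kernel

theorem e4_39 : allRange 112902 2822 (fun u => chkE tab 4 u) = true := by decide +kernel


end Cfsg.Agent.Helper9.TCData.HeE0
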