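import Cfsg.Agent.Lib.Helper9.TCData.HeE0.Main

set_option autoImplicit false
set_option maxRecDepth 1000000

namespace Cfsg.Agent.Helper9.TCData.HeE0
open Cfsg.Agent.Helper9.TC2

theorem m2_1847 : allRange 173618 94 (fun u => chkFix tab mwordsA u) = true := by decide +kernel

theorem m2_1848 : allRange 173712 94 (fun u => chkFix tab mwordsA u) = true := by decide +kernel

theorem m2_1849 : allRange 173806 94 (fun u => chkFix tab mwordsA u) = true := by decide +kernel

theorem m2_1850 : allRange 173900 94 (fun u => chkFix tab mwordsA u) = true := by decide +kernel

theorem m2_1851 : allRange 173994 94 (fun u => chkFix tab mwordsA u) = true := by decide +kernel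

theorem m2_1852 : allRange 174088 94 (fun u => chkFix tab mwordsA u) = true := by decide +kernel

theorem m2_1853 : allRange 174182 94 (fun u => chkFix tab mwordsA u) = true := by decide +kernel

theorem m2_1854 : allRange 174276 94 (fun u => chkFix tab mwordsA u) = true := by decide +kernel


end Cfsg.Agent.Helper9.TCData.HeE0
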