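import Cfsg.Agent.Lib.Helper9.TCData.HeE0.Main

set_option autoImplicit false
set_option maxRecDepth 1000000

namespace Cfsg.Agent.Helper9.TCData.HeE0
open Cfsg.Agent.Helper9.TC2

theorem m2_1863 : allRange 175122 94 (fun u => chkFix tab mwordsA u) = true := by decide +kernel

theorem m2_1864 : allRange 175216 94 (fun u => chkFix tab mwordsA u) = true := by decide +kernel

theorem m2_1865 : allRange 175310 94 (fun u => chkFix tab mwordsA u) = true := by decide +kernel

theorem m2_1866 : allRange 175404 94 (fun u => chkFix tab mwordsA u) = true := by decide +kernel

theorem m2_1867 : allRange 175498 94 (fun u => chkFix tab mwordsA u) = true := by decide +kernel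

theorem m2_1868 : allRange 175592 94 (fun u => chkFix tab mwordsA u) = true := by decide +kernel

theorem m2_1869 : allRange 175686 94 (fun u => chkFix tab mwordsA u) = true := by decide +kernel

theorem m2_1870 : allRange 175780 94 (fun u => chkFix tab mwordsA u) = true := by decide +kernel


end Cfsg.Agent.Helper9.TCData.HeE0
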