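import Cfsg.Agent.Lib.Helper9.TCData.HeE0.Main

set_option autoImplicit false
set_option maxRecDepth 1000000

namespace Cfsg.Agent.Helper9.TCData.HeE0
open Cfsg.Agent.Helper9.TC2

theorem m2_1871 : allRange 175874 94 (fun u => chkFix tab mwordsA u) = true := by decide +kernel

theorem m2_1872 : allRange 175968 94 (fun u => chkFix tab mwordsA u) = true := by decide +kernel

theorem m2_1873 : allRange 176062 94 (fun u => chkFix tab mwordsA u) = true := by decide +kernel

theorem m2_1874 : allRange 176156 94 (fun u => chkFix tab mwordsA u) = true := by decide +kernel

theorem m2_1875 : allRange 176250 94 (fun u => chkFix tab mwordsA u) = true := by decide +kernel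

theorem m2_1876 : allRange 176344 94 (fun u => chkFix tab mwordsA u) = true := by decide +kernel

theorem m2_1877 : allRange 176438 94 (fun u => chkFix tab mwordsA u) = true := by decide +kernel

theorem m2_1878 : allRange 176532 94 (fun u => chkFix tab mwordsA u) = true := by decide +kernel


end Cfsg.Agent.Helper9.TCData.HeE0
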