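import Cfsg.Agent.Lib.Helper9.TCData.HeE0.Main

set_option autoImplicit false
set_option maxRecDepth 1000000

namespace Cfsg.Agent.Helper9.TCData.HeE0
open Cfsg.Agent.Helper9.TC2

theorem m2_1879 : allRange 176626 94 (fun u => chkFix tab mwordsA u) = true := by decide +kernel

theorem m2_1880 : allRange 176720 94 (fun u => chkFix tab mwordsA u) = true := by decide +kernel

theorem m2_1881 : allRange 176814 94 (fun u => chkFix tab mwordsA u) = true := by decide +kernel

theorem m2_1882 : allRange 176908 94 (fun u => chkFix tab mwordsA u) = true := by decide +kernel

theorem m2_1883 : allRange 177002 94 (fun u => chkFix tab mwordsA u) = true := by decide +kernel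

theorem m2_1884 : allRange 177096 94 (fun u => chkFix tab mwordsA u) = true := by decide +kernel

theorem m2_1885 : allRange 177190 94 (fun u => chkFix tab mwordsA u) = true := by decide +kernel

theorem m2_1886 : allRange 177284 94 (fun u => chkFix tab mwordsA u) = true := by decide +kernel


end Cfsg.Agent.Helper9.TCData.HeE0
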