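import Cfsg.Agent.Lib.Helper9.TCData.HeE0.Main

set_option autoImplicit false
set_option maxRecDepth 1000000

namespace Cfsg.Agent.Helper9.TCData.HeE0
open Cfsg.Agent.Helper9.TC2

theorem m2_1903 : allRange 178882 94 (fun u => chkFix tab mwordsA u) = true := by decide +kernel

theorem m2_1904 : allRange 178976 94 (fun u => chkFix tab mwordsA u) = true := by decide +kernel

theorem m2_1905 : allRange 179070 94 (fun u => chkFix tab mwordsA u) = true := by decide +kernel

theorem m2_1906 : allRange 179164 94 (fun u => chkFix tab mwordsA u) = true := by decide +kernel

theorem m2_1907 : allRange 179258 94 (fun u => chkFix tab mwordsA u) = true := by decide +kernel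

theorem m2_1908 : allRange 179352 94 (fun u => chkFix tab mwordsA u) = true := by decide +kernel

theorem m2_1909 : allRange 179446 94 (fun u => chkFix tab mwordsA u) = true := by decide +kernel

theorem m2_1910 : allRange 179540 94 (fun u => chkFix tab mwordsA u) = true := by decide +kernel


end Cfsg.Agent.Helper9.TCData.HeE0
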