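import Cfsg.Agent.Lib.Helper9.TCData.HeE0.Main

set_option autoImplicit false
set_option maxRecDepth 1000000

namespace Cfsg.Agent.Helper9.TCData.HeE0
open Cfsg.Agent.Helper9.TC2

theorem m2_1911 : allRange 179634 94 (fun u => chkFix tab mwordsA u) = true := by decide +kernel

theorem m2_1912 : allRange 179728 94 (fun u => chkFix tab mwordsA u) = true := by decide +kernel

theorem m2_1913 : allRange 179822 94 (fun u => chkFix tab mwordsA u) = true := by decide +kernel

theorem m2_1914 : allRange 179916 94 (fun u => chkFix tab mwordsA u) = true := by decide +kernel

theorem m2_1915 : allRange 180010 94 (fun u => chkFix tab mwordsA u) = true := by decide +kernel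

theorem m2_1916 : allRange 180104 94 (fun u => chkFix tab mwordsA u) = true := by decide +kernel

theorem m2_1917 : allRange 180198 94 (fun u => chkFix tab mwordsA u) = true := by decide +kernel

theorem m2_1918 : allRange 180292 94 (fun u => chkFix tab mwordsA u) = true := by decide +kernel


end Cfsg.Agent.Helper9.TCData.HeE0
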