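import Cfsg.Agent.Lib.Helper9.TCData.HeE0.Main

set_option autoImplicit false
set_option maxRecDepth 1000000

namespace Cfsg.Agent.Helper9.TCData.HeE0
open Cfsg.Agent.Helper9.TC2

theorem e4_40 : allRange 115724 2647 (fun u => chkE tab 4 u) = true := by decide +kernel

theorem e4_41 : allRange 118371 2822 (fun u => chkE tab 4 u) = true := by decide +kernel

theorem e4_42 : allRange 121193 2789 (fun u => chkE tab 4 u) = true := by decide +kernel

theorem e4_43 : allRange 123982 2758 (fun u => chkE tab 4 u) = true := by decide +kernel

theorem e4_44 : allRange 126740 2710 (fun u => chkE tab 4 u) = true := by decide +kernel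

theorem e4_45 : allRange 129450 2613 (fun u => chkE tab 4 u) = true := by decide +kernel

theorem e4_46 : allRange 132063 2727 (fun u => chkE tab 4 u) = true := by decide +kernel

theorem e4_47 : allRange 134790 2735 (fun u => chkE tab 4 u) = true := by decide +kernel


end Cfsg.Agent.Helper9.TCData.HeE0
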