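import Cfsg.Agent.Lib.Helper9.TCData.HeE0.Main

set_option autoImplicit false
set_option maxRecDepth 1000000

namespace Cfsg.Agent.Helper9.TCData.HeE0
open Cfsg.Agent.Helper9.TC2

theorem m2_1935 : allRange 181890 94 (fun u => chkFix tab mwordsA u) = true := by decide +kernel

theorem m2_1936 : allRange 181984 94 (fun u => chkFix tab mwordsA u) = true := by decide +kernel

theorem m2_1937 : allRange 182078 94 (fun u => chkFix tab mwordsA u) = true := by decide +kernel

theorem m2_1938 : allRange 182172 94 (fun u => chkFix tab mwordsA u) = true := by decide +kernel

theorem m2_1939 : allRange 182266 94 (fun u => chkFix tab mwordsA u) = true := by decide +kernel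

theorem m2_1940 : allRange 182360 94 (fun u => chkFix tab mwordsA u) = true := by decide +kernel

theorem m2_1941 : allRange 182454 94 (fun u => chkFix tab mwordsA u) = true := by decide +kernel

theorem m2_1942 : allRange 182548 94 (fun u => chkFix tab mwordsA u) = true := by decide +kernel


end Cfsg.Agent.Helper9.TCData.HeE0
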