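import Cfsg.Agent.Lib.Helper9.TCData.HeE0.Main

set_option autoImplicit false
set_option maxRecDepth 1000000

namespace Cfsg.Agent.Helper9.TCData.HeE0
open Cfsg.Agent.Helper9.TC2

theorem m2_1951 : allRange 183394 94 (fun u => chkFix tab mwordsA u) = true := by decide +kernel

theorem m2_1952 : allRange 183488 94 (fun u => chkFix tab mwordsA u) = true := by decide +kernel

theorem m2_1953 : allRange 183582 94 (fun u => chkFix tab mwordsA u) = true := by decide +kernel

theorem m2_1954 : allRange 183676 94 (fun u => chkFix tab mwordsA u) = true := by decide +kernel

theorem m2_1955 : allRange 183770 94 (fun u => chkFix tab mwordsA u) = true := by decide +kernel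

theorem m2_1956 : allRange 183864 94 (fun u => chkFix tab mwordsA u) = true := by decide +kernel

theorem m2_1957 : allRange 183958 94 (fun u => chkFix tab mwordsA u) = true := by decide +kernel

theorem m2_1958 : allRange 184052 94 (fun u => chkFix tab mwordsA u) = true := by decide +kernel


end Cfsg.Agent.Helper9.TCData.HeE0
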