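import Cfsg.Agent.Lib.Helper9.TCData.HeE0.Main

set_option autoImplicit false
set_option maxRecDepth 1000000

namespace Cfsg.Agent.Helper9.TCData.HeE0
open Cfsg.Agent.Helper9.TC2

theorem m2_1967 : allRange 184898 94 (fun u => chkFix tab mwordsA u) = true := by decide +kernel

theorem m2_1968 : allRange 184992 94 (fun u => chkFix tab mwordsA u) = true := by decide +kernel

theorem m2_1969 : allRange 185086 94 (fun u => chkFix tab mwordsA u) = true := by decide +kernel

theorem m2_1970 : allRange 185180 94 (fun u => chkFix tab mwordsA u) = true := by decide +kernel

theorem m2_1971 : allRange 185274 94 (fun u => chkFix tab mwordsA u) = true := by decide +kernel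

theorem m2_1972 : allRange 185368 94 (fun u => chkFix tab mwordsA u) = true := by decide +kernel

theorem m2_1973 : allRange 185462 94 (fun u => chkFix tab mwordsA u) = true := by decide +kernel

theorem m2_1974 : allRange 185556 94 (fun u => chkFix tab mwordsA u) = true := by decide +kernel


end Cfsg.Agent.Helper9.TCData.HeE0
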