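import Cfsg.Agent.Lib.Helper9.TCData.HeE0.Main

set_option autoImplicit false
set_option maxRecDepth 1000000

namespace Cfsg.Agent.Helper9.TCData.HeE0
open Cfsg.Agent.Helper9.TC2

theorem m2_1975 : allRange 185650 94 (fun u => chkFix tab mwordsA u) = true := by decide +kernel

theorem m2_1976 : allRange 185744 94 (fun u => chkFix tab mwordsA u) = true := by decide +kernel

theorem m2_1977 : allRange 185838 94 (fun u => chkFix tab mwordsA u) = true := by decide +kernel

theorem m2_1978 : allRange 185932 94 (fun u => chkFix tab mwordsA u) = true := by decide +kernel

theorem m2_1979 : allRange 186026 94 (fun u => chkFix tab mwordsA u) = true := by decide +kernel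

theorem m2_1980 : allRange 186120 94 (fun u => chkFix tab mwordsA u) = true := by decide +kernel

theorem m2_1981 : allRange 186214 94 (fun u => chkFix tab mwordsA u) = true := by decide +kernel

theorem m2_1982 : allRange 186308 94 (fun u => chkFix tab mwordsA u) = true := by decide +kernel


end Cfsg.Agent.Helper9.TCData.HeE0
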