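import Cfsg.Agent.Lib.Helper9.TCData.HeE0.Main

set_option autoImplicit false
set_option maxRecDepth 1000000

namespace Cfsg.Agent.Helper9.TCData.HeE0
open Cfsg.Agent.Helper9.TC2

theorem m2_1983 : allRange 186402 94 (fun u => chkFix tab mwordsA u) = true := by decide +kernel

theorem m2_1984 : allRange 186496 94 (fun u => chkFix tab mwordsA u) = true := by decide +kernel

theorem m2_1985 : allRange 186590 94 (fun u => chkFix tab mwordsA u) = true := by decide +kernel

theorem m2_1986 : allRange 186684 94 (fun u => chkFix tab mwordsA u) = true := by decide +kernel

theorem m2_1987 : allRange 186778 94 (fun u => chkFix tab mwordsA u) = true := by decide +kernel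

theorem m2_1988 : allRange 186872 94 (fun u => chkFix tab mwordsA u) = true := by decide +kernel

theorem m2_1989 : allRange 186966 94 (fun u => chkFix tab mwordsA u) = true := by decide +kernel

theorem m2_1990 : allRange 187060 94 (fun u => chkFix tab mwordsA u) = true := by decide +kernel


end Cfsg.Agent.Helper9.TCData.HeE0
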