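import Cfsg.Agent.Lib.Helper9.TCData.HeE0.Main

set_option autoImplicit false
set_option maxRecDepth 1000000

namespace Cfsg.Agent.Helper9.TCData.HeE0
open Cfsg.Agent.Helper9.TC2

theorem m2_1991 : allRange 187154 94 (fun u => chkFix tab mwordsA u) = true := by decide +kernel

theorem m2_1992 : allRange 187248 94 (fun u => chkFix tab mwordsA u) = true := by decide +kernel

theorem m2_1993 : allRange 187342 83 (fun u => chkFix tab mwordsA u) = true := by decide +kernel


end Cfsg.Agent.Helper9.TCData.HeE0
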