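import Cfsg.Agent.Lib.Helper9.TCData.HeE0.Main

set_option autoImplicit false
set_option maxRecDepth 1000000

namespace Cfsg.Agent.Helper9.TCData.HeE0
open Cfsg.Agent.Helper9.TC2

theorem e4_48 : allRange 137525 2815 (fun u => chkE tab 4 u) = true := by decide +kernel

theorem e4_49 : allRange 140340 2924 (fun u => chkE tab 4 u) = true := by decide +kernel

theorem e4_50 : allRange 143264 2879 (fun u => chkE tab 4 u) = true := by decide +kernel

theorem e4_51 : allRange 146143 2864 (fun u => chkE tab 4 u) = true := by decide +kernel

theorem e4_52 : allRange 149007 2895 (fun u => chkE tab 4 u) = true := by decide +kernel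

theorem e4_53 : allRange 151902 3107 (fun u => chkE tab 4 u) = true := by decide +kernel

theorem e4_54 : allRange 155009 2932 (fun u => chkE tab 4 u) = true := by decide +kernel

theorem e4_55 : allRange 157941 3153 (fun u => chkE tab 4 u) = true := by decide +kernel


end Cfsg.Agent.Helper9.TCData.HeE0
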