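import Cfsg.Agent.Lib.Helper9.TCData.HeE0.Main

set_option autoImplicit false
set_option maxRecDepth 1000000

namespace Cfsg.Agent.Helper9.TCData.HeE0
open Cfsg.Agent.Helper9.TC2

theorem o1_8 : allRange 2304 288 (fun u => chkO1 tab orb u) = true := by decide +kernel

theorem o1_9 : allRange 2592 288 (fun u => chkO1 tab orb u) = true := by decide +kernel

theorem o1_10 : allRange 2880 288 (fun u => chkO1 tab orb u) = true := by decide +kernel

theorem o1_11 : allRange 3168 288 (fun u => chkO1 tab orb u) = true := by decide +kernel

theorem o1_12 : allRange 3456 288 (fun u => chkO1 tab orb u) = true := by decide +kernel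

theorem o1_13 : allRange 3744 288 (fun u => chkO1 tab orb u) = true := by decide +kernel

theorem o1_14 : allRange 4032 288 (fun u => chkO1 tab orb u) = true := by decide +kernel

theorem o1_15 : allRange 4320 288 (fun u => chkO1 tab orb u) = true := by decide +kernel


end Cfsg.Agent.Helper9.TCData.HeE0
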