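import Cfsg.Agent.Lib.Helper9.TCData.HeE0.Main

set_option autoImplicit false
set_option maxRecDepth 1000000

namespace Cfsg.Agent.Helper9.TCData.HeE0
open Cfsg.Agent.Helper9.TC2

theorem o1_16 : allRange 4608 288 (fun u => chkO1 tab orb u) = true := by decide +kernel

theorem o1_17 : allRange 4896 288 (fun u => chkO1 tab orb u) = true := by decide +kernel

theorem o1_18 : allRange 5184 288 (fun u => chkO1 tab orb u) = true := by decide +kernel

theorem o1_19 : allRange 5472 288 (fun u => chkO1 tab orb u) = true := by decide +kernel

theorem o1_20 : allRange 5760 288 (fun u => chkO1 tab orb u) = true := by decide +kernel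

theorem o1_21 : allRange 6048 288 (fun u => chkO1 tab orb u) = true := by decide +kernel

theorem o1_22 : allRange 6336 288 (fun u => chkO1 tab orb u) = true := by decide +kernel

theorem o1_23 : allRange 6624 288 (fun u => chkO1 tab orb u) = true := by decide +kernel


end Cfsg.Agent.Helper9.TCData.HeE0
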