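import Cfsg.Agent.Lib.Helper9.TCData.HeE0.Main

set_option autoImplicit false
set_option maxRecDepth 1000000

namespace Cfsg.Agent.Helper9.TCData.HeE0
open Cfsg.Agent.Helper9.TC2

theorem o1_56 : allRange 16128 288 (fun u => chkO1 tab orb u) = true := by decide +kernel

theorem o1_57 : allRange 16416 288 (fun u => chkO1 tab orb u) = true := by decide +kernel

theorem o1_58 : allRange 16704 288 (fun u => chkO1 tab orb u) = true := by decide +kernel

theorem o1_59 : allRange 16992 288 (fun u => chkO1 tab orb u) = true := by decide +kernel

theorem o1_60 : allRange 17280 288 (fun u => chkO1 tab orb u) = true := by decide +kernel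

theorem o1_61 : allRange 17568 288 (fun u => chkO1 tab orb u) = true := by decide +kernel

theorem o1_62 : allRange 17856 288 (fun u => chkO1 tab orb u) = true := by decide +kernel

theorem o1_63 : allRange 18144 288 (fun u => chkO1 tab orb u) = true := by decide +kernel


end Cfsg.Agent.Helper9.TCData.HeE0
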