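import Cfsg.Agent.Lib.Helper9.TCData.HeE0.Main

set_option autoImplicit false
set_option maxRecDepth 1000000

namespace Cfsg.Agent.Helper9.TCData.HeE0
open Cfsg.Agent.Helper9.TC2

theorem o1_64 : allRange 18432 288 (fun u => chkO1 tab orb u) = true := by decide +kernel

theorem o1_65 : allRange 18720 288 (fun u => chkO1 tab orb u) = true := by decide +kernel

theorem o1_66 : allRange 19008 288 (fun u => chkO1 tab orb u) = true := by decide +kernel

theorem o1_67 : allRange 19296 288 (fun u => chkO1 tab orb u) = true := by decide +kernel

theorem o1_68 : allRange 19584 288 (fun u => chkO1 tab orb u) = true := by decide +kernel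

theorem o1_69 : allRange 19872 288 (fun u => chkO1 tab orb u) = true := by decide +kernel

theorem o1_70 : allRange 20160 288 (fun u => chkO1 tab orb u) = true := by decide +kernel

theorem o1_71 : allRange 20448 288 (fun u => chkO1 tab orb u) = true := by decide +kernel


end Cfsg.Agent.Helper9.TCData.HeE0
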