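import Cfsg.Agent.Lib.Helper9.TCData.HeE0.Main

set_option autoImplicit false
set_option maxRecDepth 1000000

namespace Cfsg.Agent.Helper9.TCData.HeE0
open Cfsg.Agent.Helper9.TC2

theorem e4_56 : allRange 161094 3029 (fun u => chkE tab 4 u) = true := by decide +kernel

theorem e4_57 : allRange 164123 3052 (fun u => chkE tab 4 u) = true := by decide +kernel

theorem e4_58 : allRange 167175 3064 (fun u => chkE tab 4 u) = true := by decide +kernel

theorem e4_59 : allRange 170239 2955 (fun u => chkE tab 4 u) = true := by decide +kernel

theorem e4_60 : allRange 173194 3362 (fun u => chkE tab 4 u) = true := by decide +kernel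

theorem e4_61 : allRange 176556 3162 (fun u => chkE tab 4 u) = true := by decide +kernel

theorem e4_62 : allRange 179718 3320 (fun u => chkE tab 4 u) = true := by decide +kernel

theorem e4_63 : allRange 183038 3389 (fun u => chkE tab 4 u) = true := by decide +kernel


end Cfsg.Agent.Helper9.TCData.HeE0
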