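import Cfsg.Agent.Lib.Helper9.TCData.HeE0.Main

set_option autoImplicit false
set_option maxRecDepth 1000000

namespace Cfsg.Agent.Helper9.TCData.HeE0
open Cfsg.Agent.Helper9.TC2

theorem o1_128 : allRange 36864 288 (fun u => chkO1 tab orb u) = true := by decide +kernel

theorem o1_129 : allRange 37152 288 (fun u => chkO1 tab orb u) = true := by decide +kernel

theorem o1_130 : allRange 37440 288 (fun u => chkO1 tab orb u) = true := by decide +kernel

theorem o1_131 : allRange 37728 288 (fun u => chkO1 tab orb u) = true := by decide +kernel

theorem o1_132 : allRange 38016 288 (fun u => chkO1 tab orb u) = true := by decide +kernel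

theorem o1_133 : allRange 38304 288 (fun u => chkO1 tab orb u) = true := by decide +kernel

theorem o1_134 : allRange 38592 288 (fun u => chkO1 tab orb u) = true := by decide +kernel

theorem o1_135 : allRange 38880 288 (fun u => chkO1 tab orb u) = true := by decide +kernel


end Cfsg.Agent.Helper9.TCData.HeE0
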