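import Cfsg.Agent.Lib.Helper9.TCData.HeE0.Main

set_option autoImplicit false
set_option maxRecDepth 1000000

namespace Cfsg.Agent.Helper9.TCData.HeE0
open Cfsg.Agent.Helper9.TC2

theorem o1_136 : allRange 39168 288 (fun u => chkO1 tab orb u) = true := by decide +kernel

theorem o1_137 : allRange 39456 288 (fun u => chkO1 tab orb u) = true := by decide +kernel

theorem o1_138 : allRange 39744 288 (fun u => chkO1 tab orb u) = true := by decide +kernel

theorem o1_139 : allRange 40032 288 (fun u => chkO1 tab orb u) = true := by decide +kernel

theorem o1_140 : allRange 40320 288 (fun u => chkO1 tab orb u) = true := by decide +kernel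

theorem o1_141 : allRange 40608 288 (fun u => chkO1 tab orb u) = true := by decide +kernel

theorem o1_142 : allRange 40896 288 (fun u => chkO1 tab orb u) = true := by decide +kernel

theorem o1_143 : allRange 41184 288 (fun u => chkO1 tab orb u) = true := by decide +kernel


end Cfsg.Agent.Helper9.TCData.HeE0
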