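import Cfsg.Agent.Lib.Helper9.TCData.HeE0.Main

set_option autoImplicit false
set_option maxRecDepth 1000000

namespace Cfsg.Agent.Helper9.TCData.HeE0
open Cfsg.Agent.Helper9.TC2

theorem o1_144 : allRange 41472 288 (fun u => chkO1 tab orb u) = true := by decide +kernel

theorem o1_145 : allRange 41760 288 (fun u => chkO1 tab orb u) = true := by decide +kernel

theorem o1_146 : allRange 42048 288 (fun u => chkO1 tab orb u) = true := by decide +kernel

theorem o1_147 : allRange 42336 288 (fun u => chkO1 tab orb u) = true := by decide +kernel

theorem o1_148 : allRange 42624 288 (fun u => chkO1 tab orb u) = true := by decide +kernel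

theorem o1_149 : allRange 42912 288 (fun u => chkO1 tab orb u) = true := by decide +kernel

theorem o1_150 : allRange 43200 288 (fun u => chkO1 tab orb u) = true := by decide +kernel

theorem o1_151 : allRange 43488 288 (fun u => chkO1 tab orb u) = true := by decide +kernel


end Cfsg.Agent.Helper9.TCData.HeE0
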