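import Cfsg.Agent.Lib.Helper9.TCData.HeE0.Main

set_option autoImplicit false
set_option maxRecDepth 1000000

namespace Cfsg.Agent.Helper9.TCData.HeE0
open Cfsg.Agent.Helper9.TC2

theorem o1_160 : allRange 46080 288 (fun u => chkO1 tab orb u) = true := by decide +kernel

theorem o1_161 : allRange 46368 288 (fun u => chkO1 tab orb u) = true := by decide +kernel

theorem o1_162 : allRange 46656 288 (fun u => chkO1 tab orb u) = true := by decide +kernel

theorem o1_163 : allRange 46944 288 (fun u => chkO1 tab orb u) = true := by decide +kernel

theorem o1_164 : allRange 47232 288 (fun u => chkO1 tab orb u) = true := by decide +kernel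

theorem o1_165 : allRange 47520 288 (fun u => chkO1 tab orb u) = true := by decide +kernel

theorem o1_166 : allRange 47808 288 (fun u => chkO1 tab orb u) = true := by decide +kernel

theorem o1_167 : allRange 48096 288 (fun u => chkO1 tab orb u) = true := by decide +kernel


end Cfsg.Agent.Helper9.TCData.HeE0
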