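import Cfsg.Agent.Lib.Helper9.TCData.HeE0.Main

set_option autoImplicit false
set_option maxRecDepth 1000000

namespace Cfsg.Agent.Helper9.TCData.HeE0
open Cfsg.Agent.Helper9.TC2

theorem e4_64 : allRange 186427 2820 (fun u => chkE tab 4 u) = true := by decide +kernel

theorem e5_0 : allRange 0 3429 (fun u => chkE tab 5 u) = true := by decide +kernel

theorem e5_1 : allRange 3429 3487 (fun u => chkE tab 5 u) = true := by decide +kernel

theorem e5_2 : allRange 6916 3526 (fun u => chkE tab 5 u) = true := by decide +kernel

theorem e5_3 : allRange 10442 3216 (fun u => chkE tab 5 u) = true := by decide +kernel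

theorem e5_4 : allRange 13658 3289 (fun u => chkE tab 5 u) = true := by decide +kernel

theorem e5_5 : allRange 16947 3258 (fun u => chkE tab 5 u) = true := by decide +kernel

theorem e5_6 : allRange 20205 3103 (fun u => chkE tab 5 u) = true := by decide +kernel


end Cfsg.Agent.Helper9.TCData.HeE0
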