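import Cfsg.Agent.Lib.Helper9.TCData.HeE0.Main

set_option autoImplicit false
set_option maxRecDepth 1000000

namespace Cfsg.Agent.Helper9.TCData.HeE0
open Cfsg.Agent.Helper9.TC2

theorem o1_168 : allRange 48384 288 (fun u => chkO1 tab orb u) = true := by decide +kernel

theorem o1_169 : allRange 48672 288 (fun u => chkO1 tab orb u) = true := by decide +kernel

theorem o1_170 : allRange 48960 288 (fun u => chkO1 tab orb u) = true := by decide +kernel

theorem o1_171 : allRange 49248 288 (fun u => chkO1 tab orb u) = true := by decide +kernel

theorem o1_172 : allRange 49536 288 (fun u => chkO1 tab orb u) = true := by decide +kernel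

theorem o1_173 : allRange 49824 288 (fun u => chkO1 tab orb u) = true := by decide +kernel

theorem o1_174 : allRange 50112 288 (fun u => chkO1 tab orb u) = true := by decide +kernel

theorem o1_175 : allRange 50400 288 (fun u => chkO1 tab orb u) = true := by decide +kernel


end Cfsg.Agent.Helper9.TCData.HeE0
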