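import Cfsg.Agent.Lib.Helper9.TCData.HeE0.Main

set_option autoImplicit false
set_option maxRecDepth 1000000

namespace Cfsg.Agent.Helper9.TCData.HeE0
open Cfsg.Agent.Helper9.TC2

theorem o1_176 : allRange 50688 288 (fun u => chkO1 tab orb u) = true := by decide +kernel

theorem o1_177 : allRange 50976 288 (fun u => chkO1 tab orb u) = true := by decide +kernel

theorem o1_178 : allRange 51264 288 (fun u => chkO1 tab orb u) = true := by decide +kernel

theorem o1_179 : allRange 51552 288 (fun u => chkO1 tab orb u) = true := by decide +kernel

theorem o1_180 : allRange 51840 288 (fun u => chkO1 tab orb u) = true := by decide +kernel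

theorem o1_181 : allRange 52128 288 (fun u => chkO1 tab orb u) = true := by decide +kernel

theorem o1_182 : allRange 52416 288 (fun u => chkO1 tab orb u) = true := by decide +kernel

theorem o1_183 : allRange 52704 288 (fun u => chkO1 tab orb u) = true := by decide +kernel


end Cfsg.Agent.Helper9.TCData.HeE0
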