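import Cfsg.Agent.Lib.Helper9.TCData.HeE0.Main

set_option autoImplicit false
set_option maxRecDepth 1000000

namespace Cfsg.Agent.Helper9.TCData.HeE0
open Cfsg.Agent.Helper9.TC2

theorem o1_184 : allRange 52992 288 (fun u => chkO1 tab orb u) = true := by decide +kernel

theorem o1_185 : allRange 53280 288 (fun u => chkO1 tab orb u) = true := by decide +kernel

theorem o1_186 : allRange 53568 288 (fun u => chkO1 tab orb u) = true := by decide +kernel

theorem o1_187 : allRange 53856 288 (fun u => chkO1 tab orb u) = true := by decide +kernel

theorem o1_188 : allRange 54144 288 (fun u => chkO1 tab orb u) = true := by decide +kernel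

theorem o1_189 : allRange 54432 288 (fun u => chkO1 tab orb u) = true := by decide +kernel

theorem o1_190 : allRange 54720 288 (fun u => chkO1 tab orb u) = true := by decide +kernel

theorem o1_191 : allRange 55008 288 (fun u => chkO1 tab orb u) = true := by decide +kernel


end Cfsg.Agent.Helper9.TCData.HeE0
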