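import Cfsg.Agent.Lib.Helper9.TCData.HeE0.Main

set_option autoImplicit false
set_option maxRecDepth 1000000

namespace Cfsg.Agent.Helper9.TCData.HeE0
open Cfsg.Agent.Helper9.TC2

theorem o1_192 : allRange 55296 288 (fun u => chkO1 tab orb u) = true := by decide +kernel

theorem o1_193 : allRange 55584 288 (fun u => chkO1 tab orb u) = true := by decide +kernel

theorem o1_194 : allRange 55872 288 (fun u => chkO1 tab orb u) = true := by decide +kernel

theorem o1_195 : allRange 56160 288 (fun u => chkO1 tab orb u) = true := by decide +kernel

theorem o1_196 : allRange 56448 288 (fun u => chkO1 tab orb u) = true := by decide +kernel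

theorem o1_197 : allRange 56736 288 (fun u => chkO1 tab orb u) = true := by decide +kernel

theorem o1_198 : allRange 57024 288 (fun u => chkO1 tab orb u) = true := by decide +kernel

theorem o1_199 : allRange 57312 288 (fun u => chkO1 tab orb u) = true := by decide +kernel


end Cfsg.Agent.Helper9.TCData.HeE0
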