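import Cfsg.Agent.Lib.Helper9.TCData.HeE0.Main

set_option autoImplicit false
set_option maxRecDepth 1000000

namespace Cfsg.Agent.Helper9.TCData.HeE0
open Cfsg.Agent.Helper9.TC2

theorem o1_240 : allRange 69120 288 (fun u => chkO1 tab orb u) = true := by decide +kernel

theorem o1_241 : allRange 69408 288 (fun u => chkO1 tab orb u) = true := by decide +kernel

theorem o1_242 : allRange 69696 288 (fun u => chkO1 tab orb u) = true := by decide +kernel

theorem o1_243 : allRange 69984 288 (fun u => chkO1 tab orb u) = true := by decide +kernel

theorem o1_244 : allRange 70272 288 (fun u => chkO1 tab orb u) = true := by decide +kernel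

theorem o1_245 : allRange 70560 288 (fun u => chkO1 tab orb u) = true := by decide +kernel

theorem o1_246 : allRange 70848 288 (fun u => chkO1 tab orb u) = true := by decide +kernel

theorem o1_247 : allRange 71136 288 (fun u => chkO1 tab orb u) = true := by decide +kernel


end Cfsg.Agent.Helper9.TCData.HeE0
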