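import Cfsg.Agent.Lib.Helper9.TCData.HeE0.Main

set_option autoImplicit false
set_option maxRecDepth 1000000

namespace Cfsg.Agent.Helper9.TCData.HeE0
open Cfsg.Agent.Helper9.TC2

theorem e5_7 : allRange 23308 2978 (fun u => chkE tab 5 u) = true := by decide +kernel

theorem e5_8 : allRange 26286 2924 (fun u => chkE tab 5 u) = true := by decide +kernel

theorem e5_9 : allRange 29210 3186 (fun u => chkE tab 5 u) = true := by decide +kernel

theorem e5_10 : allRange 32396 3126 (fun u => chkE tab 5 u) = true := by decide +kernel

theorem e5_11 : allRange 35522 2932 (fun u => chkE tab 5 u) = true := by decide +kernel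

theorem e5_12 : allRange 38454 2861 (fun u => chkE tab 5 u) = true := by decide +kernel

theorem e5_13 : allRange 41315 2715 (fun u => chkE tab 5 u) = true := by decide +kernel

theorem e5_14 : allRange 44030 3095 (fun u => chkE tab 5 u) = true := by decide +kernel


end Cfsg.Agent.Helper9.TCData.HeE0
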