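import Cfsg.Agent.Lib.Helper9.TCData.HeE0.Main

set_option autoImplicit false
set_option maxRecDepth 1000000

namespace Cfsg.Agent.Helper9.TCData.HeE0
open Cfsg.Agent.Helper9.TC2

theorem o1_256 : allRange 73728 288 (fun u => chkO1 tab orb u) = true := by decide +kernel

theorem o1_257 : allRange 74016 288 (fun u => chkO1 tab orb u) = true := by decide +kernel

theorem o1_258 : allRange 74304 288 (fun u => chkO1 tab orb u) = true := by decide +kernel

theorem o1_259 : allRange 74592 288 (fun u => chkO1 tab orb u) = true := by decide +kernel

theorem o1_260 : allRange 74880 288 (fun u => chkO1 tab orb u) = true := by decide +kernel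

theorem o1_261 : allRange 75168 288 (fun u => chkO1 tab orb u) = true := by decide +kernel

theorem o1_262 : allRange 75456 288 (fun u => chkO1 tab orb u) = true := by decide +kernel

theorem o1_263 : allRange 75744 288 (fun u => chkO1 tab orb u) = true := by decide +kernel


end Cfsg.Agent.Helper9.TCData.HeE0
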