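import Cfsg.Agent.Lib.Helper9.TCData.HeE0.Main

set_option autoImplicit false
set_option maxRecDepth 1000000

namespace Cfsg.Agent.Helper9.TCData.HeE0
open Cfsg.Agent.Helper9.TC2

theorem o1_264 : allRange 76032 288 (fun u => chkO1 tab orb u) = true := by decide +kernel

theorem o1_265 : allRange 76320 288 (fun u => chkO1 tab orb u) = true := by decide +kernel

theorem o1_266 : allRange 76608 288 (fun u => chkO1 tab orb u) = true := by decide +kernel

theorem o1_267 : allRange 76896 288 (fun u => chkO1 tab orb u) = true := by decide +kernel

theorem o1_268 : allRange 77184 288 (fun u => chkO1 tab orb u) = true := by decide +kernel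

theorem o1_269 : allRange 77472 288 (fun u => chkO1 tab orb u) = true := by decide +kernel

theorem o1_270 : allRange 77760 288 (fun u => chkO1 tab orb u) = true := by decide +kernel

theorem o1_271 : allRange 78048 288 (fun u => chkO1 tab orb u) = true := by decide +kernel


end Cfsg.Agent.Helper9.TCData.HeE0
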