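import Cfsg.Agent.Lib.Helper9.TCData.HeE0.Main

set_option autoImplicit false
set_option maxRecDepth 1000000

namespace Cfsg.Agent.Helper9.TCData.HeE0
open Cfsg.Agent.Helper9.TC2

theorem o1_272 : allRange 78336 288 (fun u => chkO1 tab orb u) = true := by decide +kernel

theorem o1_273 : allRange 78624 288 (fun u => chkO1 tab orb u) = true := by decide +kernel

theorem o1_274 : allRange 78912 288 (fun u => chkO1 tab orb u) = true := by decide +kernel

theorem o1_275 : allRange 79200 288 (fun u => chkO1 tab orb u) = true := by decide +kernel

theorem o1_276 : allRange 79488 288 (fun u => chkO1 tab orb u) = true := by decide +kernel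

theorem o1_277 : allRange 79776 288 (fun u => chkO1 tab orb u) = true := by decide +kernel

theorem o1_278 : allRange 80064 288 (fun u => chkO1 tab orb u) = true := by decide +kernel

theorem o1_279 : allRange 80352 288 (fun u => chkO1 tab orb u) = true := by decide +kernel


end Cfsg.Agent.Helper9.TCData.HeE0
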