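import Cfsg.Agent.Lib.Helper9.TCData.HeE0.Main

set_option autoImplicit false
set_option maxRecDepth 1000000

namespace Cfsg.Agent.Helper9.TCData.HeE0
open Cfsg.Agent.Helper9.TC2

theorem o1_280 : allRange 80640 288 (fun u => chkO1 tab orb u) = true := by decide +kernel

theorem o1_281 : allRange 80928 288 (fun u => chkO1 tab orb u) = true := by decide +kernel

theorem o1_282 : allRange 81216 288 (fun u => chkO1 tab orb u) = true := by decide +kernel

theorem o1_283 : allRange 81504 288 (fun u => chkO1 tab orb u) = true := by decide +kernel

theorem o1_284 : allRange 81792 288 (fun u => chkO1 tab orb u) = true := by decide +kernel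

theorem o1_285 : allRange 82080 288 (fun u => chkO1 tab orb u) = true := by decide +kernel

theorem o1_286 : allRange 82368 288 (fun u => chkO1 tab orb u) = true := by decide +kernel

theorem o1_287 : allRange 82656 288 (fun u => chkO1 tab orb u) = true := by decide +kernel


end Cfsg.Agent.Helper9.TCData.HeE0
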