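import Cfsg.Agent.Lib.Helper9.TCData.HeE0.Main

set_option autoImplicit false
set_option maxRecDepth 1000000

namespace Cfsg.Agent.Helper9.TCData.HeE0
open Cfsg.Agent.Helper9.TC2

theorem o1_288 : allRange 82944 288 (fun u => chkO1 tab orb u) = true := by decide +kernel

theorem o1_289 : allRange 83232 288 (fun u => chkO1 tab orb u) = true := by decide +kernel

theorem o1_290 : allRange 83520 288 (fun u => chkO1 tab orb u) = true := by decide +kernel

theorem o1_291 : allRange 83808 288 (fun u => chkO1 tab orb u) = true := by decide +kernel

theorem o1_292 : allRange 84096 288 (fun u => chkO1 tab orb u) = true := by decide +kernel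

theorem o1_293 : allRange 84384 288 (fun u => chkO1 tab orb u) = true := by decide +kernel

theorem o1_294 : allRange 84672 288 (fun u => chkO1 tab orb u) = true := by decide +kernel

theorem o1_295 : allRange 84960 288 (fun u => chkO1 tab orb u) = true := by decide +kernel


end Cfsg.Agent.Helper9.TCData.HeE0
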