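import Cfsg.Agent.Lib.Helper9.TCData.HeE0.Main

set_option autoImplicit false
set_option maxRecDepth 1000000

namespace Cfsg.Agent.Helper9.TCData.HeE0
open Cfsg.Agent.Helper9.TC2

theorem o1_296 : allRange 85248 288 (fun u => chkO1 tab orb u) = true := by decide +kernel

theorem o1_297 : allRange 85536 288 (fun u => chkO1 tab orb u) = true := by decide +kernel

theorem o1_298 : allRange 85824 288 (fun u => chkO1 tab orb u) = true := by decide +kernel

theorem o1_299 : allRange 86112 288 (fun u => chkO1 tab orb u) = true := by decide +kernel

theorem o1_300 : allRange 86400 288 (fun u => chkO1 tab orb u) = true := by decide +kernel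

theorem o1_301 : allRange 86688 288 (fun u => chkO1 tab orb u) = true := by decide +kernel

theorem o1_302 : allRange 86976 288 (fun u => chkO1 tab orb u) = true := by decide +kernel

theorem o1_303 : allRange 87264 288 (fun u => chkO1 tab orb u) = true := by decide +kernel


end Cfsg.Agent.Helper9.TCData.HeE0
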