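import Cfsg.Agent.Lib.Helper9.TCData.HeE0.Main

set_option autoImplicit false
set_option maxRecDepth 1000000

namespace Cfsg.Agent.Helper9.TCData.HeE0
open Cfsg.Agent.Helper9.TC2

theorem o1_304 : allRange 87552 288 (fun u => chkO1 tab orb u) = true := by decide +kernel

theorem o1_305 : allRange 87840 288 (fun u => chkO1 tab orb u) = true := by decide +kernel

theorem o1_306 : allRange 88128 288 (fun u => chkO1 tab orb u) = true := by decide +kernel

theorem o1_307 : allRange 88416 288 (fun u => chkO1 tab orb u) = true := by decide +kernel

theorem o1_308 : allRange 88704 288 (fun u => chkO1 tab orb u) = true := by decide +kernel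

theorem o1_309 : allRange 88992 288 (fun u => chkO1 tab orb u) = true := by decide +kernel

theorem o1_310 : allRange 89280 288 (fun u => chkO1 tab orb u) = true := by decide +kernel

theorem o1_311 : allRange 89568 288 (fun u => chkO1 tab orb u) = true := by decide +kernel


end Cfsg.Agent.Helper9.TCData.HeE0
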