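import Cfsg.Agent.Lib.Helper9.TCData.HeE0.Main

set_option autoImplicit false
set_option maxRecDepth 1000000

namespace Cfsg.Agent.Helper9.TCData.HeE0
open Cfsg.Agent.Helper9.TC2

theorem o1_320 : allRange 92160 288 (fun u => chkO1 tab orb u) = true := by decide +kernel

theorem o1_321 : allRange 92448 288 (fun u => chkO1 tab orb u) = true := by decide +kernel

theorem o1_322 : allRange 92736 288 (fun u => chkO1 tab orb u) = true := by decide +kernel

theorem o1_323 : allRange 93024 288 (fun u => chkO1 tab orb u) = true := by decide +kernel

theorem o1_324 : allRange 93312 288 (fun u => chkO1 tab orb u) = true := by decide +kernel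

theorem o1_325 : allRange 93600 288 (fun u => chkO1 tab orb u) = true := by decide +kernel

theorem o1_326 : allRange 93888 288 (fun u => chkO1 tab orb u) = true := by decide +kernel

theorem o1_327 : allRange 94176 288 (fun u => chkO1 tab orb u) = true := by decide +kernel


end Cfsg.Agent.Helper9.TCData.HeE0
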