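import Cfsg.Agent.Lib.Helper9.TCData.HeE0.Main

set_option autoImplicit false
set_option maxRecDepth 1000000

namespace Cfsg.Agent.Helper9.TCData.HeE0
open Cfsg.Agent.Helper9.TC2

theorem e5_15 : allRange 47125 2900 (fun u => chkE tab 5 u) = true := by decide +kernel

theorem e5_16 : allRange 50025 2972 (fun u => chkE tab 5 u) = true := by decide +kernel

theorem e5_17 : allRange 52997 3126 (fun u => chkE tab 5 u) = true := by decide +kernel

theorem e5_18 : allRange 56123 3001 (fun u => chkE tab 5 u) = true := by decide +kernel

theorem e5_19 : allRange 59124 2997 (fun u => chkE tab 5 u) = true := by decide +kernel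

theorem e5_20 : allRange 62121 3012 (fun u => chkE tab 5 u) = true := by decide +kernel

theorem e5_21 : allRange 65133 3018 (fun u => chkE tab 5 u) = true := by decide +kernel

theorem e5_22 : allRange 68151 2980 (fun u => chkE tab 5 u) = true := by decide +kernel


end Cfsg.Agent.Helper9.TCData.HeE0
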