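import Cfsg.Agent.Lib.Helper9.TCData.HeE0.Main

set_option autoImplicit false
set_option maxRecDepth 1000000

namespace Cfsg.Agent.Helper9.TCData.HeE0
open Cfsg.Agent.Helper9.TC2

theorem o1_328 : allRange 94464 288 (fun u => chkO1 tab orb u) = true := by decide +kernel

theorem o1_329 : allRange 94752 288 (fun u => chkO1 tab orb u) = true := by decide +kernel

theorem o1_330 : allRange 95040 288 (fun u => chkO1 tab orb u) = true := by decide +kernel

theorem o1_331 : allRange 95328 288 (fun u => chkO1 tab orb u) = true := by decide +kernel

theorem o1_332 : allRange 95616 288 (fun u => chkO1 tab orb u) = true := by decide +kernel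

theorem o1_333 : allRange 95904 288 (fun u => chkO1 tab orb u) = true := by decide +kernel

theorem o1_334 : allRange 96192 288 (fun u => chkO1 tab orb u) = true := by decide +kernel

theorem o1_335 : allRange 96480 288 (fun u => chkO1 tab orb u) = true := by decide +kernel


end Cfsg.Agent.Helper9.TCData.HeE0
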