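import Cfsg.Agent.Lib.Helper9.TCData.HeE0.Main

set_option autoImplicit false
set_option maxRecDepth 1000000

namespace Cfsg.Agent.Helper9.TCData.HeE0
open Cfsg.Agent.Helper9.TC2

theorem o1_352 : allRange 101376 288 (fun u => chkO1 tab orb u) = true := by decide +kernel

theorem o1_353 : allRange 101664 288 (fun u => chkO1 tab orb u) = true := by decide +kernel

theorem o1_354 : allRange 101952 288 (fun u => chkO1 tab orb u) = true := by decide +kernel

theorem o1_355 : allRange 102240 288 (fun u => chkO1 tab orb u) = true := by decide +kernel

theorem o1_356 : allRange 102528 288 (fun u => chkO1 tab orb u) = true := by decide +kernel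

theorem o1_357 : allRange 102816 288 (fun u => chkO1 tab orb u) = true := by decide +kernel

theorem o1_358 : allRange 103104 288 (fun u => chkO1 tab orb u) = true := by decide +kernel

theorem o1_359 : allRange 103392 288 (fun u => chkO1 tab orb u) = true := by decide +kernel


end Cfsg.Agent.Helper9.TCData.HeE0
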