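import Cfsg.Agent.Lib.Helper9.TCData.HeE0.Main

set_option autoImplicit false
set_option maxRecDepth 1000000

namespace Cfsg.Agent.Helper9.TCData.HeE0
open Cfsg.Agent.Helper9.TC2

theorem o1_360 : allRange 103680 288 (fun u => chkO1 tab orb u) = true := by decide +kernel

theorem o1_361 : allRange 103968 288 (fun u => chkO1 tab orb u) = true := by decide +kernel

theorem o1_362 : allRange 104256 288 (fun u => chkO1 tab orb u) = true := by decide +kernel

theorem o1_363 : allRange 104544 288 (fun u => chkO1 tab orb u) = true := by decide +kernel

theorem o1_364 : allRange 104832 288 (fun u => chkO1 tab orb u) = true := by decide +kernel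

theorem o1_365 : allRange 105120 288 (fun u => chkO1 tab orb u) = true := by decide +kernel

theorem o1_366 : allRange 105408 288 (fun u => chkO1 tab orb u) = true := by decide +kernel

theorem o1_367 : allRange 105696 288 (fun u => chkO1 tab orb u) = true := by decide +kernel


end Cfsg.Agent.Helper9.TCData.HeE0
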