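import Cfsg.Agent.Lib.Helper9.TCData.HeE0.Main

set_option autoImplicit false
set_option maxRecDepth 1000000

namespace Cfsg.Agent.Helper9.TCData.HeE0
open Cfsg.Agent.Helper9.TC2

theorem o1_368 : allRange 105984 288 (fun u => chkO1 tab orb u) = true := by decide +kernel

theorem o1_369 : allRange 106272 288 (fun u => chkO1 tab orb u) = true := by decide +kernel

theorem o1_370 : allRange 106560 288 (fun u => chkO1 tab orb u) = true := by decide +kernel

theorem o1_371 : allRange 106848 288 (fun u => chkO1 tab orb u) = true := by decide +kernel

theorem o1_372 : allRange 107136 288 (fun u => chkO1 tab orb u) = true := by decide +kernel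

theorem o1_373 : allRange 107424 288 (fun u => chkO1 tab orb u) = true := by decide +kernel

theorem o1_374 : allRange 107712 288 (fun u => chkO1 tab orb u) = true := by decide +kernel

theorem o1_375 : allRange 108000 288 (fun u => chkO1 tab orb u) = true := by decide +kernel


end Cfsg.Agent.Helper9.TCData.HeE0
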