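import Cfsg.Agent.Lib.Helper9.TCData.HeE0.Main

set_option autoImplicit false
set_option maxRecDepth 1000000

namespace Cfsg.Agent.Helper9.TCData.HeE0
open Cfsg.Agent.Helper9.TC2

theorem o1_376 : allRange 108288 288 (fun u => chkO1 tab orb u) = true := by decide +kernel

theorem o1_377 : allRange 108576 288 (fun u => chkO1 tab orb u) = true := by decide +kernel

theorem o1_378 : allRange 108864 288 (fun u => chkO1 tab orb u) = true := by decide +kernel

theorem o1_379 : allRange 109152 288 (fun u => chkO1 tab orb u) = true := by decide +kernel

theorem o1_380 : allRange 109440 288 (fun u => chkO1 tab orb u) = true := by decide +kernel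

theorem o1_381 : allRange 109728 288 (fun u => chkO1 tab orb u) = true := by decide +kernel

theorem o1_382 : allRange 110016 288 (fun u => chkO1 tab orb u) = true := by decide +kernel

theorem o1_383 : allRange 110304 288 (fun u => chkO1 tab orb u) = true := by decide +kernel


end Cfsg.Agent.Helper9.TCData.HeE0
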