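import Cfsg.Agent.Lib.Helper9.TCData.HeE0.Main

set_option autoImplicit false
set_option maxRecDepth 1000000

namespace Cfsg.Agent.Helper9.TCData.HeE0
open Cfsg.Agent.Helper9.TC2

theorem o1_384 : allRange 110592 288 (fun u => chkO1 tab orb u) = true := by decide +kernel

theorem o1_385 : allRange 110880 288 (fun u => chkO1 tab orb u) = true := by decide +kernel

theorem o1_386 : allRange 111168 288 (fun u => chkO1 tab orb u) = true := by decide +kernel

theorem o1_387 : allRange 111456 288 (fun u => chkO1 tab orb u) = true := by decide +kernel

theorem o1_388 : allRange 111744 288 (fun u => chkO1 tab orb u) = true := by decide +kernel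

theorem o1_389 : allRange 112032 288 (fun u => chkO1 tab orb u) = true := by decide +kernel

theorem o1_390 : allRange 112320 288 (fun u => chkO1 tab orb u) = true := by decide +kernel

theorem o1_391 : allRange 112608 288 (fun u => chkO1 tab orb u) = true := by decide +kernel


end Cfsg.Agent.Helper9.TCData.HeE0
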