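import Cfsg.Agent.Lib.Helper9.TCData.HeE0.Main

set_option autoImplicit false
set_option maxRecDepth 1000000

namespace Cfsg.Agent.Helper9.TCData.HeE0
open Cfsg.Agent.Helper9.TC2

theorem o1_392 : allRange 112896 288 (fun u => chkO1 tab orb u) = true := by decide +kernel

theorem o1_393 : allRange 113184 288 (fun u => chkO1 tab orb u) = true := by decide +kernel

theorem o1_394 : allRange 113472 288 (fun u => chkO1 tab orb u) = true := by decide +kernel

theorem o1_395 : allRange 113760 288 (fun u => chkO1 tab orb u) = true := by decide +kernel

theorem o1_396 : allRange 114048 288 (fun u => chkO1 tab orb u) = true := by decide +kernel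

theorem o1_397 : allRange 114336 288 (fun u => chkO1 tab orb u) = true := by decide +kernel

theorem o1_398 : allRange 114624 288 (fun u => chkO1 tab orb u) = true := by decide +kernel

theorem o1_399 : allRange 114912 288 (fun u => chkO1 tab orb u) = true := by decide +kernel


end Cfsg.Agent.Helper9.TCData.HeE0
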