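import Cfsg.Agent.Lib.Helper9.TCData.HeE0.Main

set_option autoImplicit false
set_option maxRecDepth 1000000

namespace Cfsg.Agent.Helper9.TCData.HeE0
open Cfsg.Agent.Helper9.TC2

theorem o1_400 : allRange 115200 288 (fun u => chkO1 tab orb u) = true := by decide +kernel

theorem o1_401 : allRange 115488 288 (fun u => chkO1 tab orb u) = true := by decide +kernel

theorem o1_402 : allRange 115776 288 (fun u => chkO1 tab orb u) = true := by decide +kernel

theorem o1_403 : allRange 116064 288 (fun u => chkO1 tab orb u) = true := by decide +kernel

theorem o1_404 : allRange 116352 288 (fun u => chkO1 tab orb u) = true := by decide +kernel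

theorem o1_405 : allRange 116640 288 (fun u => chkO1 tab orb u) = true := by decide +kernel

theorem o1_406 : allRange 116928 288 (fun u => chkO1 tab orb u) = true := by decide +kernel

theorem o1_407 : allRange 117216 288 (fun u => chkO1 tab orb u) = true := by decide +kernel


end Cfsg.Agent.Helper9.TCData.HeE0
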