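import Cfsg.Agent.Lib.Helper9.TCData.HeE0.Main

set_option autoImplicit false
set_option maxRecDepth 1000000

namespace Cfsg.Agent.Helper9.TCData.HeE0
open Cfsg.Agent.Helper9.TC2

theorem o1_416 : allRange 119808 288 (fun u => chkO1 tab orb u) = true := by decide +kernel

theorem o1_417 : allRange 120096 288 (fun u => chkO1 tab orb u) = true := by decide +kernel

theorem o1_418 : allRange 120384 288 (fun u => chkO1 tab orb u) = true := by decide +kernel

theorem o1_419 : allRange 120672 288 (fun u => chkO1 tab orb u) = true := by decide +kernel

theorem o1_420 : allRange 120960 288 (fun u => chkO1 tab orb u) = true := by decide +kernel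

theorem o1_421 : allRange 121248 288 (fun u => chkO1 tab orb u) = true := by decide +kernel

theorem o1_422 : allRange 121536 288 (fun u => chkO1 tab orb u) = true := by decide +kernel

theorem o1_423 : allRange 121824 288 (fun u => chkO1 tab orb u) = true := by decide +kernel


end Cfsg.Agent.Helper9.TCData.HeE0
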