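import Cfsg.Agent.Lib.Helper9.TCData.HeE0.Main

set_option autoImplicit false
set_option maxRecDepth 1000000

namespace Cfsg.Agent.Helper9.TCData.HeE0
open Cfsg.Agent.Helper9.TC2

theorem o1_424 : allRange 122112 288 (fun u => chkO1 tab orb u) = true := by decide +kernel

theorem o1_425 : allRange 122400 288 (fun u => chkO1 tab orb u) = true := by decide +kernel

theorem o1_426 : allRange 122688 288 (fun u => chkO1 tab orb u) = true := by decide +kernel

theorem o1_427 : allRange 122976 288 (fun u => chkO1 tab orb u) = true := by decide +kernel

theorem o1_428 : allRange 123264 288 (fun u => chkO1 tab orb u) = true := by decide +kernel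

theorem o1_429 : allRange 123552 288 (fun u => chkO1 tab orb u) = true := by decide +kernel

theorem o1_430 : allRange 123840 288 (fun u => chkO1 tab orb u) = true := by decide +kernel

theorem o1_431 : allRange 124128 288 (fun u => chkO1 tab orb u) = true := by decide +kernel


end Cfsg.Agent.Helper9.TCData.HeE0
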