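import Cfsg.Agent.Lib.Helper9.TCData.HeE0.Main

set_option autoImplicit false
set_option maxRecDepth 1000000

namespace Cfsg.Agent.Helper9.TCData.HeE0
open Cfsg.Agent.Helper9.TC2

theorem o1_432 : allRange 124416 288 (fun u => chkO1 tab orb u) = true := by decide +kernel

theorem o1_433 : allRange 124704 288 (fun u => chkO1 tab orb u) = true := by decide +kernel

theorem o1_434 : allRange 124992 288 (fun u => chkO1 tab orb u) = true := by decide +kernel

theorem o1_435 : allRange 125280 288 (fun u => chkO1 tab orb u) = true := by decide +kernel

theorem o1_436 : allRange 125568 288 (fun u => chkO1 tab orb u) = true := by decide +kernel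

theorem o1_437 : allRange 125856 288 (fun u => chkO1 tab orb u) = true := by decide +kernel

theorem o1_438 : allRange 126144 288 (fun u => chkO1 tab orb u) = true := by decide +kernel

theorem o1_439 : allRange 126432 288 (fun u => chkO1 tab orb u) = true := by decide +kernel


end Cfsg.Agent.Helper9.TCData.HeE0
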