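import Cfsg.Agent.Lib.Helper9.TCData.HeE0.Main

set_option autoImplicit false
set_option maxRecDepth 1000000

namespace Cfsg.Agent.Helper9.TCData.HeE0
open Cfsg.Agent.Helper9.TC2

theorem o1_440 : allRange 126720 288 (fun u => chkO1 tab orb u) = true := by decide +kernel

theorem o1_441 : allRange 127008 288 (fun u => chkO1 tab orb u) = true := by decide +kernel

theorem o1_442 : allRange 127296 288 (fun u => chkO1 tab orb u) = true := by decide +kernel

theorem o1_443 : allRange 127584 288 (fun u => chkO1 tab orb u) = true := by decide +kernel

theorem o1_444 : allRange 127872 288 (fun u => chkO1 tab orb u) = true := by decide +kernel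

theorem o1_445 : allRange 128160 288 (fun u => chkO1 tab orb u) = true := by decide +kernel

theorem o1_446 : allRange 128448 288 (fun u => chkO1 tab orb u) = true := by decide +kernel

theorem o1_447 : allRange 128736 288 (fun u => chkO1 tab orb u) = true := by decide +kernel


end Cfsg.Agent.Helper9.TCData.HeE0
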