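import Cfsg.Agent.Lib.Helper9.TCData.HeE0.Main

set_option autoImplicit false
set_option maxRecDepth 1000000

namespace Cfsg.Agent.Helper9.TCData.HeE0
open Cfsg.Agent.Helper9.TC2

theorem o1_448 : allRange 129024 288 (fun u => chkO1 tab orb u) = true := by decide +kernel

theorem o1_449 : allRange 129312 288 (fun u => chkO1 tab orb u) = true := by decide +kernel

theorem o1_450 : allRange 129600 288 (fun u => chkO1 tab orb u) = true := by decide +kernel

theorem o1_451 : allRange 129888 288 (fun u => chkO1 tab orb u) = true := by decide +kernel

theorem o1_452 : allRange 130176 288 (fun u => chkO1 tab orb u) = true := by decide +kernel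

theorem o1_453 : allRange 130464 288 (fun u => chkO1 tab orb u) = true := by decide +kernel

theorem o1_454 : allRange 130752 288 (fun u => chkO1 tab orb u) = true := by decide +kernel

theorem o1_455 : allRange 131040 288 (fun u => chkO1 tab orb u) = true := by decide +kernel


end Cfsg.Agent.Helper9.TCData.HeE0
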