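import Cfsg.Agent.Lib.Helper9.TCData.HeE0.Main

set_option autoImplicit false
set_option maxRecDepth 1000000

namespace Cfsg.Agent.Helper9.TCData.HeE0
open Cfsg.Agent.Helper9.TC2

theorem o1_456 : allRange 131328 288 (fun u => chkO1 tab orb u) = true := by decide +kernel

theorem o1_457 : allRange 131616 288 (fun u => chkO1 tab orb u) = true := by decide +kernel

theorem o1_458 : allRange 131904 288 (fun u => chkO1 tab orb u) = true := by decide +kernel

theorem o1_459 : allRange 132192 288 (fun u => chkO1 tab orb u) = true := by decide +kernel

theorem o1_460 : allRange 132480 288 (fun u => chkO1 tab orb u) = true := by decide +kernel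

theorem o1_461 : allRange 132768 288 (fun u => chkO1 tab orb u) = true := by decide +kernel

theorem o1_462 : allRange 133056 288 (fun u => chkO1 tab orb u) = true := by decide +kernel

theorem o1_463 : allRange 133344 288 (fun u => chkO1 tab orb u) = true := by decide +kernel


end Cfsg.Agent.Helper9.TCData.HeE0
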