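import Cfsg.Agent.Lib.Helper9.TCData.HeE0.Main

set_option autoImplicit false
set_option maxRecDepth 1000000

namespace Cfsg.Agent.Helper9.TCData.HeE0
open Cfsg.Agent.Helper9.TC2

theorem o1_464 : allRange 133632 288 (fun u => chkO1 tab orb u) = true := by decide +kernel

theorem o1_465 : allRange 133920 288 (fun u => chkO1 tab orb u) = true := by decide +kernel

theorem o1_466 : allRange 134208 288 (fun u => chkO1 tab orb u) = true := by decide +kernel

theorem o1_467 : allRange 134496 288 (fun u => chkO1 tab orb u) = true := by decide +kernel

theorem o1_468 : allRange 134784 288 (fun u => chkO1 tab orb u) = true := by decide +kernel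

theorem o1_469 : allRange 135072 288 (fun u => chkO1 tab orb u) = true := by decide +kernel

theorem o1_470 : allRange 135360 288 (fun u => chkO1 tab orb u) = true := by decide +kernel

theorem o1_471 : allRange 135648 288 (fun u => chkO1 tab orb u) = true := by decide +kernel


end Cfsg.Agent.Helper9.TCData.HeE0
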