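import Cfsg.Agent.Lib.Helper9.TCData.HeE0.Main

set_option autoImplicit false
set_option maxRecDepth 1000000

namespace Cfsg.Agent.Helper9.TCData.HeE0
open Cfsg.Agent.Helper9.TC2

theorem o1_472 : allRange 135936 288 (fun u => chkO1 tab orb u) = true := by decide +kernel

theorem o1_473 : allRange 136224 288 (fun u => chkO1 tab orb u) = true := by decide +kernel

theorem o1_474 : allRange 136512 288 (fun u => chkO1 tab orb u) = true := by decide +kernel

theorem o1_475 : allRange 136800 288 (fun u => chkO1 tab orb u) = true := by decide +kernel

theorem o1_476 : allRange 137088 288 (fun u => chkO1 tab orb u) = true := by decide +kernel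

theorem o1_477 : allRange 137376 288 (fun u => chkO1 tab orb u) = true := by decide +kernel

theorem o1_478 : allRange 137664 288 (fun u => chkO1 tab orb u) = true := by decide +kernel

theorem o1_479 : allRange 137952 288 (fun u => chkO1 tab orb u) = true := by decide +kernel


end Cfsg.Agent.Helper9.TCData.HeE0
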