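import Cfsg.Agent.Lib.Helper9.TCData.HeE0.Main

set_option autoImplicit false
set_option maxRecDepth 1000000

namespace Cfsg.Agent.Helper9.TCData.HeE0
open Cfsg.Agent.Helper9.TC2

theorem o1_480 : allRange 138240 288 (fun u => chkO1 tab orb u) = true := by decide +kernel

theorem o1_481 : allRange 138528 288 (fun u => chkO1 tab orb u) = true := by decide +kernel

theorem o1_482 : allRange 138816 288 (fun u => chkO1 tab orb u) = true := by decide +kernel

theorem o1_483 : allRange 139104 288 (fun u => chkO1 tab orb u) = true := by decide +kernel

theorem o1_484 : allRange 139392 288 (fun u => chkO1 tab orb u) = true := by decide +kernel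

theorem o1_485 : allRange 139680 288 (fun u => chkO1 tab orb u) = true := by decide +kernel

theorem o1_486 : allRange 139968 288 (fun u => chkO1 tab orb u) = true := by decide +kernel

theorem o1_487 : allRange 140256 288 (fun u => chkO1 tab orb u) = true := by decide +kernel


end Cfsg.Agent.Helper9.TCData.HeE0
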