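import Cfsg.Agent.Lib.Helper9.TCData.HeE0.Main

set_option autoImplicit false
set_option maxRecDepth 1000000

namespace Cfsg.Agent.Helper9.TCData.HeE0
open Cfsg.Agent.Helper9.TC2

theorem o1_488 : allRange 140544 288 (fun u => chkO1 tab orb u) = true := by decide +kernel

theorem o1_489 : allRange 140832 288 (fun u => chkO1 tab orb u) = true := by decide +kernel

theorem o1_490 : allRange 141120 288 (fun u => chkO1 tab orb u) = true := by decide +kernel

theorem o1_491 : allRange 141408 288 (fun u => chkO1 tab orb u) = true := by decide +kernel

theorem o1_492 : allRange 141696 288 (fun u => chkO1 tab orb u) = true := by decide +kernel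

theorem o1_493 : allRange 141984 288 (fun u => chkO1 tab orb u) = true := by decide +kernel

theorem o1_494 : allRange 142272 288 (fun u => chkO1 tab orb u) = true := by decide +kernel

theorem o1_495 : allRange 142560 288 (fun u => chkO1 tab orb u) = true := by decide +kernel


end Cfsg.Agent.Helper9.TCData.HeE0
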