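import Cfsg.Agent.Lib.Helper9.TCData.HeE0.Main

set_option autoImplicit false
set_option maxRecDepth 1000000

namespace Cfsg.Agent.Helper9.TCData.HeE0
open Cfsg.Agent.Helper9.TC2

theorem o1_496 : allRange 142848 288 (fun u => chkO1 tab orb u) = true := by decide +kernel

theorem o1_497 : allRange 143136 288 (fun u => chkO1 tab orb u) = true := by decide +kernel

theorem o1_498 : allRange 143424 288 (fun u => chkO1 tab orb u) = true := by decide +kernel

theorem o1_499 : allRange 143712 288 (fun u => chkO1 tab orb u) = true := by decide +kernel

theorem o1_500 : allRange 144000 288 (fun u => chkO1 tab orb u) = true := by decide +kernel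

theorem o1_501 : allRange 144288 288 (fun u => chkO1 tab orb u) = true := by decide +kernel

theorem o1_502 : allRange 144576 288 (fun u => chkO1 tab orb u) = true := by decide +kernel

theorem o1_503 : allRange 144864 288 (fun u => chkO1 tab orb u) = true := by decide +kernel


end Cfsg.Agent.Helper9.TCData.HeE0
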