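import Cfsg.Agent.Lib.Helper9.TCData.HeE0.Main

set_option autoImplicit false
set_option maxRecDepth 1000000

namespace Cfsg.Agent.Helper9.TCData.HeE0
open Cfsg.Agent.Helper9.TC2

theorem o1_512 : allRange 147456 288 (fun u => chkO1 tab orb u) = true := by decide +kernel

theorem o1_513 : allRange 147744 288 (fun u => chkO1 tab orb u) = true := by decide +kernel

theorem o1_514 : allRange 148032 288 (fun u => chkO1 tab orb u) = true := by decide +kernel

theorem o1_515 : allRange 148320 288 (fun u => chkO1 tab orb u) = true := by decide +kernel

theorem o1_516 : allRange 148608 288 (fun u => chkO1 tab orb u) = true := by decide +kernel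

theorem o1_517 : allRange 148896 288 (fun u => chkO1 tab orb u) = true := by decide +kernel

theorem o1_518 : allRange 149184 288 (fun u => chkO1 tab orb u) = true := by decide +kernel

theorem o1_519 : allRange 149472 288 (fun u => chkO1 tab orb u) = true := by decide +kernel


end Cfsg.Agent.Helper9.TCData.HeE0
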