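import Cfsg.Agent.Lib.Helper9.TCData.HeE0.Main

set_option autoImplicit false
set_option maxRecDepth 1000000

namespace Cfsg.Agent.Helper9.TCData.HeE0
open Cfsg.Agent.Helper9.TC2

theorem o1_528 : allRange 152064 288 (fun u => chkO1 tab orb u) = true := by decide +kernel

theorem o1_529 : allRange 152352 288 (fun u => chkO1 tab orb u) = true := by decide +kernel

theorem o1_530 : allRange 152640 288 (fun u => chkO1 tab orb u) = true := by decide +kernel

theorem o1_531 : allRange 152928 288 (fun u => chkO1 tab orb u) = true := by decide +kernel

theorem o1_532 : allRange 153216 288 (fun u => chkO1 tab orb u) = true := by decide +kernel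

theorem o1_533 : allRange 153504 288 (fun u => chkO1 tab orb u) = true := by decide +kernel

theorem o1_534 : allRange 153792 288 (fun u => chkO1 tab orb u) = true := by decide +kernel

theorem o1_535 : allRange 154080 288 (fun u => chkO1 tab orb u) = true := by decide +kernel


end Cfsg.Agent.Helper9.TCData.HeE0
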