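import Cfsg.Agent.Lib.Helper9.TCData.HeE0.Main

set_option autoImplicit false
set_option maxRecDepth 1000000

namespace Cfsg.Agent.Helper9.TCData.HeE0
open Cfsg.Agent.Helper9.TC2

theorem o1_544 : allRange 156672 288 (fun u => chkO1 tab orb u) = true := by decide +kernel

theorem o1_545 : allRange 156960 288 (fun u => chkO1 tab orb u) = true := by decide +kernel

theorem o1_546 : allRange 157248 288 (fun u => chkO1 tab orb u) = true := by decide +kernel

theorem o1_547 : allRange 157536 288 (fun u => chkO1 tab orb u) = true := by decide +kernel

theorem o1_548 : allRange 157824 288 (fun u => chkO1 tab orb u) = true := by decide +kernel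

theorem o1_549 : allRange 158112 288 (fun u => chkO1 tab orb u) = true := by decide +kernel

theorem o1_550 : allRange 158400 288 (fun u => chkO1 tab orb u) = true := by decide +kernel

theorem o1_551 : allRange 158688 288 (fun u => chkO1 tab orb u) = true := by decide +kernel


end Cfsg.Agent.Helper9.TCData.HeE0
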