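import Cfsg.Agent.Lib.Helper9.TCData.HeE0.Main

set_option autoImplicit false
set_option maxRecDepth 1000000

namespace Cfsg.Agent.Helper9.TCData.HeE0
open Cfsg.Agent.Helper9.TC2

theorem o1_552 : allRange 158976 288 (fun u => chkO1 tab orb u) = true := by decide +kernel

theorem o1_553 : allRange 159264 288 (fun u => chkO1 tab orb u) = true := by decide +kernel

theorem o1_554 : allRange 159552 288 (fun u => chkO1 tab orb u) = true := by decide +kernel

theorem o1_555 : allRange 159840 288 (fun u => chkO1 tab orb u) = true := by decide +kernel

theorem o1_556 : allRange 160128 288 (fun u => chkO1 tab orb u) = true := by decide +kernel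

theorem o1_557 : allRange 160416 288 (fun u => chkO1 tab orb u) = true := by decide +kernel

theorem o1_558 : allRange 160704 288 (fun u => chkO1 tab orb u) = true := by decide +kernel

theorem o1_559 : allRange 160992 288 (fun u => chkO1 tab orb u) = true := by decide +kernel


end Cfsg.Agent.Helper9.TCData.HeE0
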