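import Cfsg.Agent.Lib.Helper9.TCData.HeE0.Main

set_option autoImplicit false
set_option maxRecDepth 1000000

namespace Cfsg.Agent.Helper9.TCData.HeE0
open Cfsg.Agent.Helper9.TC2

theorem e5_39 : allRange 117982 2811 (fun u => chkE tab 5 u) = true := by decide +kernel

theorem e5_40 : allRange 120793 2608 (fun u => chkE tab 5 u) = true := by decide +kernel

theorem e5_41 : allRange 123401 2662 (fun u => chkE tab 5 u) = true := by decide +kernel

theorem e5_42 : allRange 126063 2635 (fun u => chkE tab 5 u) = true := by decide +kernel

theorem e5_43 : allRange 128698 2638 (fun u => chkE tab 5 u) = true := by decide +kernel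

theorem e5_44 : allRange 131336 2735 (fun u => chkE tab 5 u) = true := by decide +kernel

theorem e5_45 : allRange 134071 2653 (fun u => chkE tab 5 u) = true := by decide +kernel

theorem e5_46 : allRange 136724 2702 (fun u => chkE tab 5 u) = true := by decide +kernel


end Cfsg.Agent.Helper9.TCData.HeE0
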