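import Cfsg.Agent.Lib.Helper9.TCData.HeE0.Main

set_option autoImplicit false
set_option maxRecDepth 1000000

namespace Cfsg.Agent.Helper9.TCData.HeE0
open Cfsg.Agent.Helper9.TC2

theorem o1_568 : allRange 163584 288 (fun u => chkO1 tab orb u) = true := by decide +kernel

theorem o1_569 : allRange 163872 288 (fun u => chkO1 tab orb u) = true := by decide +kernel

theorem o1_570 : allRange 164160 288 (fun u => chkO1 tab orb u) = true := by decide +kernel

theorem o1_571 : allRange 164448 288 (fun u => chkO1 tab orb u) = true := by decide +kernel

theorem o1_572 : allRange 164736 288 (fun u => chkO1 tab orb u) = true := by decide +kernel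

theorem o1_573 : allRange 165024 288 (fun u => chkO1 tab orb u) = true := by decide +kernel

theorem o1_574 : allRange 165312 288 (fun u => chkO1 tab orb u) = true := by decide +kernel

theorem o1_575 : allRange 165600 288 (fun u => chkO1 tab orb u) = true := by decide +kernel


end Cfsg.Agent.Helper9.TCData.HeE0
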