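import Cfsg.Agent.Lib.Helper9.TCData.HeE0.Main

set_option autoImplicit false
set_option maxRecDepth 1000000

namespace Cfsg.Agent.Helper9.TCData.HeE0
open Cfsg.Agent.Helper9.TC2

theorem o1_576 : allRange 165888 288 (fun u => chkO1 tab orb u) = true := by decide +kernel

theorem o1_577 : allRange 166176 288 (fun u => chkO1 tab orb u) = true := by decide +kernel

theorem o1_578 : allRange 166464 288 (fun u => chkO1 tab orb u) = true := by decide +kernel

theorem o1_579 : allRange 166752 288 (fun u => chkO1 tab orb u) = true := by decide +kernel

theorem o1_580 : allRange 167040 288 (fun u => chkO1 tab orb u) = true := by decide +kernel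

theorem o1_581 : allRange 167328 288 (fun u => chkO1 tab orb u) = true := by decide +kernel

theorem o1_582 : allRange 167616 288 (fun u => chkO1 tab orb u) = true := by decide +kernel

theorem o1_583 : allRange 167904 288 (fun u => chkO1 tab orb u) = true := by decide +kernel


end Cfsg.Agent.Helper9.TCData.HeE0
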