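import Cfsg.Agent.Lib.Helper9.TCData.HeE0.Main

set_option autoImplicit false
set_option maxRecDepth 1000000

namespace Cfsg.Agent.Helper9.TCData.HeE0
open Cfsg.Agent.Helper9.TC2

theorem o1_584 : allRange 168192 288 (fun u => chkO1 tab orb u) = true := by decide +kernel

theorem o1_585 : allRange 168480 288 (fun u => chkO1 tab orb u) = true := by decide +kernel

theorem o1_586 : allRange 168768 288 (fun u => chkO1 tab orb u) = true := by decide +kernel

theorem o1_587 : allRange 169056 288 (fun u => chkO1 tab orb u) = true := by decide +kernel

theorem o1_588 : allRange 169344 288 (fun u => chkO1 tab orb u) = true := by decide +kernel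

theorem o1_589 : allRange 169632 288 (fun u => chkO1 tab orb u) = true := by decide +kernel

theorem o1_590 : allRange 169920 288 (fun u => chkO1 tab orb u) = true := by decide +kernel

theorem o1_591 : allRange 170208 288 (fun u => chkO1 tab orb u) = true := by decide +kernel


end Cfsg.Agent.Helper9.TCData.HeE0
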