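import Cfsg.Agent.Lib.Helper9.TCData.HeE0.Main

set_option autoImplicit false
set_option maxRecDepth 1000000

namespace Cfsg.Agent.Helper9.TCData.HeE0
open Cfsg.Agent.Helper9.TC2

theorem o1_624 : allRange 179712 288 (fun u => chkO1 tab orb u) = true := by decide +kernel

theorem o1_625 : allRange 180000 288 (fun u => chkO1 tab orb u) = true := by decide +kernel

theorem o1_626 : allRange 180288 288 (fun u => chkO1 tab orb u) = true := by decide +kernel

theorem o1_627 : allRange 180576 288 (fun u => chkO1 tab orb u) = true := by decide +kernel

theorem o1_628 : allRange 180864 288 (fun u => chkO1 tab orb u) = true := by decide +kernel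

theorem o1_629 : allRange 181152 288 (fun u => chkO1 tab orb u) = true := by decide +kernel

theorem o1_630 : allRange 181440 288 (fun u => chkO1 tab orb u) = true := by decide +kernel

theorem o1_631 : allRange 181728 288 (fun u => chkO1 tab orb u) = true := by decide +kernel


end Cfsg.Agent.Helper9.TCData.HeE0
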