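import Cfsg.Agent.Lib.Helper9.TCData.HeE0.Main

set_option autoImplicit false
set_option maxRecDepth 1000000

namespace Cfsg.Agent.Helper9.TCData.HeE0
open Cfsg.Agent.Helper9.TC2

theorem o1_632 : allRange 182016 288 (fun u => chkO1 tab orb u) = true := by decide +kernel

theorem o1_633 : allRange 182304 288 (fun u => chkO1 tab orb u) = true := by decide +kernel

theorem o1_634 : allRange 182592 288 (fun u => chkO1 tab orb u) = true := by decide +kernel

theorem o1_635 : allRange 182880 288 (fun u => chkO1 tab orb u) = true := by decide +kernel

theorem o1_636 : allRange 183168 288 (fun u => chkO1 tab orb u) = true := by decide +kernel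

theorem o1_637 : allRange 183456 288 (fun u => chkO1 tab orb u) = true := by decide +kernel

theorem o1_638 : allRange 183744 288 (fun u => chkO1 tab orb u) = true := by decide +kernel

theorem o1_639 : allRange 184032 288 (fun u => chkO1 tab orb u) = true := by decide +kernel


end Cfsg.Agent.Helper9.TCData.HeE0
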