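import Cfsg.Agent.Lib.Helper9.TCData.HeE0.Main

set_option autoImplicit false
set_option maxRecDepth 1000000

namespace Cfsg.Agent.Helper9.TCData.HeE0
open Cfsg.Agent.Helper9.TC2

theorem o2_53 : allRange 70702 1334 (fun u => chkO2 tab orb u) = true := by decide +kernel

theorem o2_54 : allRange 72036 1334 (fun u => chkO2 tab orb u) = true := by decide +kernel

theorem o2_55 : allRange 73370 1334 (fun u => chkO2 tab orb u) = true := by decide +kernel

theorem o2_56 : allRange 74704 1334 (fun u => chkO2 tab orb u) = true := by decide +kernel

theorem o2_57 : allRange 76038 1334 (fun u => chkO2 tab orb u) = true := by decide +kernel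

theorem o2_58 : allRange 77372 1334 (fun u => chkO2 tab orb u) = true := by decide +kernel

theorem o2_59 : allRange 78706 1334 (fun u => chkO2 tab orb u) = true := by decide +kernel

theorem o2_60 : allRange 80040 1334 (fun u => chkO2 tab orb u) = true := by decide +kernel


end Cfsg.Agent.Helper9.TCData.HeE0
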