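import Cfsg.Agent.Lib.Helper9.TCData.HeE0.Main

set_option autoImplicit false
set_option maxRecDepth 1000000

namespace Cfsg.Agent.Helper9.TCData.HeE0
open Cfsg.Agent.Helper9.TC2

theorem e5_55 : allRange 160811 2707 (fun u => chkE tab 5 u) = true := by decide +kernel

theorem e5_56 : allRange 163518 2751 (fun u => chkE tab 5 u) = true := by decide +kernel

theorem e5_57 : allRange 166269 2673 (fun u => chkE tab 5 u) = true := by decide +kernel

theorem e5_58 : allRange 168942 2737 (fun u => chkE tab 5 u) = true := by decide +kernel

theorem e5_59 : allRange 171679 2869 (fun u => chkE tab 5 u) = true := by decide +kernel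

theorem e5_60 : allRange 174548 2864 (fun u => chkE tab 5 u) = true := by decide +kernel

theorem e5_61 : allRange 177412 2785 (fun u => chkE tab 5 u) = true := by decide +kernel

theorem e5_62 : allRange 180197 2884 (fun u => chkE tab 5 u) = true := by decide +kernel


end Cfsg.Agent.Helper9.TCData.HeE0
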