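import Cfsg.Agent.Lib.Helper9.TCData.HeE0.Main

set_option autoImplicit false
set_option maxRecDepth 1000000

namespace Cfsg.Agent.Helper9.TCData.HeE0
open Cfsg.Agent.Helper9.TC2

theorem o2_93 : allRange 124062 1334 (fun u => chkO2 tab orb u) = true := by decide +kernel

theorem o2_94 : allRange 125396 1334 (fun u => chkO2 tab orb u) = true := by decide +kernel

theorem o2_95 : allRange 126730 1334 (fun u => chkO2 tab orb u) = true := by decide +kernel

theorem o2_96 : allRange 128064 1334 (fun u => chkO2 tab orb u) = true := by decide +kernel

theorem o2_97 : allRange 129398 1334 (fun u => chkO2 tab orb u) = true := by decide +kernel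

theorem o2_98 : allRange 130732 1334 (fun u => chkO2 tab orb u) = true := by decide +kernel

theorem o2_99 : allRange 132066 1334 (fun u => chkO2 tab orb u) = true := by decide +kernel

theorem o2_100 : allRange 133400 1334 (fun u => chkO2 tab orb u) = true := by decide +kernel


end Cfsg.Agent.Helper9.TCData.HeE0
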