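import Cfsg.Agent.Lib.Helper9.TCData.HeE0.Main

set_option autoImplicit false
set_option maxRecDepth 1000000

namespace Cfsg.Agent.Helper9.TCData.HeE0
open Cfsg.Agent.Helper9.TC2

theorem o2_101 : allRange 134734 1334 (fun u => chkO2 tab orb u) = true := by decide +kernel

theorem o2_102 : allRange 136068 1334 (fun u => chkO2 tab orb u) = true := by decide +kernel

theorem o2_103 : allRange 137402 1334 (fun u => chkO2 tab orb u) = true := by decide +kernel

theorem o2_104 : allRange 138736 1334 (fun u => chkO2 tab orb u) = true := by decide +kernel

theorem o2_105 : allRange 140070 1334 (fun u => chkO2 tab orb u) = true := by decide +kernel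

theorem o2_106 : allRange 141404 1334 (fun u => chkO2 tab orb u) = true := by decide +kernel

theorem o2_107 : allRange 142738 1334 (fun u => chkO2 tab orb u) = true := by decide +kernel

theorem o2_108 : allRange 144072 1334 (fun u => chkO2 tab orb u) = true := by decide +kernel


end Cfsg.Agent.Helper9.TCData.HeE0
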