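import Cfsg.Agent.Lib.Helper9.TCData.HeE0.Main

set_option autoImplicit false
set_option maxRecDepth 1000000

namespace Cfsg.Agent.Helper9.TCData.HeE0
open Cfsg.Agent.Helper9.TC2

theorem o2_109 : allRange 145406 1334 (fun u => chkO2 tab orb u) = true := by decide +kernel

theorem o2_110 : allRange 146740 1334 (fun u => chkO2 tab orb u) = true := by decide +kernel

theorem o2_111 : allRange 148074 1334 (fun u => chkO2 tab orb u) = true := by decide +kernel

theorem o2_112 : allRange 149408 1334 (fun u => chkO2 tab orb u) = true := by decide +kernel

theorem o2_113 : allRange 150742 1334 (fun u => chkO2 tab orb u) = true := by decide +kernel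

theorem o2_114 : allRange 152076 1334 (fun u => chkO2 tab orb u) = true := by decide +kernel

theorem o2_115 : allRange 153410 1334 (fun u => chkO2 tab orb u) = true := by decide +kernel

theorem o2_116 : allRange 154744 1334 (fun u => chkO2 tab orb u) = true := by decide +kernel


end Cfsg.Agent.Helper9.TCData.HeE0
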