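import Cfsg.Agent.Lib.Helper9.TCData.HeE0.Main

set_option autoImplicit false
set_option maxRecDepth 1000000

namespace Cfsg.Agent.Helper9.TCData.HeE0
open Cfsg.Agent.Helper9.TC2

theorem o2_125 : allRange 166750 1334 (fun u => chkO2 tab orb u) = true := by decide +kernel

theorem o2_126 : allRange 168084 1334 (fun u => chkO2 tab orb u) = true := by decide +kernel

theorem o2_127 : allRange 169418 1334 (fun u => chkO2 tab orb u) = true := by decide +kernel

theorem o2_128 : allRange 170752 1334 (fun u => chkO2 tab orb u) = true := by decide +kernel

theorem o2_129 : allRange 172086 1334 (fun u => chkO2 tab orb u) = true := by decide +kernel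

theorem o2_130 : allRange 173420 1334 (fun u => chkO2 tab orb u) = true := by decide +kernel

theorem o2_131 : allRange 174754 1334 (fun u => chkO2 tab orb u) = true := by decide +kernel

theorem o2_132 : allRange 176088 1334 (fun u => chkO2 tab orb u) = true := by decide +kernel


end Cfsg.Agent.Helper9.TCData.HeE0
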