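import Cfsg.Agent.Lib.Helper9.TCData.HeE0.Main

set_option autoImplicit false
set_option maxRecDepth 1000000

namespace Cfsg.Agent.Helper9.TCData.HeE0
open Cfsg.Agent.Helper9.TC2

theorem e5_63 : allRange 183081 3110 (fun u => chkE tab 5 u) = true := by decide +kernel

theorem e5_64 : allRange 186191 3056 (fun u => chkE tab 5 u) = true := by decide +kernel

theorem e6_0 : allRange 0 3309 (fun u => chkE tab 6 u) = true := by decide +kernel

theorem e6_1 : allRange 3309 3357 (fun u => chkE tab 6 u) = true := by decide +kernel

theorem e6_2 : allRange 6666 3362 (fun u => chkE tab 6 u) = true := by decide +kernel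

theorem e6_3 : allRange 10028 3127 (fun u => chkE tab 6 u) = true := by decide +kernel

theorem e6_4 : allRange 13155 3138 (fun u => chkE tab 6 u) = true := by decide +kernel

theorem e6_5 : allRange 16293 3261 (fun u => chkE tab 6 u) = true := by decide +kernel


end Cfsg.Agent.Helper9.TCData.HeE0
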