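import Cfsg.Agent.Lib.Helper9.TCData.HeE0.Main

set_option autoImplicit false
set_option maxRecDepth 1000000

namespace Cfsg.Agent.Helper9.TCData.HeE0
open Cfsg.Agent.Helper9.TC2

theorem e6_6 : allRange 19554 3052 (fun u => chkE tab 6 u) = true := by decide +kernel

theorem e6_7 : allRange 22606 2885 (fun u => chkE tab 6 u) = true := by decide +kernel

theorem e6_8 : allRange 25491 2944 (fun u => chkE tab 6 u) = true := by decide +kernel

theorem e6_9 : allRange 28435 2950 (fun u => chkE tab 6 u) = true := by decide +kernel

theorem e6_10 : allRange 31385 3021 (fun u => chkE tab 6 u) = true := by decide +kernel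

theorem e6_11 : allRange 34406 2921 (fun u => chkE tab 6 u) = true := by decide +kernel

theorem e6_12 : allRange 37327 2840 (fun u => chkE tab 6 u) = true := by decide +kernel

theorem e6_13 : allRange 40167 2758 (fun u => chkE tab 6 u) = true := by decide +kernel


end Cfsg.Agent.Helper9.TCData.HeE0
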