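import Cfsg.Agent.Lib.Helper9.TCData.HeE0.Main

set_option autoImplicit false
set_option maxRecDepth 1000000

namespace Cfsg.Agent.Helper9.TCData.HeE0
open Cfsg.Agent.Helper9.TC2

theorem e6_14 : allRange 42925 2767 (fun u => chkE tab 6 u) = true := by decide +kernel

theorem e6_15 : allRange 45692 2981 (fun u => chkE tab 6 u) = true := by decide +kernel

theorem e6_16 : allRange 48673 2753 (fun u => chkE tab 6 u) = true := by decide +kernel

theorem e6_17 : allRange 51426 2962 (fun u => chkE tab 6 u) = true := by decide +kernel

theorem e6_18 : allRange 54388 2983 (fun u => chkE tab 6 u) = true := by decide +kernel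

theorem e6_19 : allRange 57371 2991 (fun u => chkE tab 6 u) = true := by decide +kernel

theorem e6_20 : allRange 60362 2916 (fun u => chkE tab 6 u) = true := by decide +kernel

theorem e6_21 : allRange 63278 2977 (fun u => chkE tab 6 u) = true := by decide +kernel


end Cfsg.Agent.Helper9.TCData.HeE0
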