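import Cfsg.Agent.Lib.Helper9.TCData.HeE0.Main

set_option autoImplicit false
set_option maxRecDepth 1000000

namespace Cfsg.Agent.Helper9.TCData.HeE0
open Cfsg.Agent.Helper9.TC2

theorem e6_22 : allRange 66255 2832 (fun u => chkE tab 6 u) = true := by decide +kernel

theorem e6_23 : allRange 69087 3049 (fun u => chkE tab 6 u) = true := by decide +kernel

theorem e6_24 : allRange 72136 2875 (fun u => chkE tab 6 u) = true := by decide +kernel

theorem e6_25 : allRange 75011 3021 (fun u => chkE tab 6 u) = true := by decide +kernel

theorem e6_26 : allRange 78032 2904 (fun u => chkE tab 6 u) = true := by decide +kernel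

theorem e6_27 : allRange 80936 2961 (fun u => chkE tab 6 u) = true := by decide +kernel

theorem e6_28 : allRange 83897 2985 (fun u => chkE tab 6 u) = true := by decide +kernel

theorem e6_29 : allRange 86882 2877 (fun u => chkE tab 6 u) = true := by decide +kernel


end Cfsg.Agent.Helper9.TCData.HeE0
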