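import Cfsg.Agent.Lib.Helper9.TCData.HeE0.Main

set_option autoImplicit false
set_option maxRecDepth 1000000

namespace Cfsg.Agent.Helper9.TCData.HeE0
open Cfsg.Agent.Helper9.TC2

theorem e6_30 : allRange 89759 2953 (fun u => chkE tab 6 u) = true := by decide +kernel

theorem e6_31 : allRange 92712 3032 (fun u => chkE tab 6 u) = true := by decide +kernel

theorem e6_32 : allRange 95744 2997 (fun u => chkE tab 6 u) = true := by decide +kernel

theorem e6_33 : allRange 98741 2849 (fun u => chkE tab 6 u) = true := by decide +kernel

theorem e6_34 : allRange 101590 2774 (fun u => chkE tab 6 u) = true := by decide +kernel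

theorem e6_35 : allRange 104364 2571 (fun u => chkE tab 6 u) = true := by decide +kernel

theorem e6_36 : allRange 106935 2695 (fun u => chkE tab 6 u) = true := by decide +kernel

theorem e6_37 : allRange 109630 2718 (fun u => chkE tab 6 u) = true := by decide +kernel


end Cfsg.Agent.Helper9.TCData.HeE0
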