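import Cfsg.Agent.Lib.Helper9.TCData.HeE0.Main

set_option autoImplicit false
set_option maxRecDepth 1000000

namespace Cfsg.Agent.Helper9.TCData.HeE0
open Cfsg.Agent.Helper9.TC2

theorem e6_38 : allRange 112348 2612 (fun u => chkE tab 6 u) = true := by decide +kernel

theorem e6_39 : allRange 114960 2602 (fun u => chkE tab 6 u) = true := by decide +kernel

theorem e6_40 : allRange 117562 2740 (fun u => chkE tab 6 u) = true := by decide +kernel

theorem e6_41 : allRange 120302 2597 (fun u => chkE tab 6 u) = true := by decide +kernel

theorem e6_42 : allRange 122899 2576 (fun u => chkE tab 6 u) = true := by decide +kernel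

theorem e6_43 : allRange 125475 2556 (fun u => chkE tab 6 u) = true := by decide +kernel

theorem e6_44 : allRange 128031 2542 (fun u => chkE tab 6 u) = true := by decide +kernel

theorem e6_45 : allRange 130573 2567 (fun u => chkE tab 6 u) = true := by decide +kernel


end Cfsg.Agent.Helper9.TCData.HeE0
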