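import Cfsg.Agent.Lib.Helper9.TCData.HeE0.Main

set_option autoImplicit false
set_option maxRecDepth 1000000

namespace Cfsg.Agent.Helper9.TCData.HeE0
open Cfsg.Agent.Helper9.TC2

theorem e6_46 : allRange 133140 2505 (fun u => chkE tab 6 u) = true := by decide +kernel

theorem e6_47 : allRange 135645 2615 (fun u => chkE tab 6 u) = true := by decide +kernel

theorem e6_48 : allRange 138260 2550 (fun u => chkE tab 6 u) = true := by decide +kernel

theorem e6_49 : allRange 140810 2559 (fun u => chkE tab 6 u) = true := by decide +kernel

theorem e6_50 : allRange 143369 2657 (fun u => chkE tab 6 u) = true := by decide +kernel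

theorem e6_51 : allRange 146026 2475 (fun u => chkE tab 6 u) = true := by decide +kernel

theorem e6_52 : allRange 148501 2596 (fun u => chkE tab 6 u) = true := by decide +kernel

theorem e6_53 : allRange 151097 2620 (fun u => chkE tab 6 u) = true := by decide +kernel


end Cfsg.Agent.Helper9.TCData.HeE0
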