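import Cfsg.Agent.Lib.Helper9.TCData.HeE0.Main

set_option autoImplicit false
set_option maxRecDepth 1000000

namespace Cfsg.Agent.Helper9.TCData.HeE0
open Cfsg.Agent.Helper9.TC2

theorem e0_48 : allRange 112320 2045 (fun u => chkE tab 0 u) = true := by decide +kernel

theorem e0_49 : allRange 114365 2643 (fun u => chkE tab 0 u) = true := by decide +kernel

theorem e0_50 : allRange 117008 2067 (fun u => chkE tab 0 u) = true := by decide +kernel

theorem e0_51 : allRange 119075 2321 (fun u => chkE tab 0 u) = true := by decide +kernel

theorem e0_52 : allRange 121396 2661 (fun u => chkE tab 0 u) = true := by decide +kernel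

theorem e0_53 : allRange 124057 2350 (fun u => chkE tab 0 u) = true := by decide +kernel

theorem e0_54 : allRange 126407 2420 (fun u => chkE tab 0 u) = true := by decide +kernel

theorem e0_55 : allRange 128827 2470 (fun u => chkE tab 0 u) = true := by decide +kernel


end Cfsg.Agent.Helper9.TCData.HeE0
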