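import Cfsg.Agent.Lib.Helper9.TCData.HeE0.Main

set_option autoImplicit false
set_option maxRecDepth 1000000

namespace Cfsg.Agent.Helper9.TCData.HeE0
open Cfsg.Agent.Helper9.TC2

theorem e6_62 : allRange 174894 2794 (fun u => chkE tab 6 u) = true := by decide +kernel

theorem e6_63 : allRange 177688 2693 (fun u => chkE tab 6 u) = true := by decide +kernel

theorem e6_64 : allRange 180381 2894 (fun u => chkE tab 6 u) = true := by decide +kernel

theorem e6_65 : allRange 183275 3161 (fun u => chkE tab 6 u) = true := by decide +kernel

theorem e6_66 : allRange 186436 2811 (fun u => chkE tab 6 u) = true := by decide +kernel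


end Cfsg.Agent.Helper9.TCData.HeE0
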