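import Cfsg.Agent.Lib.Helper9.TCData.HeE0.Main

set_option autoImplicit false
set_option maxRecDepth 1000000

namespace Cfsg.Agent.Helper9.TCData.HeE0
open Cfsg.Agent.Helper9.TC2

theorem e0_56 : allRange 131297 2498 (fun u => chkE tab 0 u) = true := by decide +kernel

theorem e0_57 : allRange 133795 2488 (fun u => chkE tab 0 u) = true := by decide +kernel

theorem e0_58 : allRange 136283 2757 (fun u => chkE tab 0 u) = true := by decide +kernel

theorem e0_59 : allRange 139040 2430 (fun u => chkE tab 0 u) = true := by decide +kernel

theorem e0_60 : allRange 141470 2851 (fun u => chkE tab 0 u) = true := by decide +kernel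

theorem e0_61 : allRange 144321 2771 (fun u => chkE tab 0 u) = true := by decide +kernel

theorem e0_62 : allRange 147092 2441 (fun u => chkE tab 0 u) = true := by decide +kernel

theorem e0_63 : allRange 149533 2213 (fun u => chkE tab 0 u) = true := by decide +kernel


end Cfsg.Agent.Helper9.TCData.HeE0
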