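import Cfsg.Agent.Lib.Helper9.TCData.HeE0.Main

set_option autoImplicit false
set_option maxRecDepth 1000000

namespace Cfsg.Agent.Helper9.TCData.HeE0
open Cfsg.Agent.Helper9.TC2

theorem f_96 : allRange 33408 348 (fun u => chkFin tab u) = true := by decide +kernel

theorem f_97 : allRange 33756 348 (fun u => chkFin tab u) = true := by decide +kernel

theorem f_98 : allRange 34104 348 (fun u => chkFin tab u) = true := by decide +kernel

theorem f_99 : allRange 34452 348 (fun u => chkFin tab u) = true := by decide +kernel

theorem f_100 : allRange 34800 348 (fun u => chkFin tab u) = true := by decide +kernel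

theorem f_101 : allRange 35148 348 (fun u => chkFin tab u) = true := by decide +kernel

theorem f_102 : allRange 35496 348 (fun u => chkFin tab u) = true := by decide +kernel

theorem f_103 : allRange 35844 348 (fun u => chkFin tab u) = true := by decide +kernel


end Cfsg.Agent.Helper9.TCData.HeE0
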