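import Cfsg.Agent.Lib.Helper9.TCData.HeE0.Main

set_option autoImplicit false
set_option maxRecDepth 1000000

namespace Cfsg.Agent.Helper9.TCData.HeE0
open Cfsg.Agent.Helper9.TC2

theorem f_112 : allRange 38976 348 (fun u => chkFin tab u) = true := by decide +kernel

theorem f_113 : allRange 39324 348 (fun u => chkFin tab u) = true := by decide +kernel

theorem f_114 : allRange 39672 348 (fun u => chkFin tab u) = true := by decide +kernel

theorem f_115 : allRange 40020 348 (fun u => chkFin tab u) = true := by decide +kernel

theorem f_116 : allRange 40368 348 (fun u => chkFin tab u) = true := by decide +kernel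

theorem f_117 : allRange 40716 348 (fun u => chkFin tab u) = true := by decide +kernel

theorem f_118 : allRange 41064 348 (fun u => chkFin tab u) = true := by decide +kernel

theorem f_119 : allRange 41412 348 (fun u => chkFin tab u) = true := by decide +kernel


end Cfsg.Agent.Helper9.TCData.HeE0
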