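import Cfsg.Agent.Lib.Helper9.TCData.HeE0.Main

set_option autoImplicit false
set_option maxRecDepth 1000000

namespace Cfsg.Agent.Helper9.TCData.HeE0
open Cfsg.Agent.Helper9.TC2

theorem f_120 : allRange 41760 348 (fun u => chkFin tab u) = true := by decide +kernel

theorem f_121 : allRange 42108 348 (fun u => chkFin tab u) = true := by decide +kernel

theorem f_122 : allRange 42456 348 (fun u => chkFin tab u) = true := by decide +kernel

theorem f_123 : allRange 42804 348 (fun u => chkFin tab u) = true := by decide +kernel

theorem f_124 : allRange 43152 348 (fun u => chkFin tab u) = true := by decide +kernel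

theorem f_125 : allRange 43500 348 (fun u => chkFin tab u) = true := by decide +kernel

theorem f_126 : allRange 43848 348 (fun u => chkFin tab u) = true := by decide +kernel

theorem f_127 : allRange 44196 348 (fun u => chkFin tab u) = true := by decide +kernel


end Cfsg.Agent.Helper9.TCData.HeE0
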