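import Cfsg.Agent.Lib.Helper9.TCData.HeE0.Main

set_option autoImplicit false
set_option maxRecDepth 1000000

namespace Cfsg.Agent.Helper9.TCData.HeE0
open Cfsg.Agent.Helper9.TC2

theorem e0_64 : allRange 151746 2823 (fun u => chkE tab 0 u) = true := by decide +kernel

theorem e0_65 : allRange 154569 2359 (fun u => chkE tab 0 u) = true := by decide +kernel

theorem e0_66 : allRange 156928 2918 (fun u => chkE tab 0 u) = true := by decide +kernel

theorem e0_67 : allRange 159846 2607 (fun u => chkE tab 0 u) = true := by decide +kernel

theorem e0_68 : allRange 162453 2842 (fun u => chkE tab 0 u) = true := by decide +kernel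

theorem e0_69 : allRange 165295 2897 (fun u => chkE tab 0 u) = true := by decide +kernel

theorem e0_70 : allRange 168192 3012 (fun u => chkE tab 0 u) = true := by decide +kernel

theorem e0_71 : allRange 171204 2829 (fun u => chkE tab 0 u) = true := by decide +kernel


end Cfsg.Agent.Helper9.TCData.HeE0
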