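import Cfsg.Agent.Lib.Helper9.TCData.HeE0.Main

set_option autoImplicit false
set_option maxRecDepth 1000000

namespace Cfsg.Agent.Helper9.TCData.HeE0
open Cfsg.Agent.Helper9.TC2

theorem f_144 : allRange 50112 348 (fun u => chkFin tab u) = true := by decide +kernel

theorem f_145 : allRange 50460 348 (fun u => chkFin tab u) = true := by decide +kernel

theorem f_146 : allRange 50808 348 (fun u => chkFin tab u) = true := by decide +kernel

theorem f_147 : allRange 51156 348 (fun u => chkFin tab u) = true := by decide +kernel

theorem f_148 : allRange 51504 348 (fun u => chkFin tab u) = true := by decide +kernel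

theorem f_149 : allRange 51852 348 (fun u => chkFin tab u) = true := by decide +kernel

theorem f_150 : allRange 52200 348 (fun u => chkFin tab u) = true := by decide +kernel

theorem f_151 : allRange 52548 348 (fun u => chkFin tab u) = true := by decide +kernel


end Cfsg.Agent.Helper9.TCData.HeE0
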