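import Cfsg.Agent.Lib.Helper9.TCData.HeE0.Main

set_option autoImplicit false
set_option maxRecDepth 1000000

namespace Cfsg.Agent.Helper9.TCData.HeE0
open Cfsg.Agent.Helper9.TC2

theorem f_152 : allRange 52896 348 (fun u => chkFin tab u) = true := by decide +kernel

theorem f_153 : allRange 53244 348 (fun u => chkFin tab u) = true := by decide +kernel

theorem f_154 : allRange 53592 348 (fun u => chkFin tab u) = true := by decide +kernel

theorem f_155 : allRange 53940 348 (fun u => chkFin tab u) = true := by decide +kernel

theorem f_156 : allRange 54288 348 (fun u => chkFin tab u) = true := by decide +kernel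

theorem f_157 : allRange 54636 348 (fun u => chkFin tab u) = true := by decide +kernel

theorem f_158 : allRange 54984 348 (fun u => chkFin tab u) = true := by decide +kernel

theorem f_159 : allRange 55332 348 (fun u => chkFin tab u) = true := by decide +kernel


end Cfsg.Agent.Helper9.TCData.HeE0
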