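import Cfsg.Agent.Lib.Helper9.TCData.HeE0.Main

set_option autoImplicit false
set_option maxRecDepth 1000000

namespace Cfsg.Agent.Helper9.TCData.HeE0
open Cfsg.Agent.Helper9.TC2

theorem f_160 : allRange 55680 348 (fun u => chkFin tab u) = true := by decide +kernel

theorem f_161 : allRange 56028 348 (fun u => chkFin tab u) = true := by decide +kernel

theorem f_162 : allRange 56376 348 (fun u => chkFin tab u) = true := by decide +kernel

theorem f_163 : allRange 56724 348 (fun u => chkFin tab u) = true := by decide +kernel

theorem f_164 : allRange 57072 348 (fun u => chkFin tab u) = true := by decide +kernel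

theorem f_165 : allRange 57420 348 (fun u => chkFin tab u) = true := by decide +kernel

theorem f_166 : allRange 57768 348 (fun u => chkFin tab u) = true := by decide +kernel

theorem f_167 : allRange 58116 348 (fun u => chkFin tab u) = true := by decide +kernel


end Cfsg.Agent.Helper9.TCData.HeE0
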