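import Cfsg.Agent.Lib.Helper9.TCData.HeE0.Main

set_option autoImplicit false
set_option maxRecDepth 1000000

namespace Cfsg.Agent.Helper9.TCData.HeE0
open Cfsg.Agent.Helper9.TC2

theorem f_176 : allRange 61248 348 (fun u => chkFin tab u) = true := by decide +kernel

theorem f_177 : allRange 61596 348 (fun u => chkFin tab u) = true := by decide +kernel

theorem f_178 : allRange 61944 348 (fun u => chkFin tab u) = true := by decide +kernel

theorem f_179 : allRange 62292 348 (fun u => chkFin tab u) = true := by decide +kernel

theorem f_180 : allRange 62640 348 (fun u => chkFin tab u) = true := by decide +kernel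

theorem f_181 : allRange 62988 348 (fun u => chkFin tab u) = true := by decide +kernel

theorem f_182 : allRange 63336 348 (fun u => chkFin tab u) = true := by decide +kernel

theorem f_183 : allRange 63684 348 (fun u => chkFin tab u) = true := by decide +kernel


end Cfsg.Agent.Helper9.TCData.HeE0
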