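import Cfsg.Agent.Lib.Helper9.TCData.HeE0.Main

set_option autoImplicit false
set_option maxRecDepth 1000000

namespace Cfsg.Agent.Helper9.TCData.HeE0
open Cfsg.Agent.Helper9.TC2

theorem f_208 : allRange 72384 348 (fun u => chkFin tab u) = true := by decide +kernel

theorem f_209 : allRange 72732 348 (fun u => chkFin tab u) = true := by decide +kernel

theorem f_210 : allRange 73080 348 (fun u => chkFin tab u) = true := by decide +kernel

theorem f_211 : allRange 73428 348 (fun u => chkFin tab u) = true := by decide +kernel

theorem f_212 : allRange 73776 348 (fun u => chkFin tab u) = true := by decide +kernel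

theorem f_213 : allRange 74124 348 (fun u => chkFin tab u) = true := by decide +kernel

theorem f_214 : allRange 74472 348 (fun u => chkFin tab u) = true := by decide +kernel

theorem f_215 : allRange 74820 348 (fun u => chkFin tab u) = true := by decide +kernel


end Cfsg.Agent.Helper9.TCData.HeE0
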