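import Cfsg.Agent.Lib.Helper9.TCData.HeE0.Main

set_option autoImplicit false
set_option maxRecDepth 1000000

namespace Cfsg.Agent.Helper9.TCData.HeE0
open Cfsg.Agent.Helper9.TC2

theorem e0_72 : allRange 174033 3186 (fun u => chkE tab 0 u) = true := by decide +kernel

theorem e0_73 : allRange 177219 2732 (fun u => chkE tab 0 u) = true := by decide +kernel

theorem e0_74 : allRange 179951 2936 (fun u => chkE tab 0 u) = true := by decide +kernel

theorem e0_75 : allRange 182887 3274 (fun u => chkE tab 0 u) = true := by decide +kernel

theorem e0_76 : allRange 186161 3086 (fun u => chkE tab 0 u) = true := by decide +kernel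

theorem e1_0 : allRange 0 2276 (fun u => chkE tab 1 u) = true := by decide +kernel

theorem e1_1 : allRange 2276 2241 (fun u => chkE tab 1 u) = true := by decide +kernel

theorem e1_2 : allRange 4517 2221 (fun u => chkE tab 1 u) = true := by decide +kernel


end Cfsg.Agent.Helper9.TCData.HeE0
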