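import Cfsg.Agent.Lib.Helper9.TCData.HeE0.Main

set_option autoImplicit false
set_option maxRecDepth 1000000

namespace Cfsg.Agent.Helper9.TCData.HeE0
open Cfsg.Agent.Helper9.TC2

theorem f_240 : allRange 83520 348 (fun u => chkFin tab u) = true := by decide +kernel

theorem f_241 : allRange 83868 348 (fun u => chkFin tab u) = true := by decide +kernel

theorem f_242 : allRange 84216 348 (fun u => chkFin tab u) = true := by decide +kernel

theorem f_243 : allRange 84564 348 (fun u => chkFin tab u) = true := by decide +kernel

theorem f_244 : allRange 84912 348 (fun u => chkFin tab u) = true := by decide +kernel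

theorem f_245 : allRange 85260 348 (fun u => chkFin tab u) = true := by decide +kernel

theorem f_246 : allRange 85608 348 (fun u => chkFin tab u) = true := by decide +kernel

theorem f_247 : allRange 85956 348 (fun u => chkFin tab u) = true := by decide +kernel


end Cfsg.Agent.Helper9.TCData.HeE0
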