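import Cfsg.Agent.Lib.Helper9.TCData.HeE0.Main

set_option autoImplicit false
set_option maxRecDepth 1000000

namespace Cfsg.Agent.Helper9.TCData.HeE0
open Cfsg.Agent.Helper9.TC2

theorem f_280 : allRange 97440 348 (fun u => chkFin tab u) = true := by decide +kernel

theorem f_281 : allRange 97788 348 (fun u => chkFin tab u) = true := by decide +kernel

theorem f_282 : allRange 98136 348 (fun u => chkFin tab u) = true := by decide +kernel

theorem f_283 : allRange 98484 348 (fun u => chkFin tab u) = true := by decide +kernel

theorem f_284 : allRange 98832 348 (fun u => chkFin tab u) = true := by decide +kernel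

theorem f_285 : allRange 99180 348 (fun u => chkFin tab u) = true := by decide +kernel

theorem f_286 : allRange 99528 348 (fun u => chkFin tab u) = true := by decide +kernel

theorem f_287 : allRange 99876 348 (fun u => chkFin tab u) = true := by decide +kernel


end Cfsg.Agent.Helper9.TCData.HeE0
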