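import Cfsg.Agent.Lib.Helper9.TCData.HeE0.S0
import Cfsg.Agent.Lib.Helper9.TCData.HeE0.S1
import Cfsg.Agent.Lib.Helper9.TCData.HeE0.S2
import Cfsg.Agent.Lib.Helper9.TCData.HeE0.S3
import Cfsg.Agent.Lib.Helper9.TCData.HeE0.S4
import Cfsg.Agent.Lib.Helper9.TCData.HeE0.S5
import Cfsg.Agent.Lib.Helper9.TCData.HeE0.S6
import Cfsg.Agent.Lib.Helper9.TCData.HeE0.S7
import Cfsg.Agent.Lib.Helper9.TCData.HeE0.S8
import Cfsg.Agent.Lib.Helper9.TCData.HeE0.S9
import Cfsg.Agent.Lib.Helper9.TCData.HeE0.S10
import Cfsg.Agent.Lib.Helper9.TCData.HeE0.S11
import Cfsg.Agent.Lib.Helper9.TCData.HeE0.S12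
import Cfsg.Agent.Lib.Helper9.TCData.HeE0.S13
import Cfsg.Agent.Lib.Helper9.TCData.HeE0.S14
import Cfsg.Agent.Lib.Helper9.TCData.HeE0.S15
import Cfsg.Agent.Lib.Helper9.TCData.HeE0.S16
import Cfsg.Agent.Lib.Helper9.TCData.HeE0.S17
import Cfsg.Agent.Lib.Helper9.TCData.HeE0.S18
import Cfsg.Agent.Lib.Helper9.TCData.HeE0.S19
import Cfsg.Agent.Lib.Helper9.TCData.HeE0.S20
import Cfsg.Agent.Lib.Helper9.TCData.HeE0.S21
import Cfsg.Agent.Lib.Helper9.TCData.HeE0.S22
import Cfsg.Agent.Lib.Helper9.TCData.HeE0.S23
import Cfsg.Agent.Lib.Helper9.TCData.HeE0.S24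
import Cfsg.Agent.Lib.Helper9.TCData.HeE0.S25
import Cfsg.Agent.Lib.Helper9.TCData.HeE0.S26
import Cfsg.Agent.Lib.Helper9.TCData.HeE0.S27
import Cfsg.Agent.Lib.Helper9.TCData.HeE0.S28
import Cfsg.Agent.Lib.Helper9.TCData.HeE0.S29
import Cfsg.Agent.Lib.Helper9.TCData.HeE0.S30
import Cfsg.Agent.Lib.Helper9.TCData.HeE0.S31
import Cfsg.Agent.Lib.Helper9.TCData.HeE0.S32
import Cfsg.Agent.Lib.Helper9.TCData.HeE0.S33
import Cfsg.Agent.Lib.Helper9.TCData.HeE0.S34
import Cfsg.Agent.Lib.Helper9.TCData.HeE0.S35
import Cfsg.Agent.Lib.Helper9.TCData.HeE0.S36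
import Cfsg.Agent.Lib.Helper9.TCData.HeE0.S37
import Cfsg.Agent.Lib.Helper9.TCData.HeE0.S38
import Cfsg.Agent.Lib.Helper9.TCData.HeE0.S39
import Cfsg.Agent.Lib.Helper9.TCData.HeE0.S40
import Cfsg.Agent.Lib.Helper9.TCData.HeE0.S41
import Cfsg.Agent.Lib.Helper9.TCData.HeE0.S42
import Cfsg.Agent.Lib.Helper9.TCData.HeE0.S43
import Cfsg.Agent.Lib.Helper9.TCData.HeE0.S44
import Cfsg.Agent.Lib.Helper9.TCData.HeE0.S45
import Cfsg.Agent.Lib.Helper9.TCData.HeE0.S46
import Cfsg.Agent.Lib.Helper9.TCData.HeE0.S47
import Cfsg.Agent.Lib.Helper9.TCData.HeE0.S48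
import Cfsg.Agent.Lib.Helper9.TCData.HeE0.S49
import Cfsg.Agent.Lib.Helper9.TCData.HeE0.S50
import Cfsg.Agent.Lib.Helper9.TCData.HeE0.S51
import Cfsg.Agent.Lib.Helper9.TCData.HeE0.S52
import Cfsg.Agent.Lib.Helper9.TCData.HeE0.S53
import Cfsg.Agent.Lib.Helper9.TCData.HeE0.S54
import Cfsg.Agent.Lib.Helper9.TCData.HeE0.S55
import Cfsg.Agent.Lib.Helper9.TCData.HeE0.S56
import Cfsg.Agent.Lib.Helper9.TCData.HeE0.S57
import Cfsg.Agent.Lib.Helper9.TCData.HeE0.S58
import Cfsg.Agent.Lib.Helper9.TCData.HeE0.S59
import Cfsg.Agent.Lib.Helper9.TCData.HeE0.S60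
import Cfsg.Agent.Lib.Helper9.TCData.HeE0.S61
import Cfsg.Agent.Lib.Helper9.TCData.HeE0.S62
import Cfsg.Agent.Lib.Helper9.TCData.HeE0.S63
import Cfsg.Agent.Lib.Helper9.TCData.HeE0.S64
import Cfsg.Agent.Lib.Helper9.TCData.HeE0.S65
import Cfsg.Agent.Lib.Helper9.TCData.HeE0.S66
import Cfsg.Agent.Lib.Helper9.TCData.HeE0.S67
import Cfsg.Agent.Lib.Helper9.TCData.HeE0.S68
import Cfsg.Agent.Lib.Helper9.TCData.HeE0.S69
import Cfsg.Agent.Lib.Helper9.TCData.HeE0.S70
import Cfsg.Agent.Lib.Helper9.TCData.HeE0.S71
import Cfsg.Agent.Lib.Helper9.TCData.HeE0.S72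
import Cfsg.Agent.Lib.Helper9.TCData.HeE0.S73
import Cfsg.Agent.Lib.Helper9.TCData.HeE0.S74
import Cfsg.Agent.Lib.Helper9.TCData.HeE0.S75
import Cfsg.Agent.Lib.Helper9.TCData.HeE0.S76
import Cfsg.Agent.Lib.Helper9.TCData.HeE0.S77
import Cfsg.Agent.Lib.Helper9.TCData.HeE0.S78
import Cfsg.Agent.Lib.Helper9.TCData.HeE0.S79
import Cfsg.Agent.Lib.Helper9.TCData.HeE0.S80
import Cfsg.Agent.Lib.Helper9.TCData.HeE0.S81
import Cfsg.Agent.Lib.Helper9.TCData.HeE0.S82
import Cfsg.Agent.Lib.Helper9.TCData.HeE0.S83
import Cfsg.Agent.Lib.Helper9.TCData.HeE0.S84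
import Cfsg.Agent.Lib.Helper9.TCData.HeE0.S85
import Cfsg.Agent.Lib.Helper9.TCData.HeE0.S86
import Cfsg.Agent.Lib.Helper9.TCData.HeE0.S87
import Cfsg.Agent.Lib.Helper9.TCData.HeE0.S88
import Cfsg.Agent.Lib.Helper9.TCData.HeE0.S89
import Cfsg.Agent.Lib.Helper9.TCData.HeE0.S90
import Cfsg.Agent.Lib.Helper9.TCData.HeE0.S91
import Cfsg.Agent.Lib.Helper9.TCData.HeE0.S92
import Cfsg.Agent.Lib.Helper9.TCData.HeE0.S93
import Cfsg.Agent.Lib.Helper9.TCData.HeE0.S94
import Cfsg.Agent.Lib.Helper9.TCData.HeE0.S95
import Cfsg.Agent.Lib.Helper9.TCData.HeE0.S96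
import Cfsg.Agent.Lib.Helper9.TCData.HeE0.S97
import Cfsg.Agent.Lib.Helper9.TCData.HeE0.S98
import Cfsg.Agent.Lib.Helper9.TCData.HeE0.S99
import Cfsg.Agent.Lib.Helper9.TCData.HeE0.S100
import Cfsg.Agent.Lib.Helper9.TCData.HeE0.S101
import Cfsg.Agent.Lib.Helper9.TCData.HeE0.S102
import Cfsg.Agent.Lib.Helper9.TCData.HeE0.S103
import Cfsg.Agent.Lib.Helper9.TCData.HeE0.S104
import Cfsg.Agent.Lib.Helper9.TCData.HeE0.S105
import Cfsg.Agent.Lib.Helper9.TCData.HeE0.S106
import Cfsg.Agent.Lib.Helper9.TCData.HeE0.S107
import Cfsg.Agent.Lib.Helper9.TCData.HeE0.S108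
import Cfsg.Agent.Lib.Helper9.TCData.HeE0.S109
import Cfsg.Agent.Lib.Helper9.TCData.HeE0.S110
import Cfsg.Agent.Lib.Helper9.TCData.HeE0.S111
import Cfsg.Agent.Lib.Helper9.TCData.HeE0.S112
import Cfsg.Agent.Lib.Helper9.TCData.HeE0.S113
import Cfsg.Agent.Lib.Helper9.TCData.HeE0.S114
import Cfsg.Agent.Lib.Helper9.TCData.HeE0.S115
import Cfsg.Agent.Lib.Helper9.TCData.HeE0.S116
import Cfsg.Agent.Lib.Helper9.TCData.HeE0.S117
import Cfsg.Agent.Lib.Helper9.TCData.HeE0.S118
import Cfsg.Agent.Lib.Helper9.TCData.HeE0.S119
import Cfsg.Agent.Lib.Helper9.TCData.HeE0.S120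
import Cfsg.Agent.Lib.Helper9.TCData.HeE0.S121
import Cfsg.Agent.Lib.Helper9.TCData.HeE0.S122
import Cfsg.Agent.Lib.Helper9.TCData.HeE0.S123
import Cfsg.Agent.Lib.Helper9.TCData.HeE0.S124
import Cfsg.Agent.Lib.Helper9.TCData.HeE0.S125
import Cfsg.Agent.Lib.Helper9.TCData.HeE0.S126
import Cfsg.Agent.Lib.Helper9.TCData.HeE0.S127
import Cfsg.Agent.Lib.Helper9.TCData.HeE0.S128
import Cfsg.Agent.Lib.Helper9.TCData.HeE0.S129
import Cfsg.Agent.Lib.Helper9.TCData.HeE0.S130
import Cfsg.Agent.Lib.Helper9.TCData.HeE0.S131
import Cfsg.Agent.Lib.Helper9.TCData.HeE0.S132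
import Cfsg.Agent.Lib.Helper9.TCData.HeE0.S133
import Cfsg.Agent.Lib.Helper9.TCData.HeE0.S134
import Cfsg.Agent.Lib.Helper9.TCData.HeE0.S135
import Cfsg.Agent.Lib.Helper9.TCData.HeE0.S136
import Cfsg.Agent.Lib.Helper9.TCData.HeE0.S137
import Cfsg.Agent.Lib.Helper9.TCData.HeE0.S138
import Cfsg.Agent.Lib.Helper9.TCData.HeE0.S139
import Cfsg.Agent.Lib.Helper9.TCData.HeE0.S140
import Cfsg.Agent.Lib.Helper9.TCData.HeE0.S141
import Cfsg.Agent.Lib.Helper9.TCData.HeE0.S142
import Cfsg.Agent.Lib.Helper9.TCData.HeE0.S143
import Cfsg.Agent.Lib.Helper9.TCData.HeE0.S144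
import Cfsg.Agent.Lib.Helper9.TCData.HeE0.S145
import Cfsg.Agent.Lib.Helper9.TCData.HeE0.S146
import Cfsg.Agent.Lib.Helper9.TCData.HeE0.S147
import Cfsg.Agent.Lib.Helper9.TCData.HeE0.S148
import Cfsg.Agent.Lib.Helper9.TCData.HeE0.S149
import Cfsg.Agent.Lib.Helper9.TCData.HeE0.S150
import Cfsg.Agent.Lib.Helper9.TCData.HeE0.S151
import Cfsg.Agent.Lib.Helper9.TCData.HeE0.S152
import Cfsg.Agent.Lib.Helper9.TCData.HeE0.S153
import Cfsg.Agent.Lib.Helper9.TCData.HeE0.S154
import Cfsg.Agent.Lib.Helper9.TCData.HeE0.S155
import Cfsg.Agent.Lib.Helper9.TCData.HeE0.S156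
import Cfsg.Agent.Lib.Helper9.TCData.HeE0.S157
import Cfsg.Agent.Lib.Helper9.TCData.HeE0.S158
import Cfsg.Agent.Lib.Helper9.TCData.HeE0.S159
import Cfsg.Agent.Lib.Helper9.TCData.HeE0.S160
import Cfsg.Agent.Lib.Helper9.TCData.HeE0.S161
import Cfsg.Agent.Lib.Helper9.TCData.HeE0.S162
import Cfsg.Agent.Lib.Helper9.TCData.HeE0.S163
import Cfsg.Agent.Lib.Helper9.TCData.HeE0.S164
import Cfsg.Agent.Lib.Helper9.TCData.HeE0.S165
import Cfsg.Agent.Lib.Helper9.TCData.HeE0.S166
import Cfsg.Agent.Lib.Helper9.TCData.HeE0.S167
import Cfsg.Agent.Lib.Helper9.TCData.HeE0.S168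
import Cfsg.Agent.Lib.Helper9.TCData.HeE0.S169
import Cfsg.Agent.Lib.Helper9.TCData.HeE0.S170
import Cfsg.Agent.Lib.Helper9.TCData.HeE0.S171
import Cfsg.Agent.Lib.Helper9.TCData.HeE0.S172
import Cfsg.Agent.Lib.Helper9.TCData.HeE0.S173
import Cfsg.Agent.Lib.Helper9.TCData.HeE0.S174
import Cfsg.Agent.Lib.Helper9.TCData.HeE0.S175
import Cfsg.Agent.Lib.Helper9.TCData.HeE0.S176
import Cfsg.Agent.Lib.Helper9.TCData.HeE0.S177
import Cfsg.Agent.Lib.Helper9.TCData.HeE0.S178
import Cfsg.Agent.Lib.Helper9.TCData.HeE0.S179
import Cfsg.Agent.Lib.Helper9.TCData.HeE0.S180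
import Cfsg.Agent.Lib.Helper9.TCData.HeE0.S181
import Cfsg.Agent.Lib.Helper9.TCData.HeE0.S182
import Cfsg.Agent.Lib.Helper9.TCData.HeE0.S183
import Cfsg.Agent.Lib.Helper9.TCData.HeE0.S184
import Cfsg.Agent.Lib.Helper9.TCData.HeE0.S185
import Cfsg.Agent.Lib.Helper9.TCData.HeE0.S186
import Cfsg.Agent.Lib.Helper9.TCData.HeE0.S187
import Cfsg.Agent.Lib.Helper9.TCData.HeE0.S188
import Cfsg.Agent.Lib.Helper9.TCData.HeE0.S189
import Cfsg.Agent.Lib.Helper9.TCData.HeE0.S190
import Cfsg.Agent.Lib.Helper9.TCData.HeE0.S191
import Cfsg.Agent.Lib.Helper9.TCData.HeE0.S192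
import Cfsg.Agent.Lib.Helper9.TCData.HeE0.S193
import Cfsg.Agent.Lib.Helper9.TCData.HeE0.S194
import Cfsg.Agent.Lib.Helper9.TCData.HeE0.S195
import Cfsg.Agent.Lib.Helper9.TCData.HeE0.S196
import Cfsg.Agent.Lib.Helper9.TCData.HeE0.S197
import Cfsg.Agent.Lib.Helper9.TCData.HeE0.S198
import Cfsg.Agent.Lib.Helper9.TCData.HeE0.S199
import Cfsg.Agent.Lib.Helper9.TCData.HeE0.S200
import Cfsg.Agent.Lib.Helper9.TCData.HeE0.S201
import Cfsg.Agent.Lib.Helper9.TCData.HeE0.S202
import Cfsg.Agent.Lib.Helper9.TCData.HeE0.S203
import Cfsg.Agent.Lib.Helper9.TCData.HeE0.S204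
import Cfsg.Agent.Lib.Helper9.TCData.HeE0.S205
import Cfsg.Agent.Lib.Helper9.TCData.HeE0.S206
import Cfsg.Agent.Lib.Helper9.TCData.HeE0.S207
import Cfsg.Agent.Lib.Helper9.TCData.HeE0.S208
import Cfsg.Agent.Lib.Helper9.TCData.HeE0.S209
import Cfsg.Agent.Lib.Helper9.TCData.HeE0.S210
import Cfsg.Agent.Lib.Helper9.TCData.HeE0.S211
import Cfsg.Agent.Lib.Helper9.TCData.HeE0.S212
import Cfsg.Agent.Lib.Helper9.TCData.HeE0.S213
import Cfsg.Agent.Lib.Helper9.TCData.HeE0.S214
import Cfsg.Agent.Lib.Helper9.TCData.HeE0.S215
import Cfsg.Agent.Lib.Helper9.TCData.HeE0.S216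
import Cfsg.Agent.Lib.Helper9.TCData.HeE0.S217
import Cfsg.Agent.Lib.Helper9.TCData.HeE0.S218
import Cfsg.Agent.Lib.Helper9.TCData.HeE0.S219
import Cfsg.Agent.Lib.Helper9.TCData.HeE0.S220
import Cfsg.Agent.Lib.Helper9.TCData.HeE0.S221
import Cfsg.Agent.Lib.Helper9.TCData.HeE0.S222
import Cfsg.Agent.Lib.Helper9.TCData.HeE0.S223
import Cfsg.Agent.Lib.Helper9.TCData.HeE0.S224
import Cfsg.Agent.Lib.Helper9.TCData.HeE0.S225
import Cfsg.Agent.Lib.Helper9.TCData.HeE0.S226
import Cfsg.Agent.Lib.Helper9.TCData.HeE0.S227
import Cfsg.Agent.Lib.Helper9.TCData.HeE0.S228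
import Cfsg.Agent.Lib.Helper9.TCData.HeE0.S229
import Cfsg.Agent.Lib.Helper9.TCData.HeE0.S230
import Cfsg.Agent.Lib.Helper9.TCData.HeE0.S231
import Cfsg.Agent.Lib.Helper9.TCData.HeE0.S232
import Cfsg.Agent.Lib.Helper9.TCData.HeE0.S233
import Cfsg.Agent.Lib.Helper9.TCData.HeE0.S234
import Cfsg.Agent.Lib.Helper9.TCData.HeE0.S235
import Cfsg.Agent.Lib.Helper9.TCData.HeE0.S236
import Cfsg.Agent.Lib.Helper9.TCData.HeE0.S237
import Cfsg.Agent.Lib.Helper9.TCData.HeE0.S238
import Cfsg.Agent.Lib.Helper9.TCData.HeE0.S239
import Cfsg.Agent.Lib.Helper9.TCData.HeE0.S240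
import Cfsg.Agent.Lib.Helper9.TCData.HeE0.S241
import Cfsg.Agent.Lib.Helper9.TCData.HeE0.S242
import Cfsg.Agent.Lib.Helper9.TCData.HeE0.S243
import Cfsg.Agent.Lib.Helper9.TCData.HeE0.S244
import Cfsg.Agent.Lib.Helper9.TCData.HeE0.S245
import Cfsg.Agent.Lib.Helper9.TCData.HeE0.S246
import Cfsg.Agent.Lib.Helper9.TCData.HeE0.S247
import Cfsg.Agent.Lib.Helper9.TCData.HeE0.S248
import Cfsg.Agent.Lib.Helper9.TCData.HeE0.S249
import Cfsg.Agent.Lib.Helper9.TCData.HeE0.S250
import Cfsg.Agent.Lib.Helper9.TCData.HeE0.S251
import Cfsg.Agent.Lib.Helper9.TCData.HeE0.S252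
import Cfsg.Agent.Lib.Helper9.TCData.HeE0.S253
import Cfsg.Agent.Lib.Helper9.TCData.HeE0.S254
import Cfsg.Agent.Lib.Helper9.TCData.HeE0.S255
import Cfsg.Agent.Lib.Helper9.TCData.HeE0.S256
import Cfsg.Agent.Lib.Helper9.TCData.HeE0.S257
import Cfsg.Agent.Lib.Helper9.TCData.HeE0.S258
import Cfsg.Agent.Lib.Helper9.TCData.HeE0.S259
import Cfsg.Agent.Lib.Helper9.TCData.HeE0.S260
import Cfsg.Agent.Lib.Helper9.TCData.HeE0.S261
import Cfsg.Agent.Lib.Helper9.TCData.HeE0.S262
import Cfsg.Agent.Lib.Helper9.TCData.HeE0.S263
import Cfsg.Agent.Lib.Helper9.TCData.HeE0.S264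
import Cfsg.Agent.Lib.Helper9.TCData.HeE0.S265
import Cfsg.Agent.Lib.Helper9.TCData.HeE0.S266
import Cfsg.Agent.Lib.Helper9.TCData.HeE0.S267
import Cfsg.Agent.Lib.Helper9.TCData.HeE0.S268
import Cfsg.Agent.Lib.Helper9.TCData.HeE0.S269
import Cfsg.Agent.Lib.Helper9.TCData.HeE0.S270
import Cfsg.Agent.Lib.Helper9.TCData.HeE0.S271
import Cfsg.Agent.Lib.Helper9.TCData.HeE0.S272
import Cfsg.Agent.Lib.Helper9.TCData.HeE0.S273
import Cfsg.Agent.Lib.Helper9.TCData.HeE0.S274
import Cfsg.Agent.Lib.Helper9.TCData.HeE0.S275
import Cfsg.Agent.Lib.Helper9.TCData.HeE0.S276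
import Cfsg.Agent.Lib.Helper9.TCData.HeE0.S277
import Cfsg.Agent.Lib.Helper9.TCData.HeE0.S278
import Cfsg.Agent.Lib.Helper9.TCData.HeE0.S279
import Cfsg.Agent.Lib.Helper9.TCData.HeE0.S280
import Cfsg.Agent.Lib.Helper9.TCData.HeE0.S281
import Cfsg.Agent.Lib.Helper9.TCData.HeE0.S282
import Cfsg.Agent.Lib.Helper9.TCData.HeE0.S283
import Cfsg.Agent.Lib.Helper9.TCData.HeE0.S284
import Cfsg.Agent.Lib.Helper9.TCData.HeE0.S285
import Cfsg.Agent.Lib.Helper9.TCData.HeE0.S286
import Cfsg.Agent.Lib.Helper9.TCData.HeE0.S287
import Cfsg.Agent.Lib.Helper9.TCData.HeE0.S288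
import Cfsg.Agent.Lib.Helper9.TCData.HeE0.S289
import Cfsg.Agent.Lib.Helper9.TCData.HeE0.S290
import Cfsg.Agent.Lib.Helper9.TCData.HeE0.S291
import Cfsg.Agent.Lib.Helper9.TCData.HeE0.S292
import Cfsg.Agent.Lib.Helper9.TCData.HeE0.S293
import Cfsg.Agent.Lib.Helper9.TCData.HeE0.S294
import Cfsg.Agent.Lib.Helper9.TCData.HeE0.S295
import Cfsg.Agent.Lib.Helper9.TCData.HeE0.S296
import Cfsg.Agent.Lib.Helper9.TCData.HeE0.S297
import Cfsg.Agent.Lib.Helper9.TCData.HeE0.S298
import Cfsg.Agent.Lib.Helper9.TCData.HeE0.S299
import Cfsg.Agent.Lib.Helper9.TCData.HeE0.S300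
import Cfsg.Agent.Lib.Helper9.TCData.HeE0.S301
import Cfsg.Agent.Lib.Helper9.TCData.HeE0.S302
import Cfsg.Agent.Lib.Helper9.TCData.HeE0.S303
import Cfsg.Agent.Lib.Helper9.TCData.HeE0.S304
import Cfsg.Agent.Lib.Helper9.TCData.HeE0.S305
import Cfsg.Agent.Lib.Helper9.TCData.HeE0.S306
import Cfsg.Agent.Lib.Helper9.TCData.HeE0.S307
import Cfsg.Agent.Lib.Helper9.TCData.HeE0.S308
import Cfsg.Agent.Lib.Helper9.TCData.HeE0.S309
import Cfsg.Agent.Lib.Helper9.TCData.HeE0.S310
import Cfsg.Agent.Lib.Helper9.TCData.HeE0.S311
import Cfsg.Agent.Lib.Helper9.TCData.HeE0.S312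
import Cfsg.Agent.Lib.Helper9.TCData.HeE0.S313
import Cfsg.Agent.Lib.Helper9.TCData.HeE0.S314
import Cfsg.Agent.Lib.Helper9.TCData.HeE0.S315
import Cfsg.Agent.Lib.Helper9.TCData.HeE0.S316
import Cfsg.Agent.Lib.Helper9.TCData.HeE0.S317
import Cfsg.Agent.Lib.Helper9.TCData.HeE0.S318
import Cfsg.Agent.Lib.Helper9.TCData.HeE0.S319
import Cfsg.Agent.Lib.Helper9.TCData.HeE0.S320
import Cfsg.Agent.Lib.Helper9.TCData.HeE0.S321
import Cfsg.Agent.Lib.Helper9.TCData.HeE0.S322
import Cfsg.Agent.Lib.Helper9.TCData.HeE0.S323
import Cfsg.Agent.Lib.Helper9.TCData.HeE0.S324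
import Cfsg.Agent.Lib.Helper9.TCData.HeE0.S325
import Cfsg.Agent.Lib.Helper9.TCData.HeE0.S326
import Cfsg.Agent.Lib.Helper9.TCData.HeE0.S327
import Cfsg.Agent.Lib.Helper9.TCData.HeE0.S328
import Cfsg.Agent.Lib.Helper9.TCData.HeE0.S329
import Cfsg.Agent.Lib.Helper9.TCData.HeE0.S330
import Cfsg.Agent.Lib.Helper9.TCData.HeE0.S331
import Cfsg.Agent.Lib.Helper9.TCData.HeE0.S332
import Cfsg.Agent.Lib.Helper9.TCData.HeE0.S333
import Cfsg.Agent.Lib.Helper9.TCData.HeE0.S334
import Cfsg.Agent.Lib.Helper9.TCData.HeE0.S335
import Cfsg.Agent.Lib.Helper9.TCData.HeE0.S336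
import Cfsg.Agent.Lib.Helper9.TCData.HeE0.S337
import Cfsg.Agent.Lib.Helper9.TCData.HeE0.S338
import Cfsg.Agent.Lib.Helper9.TCData.HeE0.S339
import Cfsg.Agent.Lib.Helper9.TCData.HeE0.S340
import Cfsg.Agent.Lib.Helper9.TCData.HeE0.S341
import Cfsg.Agent.Lib.Helper9.TCData.HeE0.S342
import Cfsg.Agent.Lib.Helper9.TCData.HeE0.S343
import Cfsg.Agent.Lib.Helper9.TCData.HeE0.S344
import Cfsg.Agent.Lib.Helper9.TCData.HeE0.S345
import Cfsg.Agent.Lib.Helper9.TCData.HeE0.S346
import Cfsg.Agent.Lib.Helper9.TCData.HeE0.S347
import Cfsg.Agent.Lib.Helper9.TCData.HeE0.S348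
import Cfsg.Agent.Lib.Helper9.TCData.HeE0.S349
import Cfsg.Agent.Lib.Helper9.TCData.HeE0.S350
import Cfsg.Agent.Lib.Helper9.TCData.HeE0.S351
import Cfsg.Agent.Lib.Helper9.TCData.HeE0.S352
import Cfsg.Agent.Lib.Helper9.TCData.HeE0.S353
import Cfsg.Agent.Lib.Helper9.TCData.HeE0.S354
import Cfsg.Agent.Lib.Helper9.TCData.HeE0.S355
import Cfsg.Agent.Lib.Helper9.TCData.HeE0.S356
import Cfsg.Agent.Lib.Helper9.TCData.HeE0.S357
import Cfsg.Agent.Lib.Helper9.TCData.HeE0.S358
import Cfsg.Agent.Lib.Helper9.TCData.HeE0.S359
import Cfsg.Agent.Lib.Helper9.TCData.HeE0.S360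
import Cfsg.Agent.Lib.Helper9.TCData.HeE0.S361
import Cfsg.Agent.Lib.Helper9.TCData.HeE0.S362
import Cfsg.Agent.Lib.Helper9.TCData.HeE0.S363
import Cfsg.Agent.Lib.Helper9.TCData.HeE0.S364
import Cfsg.Agent.Lib.Helper9.TCData.HeE0.S365
import Cfsg.Agent.Lib.Helper9.TCData.HeE0.S366
import Cfsg.Agent.Lib.Helper9.TCData.HeE0.S367
import Cfsg.Agent.Lib.Helper9.TCData.HeE0.S368
import Cfsg.Agent.Lib.Helper9.TCData.HeE0.S369
import Cfsg.Agent.Lib.Helper9.TCData.HeE0.S370
import Cfsg.Agent.Lib.Helper9.TCData.HeE0.S371
import Cfsg.Agent.Lib.Helper9.TCData.HeE0.S372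
import Cfsg.Agent.Lib.Helper9.TCData.HeE0.S373
import Cfsg.Agent.Lib.Helper9.TCData.HeE0.S374
import Cfsg.Agent.Lib.Helper9.TCData.HeE0.S375
import Cfsg.Agent.Lib.Helper9.TCData.HeE0.S376
import Cfsg.Agent.Lib.Helper9.TCData.HeE0.S377
import Cfsg.Agent.Lib.Helper9.TCData.HeE0.S378
import Cfsg.Agent.Lib.Helper9.TCData.HeE0.S379
import Cfsg.Agent.Lib.Helper9.TCData.HeE0.S380
import Cfsg.Agent.Lib.Helper9.TCData.HeE0.S381
import Cfsg.Agent.Lib.Helper9.TCData.HeE0.S382
import Cfsg.Agent.Lib.Helper9.TCData.HeE0.S383
import Cfsg.Agent.Lib.Helper9.TCData.HeE0.S384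
import Cfsg.Agent.Lib.Helper9.TCData.HeE0.S385
import Cfsg.Agent.Lib.Helper9.TCData.HeE0.S386
import Cfsg.Agent.Lib.Helper9.TCData.HeE0.S387
import Cfsg.Agent.Lib.Helper9.TCData.HeE0.S388
import Cfsg.Agent.Lib.Helper9.TCData.HeE0.S389
import Cfsg.Agent.Lib.Helper9.TCData.HeE0.S390
import Cfsg.Agent.Lib.Helper9.TCData.HeE0.S391
import Cfsg.Agent.Lib.Helper9.TCData.HeE0.S392
import Cfsg.Agent.Lib.Helper9.TCData.HeE0.S393
import Cfsg.Agent.Lib.Helper9.TCData.HeE0.S394
import Cfsg.Agent.Lib.Helper9.TCData.HeE0.S395
import Cfsg.Agent.Lib.Helper9.TCData.HeE0.S396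
import Cfsg.Agent.Lib.Helper9.TCData.HeE0.S397
import Cfsg.Agent.Lib.Helper9.TCData.HeE0.S398
import Cfsg.Agent.Lib.Helper9.TCData.HeE0.S399
import Cfsg.Agent.Lib.Helper9.TCData.HeE0.S400
import Cfsg.Agent.Lib.Helper9.TCData.HeE0.S401
import Cfsg.Agent.Lib.Helper9.TCData.HeE0.S402
import Cfsg.Agent.Lib.Helper9.TCData.HeE0.S403
import Cfsg.Agent.Lib.Helper9.TCData.HeE0.S404
import Cfsg.Agent.Lib.Helper9.TCData.HeE0.S405
import Cfsg.Agent.Lib.Helper9.TCData.HeE0.S406
import Cfsg.Agent.Lib.Helper9.TCData.HeE0.S407
import Cfsg.Agent.Lib.Helper9.TCData.HeE0.S408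
import Cfsg.Agent.Lib.Helper9.TCData.HeE0.S409
import Cfsg.Agent.Lib.Helper9.TCData.HeE0.S410
import Cfsg.Agent.Lib.Helper9.TCData.HeE0.S411
import Cfsg.Agent.Lib.Helper9.TCData.HeE0.S412
import Cfsg.Agent.Lib.Helper9.TCData.HeE0.S413
import Cfsg.Agent.Lib.Helper9.TCData.HeE0.S414
import Cfsg.Agent.Lib.Helper9.TCData.HeE0.S415
import Cfsg.Agent.Lib.Helper9.TCData.HeE0.S416
import Cfsg.Agent.Lib.Helper9.TCData.HeE0.S417
import Cfsg.Agent.Lib.Helper9.TCData.HeE0.S418
import Cfsg.Agent.Lib.Helper9.TCData.HeE0.S419
import Cfsg.Agent.Lib.Helper9.TCData.HeE0.S420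
import Cfsg.Agent.Lib.Helper9.TCData.HeE0.S421
import Cfsg.Agent.Lib.Helper9.TCData.HeE0.S422
import Cfsg.Agent.Lib.Helper9.TCData.HeE0.S423
import Cfsg.Agent.Lib.Helper9.TCData.HeE0.S424
import Cfsg.Agent.Lib.Helper9.TCData.HeE0.S425
import Cfsg.Agent.Lib.Helper9.TCData.HeE0.S426
import Cfsg.Agent.Lib.Helper9.TCData.HeE0.S427
import Cfsg.Agent.Lib.Helper9.TCData.HeE0.S428
import Cfsg.Agent.Lib.Helper9.TCData.HeE0.S429
import Cfsg.Agent.Lib.Helper9.TCData.HeE0.S430
import Cfsg.Agent.Lib.Helper9.TCData.HeE0.S431
import Cfsg.Agent.Lib.Helper9.TCData.HeE0.S432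
import Cfsg.Agent.Lib.Helper9.TCData.HeE0.S433
import Cfsg.Agent.Lib.Helper9.TCData.HeE0.S434
import Cfsg.Agent.Lib.Helper9.TCData.HeE0.S435
import Cfsg.Agent.Lib.Helper9.TCData.HeE0.S436
import Cfsg.Agent.Lib.Helper9.TCData.HeE0.S437
import Cfsg.Agent.Lib.Helper9.TCData.HeE0.S438
import Cfsg.Agent.Lib.Helper9.TCData.HeE0.S439
import Cfsg.Agent.Lib.Helper9.TCData.HeE0.S440
import Cfsg.Agent.Lib.Helper9.TCData.HeE0.S441
import Cfsg.Agent.Lib.Helper9.TCData.HeE0.S442
import Cfsg.Agent.Lib.Helper9.TCData.HeE0.S443
import Cfsg.Agent.Lib.Helper9.TCData.HeE0.S444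
import Cfsg.Agent.Lib.Helper9.TCData.HeE0.S445
import Cfsg.Agent.Lib.Helper9.TCData.HeE0.S446
import Cfsg.Agent.Lib.Helper9.TCData.HeE0.S447
import Cfsg.Agent.Lib.Helper9.TCData.HeE0.S448
import Cfsg.Agent.Lib.Helper9.TCData.HeE0.S449
import Cfsg.Agent.Lib.Helper9.TCData.HeE0.S450
import Cfsg.Agent.Lib.Helper9.TCData.HeE0.S451
import Cfsg.Agent.Lib.Helper9.TCData.HeE0.S452
import Cfsg.Agent.Lib.Helper9.TCData.HeE0.S453
import Cfsg.Agent.Lib.Helper9.TCData.HeE0.S454
import Cfsg.Agent.Lib.Helper9.TCData.HeE0.S455
import Cfsg.Agent.Lib.Helper9.TCData.HeE0.S456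
import Cfsg.Agent.Lib.Helper9.TCData.HeE0.S457
import Cfsg.Agent.Lib.Helper9.TCData.HeE0.S458
import Cfsg.Agent.Lib.Helper9.TCData.HeE0.S459
import Cfsg.Agent.Lib.Helper9.TCData.HeE0.S460
import Cfsg.Agent.Lib.Helper9.TCData.HeE0.S461
import Cfsg.Agent.Lib.Helper9.TCData.HeE0.S462
import Cfsg.Agent.Lib.Helper9.TCData.HeE0.S463
import Cfsg.Agent.Lib.Helper9.TCData.HeE0.S464
import Cfsg.Agent.Lib.Helper9.TCData.HeE0.S465
import Cfsg.Agent.Lib.Helper9.TCData.HeE0.S466
import Cfsg.Agent.Lib.Helper9.TCData.HeE0.S467
import Cfsg.Agent.Lib.Helper9.TCData.HeE0.S468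
import Cfsg.Agent.Lib.Helper9.TCData.HeE0.S469
import Cfsg.Agent.Lib.Helper9.TCData.HeE0.S470
import Cfsg.Agent.Lib.Helper9.TCData.HeE0.S471
import Cfsg.Agent.Lib.Helper9.TCData.HeE0.S472
import Cfsg.Agent.Lib.Helper9.TCData.HeE0.S473
import Cfsg.Agent.Lib.Helper9.TCData.HeE0.S474
import Cfsg.Agent.Lib.Helper9.TCData.HeE0.S475
import Cfsg.Agent.Lib.Helper9.TCData.HeE0.S476
import Cfsg.Agent.Lib.Helper9.TCData.HeE0.S477
import Cfsg.Agent.Lib.Helper9.TCData.HeE0.S478
import Cfsg.Agent.Lib.Helper9.TCData.HeE0.S479
import Cfsg.Agent.Lib.Helper9.TCData.HeE0.S480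
import Cfsg.Agent.Lib.Helper9.TCData.HeE0.S481
import Cfsg.Agent.Lib.Helper9.TCData.HeE0.S482
import Cfsg.Agent.Lib.Helper9.TCData.HeE0.S483
import Cfsg.Agent.Lib.Helper9.TCData.HeE0.S484
import Cfsg.Agent.Lib.Helper9.TCData.HeE0.S485
import Cfsg.Agent.Lib.Helper9.TCData.HeE0.S486
import Cfsg.Agent.Lib.Helper9.TCData.HeE0.S487
import Cfsg.Agent.Lib.Helper9.TCData.HeE0.S488
import Cfsg.Agent.Lib.Helper9.TCData.HeE0.S489
import Cfsg.Agent.Lib.Helper9.TCData.HeE0.S490
import Cfsg.Agent.Lib.Helper9.TCData.HeE0.S491
import Cfsg.Agent.Lib.Helper9.TCData.HeE0.S492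
import Cfsg.Agent.Lib.Helper9.TCData.HeE0.S493
import Cfsg.Agent.Lib.Helper9.TCData.HeE0.S494
import Cfsg.Agent.Lib.Helper9.TCData.HeE0.S495
import Cfsg.Agent.Lib.Helper9.TCData.HeE0.S496
import Cfsg.Agent.Lib.Helper9.TCData.HeE0.S497
import Cfsg.Agent.Lib.Helper9.TCData.HeE0.S498
import Cfsg.Agent.Lib.Helper9.TCData.HeE0.S499
import Cfsg.Agent.Lib.Helper9.TCData.HeE0.S500
import Cfsg.Agent.Lib.Helper9.TCData.HeE0.S501
import Cfsg.Agent.Lib.Helper9.TCData.HeE0.S502
import Cfsg.Agent.Lib.Helper9.TCData.HeE0.S503
import Cfsg.Agent.Lib.Helper9.TCData.HeE0.S504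
import Cfsg.Agent.Lib.Helper9.TCData.HeE0.S505
import Cfsg.Agent.Lib.Helper9.TCData.HeE0.S506
import Cfsg.Agent.Lib.Helper9.TCData.HeE0.S507
import Cfsg.Agent.Lib.Helper9.TCData.HeE0.S508
import Cfsg.Agent.Lib.Helper9.TCData.HeE0.S509
import Cfsg.Agent.Lib.Helper9.TCData.HeE0.S510
import Cfsg.Agent.Lib.Helper9.TCData.HeE0.S511
import Cfsg.Agent.Lib.Helper9.TCData.HeE0.S512
import Cfsg.Agent.Lib.Helper9.TCData.HeE0.S513
import Cfsg.Agent.Lib.Helper9.TCData.HeE0.S514
import Cfsg.Agent.Lib.Helper9.TCData.HeE0.S515
import Cfsg.Agent.Lib.Helper9.TCData.HeE0.S516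
import Cfsg.Agent.Lib.Helper9.TCData.HeE0.S517
import Cfsg.Agent.Lib.Helper9.TCData.HeE0.S518
import Cfsg.Agent.Lib.Helper9.TCData.HeE0.S519
import Cfsg.Agent.Lib.Helper9.TCData.HeE0.S520
import Cfsg.Agent.Lib.Helper9.TCData.HeE0.S521
import Cfsg.Agent.Lib.Helper9.TCData.HeE0.S522
import Cfsg.Agent.Lib.Helper9.TCData.HeE0.S523
import Cfsg.Agent.Lib.Helper9.TCData.HeE0.S524
import Cfsg.Agent.Lib.Helper9.TCData.HeE0.S525
import Cfsg.Agent.Lib.Helper9.TCData.HeE0.S526
import Cfsg.Agent.Lib.Helper9.TCData.HeE0.S527
import Cfsg.Agent.Lib.Helper9.TCData.HeE0.S528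
import Cfsg.Agent.Lib.Helper9.TCData.HeE0.S529
import Cfsg.Agent.Lib.Helper9.TCData.HeE0.S530

set_option autoImplicit false
set_option maxRecDepth 1000000

namespace Cfsg.Agent.Helper9.TCData.HeE0
open Cfsg.Agent.Helper9.TC2


theorem hE0 : ∀ u < 189247, chkE tab 0 u = true := by
  have h0 : ∀ u < 0, (fun u => chkE tab 0 u) u = true := range_zero
  have h1 : ∀ u < 2050, (fun u => chkE tab 0 u) u = true := ext_range (a := 0) (len := 2050) h0 e0_0
  have h2 : ∀ u < 4389, (fun u => chkE tab 0 u) u = true := ext_range (a := 2050) (len := 2339) h1 e0_1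
  have h3 : ∀ u < 6257, (fun u => chkE tab 0 u) u = true := ext_range (a := 4389) (len := 1868) h2 e0_2
  have h4 : ∀ u < 8959, (fun u => chkE tab 0 u) u = true := ext_range (a := 6257) (len := 2702) h3 e0_3
  have h5 : ∀ u < 10827, (fun u => chkE tab 0 u) u = true := ext_range (a := 8959) (len := 1868) h4 e0_4
  have h6 : ∀ u < 12957, (fun u => chkE tab 0 u) u = true := ext_range (a := 10827) (len := 2130) h5 e0_5
  have h7 : ∀ u < 15841, (fun u => chkE tab 0 u) u = true := ext_range (a := 12957) (len := 2884) h6 e0_6
  have h8 : ∀ u < 18045, (fun u => chkE tab 0 u) u = true := ext_range (a := 15841) (len := 2204) h7 e0_7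
  have h9 : ∀ u < 19935, (fun u => chkE tab 0 u) u = true := ext_range (a := 18045) (len := 1890) h8 e0_8
  have h10 : ∀ u < 22141, (fun u => chkE tab 0 u) u = true := ext_range (a := 19935) (len := 2206) h9 e0_9
  have h11 : ∀ u < 24308, (fun u => chkE tab 0 u) u = true := ext_range (a := 22141) (len := 2167) h10 e0_10
  have h12 : ∀ u < 26640, (fun u => chkE tab 0 u) u = true := ext_range (a := 24308) (len := 2332) h11 e0_11
  have h13 : ∀ u < 29934, (fun u => chkE tab 0 u) u = true := ext_range (a := 26640) (len := 3294) h12 e0_12
  have h14 : ∀ u < 32225, (fun u => chkE tab 0 u) u = true := ext_range (a := 29934) (len := 2291) h13 e0_13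
  have h15 : ∀ u < 34134, (fun u => chkE tab 0 u) u = true := ext_range (a := 32225) (len := 1909) h14 e0_14
  have h16 : ∀ u < 36205, (fun u => chkE tab 0 u) u = true := ext_range (a := 34134) (len := 2071) h15 e0_15
  have h17 : ∀ u < 38397, (fun u => chkE tab 0 u) u = true := ext_range (a := 36205) (len := 2192) h16 e0_16
  have h18 : ∀ u < 40654, (fun u => chkE tab 0 u) u = true := ext_range (a := 38397) (len := 2257) h17 e0_17
  have h19 : ∀ u < 42972, (fun u => chkE tab 0 u) u = true := ext_range (a := 40654) (len := 2318) h18 e0_18
  have h20 : ∀ u < 45450, (fun u => chkE tab 0 u) u = true := ext_range (a := 42972) (len := 2478) h19 e0_19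
  have h21 : ∀ u < 48116, (fun u => chkE tab 0 u) u = true := ext_range (a := 45450) (len := 2666) h20 e0_20
  have h22 : ∀ u < 50929, (fun u => chkE tab 0 u) u = true := ext_range (a := 48116) (len := 2813) h21 e0_21
  have h23 : ∀ u < 53071, (fun u => chkE tab 0 u) u = true := ext_range (a := 50929) (len := 2142) h22 e0_22
  have h24 : ∀ u < 55397, (fun u => chkE tab 0 u) u = true := ext_range (a := 53071) (len := 2326) h23 e0_23
  have h25 : ∀ u < 57391, (fun u => chkE tab 0 u) u = true := ext_range (a := 55397) (len := 1994) h24 e0_24
  have h26 : ∀ u < 59696, (fun u => chkE tab 0 u) u = true := ext_range (a := 57391) (len := 2305) h25 e0_25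
  have h27 : ∀ u < 61894, (fun u => chkE tab 0 u) u = true := ext_range (a := 59696) (len := 2198) h26 e0_26
  have h28 : ∀ u < 64304, (fun u => chkE tab 0 u) u = true := ext_range (a := 61894) (len := 2410) h27 e0_27
  have h29 : ∀ u < 66665, (fun u => chkE tab 0 u) u = true := ext_range (a := 64304) (len := 2361) h28 e0_28
  have h30 : ∀ u < 69106, (fun u => chkE tab 0 u) u = true := ext_range (a := 66665) (len := 2441) h29 e0_29
  have h31 : ∀ u < 71736, (fun u => chkE tab 0 u) u = true := ext_range (a := 69106) (len := 2630) h30 e0_30
  have h32 : ∀ u < 74153, (fun u => chkE tab 0 u) u = true := ext_range (a := 71736) (len := 2417) h31 e0_31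
  have h33 : ∀ u < 76873, (fun u => chkE tab 0 u) u = true := ext_range (a := 74153) (len := 2720) h32 e0_32
  have h34 : ∀ u < 79224, (fun u => chkE tab 0 u) u = true := ext_range (a := 76873) (len := 2351) h33 e0_33
  have h35 : ∀ u < 81177, (fun u => chkE tab 0 u) u = true := ext_range (a := 79224) (len := 1953) h34 e0_34
  have h36 : ∀ u < 83719, (fun u => chkE tab 0 u) u = true := ext_range (a := 81177) (len := 2542) h35 e0_35
  have h37 : ∀ u < 85808, (fun u => chkE tab 0 u) u = true := ext_range (a := 83719) (len := 2089) h36 e0_36
  have h38 : ∀ u < 88263, (fun u => chkE tab 0 u) u = true := ext_range (a := 85808) (len := 2455) h37 e0_37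
  have h39 : ∀ u < 90501, (fun u => chkE tab 0 u) u = true := ext_range (a := 88263) (len := 2238) h38 e0_38
  have h40 : ∀ u < 92870, (fun u => chkE tab 0 u) u = true := ext_range (a := 90501) (len := 2369) h39 e0_39
  have h41 : ∀ u < 95305, (fun u => chkE tab 0 u) u = true := ext_range (a := 92870) (len := 2435) h40 e0_40
  have h42 : ∀ u < 97675, (fun u => chkE tab 0 u) u = true := ext_range (a := 95305) (len := 2370) h41 e0_41
  have h43 : ∀ u < 100093, (fun u => chkE tab 0 u) u = true := ext_range (a := 97675) (len := 2418) h42 e0_42
  have h44 : ∀ u < 102718, (fun u => chkE tab 0 u) u = true := ext_range (a := 100093) (len := 2625) h43 e0_43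
  have h45 : ∀ u < 105021, (fun u => chkE tab 0 u) u = true := ext_range (a := 102718) (len := 2303) h44 e0_44
  have h46 : ∀ u < 107554, (fun u => chkE tab 0 u) u = true := ext_range (a := 105021) (len := 2533) h45 e0_45
  have h47 : ∀ u < 110108, (fun u => chkE tab 0 u) u = true := ext_range (a := 107554) (len := 2554) h46 e0_46
  have h48 : ∀ u < 112320, (fun u => chkE tab 0 u) u = true := ext_range (a := 110108) (len := 2212) h47 e0_47
  have h49 : ∀ u < 114365, (fun u => chkE tab 0 u) u = true := ext_range (a := 112320) (len := 2045) h48 e0_48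
  have h50 : ∀ u < 117008, (fun u => chkE tab 0 u) u = true := ext_range (a := 114365) (len := 2643) h49 e0_49
  have h51 : ∀ u < 119075, (fun u => chkE tab 0 u) u = true := ext_range (a := 117008) (len := 2067) h50 e0_50
  have h52 : ∀ u < 121396, (fun u => chkE tab 0 u) u = true := ext_range (a := 119075) (len := 2321) h51 e0_51
  have h53 : ∀ u < 124057, (fun u => chkE tab 0 u) u = true := ext_range (a := 121396) (len := 2661) h52 e0_52
  have h54 : ∀ u < 126407, (fun u => chkE tab 0 u) u = true := ext_range (a := 124057) (len := 2350) h53 e0_53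
  have h55 : ∀ u < 128827, (fun u => chkE tab 0 u) u = true := ext_range (a := 126407) (len := 2420) h54 e0_54
  have h56 : ∀ u < 131297, (fun u => chkE tab 0 u) u = true := ext_range (a := 128827) (len := 2470) h55 e0_55
  have h57 : ∀ u < 133795, (fun u => chkE tab 0 u) u = true := ext_range (a := 131297) (len := 2498) h56 e0_56
  have h58 : ∀ u < 136283, (fun u => chkE tab 0 u) u = true := ext_range (a := 133795) (len := 2488) h57 e0_57
  have h59 : ∀ u < 139040, (fun u => chkE tab 0 u) u = true := ext_range (a := 136283) (len := 2757) h58 e0_58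
  have h60 : ∀ u < 141470, (fun u => chkE tab 0 u) u = true := ext_range (a := 139040) (len := 2430) h59 e0_59
  have h61 : ∀ u < 144321, (fun u => chkE tab 0 u) u = true := ext_range (a := 141470) (len := 2851) h60 e0_60
  have h62 : ∀ u < 147092, (fun u => chkE tab 0 u) u = true := ext_range (a := 144321) (len := 2771) h61 e0_61
  have h63 : ∀ u < 149533, (fun u => chkE tab 0 u) u = true := ext_range (a := 147092) (len := 2441) h62 e0_62
  have h64 : ∀ u < 151746, (fun u => chkE tab 0 u) u = true := ext_range (a := 149533) (len := 2213) h63 e0_63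
  have h65 : ∀ u < 154569, (fun u => chkE tab 0 u) u = true := ext_range (a := 151746) (len := 2823) h64 e0_64
  have h66 : ∀ u < 156928, (fun u => chkE tab 0 u) u = true := ext_range (a := 154569) (len := 2359) h65 e0_65
  have h67 : ∀ u < 159846, (fun u => chkE tab 0 u) u = true := ext_range (a := 156928) (len := 2918) h66 e0_66
  have h68 : ∀ u < 162453, (fun u => chkE tab 0 u) u = true := ext_range (a := 159846) (len := 2607) h67 e0_67
  have h69 : ∀ u < 165295, (fun u => chkE tab 0 u) u = true := ext_range (a := 162453) (len := 2842) h68 e0_68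
  have h70 : ∀ u < 168192, (fun u => chkE tab 0 u) u = true := ext_range (a := 165295) (len := 2897) h69 e0_69
  have h71 : ∀ u < 171204, (fun u => chkE tab 0 u) u = true := ext_range (a := 168192) (len := 3012) h70 e0_70
  have h72 : ∀ u < 174033, (fun u => chkE tab 0 u) u = true := ext_range (a := 171204) (len := 2829) h71 e0_71
  have h73 : ∀ u < 177219, (fun u => chkE tab 0 u) u = true := ext_range (a := 174033) (len := 3186) h72 e0_72
  have h74 : ∀ u < 179951, (fun u => chkE tab 0 u) u = true := ext_range (a := 177219) (len := 2732) h73 e0_73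
  have h75 : ∀ u < 182887, (fun u => chkE tab 0 u) u = true := ext_range (a := 179951) (len := 2936) h74 e0_74
  have h76 : ∀ u < 186161, (fun u => chkE tab 0 u) u = true := ext_range (a := 182887) (len := 3274) h75 e0_75
  have h77 : ∀ u < 189247, (fun u => chkE tab 0 u) u = true := ext_range (a := 186161) (len := 3086) h76 e0_76
  exact h77

theorem hE1 : ∀ u < 189247, chkE tab 1 u = true := by
  have h0 : ∀ u < 0, (fun u => chkE tab 1 u) u = true := range_zero
  have h1 : ∀ u < 2276, (fun u => chkE tab 1 u) u = true := ext_range (a := 0) (len := 2276) h0 e1_0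
  have h2 : ∀ u < 4517, (fun u => chkE tab 1 u) u = true := ext_range (a := 2276) (len := 2241) h1 e1_1
  have h3 : ∀ u < 6738, (fun u => chkE tab 1 u) u = true := ext_range (a := 4517) (len := 2221) h2 e1_2
  have h4 : ∀ u < 8989, (fun u => chkE tab 1 u) u = true := ext_range (a := 6738) (len := 2251) h3 e1_3
  have h5 : ∀ u < 11239, (fun u => chkE tab 1 u) u = true := ext_range (a := 8989) (len := 2250) h4 e1_4
  have h6 : ∀ u < 13554, (fun u => chkE tab 1 u) u = true := ext_range (a := 11239) (len := 2315) h5 e1_5
  have h7 : ∀ u < 15808, (fun u => chkE tab 1 u) u = true := ext_range (a := 13554) (len := 2254) h6 e1_6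
  have h8 : ∀ u < 18063, (fun u => chkE tab 1 u) u = true := ext_range (a := 15808) (len := 2255) h7 e1_7
  have h9 : ∀ u < 20399, (fun u => chkE tab 1 u) u = true := ext_range (a := 18063) (len := 2336) h8 e1_8
  have h10 : ∀ u < 22854, (fun u => chkE tab 1 u) u = true := ext_range (a := 20399) (len := 2455) h9 e1_9
  have h11 : ∀ u < 25275, (fun u => chkE tab 1 u) u = true := ext_range (a := 22854) (len := 2421) h10 e1_10
  have h12 : ∀ u < 27517, (fun u => chkE tab 1 u) u = true := ext_range (a := 25275) (len := 2242) h11 e1_11
  have h13 : ∀ u < 29918, (fun u => chkE tab 1 u) u = true := ext_range (a := 27517) (len := 2401) h12 e1_12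
  have h14 : ∀ u < 32270, (fun u => chkE tab 1 u) u = true := ext_range (a := 29918) (len := 2352) h13 e1_13
  have h15 : ∀ u < 34662, (fun u => chkE tab 1 u) u = true := ext_range (a := 32270) (len := 2392) h14 e1_14
  have h16 : ∀ u < 37080, (fun u => chkE tab 1 u) u = true := ext_range (a := 34662) (len := 2418) h15 e1_15
  have h17 : ∀ u < 39542, (fun u => chkE tab 1 u) u = true := ext_range (a := 37080) (len := 2462) h16 e1_16
  have h18 : ∀ u < 42032, (fun u => chkE tab 1 u) u = true := ext_range (a := 39542) (len := 2490) h17 e1_17
  have h19 : ∀ u < 44543, (fun u => chkE tab 1 u) u = true := ext_range (a := 42032) (len := 2511) h18 e1_18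
  have h20 : ∀ u < 46973, (fun u => chkE tab 1 u) u = true := ext_range (a := 44543) (len := 2430) h19 e1_19
  have h21 : ∀ u < 49406, (fun u => chkE tab 1 u) u = true := ext_range (a := 46973) (len := 2433) h20 e1_20
  have h22 : ∀ u < 51792, (fun u => chkE tab 1 u) u = true := ext_range (a := 49406) (len := 2386) h21 e1_21
  have h23 : ∀ u < 54217, (fun u => chkE tab 1 u) u = true := ext_range (a := 51792) (len := 2425) h22 e1_22
  have h24 : ∀ u < 56600, (fun u => chkE tab 1 u) u = true := ext_range (a := 54217) (len := 2383) h23 e1_23
  have h25 : ∀ u < 59120, (fun u => chkE tab 1 u) u = true := ext_range (a := 56600) (len := 2520) h24 e1_24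
  have h26 : ∀ u < 61606, (fun u => chkE tab 1 u) u = true := ext_range (a := 59120) (len := 2486) h25 e1_25
  have h27 : ∀ u < 64346, (fun u => chkE tab 1 u) u = true := ext_range (a := 61606) (len := 2740) h26 e1_26
  have h28 : ∀ u < 67074, (fun u => chkE tab 1 u) u = true := ext_range (a := 64346) (len := 2728) h27 e1_27
  have h29 : ∀ u < 69832, (fun u => chkE tab 1 u) u = true := ext_range (a := 67074) (len := 2758) h28 e1_28
  have h30 : ∀ u < 72292, (fun u => chkE tab 1 u) u = true := ext_range (a := 69832) (len := 2460) h29 e1_29
  have h31 : ∀ u < 74706, (fun u => chkE tab 1 u) u = true := ext_range (a := 72292) (len := 2414) h30 e1_30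
  have h32 : ∀ u < 77485, (fun u => chkE tab 1 u) u = true := ext_range (a := 74706) (len := 2779) h31 e1_31
  have h33 : ∀ u < 79802, (fun u => chkE tab 1 u) u = true := ext_range (a := 77485) (len := 2317) h32 e1_32
  have h34 : ∀ u < 82464, (fun u => chkE tab 1 u) u = true := ext_range (a := 79802) (len := 2662) h33 e1_33
  have h35 : ∀ u < 84925, (fun u => chkE tab 1 u) u = true := ext_range (a := 82464) (len := 2461) h34 e1_34
  have h36 : ∀ u < 87342, (fun u => chkE tab 1 u) u = true := ext_range (a := 84925) (len := 2417) h35 e1_35
  have h37 : ∀ u < 89715, (fun u => chkE tab 1 u) u = true := ext_range (a := 87342) (len := 2373) h36 e1_36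
  have h38 : ∀ u < 92167, (fun u => chkE tab 1 u) u = true := ext_range (a := 89715) (len := 2452) h37 e1_37
  have h39 : ∀ u < 94750, (fun u => chkE tab 1 u) u = true := ext_range (a := 92167) (len := 2583) h38 e1_38
  have h40 : ∀ u < 97299, (fun u => chkE tab 1 u) u = true := ext_range (a := 94750) (len := 2549) h39 e1_39
  have h41 : ∀ u < 99998, (fun u => chkE tab 1 u) u = true := ext_range (a := 97299) (len := 2699) h40 e1_40
  have h42 : ∀ u < 102481, (fun u => chkE tab 1 u) u = true := ext_range (a := 99998) (len := 2483) h41 e1_41
  have h43 : ∀ u < 104882, (fun u => chkE tab 1 u) u = true := ext_range (a := 102481) (len := 2401) h42 e1_42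
  have h44 : ∀ u < 107378, (fun u => chkE tab 1 u) u = true := ext_range (a := 104882) (len := 2496) h43 e1_43
  have h45 : ∀ u < 109881, (fun u => chkE tab 1 u) u = true := ext_range (a := 107378) (len := 2503) h44 e1_44
  have h46 : ∀ u < 112302, (fun u => chkE tab 1 u) u = true := ext_range (a := 109881) (len := 2421) h45 e1_45
  have h47 : ∀ u < 114757, (fun u => chkE tab 1 u) u = true := ext_range (a := 112302) (len := 2455) h46 e1_46
  have h48 : ∀ u < 117221, (fun u => chkE tab 1 u) u = true := ext_range (a := 114757) (len := 2464) h47 e1_47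
  have h49 : ∀ u < 119696, (fun u => chkE tab 1 u) u = true := ext_range (a := 117221) (len := 2475) h48 e1_48
  have h50 : ∀ u < 122095, (fun u => chkE tab 1 u) u = true := ext_range (a := 119696) (len := 2399) h49 e1_49
  have h51 : ∀ u < 124589, (fun u => chkE tab 1 u) u = true := ext_range (a := 122095) (len := 2494) h50 e1_50
  have h52 : ∀ u < 127050, (fun u => chkE tab 1 u) u = true := ext_range (a := 124589) (len := 2461) h51 e1_51
  have h53 : ∀ u < 129574, (fun u => chkE tab 1 u) u = true := ext_range (a := 127050) (len := 2524) h52 e1_52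
  have h54 : ∀ u < 132138, (fun u => chkE tab 1 u) u = true := ext_range (a := 129574) (len := 2564) h53 e1_53
  have h55 : ∀ u < 134700, (fun u => chkE tab 1 u) u = true := ext_range (a := 132138) (len := 2562) h54 e1_54
  have h56 : ∀ u < 137388, (fun u => chkE tab 1 u) u = true := ext_range (a := 134700) (len := 2688) h55 e1_55
  have h57 : ∀ u < 139956, (fun u => chkE tab 1 u) u = true := ext_range (a := 137388) (len := 2568) h56 e1_56
  have h58 : ∀ u < 142637, (fun u => chkE tab 1 u) u = true := ext_range (a := 139956) (len := 2681) h57 e1_57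
  have h59 : ∀ u < 145387, (fun u => chkE tab 1 u) u = true := ext_range (a := 142637) (len := 2750) h58 e1_58
  have h60 : ∀ u < 148196, (fun u => chkE tab 1 u) u = true := ext_range (a := 145387) (len := 2809) h59 e1_59
  have h61 : ∀ u < 150847, (fun u => chkE tab 1 u) u = true := ext_range (a := 148196) (len := 2651) h60 e1_60
  have h62 : ∀ u < 153692, (fun u => chkE tab 1 u) u = true := ext_range (a := 150847) (len := 2845) h61 e1_61
  have h63 : ∀ u < 156465, (fun u => chkE tab 1 u) u = true := ext_range (a := 153692) (len := 2773) h62 e1_62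
  have h64 : ∀ u < 159191, (fun u => chkE tab 1 u) u = true := ext_range (a := 156465) (len := 2726) h63 e1_63
  have h65 : ∀ u < 161955, (fun u => chkE tab 1 u) u = true := ext_range (a := 159191) (len := 2764) h64 e1_64
  have h66 : ∀ u < 164817, (fun u => chkE tab 1 u) u = true := ext_range (a := 161955) (len := 2862) h65 e1_65
  have h67 : ∀ u < 167938, (fun u => chkE tab 1 u) u = true := ext_range (a := 164817) (len := 3121) h66 e1_66
  have h68 : ∀ u < 171016, (fun u => chkE tab 1 u) u = true := ext_range (a := 167938) (len := 3078) h67 e1_67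
  have h69 : ∀ u < 174030, (fun u => chkE tab 1 u) u = true := ext_range (a := 171016) (len := 3014) h68 e1_68
  have h70 : ∀ u < 177339, (fun u => chkE tab 1 u) u = true := ext_range (a := 174030) (len := 3309) h69 e1_69
  have h71 : ∀ u < 180422, (fun u => chkE tab 1 u) u = true := ext_range (a := 177339) (len := 3083) h70 e1_70
  have h72 : ∀ u < 183640, (fun u => chkE tab 1 u) u = true := ext_range (a := 180422) (len := 3218) h71 e1_71
  have h73 : ∀ u < 187345, (fun u => chkE tab 1 u) u = true := ext_range (a := 183640) (len := 3705) h72 e1_72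
  have h74 : ∀ u < 189247, (fun u => chkE tab 1 u) u = true := ext_range (a := 187345) (len := 1902) h73 e1_73
  exact h74

theorem hE2 : ∀ u < 189247, chkE tab 2 u = true := by
  have h0 : ∀ u < 0, (fun u => chkE tab 2 u) u = true := range_zero
  have h1 : ∀ u < 2512, (fun u => chkE tab 2 u) u = true := ext_range (a := 0) (len := 2512) h0 e2_0
  have h2 : ∀ u < 5010, (fun u => chkE tab 2 u) u = true := ext_range (a := 2512) (len := 2498) h1 e2_1
  have h3 : ∀ u < 7471, (fun u => chkE tab 2 u) u = true := ext_range (a := 5010) (len := 2461) h2 e2_2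
  have h4 : ∀ u < 9977, (fun u => chkE tab 2 u) u = true := ext_range (a := 7471) (len := 2506) h3 e2_3
  have h5 : ∀ u < 12527, (fun u => chkE tab 2 u) u = true := ext_range (a := 9977) (len := 2550) h4 e2_4
  have h6 : ∀ u < 15060, (fun u => chkE tab 2 u) u = true := ext_range (a := 12527) (len := 2533) h5 e2_5
  have h7 : ∀ u < 17545, (fun u => chkE tab 2 u) u = true := ext_range (a := 15060) (len := 2485) h6 e2_6
  have h8 : ∀ u < 20014, (fun u => chkE tab 2 u) u = true := ext_range (a := 17545) (len := 2469) h7 e2_7
  have h9 : ∀ u < 22474, (fun u => chkE tab 2 u) u = true := ext_range (a := 20014) (len := 2460) h8 e2_8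
  have h10 : ∀ u < 24918, (fun u => chkE tab 2 u) u = true := ext_range (a := 22474) (len := 2444) h9 e2_9
  have h11 : ∀ u < 27301, (fun u => chkE tab 2 u) u = true := ext_range (a := 24918) (len := 2383) h10 e2_10
  have h12 : ∀ u < 29802, (fun u => chkE tab 2 u) u = true := ext_range (a := 27301) (len := 2501) h11 e2_11
  have h13 : ∀ u < 32162, (fun u => chkE tab 2 u) u = true := ext_range (a := 29802) (len := 2360) h12 e2_12
  have h14 : ∀ u < 34518, (fun u => chkE tab 2 u) u = true := ext_range (a := 32162) (len := 2356) h13 e2_13
  have h15 : ∀ u < 36922, (fun u => chkE tab 2 u) u = true := ext_range (a := 34518) (len := 2404) h14 e2_14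
  have h16 : ∀ u < 39251, (fun u => chkE tab 2 u) u = true := ext_range (a := 36922) (len := 2329) h15 e2_15
  have h17 : ∀ u < 41595, (fun u => chkE tab 2 u) u = true := ext_range (a := 39251) (len := 2344) h16 e2_16
  have h18 : ∀ u < 43934, (fun u => chkE tab 2 u) u = true := ext_range (a := 41595) (len := 2339) h17 e2_17
  have h19 : ∀ u < 46393, (fun u => chkE tab 2 u) u = true := ext_range (a := 43934) (len := 2459) h18 e2_18
  have h20 : ∀ u < 48821, (fun u => chkE tab 2 u) u = true := ext_range (a := 46393) (len := 2428) h19 e2_19
  have h21 : ∀ u < 51310, (fun u => chkE tab 2 u) u = true := ext_range (a := 48821) (len := 2489) h20 e2_20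
  have h22 : ∀ u < 53677, (fun u => chkE tab 2 u) u = true := ext_range (a := 51310) (len := 2367) h21 e2_21
  have h23 : ∀ u < 56201, (fun u => chkE tab 2 u) u = true := ext_range (a := 53677) (len := 2524) h22 e2_22
  have h24 : ∀ u < 58709, (fun u => chkE tab 2 u) u = true := ext_range (a := 56201) (len := 2508) h23 e2_23
  have h25 : ∀ u < 61161, (fun u => chkE tab 2 u) u = true := ext_range (a := 58709) (len := 2452) h24 e2_24
  have h26 : ∀ u < 63728, (fun u => chkE tab 2 u) u = true := ext_range (a := 61161) (len := 2567) h25 e2_25
  have h27 : ∀ u < 66230, (fun u => chkE tab 2 u) u = true := ext_range (a := 63728) (len := 2502) h26 e2_26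
  have h28 : ∀ u < 68778, (fun u => chkE tab 2 u) u = true := ext_range (a := 66230) (len := 2548) h27 e2_27
  have h29 : ∀ u < 71251, (fun u => chkE tab 2 u) u = true := ext_range (a := 68778) (len := 2473) h28 e2_28
  have h30 : ∀ u < 73759, (fun u => chkE tab 2 u) u = true := ext_range (a := 71251) (len := 2508) h29 e2_29
  have h31 : ∀ u < 76268, (fun u => chkE tab 2 u) u = true := ext_range (a := 73759) (len := 2509) h30 e2_30
  have h32 : ∀ u < 78811, (fun u => chkE tab 2 u) u = true := ext_range (a := 76268) (len := 2543) h31 e2_31
  have h33 : ∀ u < 81328, (fun u => chkE tab 2 u) u = true := ext_range (a := 78811) (len := 2517) h32 e2_32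
  have h34 : ∀ u < 83799, (fun u => chkE tab 2 u) u = true := ext_range (a := 81328) (len := 2471) h33 e2_33
  have h35 : ∀ u < 86309, (fun u => chkE tab 2 u) u = true := ext_range (a := 83799) (len := 2510) h34 e2_34
  have h36 : ∀ u < 88740, (fun u => chkE tab 2 u) u = true := ext_range (a := 86309) (len := 2431) h35 e2_35
  have h37 : ∀ u < 91171, (fun u => chkE tab 2 u) u = true := ext_range (a := 88740) (len := 2431) h36 e2_36
  have h38 : ∀ u < 93764, (fun u => chkE tab 2 u) u = true := ext_range (a := 91171) (len := 2593) h37 e2_37
  have h39 : ∀ u < 96407, (fun u => chkE tab 2 u) u = true := ext_range (a := 93764) (len := 2643) h38 e2_38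
  have h40 : ∀ u < 98923, (fun u => chkE tab 2 u) u = true := ext_range (a := 96407) (len := 2516) h39 e2_39
  have h41 : ∀ u < 101336, (fun u => chkE tab 2 u) u = true := ext_range (a := 98923) (len := 2413) h40 e2_40
  have h42 : ∀ u < 103656, (fun u => chkE tab 2 u) u = true := ext_range (a := 101336) (len := 2320) h41 e2_41
  have h43 : ∀ u < 106053, (fun u => chkE tab 2 u) u = true := ext_range (a := 103656) (len := 2397) h42 e2_42
  have h44 : ∀ u < 108364, (fun u => chkE tab 2 u) u = true := ext_range (a := 106053) (len := 2311) h43 e2_43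
  have h45 : ∀ u < 110859, (fun u => chkE tab 2 u) u = true := ext_range (a := 108364) (len := 2495) h44 e2_44
  have h46 : ∀ u < 113321, (fun u => chkE tab 2 u) u = true := ext_range (a := 110859) (len := 2462) h45 e2_45
  have h47 : ∀ u < 115722, (fun u => chkE tab 2 u) u = true := ext_range (a := 113321) (len := 2401) h46 e2_46
  have h48 : ∀ u < 117924, (fun u => chkE tab 2 u) u = true := ext_range (a := 115722) (len := 2202) h47 e2_47
  have h49 : ∀ u < 120282, (fun u => chkE tab 2 u) u = true := ext_range (a := 117924) (len := 2358) h48 e2_48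
  have h50 : ∀ u < 122406, (fun u => chkE tab 2 u) u = true := ext_range (a := 120282) (len := 2124) h49 e2_49
  have h51 : ∀ u < 124753, (fun u => chkE tab 2 u) u = true := ext_range (a := 122406) (len := 2347) h50 e2_50
  have h52 : ∀ u < 127029, (fun u => chkE tab 2 u) u = true := ext_range (a := 124753) (len := 2276) h51 e2_51
  have h53 : ∀ u < 129447, (fun u => chkE tab 2 u) u = true := ext_range (a := 127029) (len := 2418) h52 e2_52
  have h54 : ∀ u < 131731, (fun u => chkE tab 2 u) u = true := ext_range (a := 129447) (len := 2284) h53 e2_53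
  have h55 : ∀ u < 134001, (fun u => chkE tab 2 u) u = true := ext_range (a := 131731) (len := 2270) h54 e2_54
  have h56 : ∀ u < 136226, (fun u => chkE tab 2 u) u = true := ext_range (a := 134001) (len := 2225) h55 e2_55
  have h57 : ∀ u < 138636, (fun u => chkE tab 2 u) u = true := ext_range (a := 136226) (len := 2410) h56 e2_56
  have h58 : ∀ u < 140886, (fun u => chkE tab 2 u) u = true := ext_range (a := 138636) (len := 2250) h57 e2_57
  have h59 : ∀ u < 143135, (fun u => chkE tab 2 u) u = true := ext_range (a := 140886) (len := 2249) h58 e2_58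
  have h60 : ∀ u < 145466, (fun u => chkE tab 2 u) u = true := ext_range (a := 143135) (len := 2331) h59 e2_59
  have h61 : ∀ u < 147761, (fun u => chkE tab 2 u) u = true := ext_range (a := 145466) (len := 2295) h60 e2_60
  have h62 : ∀ u < 150034, (fun u => chkE tab 2 u) u = true := ext_range (a := 147761) (len := 2273) h61 e2_61
  have h63 : ∀ u < 152367, (fun u => chkE tab 2 u) u = true := ext_range (a := 150034) (len := 2333) h62 e2_62
  have h64 : ∀ u < 154921, (fun u => chkE tab 2 u) u = true := ext_range (a := 152367) (len := 2554) h63 e2_63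
  have h65 : ∀ u < 157332, (fun u => chkE tab 2 u) u = true := ext_range (a := 154921) (len := 2411) h64 e2_64
  have h66 : ∀ u < 159793, (fun u => chkE tab 2 u) u = true := ext_range (a := 157332) (len := 2461) h65 e2_65
  have h67 : ∀ u < 162153, (fun u => chkE tab 2 u) u = true := ext_range (a := 159793) (len := 2360) h66 e2_66
  have h68 : ∀ u < 164473, (fun u => chkE tab 2 u) u = true := ext_range (a := 162153) (len := 2320) h67 e2_67
  have h69 : ∀ u < 166692, (fun u => chkE tab 2 u) u = true := ext_range (a := 164473) (len := 2219) h68 e2_68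
  have h70 : ∀ u < 169195, (fun u => chkE tab 2 u) u = true := ext_range (a := 166692) (len := 2503) h69 e2_69
  have h71 : ∀ u < 171604, (fun u => chkE tab 2 u) u = true := ext_range (a := 169195) (len := 2409) h70 e2_70
  have h72 : ∀ u < 174051, (fun u => chkE tab 2 u) u = true := ext_range (a := 171604) (len := 2447) h71 e2_71
  have h73 : ∀ u < 176730, (fun u => chkE tab 2 u) u = true := ext_range (a := 174051) (len := 2679) h72 e2_72
  have h74 : ∀ u < 179278, (fun u => chkE tab 2 u) u = true := ext_range (a := 176730) (len := 2548) h73 e2_73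
  have h75 : ∀ u < 181924, (fun u => chkE tab 2 u) u = true := ext_range (a := 179278) (len := 2646) h74 e2_74
  have h76 : ∀ u < 184601, (fun u => chkE tab 2 u) u = true := ext_range (a := 181924) (len := 2677) h75 e2_75
  have h77 : ∀ u < 187330, (fun u => chkE tab 2 u) u = true := ext_range (a := 184601) (len := 2729) h76 e2_76
  have h78 : ∀ u < 189247, (fun u => chkE tab 2 u) u = true := ext_range (a := 187330) (len := 1917) h77 e2_77
  exact h78

theorem hE3 : ∀ u < 189247, chkE tab 3 u = true := by
  have h0 : ∀ u < 0, (fun u => chkE tab 3 u) u = true := range_zero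
  have h1 : ∀ u < 4061, (fun u => chkE tab 3 u) u = true := ext_range (a := 0) (len := 4061) h0 e3_0
  have h2 : ∀ u < 7961, (fun u => chkE tab 3 u) u = true := ext_range (a := 4061) (len := 3900) h1 e3_1
  have h3 : ∀ u < 11844, (fun u => chkE tab 3 u) u = true := ext_range (a := 7961) (len := 3883) h2 e3_2
  have h4 : ∀ u < 15414, (fun u => chkE tab 3 u) u = true := ext_range (a := 11844) (len := 3570) h3 e3_3
  have h5 : ∀ u < 19148, (fun u => chkE tab 3 u) u = true := ext_range (a := 15414) (len := 3734) h4 e3_4
  have h6 : ∀ u < 22492, (fun u => chkE tab 3 u) u = true := ext_range (a := 19148) (len := 3344) h5 e3_5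
  have h7 : ∀ u < 25825, (fun u => chkE tab 3 u) u = true := ext_range (a := 22492) (len := 3333) h6 e3_6
  have h8 : ∀ u < 28788, (fun u => chkE tab 3 u) u = true := ext_range (a := 25825) (len := 2963) h7 e3_7
  have h9 : ∀ u < 31817, (fun u => chkE tab 3 u) u = true := ext_range (a := 28788) (len := 3029) h8 e3_8
  have h10 : ∀ u < 35172, (fun u => chkE tab 3 u) u = true := ext_range (a := 31817) (len := 3355) h9 e3_9
  have h11 : ∀ u < 38125, (fun u => chkE tab 3 u) u = true := ext_range (a := 35172) (len := 2953) h10 e3_10
  have h12 : ∀ u < 40907, (fun u => chkE tab 3 u) u = true := ext_range (a := 38125) (len := 2782) h11 e3_11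
  have h13 : ∀ u < 43526, (fun u => chkE tab 3 u) u = true := ext_range (a := 40907) (len := 2619) h12 e3_12
  have h14 : ∀ u < 46727, (fun u => chkE tab 3 u) u = true := ext_range (a := 43526) (len := 3201) h13 e3_13
  have h15 : ∀ u < 49581, (fun u => chkE tab 3 u) u = true := ext_range (a := 46727) (len := 2854) h14 e3_14
  have h16 : ∀ u < 52396, (fun u => chkE tab 3 u) u = true := ext_range (a := 49581) (len := 2815) h15 e3_15
  have h17 : ∀ u < 55293, (fun u => chkE tab 3 u) u = true := ext_range (a := 52396) (len := 2897) h16 e3_16
  have h18 : ∀ u < 58769, (fun u => chkE tab 3 u) u = true := ext_range (a := 55293) (len := 3476) h17 e3_17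
  have h19 : ∀ u < 62091, (fun u => chkE tab 3 u) u = true := ext_range (a := 58769) (len := 3322) h18 e3_18
  have h20 : ∀ u < 64940, (fun u => chkE tab 3 u) u = true := ext_range (a := 62091) (len := 2849) h19 e3_19
  have h21 : ∀ u < 67885, (fun u => chkE tab 3 u) u = true := ext_range (a := 64940) (len := 2945) h20 e3_20
  have h22 : ∀ u < 70874, (fun u => chkE tab 3 u) u = true := ext_range (a := 67885) (len := 2989) h21 e3_21
  have h23 : ∀ u < 73889, (fun u => chkE tab 3 u) u = true := ext_range (a := 70874) (len := 3015) h22 e3_22
  have h24 : ∀ u < 76995, (fun u => chkE tab 3 u) u = true := ext_range (a := 73889) (len := 3106) h23 e3_23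
  have h25 : ∀ u < 80285, (fun u => chkE tab 3 u) u = true := ext_range (a := 76995) (len := 3290) h24 e3_24
  have h26 : ∀ u < 83337, (fun u => chkE tab 3 u) u = true := ext_range (a := 80285) (len := 3052) h25 e3_25
  have h27 : ∀ u < 86693, (fun u => chkE tab 3 u) u = true := ext_range (a := 83337) (len := 3356) h26 e3_26
  have h28 : ∀ u < 89636, (fun u => chkE tab 3 u) u = true := ext_range (a := 86693) (len := 2943) h27 e3_27
  have h29 : ∀ u < 92612, (fun u => chkE tab 3 u) u = true := ext_range (a := 89636) (len := 2976) h28 e3_28
  have h30 : ∀ u < 95428, (fun u => chkE tab 3 u) u = true := ext_range (a := 92612) (len := 2816) h29 e3_29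
  have h31 : ∀ u < 98310, (fun u => chkE tab 3 u) u = true := ext_range (a := 95428) (len := 2882) h30 e3_30
  have h32 : ∀ u < 101154, (fun u => chkE tab 3 u) u = true := ext_range (a := 98310) (len := 2844) h31 e3_31
  have h33 : ∀ u < 103904, (fun u => chkE tab 3 u) u = true := ext_range (a := 101154) (len := 2750) h32 e3_32
  have h34 : ∀ u < 106462, (fun u => chkE tab 3 u) u = true := ext_range (a := 103904) (len := 2558) h33 e3_33
  have h35 : ∀ u < 108972, (fun u => chkE tab 3 u) u = true := ext_range (a := 106462) (len := 2510) h34 e3_34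
  have h36 : ∀ u < 111632, (fun u => chkE tab 3 u) u = true := ext_range (a := 108972) (len := 2660) h35 e3_35
  have h37 : ∀ u < 114426, (fun u => chkE tab 3 u) u = true := ext_range (a := 111632) (len := 2794) h36 e3_36
  have h38 : ∀ u < 116849, (fun u => chkE tab 3 u) u = true := ext_range (a := 114426) (len := 2423) h37 e3_37
  have h39 : ∀ u < 119481, (fun u => chkE tab 3 u) u = true := ext_range (a := 116849) (len := 2632) h38 e3_38
  have h40 : ∀ u < 122013, (fun u => chkE tab 3 u) u = true := ext_range (a := 119481) (len := 2532) h39 e3_39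
  have h41 : ∀ u < 124517, (fun u => chkE tab 3 u) u = true := ext_range (a := 122013) (len := 2504) h40 e3_40
  have h42 : ∀ u < 127035, (fun u => chkE tab 3 u) u = true := ext_range (a := 124517) (len := 2518) h41 e3_41
  have h43 : ∀ u < 129498, (fun u => chkE tab 3 u) u = true := ext_range (a := 127035) (len := 2463) h42 e3_42
  have h44 : ∀ u < 131986, (fun u => chkE tab 3 u) u = true := ext_range (a := 129498) (len := 2488) h43 e3_43
  have h45 : ∀ u < 134444, (fun u => chkE tab 3 u) u = true := ext_range (a := 131986) (len := 2458) h44 e3_44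
  have h46 : ∀ u < 136844, (fun u => chkE tab 3 u) u = true := ext_range (a := 134444) (len := 2400) h45 e3_45
  have h47 : ∀ u < 139268, (fun u => chkE tab 3 u) u = true := ext_range (a := 136844) (len := 2424) h46 e3_46
  have h48 : ∀ u < 141703, (fun u => chkE tab 3 u) u = true := ext_range (a := 139268) (len := 2435) h47 e3_47
  have h49 : ∀ u < 144139, (fun u => chkE tab 3 u) u = true := ext_range (a := 141703) (len := 2436) h48 e3_48
  have h50 : ∀ u < 146637, (fun u => chkE tab 3 u) u = true := ext_range (a := 144139) (len := 2498) h49 e3_49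
  have h51 : ∀ u < 149036, (fun u => chkE tab 3 u) u = true := ext_range (a := 146637) (len := 2399) h50 e3_50
  have h52 : ∀ u < 151433, (fun u => chkE tab 3 u) u = true := ext_range (a := 149036) (len := 2397) h51 e3_51
  have h53 : ∀ u < 153926, (fun u => chkE tab 3 u) u = true := ext_range (a := 151433) (len := 2493) h52 e3_52
  have h54 : ∀ u < 156444, (fun u => chkE tab 3 u) u = true := ext_range (a := 153926) (len := 2518) h53 e3_53
  have h55 : ∀ u < 158894, (fun u => chkE tab 3 u) u = true := ext_range (a := 156444) (len := 2450) h54 e3_54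
  have h56 : ∀ u < 161480, (fun u => chkE tab 3 u) u = true := ext_range (a := 158894) (len := 2586) h55 e3_55
  have h57 : ∀ u < 163877, (fun u => chkE tab 3 u) u = true := ext_range (a := 161480) (len := 2397) h56 e3_56
  have h58 : ∀ u < 166286, (fun u => chkE tab 3 u) u = true := ext_range (a := 163877) (len := 2409) h57 e3_57
  have h59 : ∀ u < 168616, (fun u => chkE tab 3 u) u = true := ext_range (a := 166286) (len := 2330) h58 e3_58
  have h60 : ∀ u < 171126, (fun u => chkE tab 3 u) u = true := ext_range (a := 168616) (len := 2510) h59 e3_59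
  have h61 : ∀ u < 173782, (fun u => chkE tab 3 u) u = true := ext_range (a := 171126) (len := 2656) h60 e3_60
  have h62 : ∀ u < 176443, (fun u => chkE tab 3 u) u = true := ext_range (a := 173782) (len := 2661) h61 e3_61
  have h63 : ∀ u < 179134, (fun u => chkE tab 3 u) u = true := ext_range (a := 176443) (len := 2691) h62 e3_62
  have h64 : ∀ u < 181571, (fun u => chkE tab 3 u) u = true := ext_range (a := 179134) (len := 2437) h63 e3_63
  have h65 : ∀ u < 184383, (fun u => chkE tab 3 u) u = true := ext_range (a := 181571) (len := 2812) h64 e3_64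
  have h66 : ∀ u < 187428, (fun u => chkE tab 3 u) u = true := ext_range (a := 184383) (len := 3045) h65 e3_65
  have h67 : ∀ u < 189247, (fun u => chkE tab 3 u) u = true := ext_range (a := 187428) (len := 1819) h66 e3_66
  exact h67

theorem hE4 : ∀ u < 189247, chkE tab 4 u = true := by
  have h0 : ∀ u < 0, (fun u => chkE tab 4 u) u = true := range_zero
  have h1 : ∀ u < 3060, (fun u => chkE tab 4 u) u = true := ext_range (a := 0) (len := 3060) h0 e4_0
  have h2 : ∀ u < 6057, (fun u => chkE tab 4 u) u = true := ext_range (a := 3060) (len := 2997) h1 e4_1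
  have h3 : ∀ u < 9082, (fun u => chkE tab 4 u) u = true := ext_range (a := 6057) (len := 3025) h2 e4_2
  have h4 : ∀ u < 12015, (fun u => chkE tab 4 u) u = true := ext_range (a := 9082) (len := 2933) h3 e4_3
  have h5 : ∀ u < 14910, (fun u => chkE tab 4 u) u = true := ext_range (a := 12015) (len := 2895) h4 e4_4
  have h6 : ∀ u < 17920, (fun u => chkE tab 4 u) u = true := ext_range (a := 14910) (len := 3010) h5 e4_5
  have h7 : ∀ u < 20829, (fun u => chkE tab 4 u) u = true := ext_range (a := 17920) (len := 2909) h6 e4_6
  have h8 : ∀ u < 23789, (fun u => chkE tab 4 u) u = true := ext_range (a := 20829) (len := 2960) h7 e4_7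
  have h9 : ∀ u < 26657, (fun u => chkE tab 4 u) u = true := ext_range (a := 23789) (len := 2868) h8 e4_8
  have h10 : ∀ u < 29447, (fun u => chkE tab 4 u) u = true := ext_range (a := 26657) (len := 2790) h9 e4_9
  have h11 : ∀ u < 32272, (fun u => chkE tab 4 u) u = true := ext_range (a := 29447) (len := 2825) h10 e4_10
  have h12 : ∀ u < 35114, (fun u => chkE tab 4 u) u = true := ext_range (a := 32272) (len := 2842) h11 e4_11
  have h13 : ∀ u < 37964, (fun u => chkE tab 4 u) u = true := ext_range (a := 35114) (len := 2850) h12 e4_12
  have h14 : ∀ u < 40858, (fun u => chkE tab 4 u) u = true := ext_range (a := 37964) (len := 2894) h13 e4_13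
  have h15 : ∀ u < 43668, (fun u => chkE tab 4 u) u = true := ext_range (a := 40858) (len := 2810) h14 e4_14
  have h16 : ∀ u < 46613, (fun u => chkE tab 4 u) u = true := ext_range (a := 43668) (len := 2945) h15 e4_15
  have h17 : ∀ u < 49428, (fun u => chkE tab 4 u) u = true := ext_range (a := 46613) (len := 2815) h16 e4_16
  have h18 : ∀ u < 52340, (fun u => chkE tab 4 u) u = true := ext_range (a := 49428) (len := 2912) h17 e4_17
  have h19 : ∀ u < 55140, (fun u => chkE tab 4 u) u = true := ext_range (a := 52340) (len := 2800) h18 e4_18
  have h20 : ∀ u < 58114, (fun u => chkE tab 4 u) u = true := ext_range (a := 55140) (len := 2974) h19 e4_19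
  have h21 : ∀ u < 60942, (fun u => chkE tab 4 u) u = true := ext_range (a := 58114) (len := 2828) h20 e4_20
  have h22 : ∀ u < 63905, (fun u => chkE tab 4 u) u = true := ext_range (a := 60942) (len := 2963) h21 e4_21
  have h23 : ∀ u < 66812, (fun u => chkE tab 4 u) u = true := ext_range (a := 63905) (len := 2907) h22 e4_22
  have h24 : ∀ u < 69775, (fun u => chkE tab 4 u) u = true := ext_range (a := 66812) (len := 2963) h23 e4_23
  have h25 : ∀ u < 72789, (fun u => chkE tab 4 u) u = true := ext_range (a := 69775) (len := 3014) h24 e4_24
  have h26 : ∀ u < 75713, (fun u => chkE tab 4 u) u = true := ext_range (a := 72789) (len := 2924) h25 e4_25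
  have h27 : ∀ u < 78571, (fun u => chkE tab 4 u) u = true := ext_range (a := 75713) (len := 2858) h26 e4_26
  have h28 : ∀ u < 81398, (fun u => chkE tab 4 u) u = true := ext_range (a := 78571) (len := 2827) h27 e4_27
  have h29 : ∀ u < 84319, (fun u => chkE tab 4 u) u = true := ext_range (a := 81398) (len := 2921) h28 e4_28
  have h30 : ∀ u < 87278, (fun u => chkE tab 4 u) u = true := ext_range (a := 84319) (len := 2959) h29 e4_29
  have h31 : ∀ u < 90169, (fun u => chkE tab 4 u) u = true := ext_range (a := 87278) (len := 2891) h30 e4_30
  have h32 : ∀ u < 93055, (fun u => chkE tab 4 u) u = true := ext_range (a := 90169) (len := 2886) h31 e4_31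
  have h33 : ∀ u < 95985, (fun u => chkE tab 4 u) u = true := ext_range (a := 93055) (len := 2930) h32 e4_32
  have h34 : ∀ u < 98863, (fun u => chkE tab 4 u) u = true := ext_range (a := 95985) (len := 2878) h33 e4_33
  have h35 : ∀ u < 101654, (fun u => chkE tab 4 u) u = true := ext_range (a := 98863) (len := 2791) h34 e4_34
  have h36 : ∀ u < 104457, (fun u => chkE tab 4 u) u = true := ext_range (a := 101654) (len := 2803) h35 e4_35
  have h37 : ∀ u < 107289, (fun u => chkE tab 4 u) u = true := ext_range (a := 104457) (len := 2832) h36 e4_36
  have h38 : ∀ u < 110145, (fun u => chkE tab 4 u) u = true := ext_range (a := 107289) (len := 2856) h37 e4_37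
  have h39 : ∀ u < 112902, (fun u => chkE tab 4 u) u = true := ext_range (a := 110145) (len := 2757) h38 e4_38
  have h40 : ∀ u < 115724, (fun u => chkE tab 4 u) u = true := ext_range (a := 112902) (len := 2822) h39 e4_39
  have h41 : ∀ u < 118371, (fun u => chkE tab 4 u) u = true := ext_range (a := 115724) (len := 2647) h40 e4_40
  have h42 : ∀ u < 121193, (fun u => chkE tab 4 u) u = true := ext_range (a := 118371) (len := 2822) h41 e4_41
  have h43 : ∀ u < 123982, (fun u => chkE tab 4 u) u = true := ext_range (a := 121193) (len := 2789) h42 e4_42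
  have h44 : ∀ u < 126740, (fun u => chkE tab 4 u) u = true := ext_range (a := 123982) (len := 2758) h43 e4_43
  have h45 : ∀ u < 129450, (fun u => chkE tab 4 u) u = true := ext_range (a := 126740) (len := 2710) h44 e4_44
  have h46 : ∀ u < 132063, (fun u => chkE tab 4 u) u = true := ext_range (a := 129450) (len := 2613) h45 e4_45
  have h47 : ∀ u < 134790, (fun u => chkE tab 4 u) u = true := ext_range (a := 132063) (len := 2727) h46 e4_46
  have h48 : ∀ u < 137525, (fun u => chkE tab 4 u) u = true := ext_range (a := 134790) (len := 2735) h47 e4_47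
  have h49 : ∀ u < 140340, (fun u => chkE tab 4 u) u = true := ext_range (a := 137525) (len := 2815) h48 e4_48
  have h50 : ∀ u < 143264, (fun u => chkE tab 4 u) u = true := ext_range (a := 140340) (len := 2924) h49 e4_49
  have h51 : ∀ u < 146143, (fun u => chkE tab 4 u) u = true := ext_range (a := 143264) (len := 2879) h50 e4_50
  have h52 : ∀ u < 149007, (fun u => chkE tab 4 u) u = true := ext_range (a := 146143) (len := 2864) h51 e4_51
  have h53 : ∀ u < 151902, (fun u => chkE tab 4 u) u = true := ext_range (a := 149007) (len := 2895) h52 e4_52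
  have h54 : ∀ u < 155009, (fun u => chkE tab 4 u) u = true := ext_range (a := 151902) (len := 3107) h53 e4_53
  have h55 : ∀ u < 157941, (fun u => chkE tab 4 u) u = true := ext_range (a := 155009) (len := 2932) h54 e4_54
  have h56 : ∀ u < 161094, (fun u => chkE tab 4 u) u = true := ext_range (a := 157941) (len := 3153) h55 e4_55
  have h57 : ∀ u < 164123, (fun u => chkE tab 4 u) u = true := ext_range (a := 161094) (len := 3029) h56 e4_56
  have h58 : ∀ u < 167175, (fun u => chkE tab 4 u) u = true := ext_range (a := 164123) (len := 3052) h57 e4_57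
  have h59 : ∀ u < 170239, (fun u => chkE tab 4 u) u = true := ext_range (a := 167175) (len := 3064) h58 e4_58
  have h60 : ∀ u < 173194, (fun u => chkE tab 4 u) u = true := ext_range (a := 170239) (len := 2955) h59 e4_59
  have h61 : ∀ u < 176556, (fun u => chkE tab 4 u) u = true := ext_range (a := 173194) (len := 3362) h60 e4_60
  have h62 : ∀ u < 179718, (fun u => chkE tab 4 u) u = true := ext_range (a := 176556) (len := 3162) h61 e4_61
  have h63 : ∀ u < 183038, (fun u => chkE tab 4 u) u = true := ext_range (a := 179718) (len := 3320) h62 e4_62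
  have h64 : ∀ u < 186427, (fun u => chkE tab 4 u) u = true := ext_range (a := 183038) (len := 3389) h63 e4_63
  have h65 : ∀ u < 189247, (fun u => chkE tab 4 u) u = true := ext_range (a := 186427) (len := 2820) h64 e4_64
  exact h65

theorem hE5 : ∀ u < 189247, chkE tab 5 u = true := by
  have h0 : ∀ u < 0, (fun u => chkE tab 5 u) u = true := range_zero
  have h1 : ∀ u < 3429, (fun u => chkE tab 5 u) u = true := ext_range (a := 0) (len := 3429) h0 e5_0
  have h2 : ∀ u < 6916, (fun u => chkE tab 5 u) u = true := ext_range (a := 3429) (len := 3487) h1 e5_1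
  have h3 : ∀ u < 10442, (fun u => chkE tab 5 u) u = true := ext_range (a := 6916) (len := 3526) h2 e5_2
  have h4 : ∀ u < 13658, (fun u => chkE tab 5 u) u = true := ext_range (a := 10442) (len := 3216) h3 e5_3
  have h5 : ∀ u < 16947, (fun u => chkE tab 5 u) u = true := ext_range (a := 13658) (len := 3289) h4 e5_4
  have h6 : ∀ u < 20205, (fun u => chkE tab 5 u) u = true := ext_range (a := 16947) (len := 3258) h5 e5_5
  have h7 : ∀ u < 23308, (fun u => chkE tab 5 u) u = true := ext_range (a := 20205) (len := 3103) h6 e5_6
  have h8 : ∀ u < 26286, (fun u => chkE tab 5 u) u = true := ext_range (a := 23308) (len := 2978) h7 e5_7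
  have h9 : ∀ u < 29210, (fun u => chkE tab 5 u) u = true := ext_range (a := 26286) (len := 2924) h8 e5_8
  have h10 : ∀ u < 32396, (fun u => chkE tab 5 u) u = true := ext_range (a := 29210) (len := 3186) h9 e5_9
  have h11 : ∀ u < 35522, (fun u => chkE tab 5 u) u = true := ext_range (a := 32396) (len := 3126) h10 e5_10
  have h12 : ∀ u < 38454, (fun u => chkE tab 5 u) u = true := ext_range (a := 35522) (len := 2932) h11 e5_11
  have h13 : ∀ u < 41315, (fun u => chkE tab 5 u) u = true := ext_range (a := 38454) (len := 2861) h12 e5_12
  have h14 : ∀ u < 44030, (fun u => chkE tab 5 u) u = true := ext_range (a := 41315) (len := 2715) h13 e5_13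
  have h15 : ∀ u < 47125, (fun u => chkE tab 5 u) u = true := ext_range (a := 44030) (len := 3095) h14 e5_14
  have h16 : ∀ u < 50025, (fun u => chkE tab 5 u) u = true := ext_range (a := 47125) (len := 2900) h15 e5_15
  have h17 : ∀ u < 52997, (fun u => chkE tab 5 u) u = true := ext_range (a := 50025) (len := 2972) h16 e5_16
  have h18 : ∀ u < 56123, (fun u => chkE tab 5 u) u = true := ext_range (a := 52997) (len := 3126) h17 e5_17
  have h19 : ∀ u < 59124, (fun u => chkE tab 5 u) u = true := ext_range (a := 56123) (len := 3001) h18 e5_18
  have h20 : ∀ u < 62121, (fun u => chkE tab 5 u) u = true := ext_range (a := 59124) (len := 2997) h19 e5_19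
  have h21 : ∀ u < 65133, (fun u => chkE tab 5 u) u = true := ext_range (a := 62121) (len := 3012) h20 e5_20
  have h22 : ∀ u < 68151, (fun u => chkE tab 5 u) u = true := ext_range (a := 65133) (len := 3018) h21 e5_21
  have h23 : ∀ u < 71131, (fun u => chkE tab 5 u) u = true := ext_range (a := 68151) (len := 2980) h22 e5_22
  have h24 : ∀ u < 74133, (fun u => chkE tab 5 u) u = true := ext_range (a := 71131) (len := 3002) h23 e5_23
  have h25 : ∀ u < 77197, (fun u => chkE tab 5 u) u = true := ext_range (a := 74133) (len := 3064) h24 e5_24
  have h26 : ∀ u < 80254, (fun u => chkE tab 5 u) u = true := ext_range (a := 77197) (len := 3057) h25 e5_25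
  have h27 : ∀ u < 83328, (fun u => chkE tab 5 u) u = true := ext_range (a := 80254) (len := 3074) h26 e5_26
  have h28 : ∀ u < 86424, (fun u => chkE tab 5 u) u = true := ext_range (a := 83328) (len := 3096) h27 e5_27
  have h29 : ∀ u < 89324, (fun u => chkE tab 5 u) u = true := ext_range (a := 86424) (len := 2900) h28 e5_28
  have h30 : ∀ u < 92351, (fun u => chkE tab 5 u) u = true := ext_range (a := 89324) (len := 3027) h29 e5_29
  have h31 : ∀ u < 95407, (fun u => chkE tab 5 u) u = true := ext_range (a := 92351) (len := 3056) h30 e5_30
  have h32 : ∀ u < 98353, (fun u => chkE tab 5 u) u = true := ext_range (a := 95407) (len := 2946) h31 e5_31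
  have h33 : ∀ u < 101367, (fun u => chkE tab 5 u) u = true := ext_range (a := 98353) (len := 3014) h32 e5_32
  have h34 : ∀ u < 104270, (fun u => chkE tab 5 u) u = true := ext_range (a := 101367) (len := 2903) h33 e5_33
  have h35 : ∀ u < 106933, (fun u => chkE tab 5 u) u = true := ext_range (a := 104270) (len := 2663) h34 e5_34
  have h36 : ∀ u < 109778, (fun u => chkE tab 5 u) u = true := ext_range (a := 106933) (len := 2845) h35 e5_35
  have h37 : ∀ u < 112516, (fun u => chkE tab 5 u) u = true := ext_range (a := 109778) (len := 2738) h36 e5_36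
  have h38 : ∀ u < 115255, (fun u => chkE tab 5 u) u = true := ext_range (a := 112516) (len := 2739) h37 e5_37
  have h39 : ∀ u < 117982, (fun u => chkE tab 5 u) u = true := ext_range (a := 115255) (len := 2727) h38 e5_38
  have h40 : ∀ u < 120793, (fun u => chkE tab 5 u) u = true := ext_range (a := 117982) (len := 2811) h39 e5_39
  have h41 : ∀ u < 123401, (fun u => chkE tab 5 u) u = true := ext_range (a := 120793) (len := 2608) h40 e5_40
  have h42 : ∀ u < 126063, (fun u => chkE tab 5 u) u = true := ext_range (a := 123401) (len := 2662) h41 e5_41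
  have h43 : ∀ u < 128698, (fun u => chkE tab 5 u) u = true := ext_range (a := 126063) (len := 2635) h42 e5_42
  have h44 : ∀ u < 131336, (fun u => chkE tab 5 u) u = true := ext_range (a := 128698) (len := 2638) h43 e5_43
  have h45 : ∀ u < 134071, (fun u => chkE tab 5 u) u = true := ext_range (a := 131336) (len := 2735) h44 e5_44
  have h46 : ∀ u < 136724, (fun u => chkE tab 5 u) u = true := ext_range (a := 134071) (len := 2653) h45 e5_45
  have h47 : ∀ u < 139426, (fun u => chkE tab 5 u) u = true := ext_range (a := 136724) (len := 2702) h46 e5_46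
  have h48 : ∀ u < 142072, (fun u => chkE tab 5 u) u = true := ext_range (a := 139426) (len := 2646) h47 e5_47
  have h49 : ∀ u < 144762, (fun u => chkE tab 5 u) u = true := ext_range (a := 142072) (len := 2690) h48 e5_48
  have h50 : ∀ u < 147410, (fun u => chkE tab 5 u) u = true := ext_range (a := 144762) (len := 2648) h49 e5_49
  have h51 : ∀ u < 150038, (fun u => chkE tab 5 u) u = true := ext_range (a := 147410) (len := 2628) h50 e5_50
  have h52 : ∀ u < 152723, (fun u => chkE tab 5 u) u = true := ext_range (a := 150038) (len := 2685) h51 e5_51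
  have h53 : ∀ u < 155468, (fun u => chkE tab 5 u) u = true := ext_range (a := 152723) (len := 2745) h52 e5_52
  have h54 : ∀ u < 158186, (fun u => chkE tab 5 u) u = true := ext_range (a := 155468) (len := 2718) h53 e5_53
  have h55 : ∀ u < 160811, (fun u => chkE tab 5 u) u = true := ext_range (a := 158186) (len := 2625) h54 e5_54
  have h56 : ∀ u < 163518, (fun u => chkE tab 5 u) u = true := ext_range (a := 160811) (len := 2707) h55 e5_55
  have h57 : ∀ u < 166269, (fun u => chkE tab 5 u) u = true := ext_range (a := 163518) (len := 2751) h56 e5_56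
  have h58 : ∀ u < 168942, (fun u => chkE tab 5 u) u = true := ext_range (a := 166269) (len := 2673) h57 e5_57
  have h59 : ∀ u < 171679, (fun u => chkE tab 5 u) u = true := ext_range (a := 168942) (len := 2737) h58 e5_58
  have h60 : ∀ u < 174548, (fun u => chkE tab 5 u) u = true := ext_range (a := 171679) (len := 2869) h59 e5_59
  have h61 : ∀ u < 177412, (fun u => chkE tab 5 u) u = true := ext_range (a := 174548) (len := 2864) h60 e5_60
  have h62 : ∀ u < 180197, (fun u => chkE tab 5 u) u = true := ext_range (a := 177412) (len := 2785) h61 e5_61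
  have h63 : ∀ u < 183081, (fun u => chkE tab 5 u) u = true := ext_range (a := 180197) (len := 2884) h62 e5_62
  have h64 : ∀ u < 186191, (fun u => chkE tab 5 u) u = true := ext_range (a := 183081) (len := 3110) h63 e5_63
  have h65 : ∀ u < 189247, (fun u => chkE tab 5 u) u = true := ext_range (a := 186191) (len := 3056) h64 e5_64
  exact h65

theorem hE6 : ∀ u < 189247, chkE tab 6 u = true := by
  have h0 : ∀ u < 0, (fun u => chkE tab 6 u) u = true := range_zero
  have h1 : ∀ u < 3309, (fun u => chkE tab 6 u) u = true := ext_range (a := 0) (len := 3309) h0 e6_0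
  have h2 : ∀ u < 6666, (fun u => chkE tab 6 u) u = true := ext_range (a := 3309) (len := 3357) h1 e6_1
  have h3 : ∀ u < 10028, (fun u => chkE tab 6 u) u = true := ext_range (a := 6666) (len := 3362) h2 e6_2
  have h4 : ∀ u < 13155, (fun u => chkE tab 6 u) u = true := ext_range (a := 10028) (len := 3127) h3 e6_3
  have h5 : ∀ u < 16293, (fun u => chkE tab 6 u) u = true := ext_range (a := 13155) (len := 3138) h4 e6_4
  have h6 : ∀ u < 19554, (fun u => chkE tab 6 u) u = true := ext_range (a := 16293) (len := 3261) h5 e6_5
  have h7 : ∀ u < 22606, (fun u => chkE tab 6 u) u = true := ext_range (a := 19554) (len := 3052) h6 e6_6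
  have h8 : ∀ u < 25491, (fun u => chkE tab 6 u) u = true := ext_range (a := 22606) (len := 2885) h7 e6_7
  have h9 : ∀ u < 28435, (fun u => chkE tab 6 u) u = true := ext_range (a := 25491) (len := 2944) h8 e6_8
  have h10 : ∀ u < 31385, (fun u => chkE tab 6 u) u = true := ext_range (a := 28435) (len := 2950) h9 e6_9
  have h11 : ∀ u < 34406, (fun u => chkE tab 6 u) u = true := ext_range (a := 31385) (len := 3021) h10 e6_10
  have h12 : ∀ u < 37327, (fun u => chkE tab 6 u) u = true := ext_range (a := 34406) (len := 2921) h11 e6_11
  have h13 : ∀ u < 40167, (fun u => chkE tab 6 u) u = true := ext_range (a := 37327) (len := 2840) h12 e6_12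
  have h14 : ∀ u < 42925, (fun u => chkE tab 6 u) u = true := ext_range (a := 40167) (len := 2758) h13 e6_13
  have h15 : ∀ u < 45692, (fun u => chkE tab 6 u) u = true := ext_range (a := 42925) (len := 2767) h14 e6_14
  have h16 : ∀ u < 48673, (fun u => chkE tab 6 u) u = true := ext_range (a := 45692) (len := 2981) h15 e6_15
  have h17 : ∀ u < 51426, (fun u => chkE tab 6 u) u = true := ext_range (a := 48673) (len := 2753) h16 e6_16
  have h18 : ∀ u < 54388, (fun u => chkE tab 6 u) u = true := ext_range (a := 51426) (len := 2962) h17 e6_17
  have h19 : ∀ u < 57371, (fun u => chkE tab 6 u) u = true := ext_range (a := 54388) (len := 2983) h18 e6_18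
  have h20 : ∀ u < 60362, (fun u => chkE tab 6 u) u = true := ext_range (a := 57371) (len := 2991) h19 e6_19
  have h21 : ∀ u < 63278, (fun u => chkE tab 6 u) u = true := ext_range (a := 60362) (len := 2916) h20 e6_20
  have h22 : ∀ u < 66255, (fun u => chkE tab 6 u) u = true := ext_range (a := 63278) (len := 2977) h21 e6_21
  have h23 : ∀ u < 69087, (fun u => chkE tab 6 u) u = true := ext_range (a := 66255) (len := 2832) h22 e6_22
  have h24 : ∀ u < 72136, (fun u => chkE tab 6 u) u = true := ext_range (a := 69087) (len := 3049) h23 e6_23
  have h25 : ∀ u < 75011, (fun u => chkE tab 6 u) u = true := ext_range (a := 72136) (len := 2875) h24 e6_24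
  have h26 : ∀ u < 78032, (fun u => chkE tab 6 u) u = true := ext_range (a := 75011) (len := 3021) h25 e6_25
  have h27 : ∀ u < 80936, (fun u => chkE tab 6 u) u = true := ext_range (a := 78032) (len := 2904) h26 e6_26
  have h28 : ∀ u < 83897, (fun u => chkE tab 6 u) u = true := ext_range (a := 80936) (len := 2961) h27 e6_27
  have h29 : ∀ u < 86882, (fun u => chkE tab 6 u) u = true := ext_range (a := 83897) (len := 2985) h28 e6_28
  have h30 : ∀ u < 89759, (fun u => chkE tab 6 u) u = true := ext_range (a := 86882) (len := 2877) h29 e6_29
  have h31 : ∀ u < 92712, (fun u => chkE tab 6 u) u = true := ext_range (a := 89759) (len := 2953) h30 e6_30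
  have h32 : ∀ u < 95744, (fun u => chkE tab 6 u) u = true := ext_range (a := 92712) (len := 3032) h31 e6_31
  have h33 : ∀ u < 98741, (fun u => chkE tab 6 u) u = true := ext_range (a := 95744) (len := 2997) h32 e6_32
  have h34 : ∀ u < 101590, (fun u => chkE tab 6 u) u = true := ext_range (a := 98741) (len := 2849) h33 e6_33
  have h35 : ∀ u < 104364, (fun u => chkE tab 6 u) u = true := ext_range (a := 101590) (len := 2774) h34 e6_34
  have h36 : ∀ u < 106935, (fun u => chkE tab 6 u) u = true := ext_range (a := 104364) (len := 2571) h35 e6_35
  have h37 : ∀ u < 109630, (fun u => chkE tab 6 u) u = true := ext_range (a := 106935) (len := 2695) h36 e6_36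
  have h38 : ∀ u < 112348, (fun u => chkE tab 6 u) u = true := ext_range (a := 109630) (len := 2718) h37 e6_37
  have h39 : ∀ u < 114960, (fun u => chkE tab 6 u) u = true := ext_range (a := 112348) (len := 2612) h38 e6_38
  have h40 : ∀ u < 117562, (fun u => chkE tab 6 u) u = true := ext_range (a := 114960) (len := 2602) h39 e6_39
  have h41 : ∀ u < 120302, (fun u => chkE tab 6 u) u = true := ext_range (a := 117562) (len := 2740) h40 e6_40
  have h42 : ∀ u < 122899, (fun u => chkE tab 6 u) u = true := ext_range (a := 120302) (len := 2597) h41 e6_41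
  have h43 : ∀ u < 125475, (fun u => chkE tab 6 u) u = true := ext_range (a := 122899) (len := 2576) h42 e6_42
  have h44 : ∀ u < 128031, (fun u => chkE tab 6 u) u = true := ext_range (a := 125475) (len := 2556) h43 e6_43
  have h45 : ∀ u < 130573, (fun u => chkE tab 6 u) u = true := ext_range (a := 128031) (len := 2542) h44 e6_44
  have h46 : ∀ u < 133140, (fun u => chkE tab 6 u) u = true := ext_range (a := 130573) (len := 2567) h45 e6_45
  have h47 : ∀ u < 135645, (fun u => chkE tab 6 u) u = true := ext_range (a := 133140) (len := 2505) h46 e6_46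
  have h48 : ∀ u < 138260, (fun u => chkE tab 6 u) u = true := ext_range (a := 135645) (len := 2615) h47 e6_47
  have h49 : ∀ u < 140810, (fun u => chkE tab 6 u) u = true := ext_range (a := 138260) (len := 2550) h48 e6_48
  have h50 : ∀ u < 143369, (fun u => chkE tab 6 u) u = true := ext_range (a := 140810) (len := 2559) h49 e6_49
  have h51 : ∀ u < 146026, (fun u => chkE tab 6 u) u = true := ext_range (a := 143369) (len := 2657) h50 e6_50
  have h52 : ∀ u < 148501, (fun u => chkE tab 6 u) u = true := ext_range (a := 146026) (len := 2475) h51 e6_51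
  have h53 : ∀ u < 151097, (fun u => chkE tab 6 u) u = true := ext_range (a := 148501) (len := 2596) h52 e6_52
  have h54 : ∀ u < 153717, (fun u => chkE tab 6 u) u = true := ext_range (a := 151097) (len := 2620) h53 e6_53
  have h55 : ∀ u < 156366, (fun u => chkE tab 6 u) u = true := ext_range (a := 153717) (len := 2649) h54 e6_54
  have h56 : ∀ u < 158931, (fun u => chkE tab 6 u) u = true := ext_range (a := 156366) (len := 2565) h55 e6_55
  have h57 : ∀ u < 161556, (fun u => chkE tab 6 u) u = true := ext_range (a := 158931) (len := 2625) h56 e6_56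
  have h58 : ∀ u < 164109, (fun u => chkE tab 6 u) u = true := ext_range (a := 161556) (len := 2553) h57 e6_57
  have h59 : ∀ u < 166730, (fun u => chkE tab 6 u) u = true := ext_range (a := 164109) (len := 2621) h58 e6_58
  have h60 : ∀ u < 169364, (fun u => chkE tab 6 u) u = true := ext_range (a := 166730) (len := 2634) h59 e6_59
  have h61 : ∀ u < 172051, (fun u => chkE tab 6 u) u = true := ext_range (a := 169364) (len := 2687) h60 e6_60
  have h62 : ∀ u < 174894, (fun u => chkE tab 6 u) u = true := ext_range (a := 172051) (len := 2843) h61 e6_61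
  have h63 : ∀ u < 177688, (fun u => chkE tab 6 u) u = true := ext_range (a := 174894) (len := 2794) h62 e6_62
  have h64 : ∀ u < 180381, (fun u => chkE tab 6 u) u = true := ext_range (a := 177688) (len := 2693) h63 e6_63
  have h65 : ∀ u < 183275, (fun u => chkE tab 6 u) u = true := ext_range (a := 180381) (len := 2894) h64 e6_64
  have h66 : ∀ u < 186436, (fun u => chkE tab 6 u) u = true := ext_range (a := 183275) (len := 3161) h65 e6_65
  have h67 : ∀ u < 189247, (fun u => chkE tab 6 u) u = true := ext_range (a := 186436) (len := 2811) h66 e6_66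
  exact h67

theorem hL : ∀ u < 189247, chkL tab u = true := by
  have h0 : ∀ u < 0, (fun u => chkL tab u) u = true := range_zero
  have h1 : ∀ u < 37425, (fun u => chkL tab u) u = true := ext_range (a := 0) (len := 37425) h0 l_0
  have h2 : ∀ u < 81116, (fun u => chkL tab u) u = true := ext_range (a := 37425) (len := 43691) h1 l_1
  have h3 : ∀ u < 125571, (fun u => chkL tab u) u = true := ext_range (a := 81116) (len := 44455) h2 l_2
  have h4 : ∀ u < 189247, (fun u => chkL tab u) u = true := ext_range (a := 125571) (len := 63676) h3 l_3
  exact h4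

theorem hF : ∀ u < 187425, chkFin tab u = true := by
  have h0 : ∀ u < 0, (fun u => chkFin tab u) u = true := range_zero
  have h1 : ∀ u < 348, (fun u => chkFin tab u) u = true := ext_range (a := 0) (len := 348) h0 f_0
  have h2 : ∀ u < 696, (fun u => chkFin tab u) u = true := ext_range (a := 348) (len := 348) h1 f_1
  have h3 : ∀ u < 1044, (fun u => chkFin tab u) u = true := ext_range (a := 696) (len := 348) h2 f_2
  have h4 : ∀ u < 1392, (fun u => chkFin tab u) u = true := ext_range (a := 1044) (len := 348) h3 f_3
  have h5 : ∀ u < 1740, (fun u => chkFin tab u) u = true := ext_range (a := 1392) (len := 348) h4 f_4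
  have h6 : ∀ u < 2088, (fun u => chkFin tab u) u = true := ext_range (a := 1740) (len := 348) h5 f_5
  have h7 : ∀ u < 2436, (fun u => chkFin tab u) u = true := ext_range (a := 2088) (len := 348) h6 f_6
  have h8 : ∀ u < 2784, (fun u => chkFin tab u) u = true := ext_range (a := 2436) (len := 348) h7 f_7
  have h9 : ∀ u < 3132, (fun u => chkFin tab u) u = true := ext_range (a := 2784) (len := 348) h8 f_8
  have h10 : ∀ u < 3480, (fun u => chkFin tab u) u = true := ext_range (a := 3132) (len := 348) h9 f_9
  have h11 : ∀ u < 3828, (fun u => chkFin tab u) u = true := ext_range (a := 3480) (len := 348) h10 f_10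
  have h12 : ∀ u < 4176, (fun u => chkFin tab u) u = true := ext_range (a := 3828) (len := 348) h11 f_11
  have h13 : ∀ u < 4524, (fun u => chkFin tab u) u = true := ext_range (a := 4176) (len := 348) h12 f_12
  have h14 : ∀ u < 4872, (fun u => chkFin tab u) u = true := ext_range (a := 4524) (len := 348) h13 f_13
  have h15 : ∀ u < 5220, (fun u => chkFin tab u) u = true := ext_range (a := 4872) (len := 348) h14 f_14
  have h16 : ∀ u < 5568, (fun u => chkFin tab u) u = true := ext_range (a := 5220) (len := 348) h15 f_15
  have h17 : ∀ u < 5916, (fun u => chkFin tab u) u = true := ext_range (a := 5568) (len := 348) h16 f_16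
  have h18 : ∀ u < 6264, (fun u => chkFin tab u) u = true := ext_range (a := 5916) (len := 348) h17 f_17
  have h19 : ∀ u < 6612, (fun u => chkFin tab u) u = true := ext_range (a := 6264) (len := 348) h18 f_18
  have h20 : ∀ u < 6960, (fun u => chkFin tab u) u = true := ext_range (a := 6612) (len := 348) h19 f_19
  have h21 : ∀ u < 7308, (fun u => chkFin tab u) u = true := ext_range (a := 6960) (len := 348) h20 f_20
  have h22 : ∀ u < 7656, (fun u => chkFin tab u) u = true := ext_range (a := 7308) (len := 348) h21 f_21
  have h23 : ∀ u < 8004, (fun u => chkFin tab u) u = true := ext_range (a := 7656) (len := 348) h22 f_22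
  have h24 : ∀ u < 8352, (fun u => chkFin tab u) u = true := ext_range (a := 8004) (len := 348) h23 f_23
  have h25 : ∀ u < 8700, (fun u => chkFin tab u) u = true := ext_range (a := 8352) (len := 348) h24 f_24
  have h26 : ∀ u < 9048, (fun u => chkFin tab u) u = true := ext_range (a := 8700) (len := 348) h25 f_25
  have h27 : ∀ u < 9396, (fun u => chkFin tab u) u = true := ext_range (a := 9048) (len := 348) h26 f_26
  have h28 : ∀ u < 9744, (fun u => chkFin tab u) u = true := ext_range (a := 9396) (len := 348) h27 f_27
  have h29 : ∀ u < 10092, (fun u => chkFin tab u) u = true := ext_range (a := 9744) (len := 348) h28 f_28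
  have h30 : ∀ u < 10440, (fun u => chkFin tab u) u = true := ext_range (a := 10092) (len := 348) h29 f_29
  have h31 : ∀ u < 10788, (fun u => chkFin tab u) u = true := ext_range (a := 10440) (len := 348) h30 f_30
  have h32 : ∀ u < 11136, (fun u => chkFin tab u) u = true := ext_range (a := 10788) (len := 348) h31 f_31
  have h33 : ∀ u < 11484, (fun u => chkFin tab u) u = true := ext_range (a := 11136) (len := 348) h32 f_32
  have h34 : ∀ u < 11832, (fun u => chkFin tab u) u = true := ext_range (a := 11484) (len := 348) h33 f_33
  have h35 : ∀ u < 12180, (fun u => chkFin tab u) u = true := ext_range (a := 11832) (len := 348) h34 f_34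
  have h36 : ∀ u < 12528, (fun u => chkFin tab u) u = true := ext_range (a := 12180) (len := 348) h35 f_35
  have h37 : ∀ u < 12876, (fun u => chkFin tab u) u = true := ext_range (a := 12528) (len := 348) h36 f_36
  have h38 : ∀ u < 13224, (fun u => chkFin tab u) u = true := ext_range (a := 12876) (len := 348) h37 f_37
  have h39 : ∀ u < 13572, (fun u => chkFin tab u) u = true := ext_range (a := 13224) (len := 348) h38 f_38
  have h40 : ∀ u < 13920, (fun u => chkFin tab u) u = true := ext_range (a := 13572) (len := 348) h39 f_39
  have h41 : ∀ u < 14268, (fun u => chkFin tab u) u = true := ext_range (a := 13920) (len := 348) h40 f_40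
  have h42 : ∀ u < 14616, (fun u => chkFin tab u) u = true := ext_range (a := 14268) (len := 348) h41 f_41
  have h43 : ∀ u < 14964, (fun u => chkFin tab u) u = true := ext_range (a := 14616) (len := 348) h42 f_42
  have h44 : ∀ u < 15312, (fun u => chkFin tab u) u = true := ext_range (a := 14964) (len := 348) h43 f_43
  have h45 : ∀ u < 15660, (fun u => chkFin tab u) u = true := ext_range (a := 15312) (len := 348) h44 f_44
  have h46 : ∀ u < 16008, (fun u => chkFin tab u) u = true := ext_range (a := 15660) (len := 348) h45 f_45
  have h47 : ∀ u < 16356, (fun u => chkFin tab u) u = true := ext_range (a := 16008) (len := 348) h46 f_46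
  have h48 : ∀ u < 16704, (fun u => chkFin tab u) u = true := ext_range (a := 16356) (len := 348) h47 f_47
  have h49 : ∀ u < 17052, (fun u => chkFin tab u) u = true := ext_range (a := 16704) (len := 348) h48 f_48
  have h50 : ∀ u < 17400, (fun u => chkFin tab u) u = true := ext_range (a := 17052) (len := 348) h49 f_49
  have h51 : ∀ u < 17748, (fun u => chkFin tab u) u = true := ext_range (a := 17400) (len := 348) h50 f_50
  have h52 : ∀ u < 18096, (fun u => chkFin tab u) u = true := ext_range (a := 17748) (len := 348) h51 f_51
  have h53 : ∀ u < 18444, (fun u => chkFin tab u) u = true := ext_range (a := 18096) (len := 348) h52 f_52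
  have h54 : ∀ u < 18792, (fun u => chkFin tab u) u = true := ext_range (a := 18444) (len := 348) h53 f_53
  have h55 : ∀ u < 19140, (fun u => chkFin tab u) u = true := ext_range (a := 18792) (len := 348) h54 f_54
  have h56 : ∀ u < 19488, (fun u => chkFin tab u) u = true := ext_range (a := 19140) (len := 348) h55 f_55
  have h57 : ∀ u < 19836, (fun u => chkFin tab u) u = true := ext_range (a := 19488) (len := 348) h56 f_56
  have h58 : ∀ u < 20184, (fun u => chkFin tab u) u = true := ext_range (a := 19836) (len := 348) h57 f_57
  have h59 : ∀ u < 20532, (fun u => chkFin tab u) u = true := ext_range (a := 20184) (len := 348) h58 f_58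
  have h60 : ∀ u < 20880, (fun u => chkFin tab u) u = true := ext_range (a := 20532) (len := 348) h59 f_59
  have h61 : ∀ u < 21228, (fun u => chkFin tab u) u = true := ext_range (a := 20880) (len := 348) h60 f_60
  have h62 : ∀ u < 21576, (fun u => chkFin tab u) u = true := ext_range (a := 21228) (len := 348) h61 f_61
  have h63 : ∀ u < 21924, (fun u => chkFin tab u) u = true := ext_range (a := 21576) (len := 348) h62 f_62
  have h64 : ∀ u < 22272, (fun u => chkFin tab u) u = true := ext_range (a := 21924) (len := 348) h63 f_63
  have h65 : ∀ u < 22620, (fun u => chkFin tab u) u = true := ext_range (a := 22272) (len := 348) h64 f_64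
  have h66 : ∀ u < 22968, (fun u => chkFin tab u) u = true := ext_range (a := 22620) (len := 348) h65 f_65
  have h67 : ∀ u < 23316, (fun u => chkFin tab u) u = true := ext_range (a := 22968) (len := 348) h66 f_66
  have h68 : ∀ u < 23664, (fun u => chkFin tab u) u = true := ext_range (a := 23316) (len := 348) h67 f_67
  have h69 : ∀ u < 24012, (fun u => chkFin tab u) u = true := ext_range (a := 23664) (len := 348) h68 f_68
  have h70 : ∀ u < 24360, (fun u => chkFin tab u) u = true := ext_range (a := 24012) (len := 348) h69 f_69
  have h71 : ∀ u < 24708, (fun u => chkFin tab u) u = true := ext_range (a := 24360) (len := 348) h70 f_70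
  have h72 : ∀ u < 25056, (fun u => chkFin tab u) u = true := ext_range (a := 24708) (len := 348) h71 f_71
  have h73 : ∀ u < 25404, (fun u => chkFin tab u) u = true := ext_range (a := 25056) (len := 348) h72 f_72
  have h74 : ∀ u < 25752, (fun u => chkFin tab u) u = true := ext_range (a := 25404) (len := 348) h73 f_73
  have h75 : ∀ u < 26100, (fun u => chkFin tab u) u = true := ext_range (a := 25752) (len := 348) h74 f_74
  have h76 : ∀ u < 26448, (fun u => chkFin tab u) u = true := ext_range (a := 26100) (len := 348) h75 f_75
  have h77 : ∀ u < 26796, (fun u => chkFin tab u) u = true := ext_range (a := 26448) (len := 348) h76 f_76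
  have h78 : ∀ u < 27144, (fun u => chkFin tab u) u = true := ext_range (a := 26796) (len := 348) h77 f_77
  have h79 : ∀ u < 27492, (fun u => chkFin tab u) u = true := ext_range (a := 27144) (len := 348) h78 f_78
  have h80 : ∀ u < 27840, (fun u => chkFin tab u) u = true := ext_range (a := 27492) (len := 348) h79 f_79
  have h81 : ∀ u < 28188, (fun u => chkFin tab u) u = true := ext_range (a := 27840) (len := 348) h80 f_80
  have h82 : ∀ u < 28536, (fun u => chkFin tab u) u = true := ext_range (a := 28188) (len := 348) h81 f_81
  have h83 : ∀ u < 28884, (fun u => chkFin tab u) u = true := ext_range (a := 28536) (len := 348) h82 f_82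
  have h84 : ∀ u < 29232, (fun u => chkFin tab u) u = true := ext_range (a := 28884) (len := 348) h83 f_83
  have h85 : ∀ u < 29580, (fun u => chkFin tab u) u = true := ext_range (a := 29232) (len := 348) h84 f_84
  have h86 : ∀ u < 29928, (fun u => chkFin tab u) u = true := ext_range (a := 29580) (len := 348) h85 f_85
  have h87 : ∀ u < 30276, (fun u => chkFin tab u) u = true := ext_range (a := 29928) (len := 348) h86 f_86
  have h88 : ∀ u < 30624, (fun u => chkFin tab u) u = true := ext_range (a := 30276) (len := 348) h87 f_87
  have h89 : ∀ u < 30972, (fun u => chkFin tab u) u = true := ext_range (a := 30624) (len := 348) h88 f_88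
  have h90 : ∀ u < 31320, (fun u => chkFin tab u) u = true := ext_range (a := 30972) (len := 348) h89 f_89
  have h91 : ∀ u < 31668, (fun u => chkFin tab u) u = true := ext_range (a := 31320) (len := 348) h90 f_90
  have h92 : ∀ u < 32016, (fun u => chkFin tab u) u = true := ext_range (a := 31668) (len := 348) h91 f_91
  have h93 : ∀ u < 32364, (fun u => chkFin tab u) u = true := ext_range (a := 32016) (len := 348) h92 f_92
  have h94 : ∀ u < 32712, (fun u => chkFin tab u) u = true := ext_range (a := 32364) (len := 348) h93 f_93
  have h95 : ∀ u < 33060, (fun u => chkFin tab u) u = true := ext_range (a := 32712) (len := 348) h94 f_94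
  have h96 : ∀ u < 33408, (fun u => chkFin tab u) u = true := ext_range (a := 33060) (len := 348) h95 f_95
  have h97 : ∀ u < 33756, (fun u => chkFin tab u) u = true := ext_range (a := 33408) (len := 348) h96 f_96
  have h98 : ∀ u < 34104, (fun u => chkFin tab u) u = true := ext_range (a := 33756) (len := 348) h97 f_97
  have h99 : ∀ u < 34452, (fun u => chkFin tab u) u = true := ext_range (a := 34104) (len := 348) h98 f_98
  have h100 : ∀ u < 34800, (fun u => chkFin tab u) u = true := ext_range (a := 34452) (len := 348) h99 f_99
  have h101 : ∀ u < 35148, (fun u => chkFin tab u) u = true := ext_range (a := 34800) (len := 348) h100 f_100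
  have h102 : ∀ u < 35496, (fun u => chkFin tab u) u = true := ext_range (a := 35148) (len := 348) h101 f_101
  have h103 : ∀ u < 35844, (fun u => chkFin tab u) u = true := ext_range (a := 35496) (len := 348) h102 f_102
  have h104 : ∀ u < 36192, (fun u => chkFin tab u) u = true := ext_range (a := 35844) (len := 348) h103 f_103
  have h105 : ∀ u < 36540, (fun u => chkFin tab u) u = true := ext_range (a := 36192) (len := 348) h104 f_104
  have h106 : ∀ u < 36888, (fun u => chkFin tab u) u = true := ext_range (a := 36540) (len := 348) h105 f_105
  have h107 : ∀ u < 37236, (fun u => chkFin tab u) u = true := ext_range (a := 36888) (len := 348) h106 f_106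
  have h108 : ∀ u < 37584, (fun u => chkFin tab u) u = true := ext_range (a := 37236) (len := 348) h107 f_107
  have h109 : ∀ u < 37932, (fun u => chkFin tab u) u = true := ext_range (a := 37584) (len := 348) h108 f_108
  have h110 : ∀ u < 38280, (fun u => chkFin tab u) u = true := ext_range (a := 37932) (len := 348) h109 f_109
  have h111 : ∀ u < 38628, (fun u => chkFin tab u) u = true := ext_range (a := 38280) (len := 348) h110 f_110
  have h112 : ∀ u < 38976, (fun u => chkFin tab u) u = true := ext_range (a := 38628) (len := 348) h111 f_111
  have h113 : ∀ u < 39324, (fun u => chkFin tab u) u = true := ext_range (a := 38976) (len := 348) h112 f_112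
  have h114 : ∀ u < 39672, (fun u => chkFin tab u) u = true := ext_range (a := 39324) (len := 348) h113 f_113
  have h115 : ∀ u < 40020, (fun u => chkFin tab u) u = true := ext_range (a := 39672) (len := 348) h114 f_114
  have h116 : ∀ u < 40368, (fun u => chkFin tab u) u = true := ext_range (a := 40020) (len := 348) h115 f_115
  have h117 : ∀ u < 40716, (fun u => chkFin tab u) u = true := ext_range (a := 40368) (len := 348) h116 f_116
  have h118 : ∀ u < 41064, (fun u => chkFin tab u) u = true := ext_range (a := 40716) (len := 348) h117 f_117
  have h119 : ∀ u < 41412, (fun u => chkFin tab u) u = true := ext_range (a := 41064) (len := 348) h118 f_118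
  have h120 : ∀ u < 41760, (fun u => chkFin tab u) u = true := ext_range (a := 41412) (len := 348) h119 f_119
  have h121 : ∀ u < 42108, (fun u => chkFin tab u) u = true := ext_range (a := 41760) (len := 348) h120 f_120
  have h122 : ∀ u < 42456, (fun u => chkFin tab u) u = true := ext_range (a := 42108) (len := 348) h121 f_121
  have h123 : ∀ u < 42804, (fun u => chkFin tab u) u = true := ext_range (a := 42456) (len := 348) h122 f_122
  have h124 : ∀ u < 43152, (fun u => chkFin tab u) u = true := ext_range (a := 42804) (len := 348) h123 f_123
  have h125 : ∀ u < 43500, (fun u => chkFin tab u) u = true := ext_range (a := 43152) (len := 348) h124 f_124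
  have h126 : ∀ u < 43848, (fun u => chkFin tab u) u = true := ext_range (a := 43500) (len := 348) h125 f_125
  have h127 : ∀ u < 44196, (fun u => chkFin tab u) u = true := ext_range (a := 43848) (len := 348) h126 f_126
  have h128 : ∀ u < 44544, (fun u => chkFin tab u) u = true := ext_range (a := 44196) (len := 348) h127 f_127
  have h129 : ∀ u < 44892, (fun u => chkFin tab u) u = true := ext_range (a := 44544) (len := 348) h128 f_128
  have h130 : ∀ u < 45240, (fun u => chkFin tab u) u = true := ext_range (a := 44892) (len := 348) h129 f_129
  have h131 : ∀ u < 45588, (fun u => chkFin tab u) u = true := ext_range (a := 45240) (len := 348) h130 f_130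
  have h132 : ∀ u < 45936, (fun u => chkFin tab u) u = true := ext_range (a := 45588) (len := 348) h131 f_131
  have h133 : ∀ u < 46284, (fun u => chkFin tab u) u = true := ext_range (a := 45936) (len := 348) h132 f_132
  have h134 : ∀ u < 46632, (fun u => chkFin tab u) u = true := ext_range (a := 46284) (len := 348) h133 f_133
  have h135 : ∀ u < 46980, (fun u => chkFin tab u) u = true := ext_range (a := 46632) (len := 348) h134 f_134
  have h136 : ∀ u < 47328, (fun u => chkFin tab u) u = true := ext_range (a := 46980) (len := 348) h135 f_135
  have h137 : ∀ u < 47676, (fun u => chkFin tab u) u = true := ext_range (a := 47328) (len := 348) h136 f_136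
  have h138 : ∀ u < 48024, (fun u => chkFin tab u) u = true := ext_range (a := 47676) (len := 348) h137 f_137
  have h139 : ∀ u < 48372, (fun u => chkFin tab u) u = true := ext_range (a := 48024) (len := 348) h138 f_138
  have h140 : ∀ u < 48720, (fun u => chkFin tab u) u = true := ext_range (a := 48372) (len := 348) h139 f_139
  have h141 : ∀ u < 49068, (fun u => chkFin tab u) u = true := ext_range (a := 48720) (len := 348) h140 f_140
  have h142 : ∀ u < 49416, (fun u => chkFin tab u) u = true := ext_range (a := 49068) (len := 348) h141 f_141
  have h143 : ∀ u < 49764, (fun u => chkFin tab u) u = true := ext_range (a := 49416) (len := 348) h142 f_142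
  have h144 : ∀ u < 50112, (fun u => chkFin tab u) u = true := ext_range (a := 49764) (len := 348) h143 f_143
  have h145 : ∀ u < 50460, (fun u => chkFin tab u) u = true := ext_range (a := 50112) (len := 348) h144 f_144
  have h146 : ∀ u < 50808, (fun u => chkFin tab u) u = true := ext_range (a := 50460) (len := 348) h145 f_145
  have h147 : ∀ u < 51156, (fun u => chkFin tab u) u = true := ext_range (a := 50808) (len := 348) h146 f_146
  have h148 : ∀ u < 51504, (fun u => chkFin tab u) u = true := ext_range (a := 51156) (len := 348) h147 f_147
  have h149 : ∀ u < 51852, (fun u => chkFin tab u) u = true := ext_range (a := 51504) (len := 348) h148 f_148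
  have h150 : ∀ u < 52200, (fun u => chkFin tab u) u = true := ext_range (a := 51852) (len := 348) h149 f_149
  have h151 : ∀ u < 52548, (fun u => chkFin tab u) u = true := ext_range (a := 52200) (len := 348) h150 f_150
  have h152 : ∀ u < 52896, (fun u => chkFin tab u) u = true := ext_range (a := 52548) (len := 348) h151 f_151
  have h153 : ∀ u < 53244, (fun u => chkFin tab u) u = true := ext_range (a := 52896) (len := 348) h152 f_152
  have h154 : ∀ u < 53592, (fun u => chkFin tab u) u = true := ext_range (a := 53244) (len := 348) h153 f_153
  have h155 : ∀ u < 53940, (fun u => chkFin tab u) u = true := ext_range (a := 53592) (len := 348) h154 f_154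
  have h156 : ∀ u < 54288, (fun u => chkFin tab u) u = true := ext_range (a := 53940) (len := 348) h155 f_155
  have h157 : ∀ u < 54636, (fun u => chkFin tab u) u = true := ext_range (a := 54288) (len := 348) h156 f_156
  have h158 : ∀ u < 54984, (fun u => chkFin tab u) u = true := ext_range (a := 54636) (len := 348) h157 f_157
  have h159 : ∀ u < 55332, (fun u => chkFin tab u) u = true := ext_range (a := 54984) (len := 348) h158 f_158
  have h160 : ∀ u < 55680, (fun u => chkFin tab u) u = true := ext_range (a := 55332) (len := 348) h159 f_159
  have h161 : ∀ u < 56028, (fun u => chkFin tab u) u = true := ext_range (a := 55680) (len := 348) h160 f_160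
  have h162 : ∀ u < 56376, (fun u => chkFin tab u) u = true := ext_range (a := 56028) (len := 348) h161 f_161
  have h163 : ∀ u < 56724, (fun u => chkFin tab u) u = true := ext_range (a := 56376) (len := 348) h162 f_162
  have h164 : ∀ u < 57072, (fun u => chkFin tab u) u = true := ext_range (a := 56724) (len := 348) h163 f_163
  have h165 : ∀ u < 57420, (fun u => chkFin tab u) u = true := ext_range (a := 57072) (len := 348) h164 f_164
  have h166 : ∀ u < 57768, (fun u => chkFin tab u) u = true := ext_range (a := 57420) (len := 348) h165 f_165
  have h167 : ∀ u < 58116, (fun u => chkFin tab u) u = true := ext_range (a := 57768) (len := 348) h166 f_166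
  have h168 : ∀ u < 58464, (fun u => chkFin tab u) u = true := ext_range (a := 58116) (len := 348) h167 f_167
  have h169 : ∀ u < 58812, (fun u => chkFin tab u) u = true := ext_range (a := 58464) (len := 348) h168 f_168
  have h170 : ∀ u < 59160, (fun u => chkFin tab u) u = true := ext_range (a := 58812) (len := 348) h169 f_169
  have h171 : ∀ u < 59508, (fun u => chkFin tab u) u = true := ext_range (a := 59160) (len := 348) h170 f_170
  have h172 : ∀ u < 59856, (fun u => chkFin tab u) u = true := ext_range (a := 59508) (len := 348) h171 f_171
  have h173 : ∀ u < 60204, (fun u => chkFin tab u) u = true := ext_range (a := 59856) (len := 348) h172 f_172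
  have h174 : ∀ u < 60552, (fun u => chkFin tab u) u = true := ext_range (a := 60204) (len := 348) h173 f_173
  have h175 : ∀ u < 60900, (fun u => chkFin tab u) u = true := ext_range (a := 60552) (len := 348) h174 f_174
  have h176 : ∀ u < 61248, (fun u => chkFin tab u) u = true := ext_range (a := 60900) (len := 348) h175 f_175
  have h177 : ∀ u < 61596, (fun u => chkFin tab u) u = true := ext_range (a := 61248) (len := 348) h176 f_176
  have h178 : ∀ u < 61944, (fun u => chkFin tab u) u = true := ext_range (a := 61596) (len := 348) h177 f_177
  have h179 : ∀ u < 62292, (fun u => chkFin tab u) u = true := ext_range (a := 61944) (len := 348) h178 f_178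
  have h180 : ∀ u < 62640, (fun u => chkFin tab u) u = true := ext_range (a := 62292) (len := 348) h179 f_179
  have h181 : ∀ u < 62988, (fun u => chkFin tab u) u = true := ext_range (a := 62640) (len := 348) h180 f_180
  have h182 : ∀ u < 63336, (fun u => chkFin tab u) u = true := ext_range (a := 62988) (len := 348) h181 f_181
  have h183 : ∀ u < 63684, (fun u => chkFin tab u) u = true := ext_range (a := 63336) (len := 348) h182 f_182
  have h184 : ∀ u < 64032, (fun u => chkFin tab u) u = true := ext_range (a := 63684) (len := 348) h183 f_183
  have h185 : ∀ u < 64380, (fun u => chkFin tab u) u = true := ext_range (a := 64032) (len := 348) h184 f_184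
  have h186 : ∀ u < 64728, (fun u => chkFin tab u) u = true := ext_range (a := 64380) (len := 348) h185 f_185
  have h187 : ∀ u < 65076, (fun u => chkFin tab u) u = true := ext_range (a := 64728) (len := 348) h186 f_186
  have h188 : ∀ u < 65424, (fun u => chkFin tab u) u = true := ext_range (a := 65076) (len := 348) h187 f_187
  have h189 : ∀ u < 65772, (fun u => chkFin tab u) u = true := ext_range (a := 65424) (len := 348) h188 f_188
  have h190 : ∀ u < 66120, (fun u => chkFin tab u) u = true := ext_range (a := 65772) (len := 348) h189 f_189
  have h191 : ∀ u < 66468, (fun u => chkFin tab u) u = true := ext_range (a := 66120) (len := 348) h190 f_190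
  have h192 : ∀ u < 66816, (fun u => chkFin tab u) u = true := ext_range (a := 66468) (len := 348) h191 f_191
  have h193 : ∀ u < 67164, (fun u => chkFin tab u) u = true := ext_range (a := 66816) (len := 348) h192 f_192
  have h194 : ∀ u < 67512, (fun u => chkFin tab u) u = true := ext_range (a := 67164) (len := 348) h193 f_193
  have h195 : ∀ u < 67860, (fun u => chkFin tab u) u = true := ext_range (a := 67512) (len := 348) h194 f_194
  have h196 : ∀ u < 68208, (fun u => chkFin tab u) u = true := ext_range (a := 67860) (len := 348) h195 f_195
  have h197 : ∀ u < 68556, (fun u => chkFin tab u) u = true := ext_range (a := 68208) (len := 348) h196 f_196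
  have h198 : ∀ u < 68904, (fun u => chkFin tab u) u = true := ext_range (a := 68556) (len := 348) h197 f_197
  have h199 : ∀ u < 69252, (fun u => chkFin tab u) u = true := ext_range (a := 68904) (len := 348) h198 f_198
  have h200 : ∀ u < 69600, (fun u => chkFin tab u) u = true := ext_range (a := 69252) (len := 348) h199 f_199
  have h201 : ∀ u < 69948, (fun u => chkFin tab u) u = true := ext_range (a := 69600) (len := 348) h200 f_200
  have h202 : ∀ u < 70296, (fun u => chkFin tab u) u = true := ext_range (a := 69948) (len := 348) h201 f_201
  have h203 : ∀ u < 70644, (fun u => chkFin tab u) u = true := ext_range (a := 70296) (len := 348) h202 f_202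
  have h204 : ∀ u < 70992, (fun u => chkFin tab u) u = true := ext_range (a := 70644) (len := 348) h203 f_203
  have h205 : ∀ u < 71340, (fun u => chkFin tab u) u = true := ext_range (a := 70992) (len := 348) h204 f_204
  have h206 : ∀ u < 71688, (fun u => chkFin tab u) u = true := ext_range (a := 71340) (len := 348) h205 f_205
  have h207 : ∀ u < 72036, (fun u => chkFin tab u) u = true := ext_range (a := 71688) (len := 348) h206 f_206
  have h208 : ∀ u < 72384, (fun u => chkFin tab u) u = true := ext_range (a := 72036) (len := 348) h207 f_207
  have h209 : ∀ u < 72732, (fun u => chkFin tab u) u = true := ext_range (a := 72384) (len := 348) h208 f_208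
  have h210 : ∀ u < 73080, (fun u => chkFin tab u) u = true := ext_range (a := 72732) (len := 348) h209 f_209
  have h211 : ∀ u < 73428, (fun u => chkFin tab u) u = true := ext_range (a := 73080) (len := 348) h210 f_210
  have h212 : ∀ u < 73776, (fun u => chkFin tab u) u = true := ext_range (a := 73428) (len := 348) h211 f_211
  have h213 : ∀ u < 74124, (fun u => chkFin tab u) u = true := ext_range (a := 73776) (len := 348) h212 f_212
  have h214 : ∀ u < 74472, (fun u => chkFin tab u) u = true := ext_range (a := 74124) (len := 348) h213 f_213
  have h215 : ∀ u < 74820, (fun u => chkFin tab u) u = true := ext_range (a := 74472) (len := 348) h214 f_214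
  have h216 : ∀ u < 75168, (fun u => chkFin tab u) u = true := ext_range (a := 74820) (len := 348) h215 f_215
  have h217 : ∀ u < 75516, (fun u => chkFin tab u) u = true := ext_range (a := 75168) (len := 348) h216 f_216
  have h218 : ∀ u < 75864, (fun u => chkFin tab u) u = true := ext_range (a := 75516) (len := 348) h217 f_217
  have h219 : ∀ u < 76212, (fun u => chkFin tab u) u = true := ext_range (a := 75864) (len := 348) h218 f_218
  have h220 : ∀ u < 76560, (fun u => chkFin tab u) u = true := ext_range (a := 76212) (len := 348) h219 f_219
  have h221 : ∀ u < 76908, (fun u => chkFin tab u) u = true := ext_range (a := 76560) (len := 348) h220 f_220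
  have h222 : ∀ u < 77256, (fun u => chkFin tab u) u = true := ext_range (a := 76908) (len := 348) h221 f_221
  have h223 : ∀ u < 77604, (fun u => chkFin tab u) u = true := ext_range (a := 77256) (len := 348) h222 f_222
  have h224 : ∀ u < 77952, (fun u => chkFin tab u) u = true := ext_range (a := 77604) (len := 348) h223 f_223
  have h225 : ∀ u < 78300, (fun u => chkFin tab u) u = true := ext_range (a := 77952) (len := 348) h224 f_224
  have h226 : ∀ u < 78648, (fun u => chkFin tab u) u = true := ext_range (a := 78300) (len := 348) h225 f_225
  have h227 : ∀ u < 78996, (fun u => chkFin tab u) u = true := ext_range (a := 78648) (len := 348) h226 f_226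
  have h228 : ∀ u < 79344, (fun u => chkFin tab u) u = true := ext_range (a := 78996) (len := 348) h227 f_227
  have h229 : ∀ u < 79692, (fun u => chkFin tab u) u = true := ext_range (a := 79344) (len := 348) h228 f_228
  have h230 : ∀ u < 80040, (fun u => chkFin tab u) u = true := ext_range (a := 79692) (len := 348) h229 f_229
  have h231 : ∀ u < 80388, (fun u => chkFin tab u) u = true := ext_range (a := 80040) (len := 348) h230 f_230
  have h232 : ∀ u < 80736, (fun u => chkFin tab u) u = true := ext_range (a := 80388) (len := 348) h231 f_231
  have h233 : ∀ u < 81084, (fun u => chkFin tab u) u = true := ext_range (a := 80736) (len := 348) h232 f_232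
  have h234 : ∀ u < 81432, (fun u => chkFin tab u) u = true := ext_range (a := 81084) (len := 348) h233 f_233
  have h235 : ∀ u < 81780, (fun u => chkFin tab u) u = true := ext_range (a := 81432) (len := 348) h234 f_234
  have h236 : ∀ u < 82128, (fun u => chkFin tab u) u = true := ext_range (a := 81780) (len := 348) h235 f_235
  have h237 : ∀ u < 82476, (fun u => chkFin tab u) u = true := ext_range (a := 82128) (len := 348) h236 f_236
  have h238 : ∀ u < 82824, (fun u => chkFin tab u) u = true := ext_range (a := 82476) (len := 348) h237 f_237
  have h239 : ∀ u < 83172, (fun u => chkFin tab u) u = true := ext_range (a := 82824) (len := 348) h238 f_238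
  have h240 : ∀ u < 83520, (fun u => chkFin tab u) u = true := ext_range (a := 83172) (len := 348) h239 f_239
  have h241 : ∀ u < 83868, (fun u => chkFin tab u) u = true := ext_range (a := 83520) (len := 348) h240 f_240
  have h242 : ∀ u < 84216, (fun u => chkFin tab u) u = true := ext_range (a := 83868) (len := 348) h241 f_241
  have h243 : ∀ u < 84564, (fun u => chkFin tab u) u = true := ext_range (a := 84216) (len := 348) h242 f_242
  have h244 : ∀ u < 84912, (fun u => chkFin tab u) u = true := ext_range (a := 84564) (len := 348) h243 f_243
  have h245 : ∀ u < 85260, (fun u => chkFin tab u) u = true := ext_range (a := 84912) (len := 348) h244 f_244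
  have h246 : ∀ u < 85608, (fun u => chkFin tab u) u = true := ext_range (a := 85260) (len := 348) h245 f_245
  have h247 : ∀ u < 85956, (fun u => chkFin tab u) u = true := ext_range (a := 85608) (len := 348) h246 f_246
  have h248 : ∀ u < 86304, (fun u => chkFin tab u) u = true := ext_range (a := 85956) (len := 348) h247 f_247
  have h249 : ∀ u < 86652, (fun u => chkFin tab u) u = true := ext_range (a := 86304) (len := 348) h248 f_248
  have h250 : ∀ u < 87000, (fun u => chkFin tab u) u = true := ext_range (a := 86652) (len := 348) h249 f_249
  have h251 : ∀ u < 87348, (fun u => chkFin tab u) u = true := ext_range (a := 87000) (len := 348) h250 f_250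
  have h252 : ∀ u < 87696, (fun u => chkFin tab u) u = true := ext_range (a := 87348) (len := 348) h251 f_251
  have h253 : ∀ u < 88044, (fun u => chkFin tab u) u = true := ext_range (a := 87696) (len := 348) h252 f_252
  have h254 : ∀ u < 88392, (fun u => chkFin tab u) u = true := ext_range (a := 88044) (len := 348) h253 f_253
  have h255 : ∀ u < 88740, (fun u => chkFin tab u) u = true := ext_range (a := 88392) (len := 348) h254 f_254
  have h256 : ∀ u < 89088, (fun u => chkFin tab u) u = true := ext_range (a := 88740) (len := 348) h255 f_255
  have h257 : ∀ u < 89436, (fun u => chkFin tab u) u = true := ext_range (a := 89088) (len := 348) h256 f_256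
  have h258 : ∀ u < 89784, (fun u => chkFin tab u) u = true := ext_range (a := 89436) (len := 348) h257 f_257
  have h259 : ∀ u < 90132, (fun u => chkFin tab u) u = true := ext_range (a := 89784) (len := 348) h258 f_258
  have h260 : ∀ u < 90480, (fun u => chkFin tab u) u = true := ext_range (a := 90132) (len := 348) h259 f_259
  have h261 : ∀ u < 90828, (fun u => chkFin tab u) u = true := ext_range (a := 90480) (len := 348) h260 f_260
  have h262 : ∀ u < 91176, (fun u => chkFin tab u) u = true := ext_range (a := 90828) (len := 348) h261 f_261
  have h263 : ∀ u < 91524, (fun u => chkFin tab u) u = true := ext_range (a := 91176) (len := 348) h262 f_262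
  have h264 : ∀ u < 91872, (fun u => chkFin tab u) u = true := ext_range (a := 91524) (len := 348) h263 f_263
  have h265 : ∀ u < 92220, (fun u => chkFin tab u) u = true := ext_range (a := 91872) (len := 348) h264 f_264
  have h266 : ∀ u < 92568, (fun u => chkFin tab u) u = true := ext_range (a := 92220) (len := 348) h265 f_265
  have h267 : ∀ u < 92916, (fun u => chkFin tab u) u = true := ext_range (a := 92568) (len := 348) h266 f_266
  have h268 : ∀ u < 93264, (fun u => chkFin tab u) u = true := ext_range (a := 92916) (len := 348) h267 f_267
  have h269 : ∀ u < 93612, (fun u => chkFin tab u) u = true := ext_range (a := 93264) (len := 348) h268 f_268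
  have h270 : ∀ u < 93960, (fun u => chkFin tab u) u = true := ext_range (a := 93612) (len := 348) h269 f_269
  have h271 : ∀ u < 94308, (fun u => chkFin tab u) u = true := ext_range (a := 93960) (len := 348) h270 f_270
  have h272 : ∀ u < 94656, (fun u => chkFin tab u) u = true := ext_range (a := 94308) (len := 348) h271 f_271
  have h273 : ∀ u < 95004, (fun u => chkFin tab u) u = true := ext_range (a := 94656) (len := 348) h272 f_272
  have h274 : ∀ u < 95352, (fun u => chkFin tab u) u = true := ext_range (a := 95004) (len := 348) h273 f_273
  have h275 : ∀ u < 95700, (fun u => chkFin tab u) u = true := ext_range (a := 95352) (len := 348) h274 f_274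
  have h276 : ∀ u < 96048, (fun u => chkFin tab u) u = true := ext_range (a := 95700) (len := 348) h275 f_275
  have h277 : ∀ u < 96396, (fun u => chkFin tab u) u = true := ext_range (a := 96048) (len := 348) h276 f_276
  have h278 : ∀ u < 96744, (fun u => chkFin tab u) u = true := ext_range (a := 96396) (len := 348) h277 f_277
  have h279 : ∀ u < 97092, (fun u => chkFin tab u) u = true := ext_range (a := 96744) (len := 348) h278 f_278
  have h280 : ∀ u < 97440, (fun u => chkFin tab u) u = true := ext_range (a := 97092) (len := 348) h279 f_279
  have h281 : ∀ u < 97788, (fun u => chkFin tab u) u = true := ext_range (a := 97440) (len := 348) h280 f_280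
  have h282 : ∀ u < 98136, (fun u => chkFin tab u) u = true := ext_range (a := 97788) (len := 348) h281 f_281
  have h283 : ∀ u < 98484, (fun u => chkFin tab u) u = true := ext_range (a := 98136) (len := 348) h282 f_282
  have h284 : ∀ u < 98832, (fun u => chkFin tab u) u = true := ext_range (a := 98484) (len := 348) h283 f_283
  have h285 : ∀ u < 99180, (fun u => chkFin tab u) u = true := ext_range (a := 98832) (len := 348) h284 f_284
  have h286 : ∀ u < 99528, (fun u => chkFin tab u) u = true := ext_range (a := 99180) (len := 348) h285 f_285
  have h287 : ∀ u < 99876, (fun u => chkFin tab u) u = true := ext_range (a := 99528) (len := 348) h286 f_286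
  have h288 : ∀ u < 100224, (fun u => chkFin tab u) u = true := ext_range (a := 99876) (len := 348) h287 f_287
  have h289 : ∀ u < 100572, (fun u => chkFin tab u) u = true := ext_range (a := 100224) (len := 348) h288 f_288
  have h290 : ∀ u < 100920, (fun u => chkFin tab u) u = true := ext_range (a := 100572) (len := 348) h289 f_289
  have h291 : ∀ u < 101268, (fun u => chkFin tab u) u = true := ext_range (a := 100920) (len := 348) h290 f_290
  have h292 : ∀ u < 101616, (fun u => chkFin tab u) u = true := ext_range (a := 101268) (len := 348) h291 f_291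
  have h293 : ∀ u < 101964, (fun u => chkFin tab u) u = true := ext_range (a := 101616) (len := 348) h292 f_292
  have h294 : ∀ u < 102312, (fun u => chkFin tab u) u = true := ext_range (a := 101964) (len := 348) h293 f_293
  have h295 : ∀ u < 102660, (fun u => chkFin tab u) u = true := ext_range (a := 102312) (len := 348) h294 f_294
  have h296 : ∀ u < 103008, (fun u => chkFin tab u) u = true := ext_range (a := 102660) (len := 348) h295 f_295
  have h297 : ∀ u < 103356, (fun u => chkFin tab u) u = true := ext_range (a := 103008) (len := 348) h296 f_296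
  have h298 : ∀ u < 103704, (fun u => chkFin tab u) u = true := ext_range (a := 103356) (len := 348) h297 f_297
  have h299 : ∀ u < 104052, (fun u => chkFin tab u) u = true := ext_range (a := 103704) (len := 348) h298 f_298
  have h300 : ∀ u < 104400, (fun u => chkFin tab u) u = true := ext_range (a := 104052) (len := 348) h299 f_299
  have h301 : ∀ u < 104748, (fun u => chkFin tab u) u = true := ext_range (a := 104400) (len := 348) h300 f_300
  have h302 : ∀ u < 105096, (fun u => chkFin tab u) u = true := ext_range (a := 104748) (len := 348) h301 f_301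
  have h303 : ∀ u < 105444, (fun u => chkFin tab u) u = true := ext_range (a := 105096) (len := 348) h302 f_302
  have h304 : ∀ u < 105792, (fun u => chkFin tab u) u = true := ext_range (a := 105444) (len := 348) h303 f_303
  have h305 : ∀ u < 106140, (fun u => chkFin tab u) u = true := ext_range (a := 105792) (len := 348) h304 f_304
  have h306 : ∀ u < 106488, (fun u => chkFin tab u) u = true := ext_range (a := 106140) (len := 348) h305 f_305
  have h307 : ∀ u < 106836, (fun u => chkFin tab u) u = true := ext_range (a := 106488) (len := 348) h306 f_306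
  have h308 : ∀ u < 107184, (fun u => chkFin tab u) u = true := ext_range (a := 106836) (len := 348) h307 f_307
  have h309 : ∀ u < 107532, (fun u => chkFin tab u) u = true := ext_range (a := 107184) (len := 348) h308 f_308
  have h310 : ∀ u < 107880, (fun u => chkFin tab u) u = true := ext_range (a := 107532) (len := 348) h309 f_309
  have h311 : ∀ u < 108228, (fun u => chkFin tab u) u = true := ext_range (a := 107880) (len := 348) h310 f_310
  have h312 : ∀ u < 108576, (fun u => chkFin tab u) u = true := ext_range (a := 108228) (len := 348) h311 f_311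
  have h313 : ∀ u < 108924, (fun u => chkFin tab u) u = true := ext_range (a := 108576) (len := 348) h312 f_312
  have h314 : ∀ u < 109272, (fun u => chkFin tab u) u = true := ext_range (a := 108924) (len := 348) h313 f_313
  have h315 : ∀ u < 109620, (fun u => chkFin tab u) u = true := ext_range (a := 109272) (len := 348) h314 f_314
  have h316 : ∀ u < 109968, (fun u => chkFin tab u) u = true := ext_range (a := 109620) (len := 348) h315 f_315
  have h317 : ∀ u < 110316, (fun u => chkFin tab u) u = true := ext_range (a := 109968) (len := 348) h316 f_316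
  have h318 : ∀ u < 110664, (fun u => chkFin tab u) u = true := ext_range (a := 110316) (len := 348) h317 f_317
  have h319 : ∀ u < 111012, (fun u => chkFin tab u) u = true := ext_range (a := 110664) (len := 348) h318 f_318
  have h320 : ∀ u < 111360, (fun u => chkFin tab u) u = true := ext_range (a := 111012) (len := 348) h319 f_319
  have h321 : ∀ u < 111708, (fun u => chkFin tab u) u = true := ext_range (a := 111360) (len := 348) h320 f_320
  have h322 : ∀ u < 112056, (fun u => chkFin tab u) u = true := ext_range (a := 111708) (len := 348) h321 f_321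
  have h323 : ∀ u < 112404, (fun u => chkFin tab u) u = true := ext_range (a := 112056) (len := 348) h322 f_322
  have h324 : ∀ u < 112752, (fun u => chkFin tab u) u = true := ext_range (a := 112404) (len := 348) h323 f_323
  have h325 : ∀ u < 113100, (fun u => chkFin tab u) u = true := ext_range (a := 112752) (len := 348) h324 f_324
  have h326 : ∀ u < 113448, (fun u => chkFin tab u) u = true := ext_range (a := 113100) (len := 348) h325 f_325
  have h327 : ∀ u < 113796, (fun u => chkFin tab u) u = true := ext_range (a := 113448) (len := 348) h326 f_326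
  have h328 : ∀ u < 114144, (fun u => chkFin tab u) u = true := ext_range (a := 113796) (len := 348) h327 f_327
  have h329 : ∀ u < 114492, (fun u => chkFin tab u) u = true := ext_range (a := 114144) (len := 348) h328 f_328
  have h330 : ∀ u < 114840, (fun u => chkFin tab u) u = true := ext_range (a := 114492) (len := 348) h329 f_329
  have h331 : ∀ u < 115188, (fun u => chkFin tab u) u = true := ext_range (a := 114840) (len := 348) h330 f_330
  have h332 : ∀ u < 115536, (fun u => chkFin tab u) u = true := ext_range (a := 115188) (len := 348) h331 f_331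
  have h333 : ∀ u < 115884, (fun u => chkFin tab u) u = true := ext_range (a := 115536) (len := 348) h332 f_332
  have h334 : ∀ u < 116232, (fun u => chkFin tab u) u = true := ext_range (a := 115884) (len := 348) h333 f_333
  have h335 : ∀ u < 116580, (fun u => chkFin tab u) u = true := ext_range (a := 116232) (len := 348) h334 f_334
  have h336 : ∀ u < 116928, (fun u => chkFin tab u) u = true := ext_range (a := 116580) (len := 348) h335 f_335
  have h337 : ∀ u < 117276, (fun u => chkFin tab u) u = true := ext_range (a := 116928) (len := 348) h336 f_336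
  have h338 : ∀ u < 117624, (fun u => chkFin tab u) u = true := ext_range (a := 117276) (len := 348) h337 f_337
  have h339 : ∀ u < 117972, (fun u => chkFin tab u) u = true := ext_range (a := 117624) (len := 348) h338 f_338
  have h340 : ∀ u < 118320, (fun u => chkFin tab u) u = true := ext_range (a := 117972) (len := 348) h339 f_339
  have h341 : ∀ u < 118668, (fun u => chkFin tab u) u = true := ext_range (a := 118320) (len := 348) h340 f_340
  have h342 : ∀ u < 119016, (fun u => chkFin tab u) u = true := ext_range (a := 118668) (len := 348) h341 f_341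
  have h343 : ∀ u < 119364, (fun u => chkFin tab u) u = true := ext_range (a := 119016) (len := 348) h342 f_342
  have h344 : ∀ u < 119712, (fun u => chkFin tab u) u = true := ext_range (a := 119364) (len := 348) h343 f_343
  have h345 : ∀ u < 120060, (fun u => chkFin tab u) u = true := ext_range (a := 119712) (len := 348) h344 f_344
  have h346 : ∀ u < 120408, (fun u => chkFin tab u) u = true := ext_range (a := 120060) (len := 348) h345 f_345
  have h347 : ∀ u < 120756, (fun u => chkFin tab u) u = true := ext_range (a := 120408) (len := 348) h346 f_346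
  have h348 : ∀ u < 121104, (fun u => chkFin tab u) u = true := ext_range (a := 120756) (len := 348) h347 f_347
  have h349 : ∀ u < 121452, (fun u => chkFin tab u) u = true := ext_range (a := 121104) (len := 348) h348 f_348
  have h350 : ∀ u < 121800, (fun u => chkFin tab u) u = true := ext_range (a := 121452) (len := 348) h349 f_349
  have h351 : ∀ u < 122148, (fun u => chkFin tab u) u = true := ext_range (a := 121800) (len := 348) h350 f_350
  have h352 : ∀ u < 122496, (fun u => chkFin tab u) u = true := ext_range (a := 122148) (len := 348) h351 f_351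
  have h353 : ∀ u < 122844, (fun u => chkFin tab u) u = true := ext_range (a := 122496) (len := 348) h352 f_352
  have h354 : ∀ u < 123192, (fun u => chkFin tab u) u = true := ext_range (a := 122844) (len := 348) h353 f_353
  have h355 : ∀ u < 123540, (fun u => chkFin tab u) u = true := ext_range (a := 123192) (len := 348) h354 f_354
  have h356 : ∀ u < 123888, (fun u => chkFin tab u) u = true := ext_range (a := 123540) (len := 348) h355 f_355
  have h357 : ∀ u < 124236, (fun u => chkFin tab u) u = true := ext_range (a := 123888) (len := 348) h356 f_356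
  have h358 : ∀ u < 124584, (fun u => chkFin tab u) u = true := ext_range (a := 124236) (len := 348) h357 f_357
  have h359 : ∀ u < 124932, (fun u => chkFin tab u) u = true := ext_range (a := 124584) (len := 348) h358 f_358
  have h360 : ∀ u < 125280, (fun u => chkFin tab u) u = true := ext_range (a := 124932) (len := 348) h359 f_359
  have h361 : ∀ u < 125628, (fun u => chkFin tab u) u = true := ext_range (a := 125280) (len := 348) h360 f_360
  have h362 : ∀ u < 125976, (fun u => chkFin tab u) u = true := ext_range (a := 125628) (len := 348) h361 f_361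
  have h363 : ∀ u < 126324, (fun u => chkFin tab u) u = true := ext_range (a := 125976) (len := 348) h362 f_362
  have h364 : ∀ u < 126672, (fun u => chkFin tab u) u = true := ext_range (a := 126324) (len := 348) h363 f_363
  have h365 : ∀ u < 127020, (fun u => chkFin tab u) u = true := ext_range (a := 126672) (len := 348) h364 f_364
  have h366 : ∀ u < 127368, (fun u => chkFin tab u) u = true := ext_range (a := 127020) (len := 348) h365 f_365
  have h367 : ∀ u < 127716, (fun u => chkFin tab u) u = true := ext_range (a := 127368) (len := 348) h366 f_366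
  have h368 : ∀ u < 128064, (fun u => chkFin tab u) u = true := ext_range (a := 127716) (len := 348) h367 f_367
  have h369 : ∀ u < 128412, (fun u => chkFin tab u) u = true := ext_range (a := 128064) (len := 348) h368 f_368
  have h370 : ∀ u < 128760, (fun u => chkFin tab u) u = true := ext_range (a := 128412) (len := 348) h369 f_369
  have h371 : ∀ u < 129108, (fun u => chkFin tab u) u = true := ext_range (a := 128760) (len := 348) h370 f_370
  have h372 : ∀ u < 129456, (fun u => chkFin tab u) u = true := ext_range (a := 129108) (len := 348) h371 f_371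
  have h373 : ∀ u < 129804, (fun u => chkFin tab u) u = true := ext_range (a := 129456) (len := 348) h372 f_372
  have h374 : ∀ u < 130152, (fun u => chkFin tab u) u = true := ext_range (a := 129804) (len := 348) h373 f_373
  have h375 : ∀ u < 130500, (fun u => chkFin tab u) u = true := ext_range (a := 130152) (len := 348) h374 f_374
  have h376 : ∀ u < 130848, (fun u => chkFin tab u) u = true := ext_range (a := 130500) (len := 348) h375 f_375
  have h377 : ∀ u < 131196, (fun u => chkFin tab u) u = true := ext_range (a := 130848) (len := 348) h376 f_376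
  have h378 : ∀ u < 131544, (fun u => chkFin tab u) u = true := ext_range (a := 131196) (len := 348) h377 f_377
  have h379 : ∀ u < 131892, (fun u => chkFin tab u) u = true := ext_range (a := 131544) (len := 348) h378 f_378
  have h380 : ∀ u < 132240, (fun u => chkFin tab u) u = true := ext_range (a := 131892) (len := 348) h379 f_379
  have h381 : ∀ u < 132588, (fun u => chkFin tab u) u = true := ext_range (a := 132240) (len := 348) h380 f_380
  have h382 : ∀ u < 132936, (fun u => chkFin tab u) u = true := ext_range (a := 132588) (len := 348) h381 f_381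
  have h383 : ∀ u < 133284, (fun u => chkFin tab u) u = true := ext_range (a := 132936) (len := 348) h382 f_382
  have h384 : ∀ u < 133632, (fun u => chkFin tab u) u = true := ext_range (a := 133284) (len := 348) h383 f_383
  have h385 : ∀ u < 133980, (fun u => chkFin tab u) u = true := ext_range (a := 133632) (len := 348) h384 f_384
  have h386 : ∀ u < 134328, (fun u => chkFin tab u) u = true := ext_range (a := 133980) (len := 348) h385 f_385
  have h387 : ∀ u < 134676, (fun u => chkFin tab u) u = true := ext_range (a := 134328) (len := 348) h386 f_386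
  have h388 : ∀ u < 135024, (fun u => chkFin tab u) u = true := ext_range (a := 134676) (len := 348) h387 f_387
  have h389 : ∀ u < 135372, (fun u => chkFin tab u) u = true := ext_range (a := 135024) (len := 348) h388 f_388
  have h390 : ∀ u < 135720, (fun u => chkFin tab u) u = true := ext_range (a := 135372) (len := 348) h389 f_389
  have h391 : ∀ u < 136068, (fun u => chkFin tab u) u = true := ext_range (a := 135720) (len := 348) h390 f_390
  have h392 : ∀ u < 136416, (fun u => chkFin tab u) u = true := ext_range (a := 136068) (len := 348) h391 f_391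
  have h393 : ∀ u < 136764, (fun u => chkFin tab u) u = true := ext_range (a := 136416) (len := 348) h392 f_392
  have h394 : ∀ u < 137112, (fun u => chkFin tab u) u = true := ext_range (a := 136764) (len := 348) h393 f_393
  have h395 : ∀ u < 137460, (fun u => chkFin tab u) u = true := ext_range (a := 137112) (len := 348) h394 f_394
  have h396 : ∀ u < 137808, (fun u => chkFin tab u) u = true := ext_range (a := 137460) (len := 348) h395 f_395
  have h397 : ∀ u < 138156, (fun u => chkFin tab u) u = true := ext_range (a := 137808) (len := 348) h396 f_396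
  have h398 : ∀ u < 138504, (fun u => chkFin tab u) u = true := ext_range (a := 138156) (len := 348) h397 f_397
  have h399 : ∀ u < 138852, (fun u => chkFin tab u) u = true := ext_range (a := 138504) (len := 348) h398 f_398
  have h400 : ∀ u < 139200, (fun u => chkFin tab u) u = true := ext_range (a := 138852) (len := 348) h399 f_399
  have h401 : ∀ u < 139548, (fun u => chkFin tab u) u = true := ext_range (a := 139200) (len := 348) h400 f_400
  have h402 : ∀ u < 139896, (fun u => chkFin tab u) u = true := ext_range (a := 139548) (len := 348) h401 f_401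
  have h403 : ∀ u < 140244, (fun u => chkFin tab u) u = true := ext_range (a := 139896) (len := 348) h402 f_402
  have h404 : ∀ u < 140592, (fun u => chkFin tab u) u = true := ext_range (a := 140244) (len := 348) h403 f_403
  have h405 : ∀ u < 140940, (fun u => chkFin tab u) u = true := ext_range (a := 140592) (len := 348) h404 f_404
  have h406 : ∀ u < 141288, (fun u => chkFin tab u) u = true := ext_range (a := 140940) (len := 348) h405 f_405
  have h407 : ∀ u < 141636, (fun u => chkFin tab u) u = true := ext_range (a := 141288) (len := 348) h406 f_406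
  have h408 : ∀ u < 141984, (fun u => chkFin tab u) u = true := ext_range (a := 141636) (len := 348) h407 f_407
  have h409 : ∀ u < 142332, (fun u => chkFin tab u) u = true := ext_range (a := 141984) (len := 348) h408 f_408
  have h410 : ∀ u < 142680, (fun u => chkFin tab u) u = true := ext_range (a := 142332) (len := 348) h409 f_409
  have h411 : ∀ u < 143028, (fun u => chkFin tab u) u = true := ext_range (a := 142680) (len := 348) h410 f_410
  have h412 : ∀ u < 143376, (fun u => chkFin tab u) u = true := ext_range (a := 143028) (len := 348) h411 f_411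
  have h413 : ∀ u < 143724, (fun u => chkFin tab u) u = true := ext_range (a := 143376) (len := 348) h412 f_412
  have h414 : ∀ u < 144072, (fun u => chkFin tab u) u = true := ext_range (a := 143724) (len := 348) h413 f_413
  have h415 : ∀ u < 144420, (fun u => chkFin tab u) u = true := ext_range (a := 144072) (len := 348) h414 f_414
  have h416 : ∀ u < 144768, (fun u => chkFin tab u) u = true := ext_range (a := 144420) (len := 348) h415 f_415
  have h417 : ∀ u < 145116, (fun u => chkFin tab u) u = true := ext_range (a := 144768) (len := 348) h416 f_416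
  have h418 : ∀ u < 145464, (fun u => chkFin tab u) u = true := ext_range (a := 145116) (len := 348) h417 f_417
  have h419 : ∀ u < 145812, (fun u => chkFin tab u) u = true := ext_range (a := 145464) (len := 348) h418 f_418
  have h420 : ∀ u < 146160, (fun u => chkFin tab u) u = true := ext_range (a := 145812) (len := 348) h419 f_419
  have h421 : ∀ u < 146508, (fun u => chkFin tab u) u = true := ext_range (a := 146160) (len := 348) h420 f_420
  have h422 : ∀ u < 146856, (fun u => chkFin tab u) u = true := ext_range (a := 146508) (len := 348) h421 f_421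
  have h423 : ∀ u < 147204, (fun u => chkFin tab u) u = true := ext_range (a := 146856) (len := 348) h422 f_422
  have h424 : ∀ u < 147552, (fun u => chkFin tab u) u = true := ext_range (a := 147204) (len := 348) h423 f_423
  have h425 : ∀ u < 147900, (fun u => chkFin tab u) u = true := ext_range (a := 147552) (len := 348) h424 f_424
  have h426 : ∀ u < 148248, (fun u => chkFin tab u) u = true := ext_range (a := 147900) (len := 348) h425 f_425
  have h427 : ∀ u < 148596, (fun u => chkFin tab u) u = true := ext_range (a := 148248) (len := 348) h426 f_426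
  have h428 : ∀ u < 148944, (fun u => chkFin tab u) u = true := ext_range (a := 148596) (len := 348) h427 f_427
  have h429 : ∀ u < 149292, (fun u => chkFin tab u) u = true := ext_range (a := 148944) (len := 348) h428 f_428
  have h430 : ∀ u < 149640, (fun u => chkFin tab u) u = true := ext_range (a := 149292) (len := 348) h429 f_429
  have h431 : ∀ u < 149988, (fun u => chkFin tab u) u = true := ext_range (a := 149640) (len := 348) h430 f_430
  have h432 : ∀ u < 150336, (fun u => chkFin tab u) u = true := ext_range (a := 149988) (len := 348) h431 f_431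
  have h433 : ∀ u < 150684, (fun u => chkFin tab u) u = true := ext_range (a := 150336) (len := 348) h432 f_432
  have h434 : ∀ u < 151032, (fun u => chkFin tab u) u = true := ext_range (a := 150684) (len := 348) h433 f_433
  have h435 : ∀ u < 151380, (fun u => chkFin tab u) u = true := ext_range (a := 151032) (len := 348) h434 f_434
  have h436 : ∀ u < 151728, (fun u => chkFin tab u) u = true := ext_range (a := 151380) (len := 348) h435 f_435
  have h437 : ∀ u < 152076, (fun u => chkFin tab u) u = true := ext_range (a := 151728) (len := 348) h436 f_436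
  have h438 : ∀ u < 152424, (fun u => chkFin tab u) u = true := ext_range (a := 152076) (len := 348) h437 f_437
  have h439 : ∀ u < 152772, (fun u => chkFin tab u) u = true := ext_range (a := 152424) (len := 348) h438 f_438
  have h440 : ∀ u < 153120, (fun u => chkFin tab u) u = true := ext_range (a := 152772) (len := 348) h439 f_439
  have h441 : ∀ u < 153468, (fun u => chkFin tab u) u = true := ext_range (a := 153120) (len := 348) h440 f_440
  have h442 : ∀ u < 153816, (fun u => chkFin tab u) u = true := ext_range (a := 153468) (len := 348) h441 f_441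
  have h443 : ∀ u < 154164, (fun u => chkFin tab u) u = true := ext_range (a := 153816) (len := 348) h442 f_442
  have h444 : ∀ u < 154512, (fun u => chkFin tab u) u = true := ext_range (a := 154164) (len := 348) h443 f_443
  have h445 : ∀ u < 154860, (fun u => chkFin tab u) u = true := ext_range (a := 154512) (len := 348) h444 f_444
  have h446 : ∀ u < 155208, (fun u => chkFin tab u) u = true := ext_range (a := 154860) (len := 348) h445 f_445
  have h447 : ∀ u < 155556, (fun u => chkFin tab u) u = true := ext_range (a := 155208) (len := 348) h446 f_446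
  have h448 : ∀ u < 155904, (fun u => chkFin tab u) u = true := ext_range (a := 155556) (len := 348) h447 f_447
  have h449 : ∀ u < 156252, (fun u => chkFin tab u) u = true := ext_range (a := 155904) (len := 348) h448 f_448
  have h450 : ∀ u < 156600, (fun u => chkFin tab u) u = true := ext_range (a := 156252) (len := 348) h449 f_449
  have h451 : ∀ u < 156948, (fun u => chkFin tab u) u = true := ext_range (a := 156600) (len := 348) h450 f_450
  have h452 : ∀ u < 157296, (fun u => chkFin tab u) u = true := ext_range (a := 156948) (len := 348) h451 f_451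
  have h453 : ∀ u < 157644, (fun u => chkFin tab u) u = true := ext_range (a := 157296) (len := 348) h452 f_452
  have h454 : ∀ u < 157992, (fun u => chkFin tab u) u = true := ext_range (a := 157644) (len := 348) h453 f_453
  have h455 : ∀ u < 158340, (fun u => chkFin tab u) u = true := ext_range (a := 157992) (len := 348) h454 f_454
  have h456 : ∀ u < 158688, (fun u => chkFin tab u) u = true := ext_range (a := 158340) (len := 348) h455 f_455
  have h457 : ∀ u < 159036, (fun u => chkFin tab u) u = true := ext_range (a := 158688) (len := 348) h456 f_456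
  have h458 : ∀ u < 159384, (fun u => chkFin tab u) u = true := ext_range (a := 159036) (len := 348) h457 f_457
  have h459 : ∀ u < 159732, (fun u => chkFin tab u) u = true := ext_range (a := 159384) (len := 348) h458 f_458
  have h460 : ∀ u < 160080, (fun u => chkFin tab u) u = true := ext_range (a := 159732) (len := 348) h459 f_459
  have h461 : ∀ u < 160428, (fun u => chkFin tab u) u = true := ext_range (a := 160080) (len := 348) h460 f_460
  have h462 : ∀ u < 160776, (fun u => chkFin tab u) u = true := ext_range (a := 160428) (len := 348) h461 f_461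
  have h463 : ∀ u < 161124, (fun u => chkFin tab u) u = true := ext_range (a := 160776) (len := 348) h462 f_462
  have h464 : ∀ u < 161472, (fun u => chkFin tab u) u = true := ext_range (a := 161124) (len := 348) h463 f_463
  have h465 : ∀ u < 161820, (fun u => chkFin tab u) u = true := ext_range (a := 161472) (len := 348) h464 f_464
  have h466 : ∀ u < 162168, (fun u => chkFin tab u) u = true := ext_range (a := 161820) (len := 348) h465 f_465
  have h467 : ∀ u < 162516, (fun u => chkFin tab u) u = true := ext_range (a := 162168) (len := 348) h466 f_466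
  have h468 : ∀ u < 162864, (fun u => chkFin tab u) u = true := ext_range (a := 162516) (len := 348) h467 f_467
  have h469 : ∀ u < 163212, (fun u => chkFin tab u) u = true := ext_range (a := 162864) (len := 348) h468 f_468
  have h470 : ∀ u < 163560, (fun u => chkFin tab u) u = true := ext_range (a := 163212) (len := 348) h469 f_469
  have h471 : ∀ u < 163908, (fun u => chkFin tab u) u = true := ext_range (a := 163560) (len := 348) h470 f_470
  have h472 : ∀ u < 164256, (fun u => chkFin tab u) u = true := ext_range (a := 163908) (len := 348) h471 f_471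
  have h473 : ∀ u < 164604, (fun u => chkFin tab u) u = true := ext_range (a := 164256) (len := 348) h472 f_472
  have h474 : ∀ u < 164952, (fun u => chkFin tab u) u = true := ext_range (a := 164604) (len := 348) h473 f_473
  have h475 : ∀ u < 165300, (fun u => chkFin tab u) u = true := ext_range (a := 164952) (len := 348) h474 f_474
  have h476 : ∀ u < 165648, (fun u => chkFin tab u) u = true := ext_range (a := 165300) (len := 348) h475 f_475
  have h477 : ∀ u < 165996, (fun u => chkFin tab u) u = true := ext_range (a := 165648) (len := 348) h476 f_476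
  have h478 : ∀ u < 166344, (fun u => chkFin tab u) u = true := ext_range (a := 165996) (len := 348) h477 f_477
  have h479 : ∀ u < 166692, (fun u => chkFin tab u) u = true := ext_range (a := 166344) (len := 348) h478 f_478
  have h480 : ∀ u < 167040, (fun u => chkFin tab u) u = true := ext_range (a := 166692) (len := 348) h479 f_479
  have h481 : ∀ u < 167388, (fun u => chkFin tab u) u = true := ext_range (a := 167040) (len := 348) h480 f_480
  have h482 : ∀ u < 167736, (fun u => chkFin tab u) u = true := ext_range (a := 167388) (len := 348) h481 f_481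
  have h483 : ∀ u < 168084, (fun u => chkFin tab u) u = true := ext_range (a := 167736) (len := 348) h482 f_482
  have h484 : ∀ u < 168432, (fun u => chkFin tab u) u = true := ext_range (a := 168084) (len := 348) h483 f_483
  have h485 : ∀ u < 168780, (fun u => chkFin tab u) u = true := ext_range (a := 168432) (len := 348) h484 f_484
  have h486 : ∀ u < 169128, (fun u => chkFin tab u) u = true := ext_range (a := 168780) (len := 348) h485 f_485
  have h487 : ∀ u < 169476, (fun u => chkFin tab u) u = true := ext_range (a := 169128) (len := 348) h486 f_486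
  have h488 : ∀ u < 169824, (fun u => chkFin tab u) u = true := ext_range (a := 169476) (len := 348) h487 f_487
  have h489 : ∀ u < 170172, (fun u => chkFin tab u) u = true := ext_range (a := 169824) (len := 348) h488 f_488
  have h490 : ∀ u < 170520, (fun u => chkFin tab u) u = true := ext_range (a := 170172) (len := 348) h489 f_489
  have h491 : ∀ u < 170868, (fun u => chkFin tab u) u = true := ext_range (a := 170520) (len := 348) h490 f_490
  have h492 : ∀ u < 171216, (fun u => chkFin tab u) u = true := ext_range (a := 170868) (len := 348) h491 f_491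
  have h493 : ∀ u < 171564, (fun u => chkFin tab u) u = true := ext_range (a := 171216) (len := 348) h492 f_492
  have h494 : ∀ u < 171912, (fun u => chkFin tab u) u = true := ext_range (a := 171564) (len := 348) h493 f_493
  have h495 : ∀ u < 172260, (fun u => chkFin tab u) u = true := ext_range (a := 171912) (len := 348) h494 f_494
  have h496 : ∀ u < 172608, (fun u => chkFin tab u) u = true := ext_range (a := 172260) (len := 348) h495 f_495
  have h497 : ∀ u < 172956, (fun u => chkFin tab u) u = true := ext_range (a := 172608) (len := 348) h496 f_496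
  have h498 : ∀ u < 173304, (fun u => chkFin tab u) u = true := ext_range (a := 172956) (len := 348) h497 f_497
  have h499 : ∀ u < 173652, (fun u => chkFin tab u) u = true := ext_range (a := 173304) (len := 348) h498 f_498
  have h500 : ∀ u < 174000, (fun u => chkFin tab u) u = true := ext_range (a := 173652) (len := 348) h499 f_499
  have h501 : ∀ u < 174348, (fun u => chkFin tab u) u = true := ext_range (a := 174000) (len := 348) h500 f_500
  have h502 : ∀ u < 174696, (fun u => chkFin tab u) u = true := ext_range (a := 174348) (len := 348) h501 f_501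
  have h503 : ∀ u < 175044, (fun u => chkFin tab u) u = true := ext_range (a := 174696) (len := 348) h502 f_502
  have h504 : ∀ u < 175392, (fun u => chkFin tab u) u = true := ext_range (a := 175044) (len := 348) h503 f_503
  have h505 : ∀ u < 175740, (fun u => chkFin tab u) u = true := ext_range (a := 175392) (len := 348) h504 f_504
  have h506 : ∀ u < 176088, (fun u => chkFin tab u) u = true := ext_range (a := 175740) (len := 348) h505 f_505
  have h507 : ∀ u < 176436, (fun u => chkFin tab u) u = true := ext_range (a := 176088) (len := 348) h506 f_506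
  have h508 : ∀ u < 176784, (fun u => chkFin tab u) u = true := ext_range (a := 176436) (len := 348) h507 f_507
  have h509 : ∀ u < 177132, (fun u => chkFin tab u) u = true := ext_range (a := 176784) (len := 348) h508 f_508
  have h510 : ∀ u < 177480, (fun u => chkFin tab u) u = true := ext_range (a := 177132) (len := 348) h509 f_509
  have h511 : ∀ u < 177828, (fun u => chkFin tab u) u = true := ext_range (a := 177480) (len := 348) h510 f_510
  have h512 : ∀ u < 178176, (fun u => chkFin tab u) u = true := ext_range (a := 177828) (len := 348) h511 f_511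
  have h513 : ∀ u < 178524, (fun u => chkFin tab u) u = true := ext_range (a := 178176) (len := 348) h512 f_512
  have h514 : ∀ u < 178872, (fun u => chkFin tab u) u = true := ext_range (a := 178524) (len := 348) h513 f_513
  have h515 : ∀ u < 179220, (fun u => chkFin tab u) u = true := ext_range (a := 178872) (len := 348) h514 f_514
  have h516 : ∀ u < 179568, (fun u => chkFin tab u) u = true := ext_range (a := 179220) (len := 348) h515 f_515
  have h517 : ∀ u < 179916, (fun u => chkFin tab u) u = true := ext_range (a := 179568) (len := 348) h516 f_516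
  have h518 : ∀ u < 180264, (fun u => chkFin tab u) u = true := ext_range (a := 179916) (len := 348) h517 f_517
  have h519 : ∀ u < 180612, (fun u => chkFin tab u) u = true := ext_range (a := 180264) (len := 348) h518 f_518
  have h520 : ∀ u < 180960, (fun u => chkFin tab u) u = true := ext_range (a := 180612) (len := 348) h519 f_519
  have h521 : ∀ u < 181308, (fun u => chkFin tab u) u = true := ext_range (a := 180960) (len := 348) h520 f_520
  have h522 : ∀ u < 181656, (fun u => chkFin tab u) u = true := ext_range (a := 181308) (len := 348) h521 f_521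
  have h523 : ∀ u < 182004, (fun u => chkFin tab u) u = true := ext_range (a := 181656) (len := 348) h522 f_522
  have h524 : ∀ u < 182352, (fun u => chkFin tab u) u = true := ext_range (a := 182004) (len := 348) h523 f_523
  have h525 : ∀ u < 182700, (fun u => chkFin tab u) u = true := ext_range (a := 182352) (len := 348) h524 f_524
  have h526 : ∀ u < 183048, (fun u => chkFin tab u) u = true := ext_range (a := 182700) (len := 348) h525 f_525
  have h527 : ∀ u < 183396, (fun u => chkFin tab u) u = true := ext_range (a := 183048) (len := 348) h526 f_526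
  have h528 : ∀ u < 183744, (fun u => chkFin tab u) u = true := ext_range (a := 183396) (len := 348) h527 f_527
  have h529 : ∀ u < 184092, (fun u => chkFin tab u) u = true := ext_range (a := 183744) (len := 348) h528 f_528
  have h530 : ∀ u < 184440, (fun u => chkFin tab u) u = true := ext_range (a := 184092) (len := 348) h529 f_529
  have h531 : ∀ u < 184788, (fun u => chkFin tab u) u = true := ext_range (a := 184440) (len := 348) h530 f_530
  have h532 : ∀ u < 185136, (fun u => chkFin tab u) u = true := ext_range (a := 184788) (len := 348) h531 f_531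
  have h533 : ∀ u < 185484, (fun u => chkFin tab u) u = true := ext_range (a := 185136) (len := 348) h532 f_532
  have h534 : ∀ u < 185832, (fun u => chkFin tab u) u = true := ext_range (a := 185484) (len := 348) h533 f_533
  have h535 : ∀ u < 186180, (fun u => chkFin tab u) u = true := ext_range (a := 185832) (len := 348) h534 f_534
  have h536 : ∀ u < 186528, (fun u => chkFin tab u) u = true := ext_range (a := 186180) (len := 348) h535 f_535
  have h537 : ∀ u < 186876, (fun u => chkFin tab u) u = true := ext_range (a := 186528) (len := 348) h536 f_536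
  have h538 : ∀ u < 187224, (fun u => chkFin tab u) u = true := ext_range (a := 186876) (len := 348) h537 f_537
  have h539 : ∀ u < 187425, (fun u => chkFin tab u) u = true := ext_range (a := 187224) (len := 201) h538 f_538
  exact h539

theorem hC : ∀ u < 189247, chkCls tab u = true := by
  have h0 : ∀ u < 0, (fun u => chkCls tab u) u = true := range_zero
  have h1 : ∀ u < 2667, (fun u => chkCls tab u) u = true := ext_range (a := 0) (len := 2667) h0 c_0
  have h2 : ∀ u < 5334, (fun u => chkCls tab u) u = true := ext_range (a := 2667) (len := 2667) h1 c_1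
  have h3 : ∀ u < 8001, (fun u => chkCls tab u) u = true := ext_range (a := 5334) (len := 2667) h2 c_2
  have h4 : ∀ u < 10668, (fun u => chkCls tab u) u = true := ext_range (a := 8001) (len := 2667) h3 c_3
  have h5 : ∀ u < 13335, (fun u => chkCls tab u) u = true := ext_range (a := 10668) (len := 2667) h4 c_4
  have h6 : ∀ u < 16002, (fun u => chkCls tab u) u = true := ext_range (a := 13335) (len := 2667) h5 c_5
  have h7 : ∀ u < 18669, (fun u => chkCls tab u) u = true := ext_range (a := 16002) (len := 2667) h6 c_6
  have h8 : ∀ u < 21336, (fun u => chkCls tab u) u = true := ext_range (a := 18669) (len := 2667) h7 c_7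
  have h9 : ∀ u < 24003, (fun u => chkCls tab u) u = true := ext_range (a := 21336) (len := 2667) h8 c_8
  have h10 : ∀ u < 26670, (fun u => chkCls tab u) u = true := ext_range (a := 24003) (len := 2667) h9 c_9
  have h11 : ∀ u < 29337, (fun u => chkCls tab u) u = true := ext_range (a := 26670) (len := 2667) h10 c_10
  have h12 : ∀ u < 32004, (fun u => chkCls tab u) u = true := ext_range (a := 29337) (len := 2667) h11 c_11
  have h13 : ∀ u < 34671, (fun u => chkCls tab u) u = true := ext_range (a := 32004) (len := 2667) h12 c_12
  have h14 : ∀ u < 37338, (fun u => chkCls tab u) u = true := ext_range (a := 34671) (len := 2667) h13 c_13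
  have h15 : ∀ u < 40005, (fun u => chkCls tab u) u = true := ext_range (a := 37338) (len := 2667) h14 c_14
  have h16 : ∀ u < 42672, (fun u => chkCls tab u) u = true := ext_range (a := 40005) (len := 2667) h15 c_15
  have h17 : ∀ u < 45339, (fun u => chkCls tab u) u = true := ext_range (a := 42672) (len := 2667) h16 c_16
  have h18 : ∀ u < 48006, (fun u => chkCls tab u) u = true := ext_range (a := 45339) (len := 2667) h17 c_17
  have h19 : ∀ u < 50673, (fun u => chkCls tab u) u = true := ext_range (a := 48006) (len := 2667) h18 c_18
  have h20 : ∀ u < 53340, (fun u => chkCls tab u) u = true := ext_range (a := 50673) (len := 2667) h19 c_19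
  have h21 : ∀ u < 56007, (fun u => chkCls tab u) u = true := ext_range (a := 53340) (len := 2667) h20 c_20
  have h22 : ∀ u < 58674, (fun u => chkCls tab u) u = true := ext_range (a := 56007) (len := 2667) h21 c_21
  have h23 : ∀ u < 61341, (fun u => chkCls tab u) u = true := ext_range (a := 58674) (len := 2667) h22 c_22
  have h24 : ∀ u < 64008, (fun u => chkCls tab u) u = true := ext_range (a := 61341) (len := 2667) h23 c_23
  have h25 : ∀ u < 66675, (fun u => chkCls tab u) u = true := ext_range (a := 64008) (len := 2667) h24 c_24
  have h26 : ∀ u < 69342, (fun u => chkCls tab u) u = true := ext_range (a := 66675) (len := 2667) h25 c_25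
  have h27 : ∀ u < 72009, (fun u => chkCls tab u) u = true := ext_range (a := 69342) (len := 2667) h26 c_26
  have h28 : ∀ u < 74676, (fun u => chkCls tab u) u = true := ext_range (a := 72009) (len := 2667) h27 c_27
  have h29 : ∀ u < 77343, (fun u => chkCls tab u) u = true := ext_range (a := 74676) (len := 2667) h28 c_28
  have h30 : ∀ u < 80010, (fun u => chkCls tab u) u = true := ext_range (a := 77343) (len := 2667) h29 c_29
  have h31 : ∀ u < 82677, (fun u => chkCls tab u) u = true := ext_range (a := 80010) (len := 2667) h30 c_30
  have h32 : ∀ u < 85344, (fun u => chkCls tab u) u = true := ext_range (a := 82677) (len := 2667) h31 c_31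
  have h33 : ∀ u < 88011, (fun u => chkCls tab u) u = true := ext_range (a := 85344) (len := 2667) h32 c_32
  have h34 : ∀ u < 90678, (fun u => chkCls tab u) u = true := ext_range (a := 88011) (len := 2667) h33 c_33
  have h35 : ∀ u < 93345, (fun u => chkCls tab u) u = true := ext_range (a := 90678) (len := 2667) h34 c_34
  have h36 : ∀ u < 96012, (fun u => chkCls tab u) u = true := ext_range (a := 93345) (len := 2667) h35 c_35
  have h37 : ∀ u < 98679, (fun u => chkCls tab u) u = true := ext_range (a := 96012) (len := 2667) h36 c_36
  have h38 : ∀ u < 101346, (fun u => chkCls tab u) u = true := ext_range (a := 98679) (len := 2667) h37 c_37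
  have h39 : ∀ u < 104013, (fun u => chkCls tab u) u = true := ext_range (a := 101346) (len := 2667) h38 c_38
  have h40 : ∀ u < 106680, (fun u => chkCls tab u) u = true := ext_range (a := 104013) (len := 2667) h39 c_39
  have h41 : ∀ u < 109347, (fun u => chkCls tab u) u = true := ext_range (a := 106680) (len := 2667) h40 c_40
  have h42 : ∀ u < 112014, (fun u => chkCls tab u) u = true := ext_range (a := 109347) (len := 2667) h41 c_41
  have h43 : ∀ u < 114681, (fun u => chkCls tab u) u = true := ext_range (a := 112014) (len := 2667) h42 c_42
  have h44 : ∀ u < 117348, (fun u => chkCls tab u) u = true := ext_range (a := 114681) (len := 2667) h43 c_43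
  have h45 : ∀ u < 120015, (fun u => chkCls tab u) u = true := ext_range (a := 117348) (len := 2667) h44 c_44
  have h46 : ∀ u < 122682, (fun u => chkCls tab u) u = true := ext_range (a := 120015) (len := 2667) h45 c_45
  have h47 : ∀ u < 125349, (fun u => chkCls tab u) u = true := ext_range (a := 122682) (len := 2667) h46 c_46
  have h48 : ∀ u < 128016, (fun u => chkCls tab u) u = true := ext_range (a := 125349) (len := 2667) h47 c_47
  have h49 : ∀ u < 130683, (fun u => chkCls tab u) u = true := ext_range (a := 128016) (len := 2667) h48 c_48
  have h50 : ∀ u < 133350, (fun u => chkCls tab u) u = true := ext_range (a := 130683) (len := 2667) h49 c_49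
  have h51 : ∀ u < 136017, (fun u => chkCls tab u) u = true := ext_range (a := 133350) (len := 2667) h50 c_50
  have h52 : ∀ u < 138684, (fun u => chkCls tab u) u = true := ext_range (a := 136017) (len := 2667) h51 c_51
  have h53 : ∀ u < 141351, (fun u => chkCls tab u) u = true := ext_range (a := 138684) (len := 2667) h52 c_52
  have h54 : ∀ u < 144018, (fun u => chkCls tab u) u = true := ext_range (a := 141351) (len := 2667) h53 c_53
  have h55 : ∀ u < 146685, (fun u => chkCls tab u) u = true := ext_range (a := 144018) (len := 2667) h54 c_54
  have h56 : ∀ u < 149352, (fun u => chkCls tab u) u = true := ext_range (a := 146685) (len := 2667) h55 c_55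
  have h57 : ∀ u < 152019, (fun u => chkCls tab u) u = true := ext_range (a := 149352) (len := 2667) h56 c_56
  have h58 : ∀ u < 154686, (fun u => chkCls tab u) u = true := ext_range (a := 152019) (len := 2667) h57 c_57
  have h59 : ∀ u < 157353, (fun u => chkCls tab u) u = true := ext_range (a := 154686) (len := 2667) h58 c_58
  have h60 : ∀ u < 160020, (fun u => chkCls tab u) u = true := ext_range (a := 157353) (len := 2667) h59 c_59
  have h61 : ∀ u < 162687, (fun u => chkCls tab u) u = true := ext_range (a := 160020) (len := 2667) h60 c_60
  have h62 : ∀ u < 165354, (fun u => chkCls tab u) u = true := ext_range (a := 162687) (len := 2667) h61 c_61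
  have h63 : ∀ u < 168021, (fun u => chkCls tab u) u = true := ext_range (a := 165354) (len := 2667) h62 c_62
  have h64 : ∀ u < 170688, (fun u => chkCls tab u) u = true := ext_range (a := 168021) (len := 2667) h63 c_63
  have h65 : ∀ u < 173355, (fun u => chkCls tab u) u = true := ext_range (a := 170688) (len := 2667) h64 c_64
  have h66 : ∀ u < 176022, (fun u => chkCls tab u) u = true := ext_range (a := 173355) (len := 2667) h65 c_65
  have h67 : ∀ u < 178689, (fun u => chkCls tab u) u = true := ext_range (a := 176022) (len := 2667) h66 c_66
  have h68 : ∀ u < 181356, (fun u => chkCls tab u) u = true := ext_range (a := 178689) (len := 2667) h67 c_67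
  have h69 : ∀ u < 184023, (fun u => chkCls tab u) u = true := ext_range (a := 181356) (len := 2667) h68 c_68
  have h70 : ∀ u < 186690, (fun u => chkCls tab u) u = true := ext_range (a := 184023) (len := 2667) h69 c_69
  have h71 : ∀ u < 189247, (fun u => chkCls tab u) u = true := ext_range (a := 186690) (len := 2557) h70 c_70
  exact h71

theorem hM1 : ∀ u < 187425, chkM1 tab u = true := by
  have h0 : ∀ u < 0, (fun u => chkM1 tab u) u = true := range_zero
  have h1 : ∀ u < 899, (fun u => chkM1 tab u) u = true := ext_range (a := 0) (len := 899) h0 m1_0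
  have h2 : ∀ u < 1798, (fun u => chkM1 tab u) u = true := ext_range (a := 899) (len := 899) h1 m1_1
  have h3 : ∀ u < 2697, (fun u => chkM1 tab u) u = true := ext_range (a := 1798) (len := 899) h2 m1_2
  have h4 : ∀ u < 3596, (fun u => chkM1 tab u) u = true := ext_range (a := 2697) (len := 899) h3 m1_3
  have h5 : ∀ u < 4495, (fun u => chkM1 tab u) u = true := ext_range (a := 3596) (len := 899) h4 m1_4
  have h6 : ∀ u < 5394, (fun u => chkM1 tab u) u = true := ext_range (a := 4495) (len := 899) h5 m1_5
  have h7 : ∀ u < 6293, (fun u => chkM1 tab u) u = true := ext_range (a := 5394) (len := 899) h6 m1_6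
  have h8 : ∀ u < 7192, (fun u => chkM1 tab u) u = true := ext_range (a := 6293) (len := 899) h7 m1_7
  have h9 : ∀ u < 8091, (fun u => chkM1 tab u) u = true := ext_range (a := 7192) (len := 899) h8 m1_8
  have h10 : ∀ u < 8990, (fun u => chkM1 tab u) u = true := ext_range (a := 8091) (len := 899) h9 m1_9
  have h11 : ∀ u < 9889, (fun u => chkM1 tab u) u = true := ext_range (a := 8990) (len := 899) h10 m1_10
  have h12 : ∀ u < 10788, (fun u => chkM1 tab u) u = true := ext_range (a := 9889) (len := 899) h11 m1_11
  have h13 : ∀ u < 11687, (fun u => chkM1 tab u) u = true := ext_range (a := 10788) (len := 899) h12 m1_12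
  have h14 : ∀ u < 12586, (fun u => chkM1 tab u) u = true := ext_range (a := 11687) (len := 899) h13 m1_13
  have h15 : ∀ u < 13485, (fun u => chkM1 tab u) u = true := ext_range (a := 12586) (len := 899) h14 m1_14
  have h16 : ∀ u < 14384, (fun u => chkM1 tab u) u = true := ext_range (a := 13485) (len := 899) h15 m1_15
  have h17 : ∀ u < 15283, (fun u => chkM1 tab u) u = true := ext_range (a := 14384) (len := 899) h16 m1_16
  have h18 : ∀ u < 16182, (fun u => chkM1 tab u) u = true := ext_range (a := 15283) (len := 899) h17 m1_17
  have h19 : ∀ u < 17081, (fun u => chkM1 tab u) u = true := ext_range (a := 16182) (len := 899) h18 m1_18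
  have h20 : ∀ u < 17980, (fun u => chkM1 tab u) u = true := ext_range (a := 17081) (len := 899) h19 m1_19
  have h21 : ∀ u < 18879, (fun u => chkM1 tab u) u = true := ext_range (a := 17980) (len := 899) h20 m1_20
  have h22 : ∀ u < 19778, (fun u => chkM1 tab u) u = true := ext_range (a := 18879) (len := 899) h21 m1_21
  have h23 : ∀ u < 20677, (fun u => chkM1 tab u) u = true := ext_range (a := 19778) (len := 899) h22 m1_22
  have h24 : ∀ u < 21576, (fun u => chkM1 tab u) u = true := ext_range (a := 20677) (len := 899) h23 m1_23
  have h25 : ∀ u < 22475, (fun u => chkM1 tab u) u = true := ext_range (a := 21576) (len := 899) h24 m1_24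
  have h26 : ∀ u < 23374, (fun u => chkM1 tab u) u = true := ext_range (a := 22475) (len := 899) h25 m1_25
  have h27 : ∀ u < 24273, (fun u => chkM1 tab u) u = true := ext_range (a := 23374) (len := 899) h26 m1_26
  have h28 : ∀ u < 25172, (fun u => chkM1 tab u) u = true := ext_range (a := 24273) (len := 899) h27 m1_27
  have h29 : ∀ u < 26071, (fun u => chkM1 tab u) u = true := ext_range (a := 25172) (len := 899) h28 m1_28
  have h30 : ∀ u < 26970, (fun u => chkM1 tab u) u = true := ext_range (a := 26071) (len := 899) h29 m1_29
  have h31 : ∀ u < 27869, (fun u => chkM1 tab u) u = true := ext_range (a := 26970) (len := 899) h30 m1_30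
  have h32 : ∀ u < 28768, (fun u => chkM1 tab u) u = true := ext_range (a := 27869) (len := 899) h31 m1_31
  have h33 : ∀ u < 29667, (fun u => chkM1 tab u) u = true := ext_range (a := 28768) (len := 899) h32 m1_32
  have h34 : ∀ u < 30566, (fun u => chkM1 tab u) u = true := ext_range (a := 29667) (len := 899) h33 m1_33
  have h35 : ∀ u < 31465, (fun u => chkM1 tab u) u = true := ext_range (a := 30566) (len := 899) h34 m1_34
  have h36 : ∀ u < 32364, (fun u => chkM1 tab u) u = true := ext_range (a := 31465) (len := 899) h35 m1_35
  have h37 : ∀ u < 33263, (fun u => chkM1 tab u) u = true := ext_range (a := 32364) (len := 899) h36 m1_36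
  have h38 : ∀ u < 34162, (fun u => chkM1 tab u) u = true := ext_range (a := 33263) (len := 899) h37 m1_37
  have h39 : ∀ u < 35061, (fun u => chkM1 tab u) u = true := ext_range (a := 34162) (len := 899) h38 m1_38
  have h40 : ∀ u < 35960, (fun u => chkM1 tab u) u = true := ext_range (a := 35061) (len := 899) h39 m1_39
  have h41 : ∀ u < 36859, (fun u => chkM1 tab u) u = true := ext_range (a := 35960) (len := 899) h40 m1_40
  have h42 : ∀ u < 37758, (fun u => chkM1 tab u) u = true := ext_range (a := 36859) (len := 899) h41 m1_41
  have h43 : ∀ u < 38657, (fun u => chkM1 tab u) u = true := ext_range (a := 37758) (len := 899) h42 m1_42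
  have h44 : ∀ u < 39556, (fun u => chkM1 tab u) u = true := ext_range (a := 38657) (len := 899) h43 m1_43
  have h45 : ∀ u < 40455, (fun u => chkM1 tab u) u = true := ext_range (a := 39556) (len := 899) h44 m1_44
  have h46 : ∀ u < 41354, (fun u => chkM1 tab u) u = true := ext_range (a := 40455) (len := 899) h45 m1_45
  have h47 : ∀ u < 42253, (fun u => chkM1 tab u) u = true := ext_range (a := 41354) (len := 899) h46 m1_46
  have h48 : ∀ u < 43152, (fun u => chkM1 tab u) u = true := ext_range (a := 42253) (len := 899) h47 m1_47
  have h49 : ∀ u < 44051, (fun u => chkM1 tab u) u = true := ext_range (a := 43152) (len := 899) h48 m1_48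
  have h50 : ∀ u < 44950, (fun u => chkM1 tab u) u = true := ext_range (a := 44051) (len := 899) h49 m1_49
  have h51 : ∀ u < 45849, (fun u => chkM1 tab u) u = true := ext_range (a := 44950) (len := 899) h50 m1_50
  have h52 : ∀ u < 46748, (fun u => chkM1 tab u) u = true := ext_range (a := 45849) (len := 899) h51 m1_51
  have h53 : ∀ u < 47647, (fun u => chkM1 tab u) u = true := ext_range (a := 46748) (len := 899) h52 m1_52
  have h54 : ∀ u < 48546, (fun u => chkM1 tab u) u = true := ext_range (a := 47647) (len := 899) h53 m1_53
  have h55 : ∀ u < 49445, (fun u => chkM1 tab u) u = true := ext_range (a := 48546) (len := 899) h54 m1_54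
  have h56 : ∀ u < 50344, (fun u => chkM1 tab u) u = true := ext_range (a := 49445) (len := 899) h55 m1_55
  have h57 : ∀ u < 51243, (fun u => chkM1 tab u) u = true := ext_range (a := 50344) (len := 899) h56 m1_56
  have h58 : ∀ u < 52142, (fun u => chkM1 tab u) u = true := ext_range (a := 51243) (len := 899) h57 m1_57
  have h59 : ∀ u < 53041, (fun u => chkM1 tab u) u = true := ext_range (a := 52142) (len := 899) h58 m1_58
  have h60 : ∀ u < 53940, (fun u => chkM1 tab u) u = true := ext_range (a := 53041) (len := 899) h59 m1_59
  have h61 : ∀ u < 54839, (fun u => chkM1 tab u) u = true := ext_range (a := 53940) (len := 899) h60 m1_60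
  have h62 : ∀ u < 55738, (fun u => chkM1 tab u) u = true := ext_range (a := 54839) (len := 899) h61 m1_61
  have h63 : ∀ u < 56637, (fun u => chkM1 tab u) u = true := ext_range (a := 55738) (len := 899) h62 m1_62
  have h64 : ∀ u < 57536, (fun u => chkM1 tab u) u = true := ext_range (a := 56637) (len := 899) h63 m1_63
  have h65 : ∀ u < 58435, (fun u => chkM1 tab u) u = true := ext_range (a := 57536) (len := 899) h64 m1_64
  have h66 : ∀ u < 59334, (fun u => chkM1 tab u) u = true := ext_range (a := 58435) (len := 899) h65 m1_65
  have h67 : ∀ u < 60233, (fun u => chkM1 tab u) u = true := ext_range (a := 59334) (len := 899) h66 m1_66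
  have h68 : ∀ u < 61132, (fun u => chkM1 tab u) u = true := ext_range (a := 60233) (len := 899) h67 m1_67
  have h69 : ∀ u < 62031, (fun u => chkM1 tab u) u = true := ext_range (a := 61132) (len := 899) h68 m1_68
  have h70 : ∀ u < 62930, (fun u => chkM1 tab u) u = true := ext_range (a := 62031) (len := 899) h69 m1_69
  have h71 : ∀ u < 63829, (fun u => chkM1 tab u) u = true := ext_range (a := 62930) (len := 899) h70 m1_70
  have h72 : ∀ u < 64728, (fun u => chkM1 tab u) u = true := ext_range (a := 63829) (len := 899) h71 m1_71
  have h73 : ∀ u < 65627, (fun u => chkM1 tab u) u = true := ext_range (a := 64728) (len := 899) h72 m1_72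
  have h74 : ∀ u < 66526, (fun u => chkM1 tab u) u = true := ext_range (a := 65627) (len := 899) h73 m1_73
  have h75 : ∀ u < 67425, (fun u => chkM1 tab u) u = true := ext_range (a := 66526) (len := 899) h74 m1_74
  have h76 : ∀ u < 68324, (fun u => chkM1 tab u) u = true := ext_range (a := 67425) (len := 899) h75 m1_75
  have h77 : ∀ u < 69223, (fun u => chkM1 tab u) u = true := ext_range (a := 68324) (len := 899) h76 m1_76
  have h78 : ∀ u < 70122, (fun u => chkM1 tab u) u = true := ext_range (a := 69223) (len := 899) h77 m1_77
  have h79 : ∀ u < 71021, (fun u => chkM1 tab u) u = true := ext_range (a := 70122) (len := 899) h78 m1_78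
  have h80 : ∀ u < 71920, (fun u => chkM1 tab u) u = true := ext_range (a := 71021) (len := 899) h79 m1_79
  have h81 : ∀ u < 72819, (fun u => chkM1 tab u) u = true := ext_range (a := 71920) (len := 899) h80 m1_80
  have h82 : ∀ u < 73718, (fun u => chkM1 tab u) u = true := ext_range (a := 72819) (len := 899) h81 m1_81
  have h83 : ∀ u < 74617, (fun u => chkM1 tab u) u = true := ext_range (a := 73718) (len := 899) h82 m1_82
  have h84 : ∀ u < 75516, (fun u => chkM1 tab u) u = true := ext_range (a := 74617) (len := 899) h83 m1_83
  have h85 : ∀ u < 76415, (fun u => chkM1 tab u) u = true := ext_range (a := 75516) (len := 899) h84 m1_84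
  have h86 : ∀ u < 77314, (fun u => chkM1 tab u) u = true := ext_range (a := 76415) (len := 899) h85 m1_85
  have h87 : ∀ u < 78213, (fun u => chkM1 tab u) u = true := ext_range (a := 77314) (len := 899) h86 m1_86
  have h88 : ∀ u < 79112, (fun u => chkM1 tab u) u = true := ext_range (a := 78213) (len := 899) h87 m1_87
  have h89 : ∀ u < 80011, (fun u => chkM1 tab u) u = true := ext_range (a := 79112) (len := 899) h88 m1_88
  have h90 : ∀ u < 80910, (fun u => chkM1 tab u) u = true := ext_range (a := 80011) (len := 899) h89 m1_89
  have h91 : ∀ u < 81809, (fun u => chkM1 tab u) u = true := ext_range (a := 80910) (len := 899) h90 m1_90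
  have h92 : ∀ u < 82708, (fun u => chkM1 tab u) u = true := ext_range (a := 81809) (len := 899) h91 m1_91
  have h93 : ∀ u < 83607, (fun u => chkM1 tab u) u = true := ext_range (a := 82708) (len := 899) h92 m1_92
  have h94 : ∀ u < 84506, (fun u => chkM1 tab u) u = true := ext_range (a := 83607) (len := 899) h93 m1_93
  have h95 : ∀ u < 85405, (fun u => chkM1 tab u) u = true := ext_range (a := 84506) (len := 899) h94 m1_94
  have h96 : ∀ u < 86304, (fun u => chkM1 tab u) u = true := ext_range (a := 85405) (len := 899) h95 m1_95
  have h97 : ∀ u < 87203, (fun u => chkM1 tab u) u = true := ext_range (a := 86304) (len := 899) h96 m1_96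
  have h98 : ∀ u < 88102, (fun u => chkM1 tab u) u = true := ext_range (a := 87203) (len := 899) h97 m1_97
  have h99 : ∀ u < 89001, (fun u => chkM1 tab u) u = true := ext_range (a := 88102) (len := 899) h98 m1_98
  have h100 : ∀ u < 89900, (fun u => chkM1 tab u) u = true := ext_range (a := 89001) (len := 899) h99 m1_99
  have h101 : ∀ u < 90799, (fun u => chkM1 tab u) u = true := ext_range (a := 89900) (len := 899) h100 m1_100
  have h102 : ∀ u < 91698, (fun u => chkM1 tab u) u = true := ext_range (a := 90799) (len := 899) h101 m1_101
  have h103 : ∀ u < 92597, (fun u => chkM1 tab u) u = true := ext_range (a := 91698) (len := 899) h102 m1_102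
  have h104 : ∀ u < 93496, (fun u => chkM1 tab u) u = true := ext_range (a := 92597) (len := 899) h103 m1_103
  have h105 : ∀ u < 94395, (fun u => chkM1 tab u) u = true := ext_range (a := 93496) (len := 899) h104 m1_104
  have h106 : ∀ u < 95294, (fun u => chkM1 tab u) u = true := ext_range (a := 94395) (len := 899) h105 m1_105
  have h107 : ∀ u < 96193, (fun u => chkM1 tab u) u = true := ext_range (a := 95294) (len := 899) h106 m1_106
  have h108 : ∀ u < 97092, (fun u => chkM1 tab u) u = true := ext_range (a := 96193) (len := 899) h107 m1_107
  have h109 : ∀ u < 97991, (fun u => chkM1 tab u) u = true := ext_range (a := 97092) (len := 899) h108 m1_108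
  have h110 : ∀ u < 98890, (fun u => chkM1 tab u) u = true := ext_range (a := 97991) (len := 899) h109 m1_109
  have h111 : ∀ u < 99789, (fun u => chkM1 tab u) u = true := ext_range (a := 98890) (len := 899) h110 m1_110
  have h112 : ∀ u < 100688, (fun u => chkM1 tab u) u = true := ext_range (a := 99789) (len := 899) h111 m1_111
  have h113 : ∀ u < 101587, (fun u => chkM1 tab u) u = true := ext_range (a := 100688) (len := 899) h112 m1_112
  have h114 : ∀ u < 102486, (fun u => chkM1 tab u) u = true := ext_range (a := 101587) (len := 899) h113 m1_113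
  have h115 : ∀ u < 103385, (fun u => chkM1 tab u) u = true := ext_range (a := 102486) (len := 899) h114 m1_114
  have h116 : ∀ u < 104284, (fun u => chkM1 tab u) u = true := ext_range (a := 103385) (len := 899) h115 m1_115
  have h117 : ∀ u < 105183, (fun u => chkM1 tab u) u = true := ext_range (a := 104284) (len := 899) h116 m1_116
  have h118 : ∀ u < 106082, (fun u => chkM1 tab u) u = true := ext_range (a := 105183) (len := 899) h117 m1_117
  have h119 : ∀ u < 106981, (fun u => chkM1 tab u) u = true := ext_range (a := 106082) (len := 899) h118 m1_118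
  have h120 : ∀ u < 107880, (fun u => chkM1 tab u) u = true := ext_range (a := 106981) (len := 899) h119 m1_119
  have h121 : ∀ u < 108779, (fun u => chkM1 tab u) u = true := ext_range (a := 107880) (len := 899) h120 m1_120
  have h122 : ∀ u < 109678, (fun u => chkM1 tab u) u = true := ext_range (a := 108779) (len := 899) h121 m1_121
  have h123 : ∀ u < 110577, (fun u => chkM1 tab u) u = true := ext_range (a := 109678) (len := 899) h122 m1_122
  have h124 : ∀ u < 111476, (fun u => chkM1 tab u) u = true := ext_range (a := 110577) (len := 899) h123 m1_123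
  have h125 : ∀ u < 112375, (fun u => chkM1 tab u) u = true := ext_range (a := 111476) (len := 899) h124 m1_124
  have h126 : ∀ u < 113274, (fun u => chkM1 tab u) u = true := ext_range (a := 112375) (len := 899) h125 m1_125
  have h127 : ∀ u < 114173, (fun u => chkM1 tab u) u = true := ext_range (a := 113274) (len := 899) h126 m1_126
  have h128 : ∀ u < 115072, (fun u => chkM1 tab u) u = true := ext_range (a := 114173) (len := 899) h127 m1_127
  have h129 : ∀ u < 115971, (fun u => chkM1 tab u) u = true := ext_range (a := 115072) (len := 899) h128 m1_128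
  have h130 : ∀ u < 116870, (fun u => chkM1 tab u) u = true := ext_range (a := 115971) (len := 899) h129 m1_129
  have h131 : ∀ u < 117769, (fun u => chkM1 tab u) u = true := ext_range (a := 116870) (len := 899) h130 m1_130
  have h132 : ∀ u < 118668, (fun u => chkM1 tab u) u = true := ext_range (a := 117769) (len := 899) h131 m1_131
  have h133 : ∀ u < 119567, (fun u => chkM1 tab u) u = true := ext_range (a := 118668) (len := 899) h132 m1_132
  have h134 : ∀ u < 120466, (fun u => chkM1 tab u) u = true := ext_range (a := 119567) (len := 899) h133 m1_133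
  have h135 : ∀ u < 121365, (fun u => chkM1 tab u) u = true := ext_range (a := 120466) (len := 899) h134 m1_134
  have h136 : ∀ u < 122264, (fun u => chkM1 tab u) u = true := ext_range (a := 121365) (len := 899) h135 m1_135
  have h137 : ∀ u < 123163, (fun u => chkM1 tab u) u = true := ext_range (a := 122264) (len := 899) h136 m1_136
  have h138 : ∀ u < 124062, (fun u => chkM1 tab u) u = true := ext_range (a := 123163) (len := 899) h137 m1_137
  have h139 : ∀ u < 124961, (fun u => chkM1 tab u) u = true := ext_range (a := 124062) (len := 899) h138 m1_138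
  have h140 : ∀ u < 125860, (fun u => chkM1 tab u) u = true := ext_range (a := 124961) (len := 899) h139 m1_139
  have h141 : ∀ u < 126759, (fun u => chkM1 tab u) u = true := ext_range (a := 125860) (len := 899) h140 m1_140
  have h142 : ∀ u < 127658, (fun u => chkM1 tab u) u = true := ext_range (a := 126759) (len := 899) h141 m1_141
  have h143 : ∀ u < 128557, (fun u => chkM1 tab u) u = true := ext_range (a := 127658) (len := 899) h142 m1_142
  have h144 : ∀ u < 129456, (fun u => chkM1 tab u) u = true := ext_range (a := 128557) (len := 899) h143 m1_143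
  have h145 : ∀ u < 130355, (fun u => chkM1 tab u) u = true := ext_range (a := 129456) (len := 899) h144 m1_144
  have h146 : ∀ u < 131254, (fun u => chkM1 tab u) u = true := ext_range (a := 130355) (len := 899) h145 m1_145
  have h147 : ∀ u < 132153, (fun u => chkM1 tab u) u = true := ext_range (a := 131254) (len := 899) h146 m1_146
  have h148 : ∀ u < 133052, (fun u => chkM1 tab u) u = true := ext_range (a := 132153) (len := 899) h147 m1_147
  have h149 : ∀ u < 133951, (fun u => chkM1 tab u) u = true := ext_range (a := 133052) (len := 899) h148 m1_148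
  have h150 : ∀ u < 134850, (fun u => chkM1 tab u) u = true := ext_range (a := 133951) (len := 899) h149 m1_149
  have h151 : ∀ u < 135749, (fun u => chkM1 tab u) u = true := ext_range (a := 134850) (len := 899) h150 m1_150
  have h152 : ∀ u < 136648, (fun u => chkM1 tab u) u = true := ext_range (a := 135749) (len := 899) h151 m1_151
  have h153 : ∀ u < 137547, (fun u => chkM1 tab u) u = true := ext_range (a := 136648) (len := 899) h152 m1_152
  have h154 : ∀ u < 138446, (fun u => chkM1 tab u) u = true := ext_range (a := 137547) (len := 899) h153 m1_153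
  have h155 : ∀ u < 139345, (fun u => chkM1 tab u) u = true := ext_range (a := 138446) (len := 899) h154 m1_154
  have h156 : ∀ u < 140244, (fun u => chkM1 tab u) u = true := ext_range (a := 139345) (len := 899) h155 m1_155
  have h157 : ∀ u < 141143, (fun u => chkM1 tab u) u = true := ext_range (a := 140244) (len := 899) h156 m1_156
  have h158 : ∀ u < 142042, (fun u => chkM1 tab u) u = true := ext_range (a := 141143) (len := 899) h157 m1_157
  have h159 : ∀ u < 142941, (fun u => chkM1 tab u) u = true := ext_range (a := 142042) (len := 899) h158 m1_158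
  have h160 : ∀ u < 143840, (fun u => chkM1 tab u) u = true := ext_range (a := 142941) (len := 899) h159 m1_159
  have h161 : ∀ u < 144739, (fun u => chkM1 tab u) u = true := ext_range (a := 143840) (len := 899) h160 m1_160
  have h162 : ∀ u < 145638, (fun u => chkM1 tab u) u = true := ext_range (a := 144739) (len := 899) h161 m1_161
  have h163 : ∀ u < 146537, (fun u => chkM1 tab u) u = true := ext_range (a := 145638) (len := 899) h162 m1_162
  have h164 : ∀ u < 147436, (fun u => chkM1 tab u) u = true := ext_range (a := 146537) (len := 899) h163 m1_163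
  have h165 : ∀ u < 148335, (fun u => chkM1 tab u) u = true := ext_range (a := 147436) (len := 899) h164 m1_164
  have h166 : ∀ u < 149234, (fun u => chkM1 tab u) u = true := ext_range (a := 148335) (len := 899) h165 m1_165
  have h167 : ∀ u < 150133, (fun u => chkM1 tab u) u = true := ext_range (a := 149234) (len := 899) h166 m1_166
  have h168 : ∀ u < 151032, (fun u => chkM1 tab u) u = true := ext_range (a := 150133) (len := 899) h167 m1_167
  have h169 : ∀ u < 151931, (fun u => chkM1 tab u) u = true := ext_range (a := 151032) (len := 899) h168 m1_168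
  have h170 : ∀ u < 152830, (fun u => chkM1 tab u) u = true := ext_range (a := 151931) (len := 899) h169 m1_169
  have h171 : ∀ u < 153729, (fun u => chkM1 tab u) u = true := ext_range (a := 152830) (len := 899) h170 m1_170
  have h172 : ∀ u < 154628, (fun u => chkM1 tab u) u = true := ext_range (a := 153729) (len := 899) h171 m1_171
  have h173 : ∀ u < 155527, (fun u => chkM1 tab u) u = true := ext_range (a := 154628) (len := 899) h172 m1_172
  have h174 : ∀ u < 156426, (fun u => chkM1 tab u) u = true := ext_range (a := 155527) (len := 899) h173 m1_173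
  have h175 : ∀ u < 157325, (fun u => chkM1 tab u) u = true := ext_range (a := 156426) (len := 899) h174 m1_174
  have h176 : ∀ u < 158224, (fun u => chkM1 tab u) u = true := ext_range (a := 157325) (len := 899) h175 m1_175
  have h177 : ∀ u < 159123, (fun u => chkM1 tab u) u = true := ext_range (a := 158224) (len := 899) h176 m1_176
  have h178 : ∀ u < 160022, (fun u => chkM1 tab u) u = true := ext_range (a := 159123) (len := 899) h177 m1_177
  have h179 : ∀ u < 160921, (fun u => chkM1 tab u) u = true := ext_range (a := 160022) (len := 899) h178 m1_178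
  have h180 : ∀ u < 161820, (fun u => chkM1 tab u) u = true := ext_range (a := 160921) (len := 899) h179 m1_179
  have h181 : ∀ u < 162719, (fun u => chkM1 tab u) u = true := ext_range (a := 161820) (len := 899) h180 m1_180
  have h182 : ∀ u < 163618, (fun u => chkM1 tab u) u = true := ext_range (a := 162719) (len := 899) h181 m1_181
  have h183 : ∀ u < 164517, (fun u => chkM1 tab u) u = true := ext_range (a := 163618) (len := 899) h182 m1_182
  have h184 : ∀ u < 165416, (fun u => chkM1 tab u) u = true := ext_range (a := 164517) (len := 899) h183 m1_183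
  have h185 : ∀ u < 166315, (fun u => chkM1 tab u) u = true := ext_range (a := 165416) (len := 899) h184 m1_184
  have h186 : ∀ u < 167214, (fun u => chkM1 tab u) u = true := ext_range (a := 166315) (len := 899) h185 m1_185
  have h187 : ∀ u < 168113, (fun u => chkM1 tab u) u = true := ext_range (a := 167214) (len := 899) h186 m1_186
  have h188 : ∀ u < 169012, (fun u => chkM1 tab u) u = true := ext_range (a := 168113) (len := 899) h187 m1_187
  have h189 : ∀ u < 169911, (fun u => chkM1 tab u) u = true := ext_range (a := 169012) (len := 899) h188 m1_188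
  have h190 : ∀ u < 170810, (fun u => chkM1 tab u) u = true := ext_range (a := 169911) (len := 899) h189 m1_189
  have h191 : ∀ u < 171709, (fun u => chkM1 tab u) u = true := ext_range (a := 170810) (len := 899) h190 m1_190
  have h192 : ∀ u < 172608, (fun u => chkM1 tab u) u = true := ext_range (a := 171709) (len := 899) h191 m1_191
  have h193 : ∀ u < 173507, (fun u => chkM1 tab u) u = true := ext_range (a := 172608) (len := 899) h192 m1_192
  have h194 : ∀ u < 174406, (fun u => chkM1 tab u) u = true := ext_range (a := 173507) (len := 899) h193 m1_193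
  have h195 : ∀ u < 175305, (fun u => chkM1 tab u) u = true := ext_range (a := 174406) (len := 899) h194 m1_194
  have h196 : ∀ u < 176204, (fun u => chkM1 tab u) u = true := ext_range (a := 175305) (len := 899) h195 m1_195
  have h197 : ∀ u < 177103, (fun u => chkM1 tab u) u = true := ext_range (a := 176204) (len := 899) h196 m1_196
  have h198 : ∀ u < 178002, (fun u => chkM1 tab u) u = true := ext_range (a := 177103) (len := 899) h197 m1_197
  have h199 : ∀ u < 178901, (fun u => chkM1 tab u) u = true := ext_range (a := 178002) (len := 899) h198 m1_198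
  have h200 : ∀ u < 179800, (fun u => chkM1 tab u) u = true := ext_range (a := 178901) (len := 899) h199 m1_199
  have h201 : ∀ u < 180699, (fun u => chkM1 tab u) u = true := ext_range (a := 179800) (len := 899) h200 m1_200
  have h202 : ∀ u < 181598, (fun u => chkM1 tab u) u = true := ext_range (a := 180699) (len := 899) h201 m1_201
  have h203 : ∀ u < 182497, (fun u => chkM1 tab u) u = true := ext_range (a := 181598) (len := 899) h202 m1_202
  have h204 : ∀ u < 183396, (fun u => chkM1 tab u) u = true := ext_range (a := 182497) (len := 899) h203 m1_203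
  have h205 : ∀ u < 184295, (fun u => chkM1 tab u) u = true := ext_range (a := 183396) (len := 899) h204 m1_204
  have h206 : ∀ u < 185194, (fun u => chkM1 tab u) u = true := ext_range (a := 184295) (len := 899) h205 m1_205
  have h207 : ∀ u < 186093, (fun u => chkM1 tab u) u = true := ext_range (a := 185194) (len := 899) h206 m1_206
  have h208 : ∀ u < 186992, (fun u => chkM1 tab u) u = true := ext_range (a := 186093) (len := 899) h207 m1_207
  have h209 : ∀ u < 187425, (fun u => chkM1 tab u) u = true := ext_range (a := 186992) (len := 433) h208 m1_208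
  exact h209

theorem hMA : ∀ u < 187425, chkAux tab aux u = true := by
  have h0 : ∀ u < 0, (fun u => chkAux tab aux u) u = true := range_zero
  have h1 : ∀ u < 1819, (fun u => chkAux tab aux u) u = true := ext_range (a := 0) (len := 1819) h0 ma_0
  have h2 : ∀ u < 3638, (fun u => chkAux tab aux u) u = true := ext_range (a := 1819) (len := 1819) h1 ma_1
  have h3 : ∀ u < 5457, (fun u => chkAux tab aux u) u = true := ext_range (a := 3638) (len := 1819) h2 ma_2
  have h4 : ∀ u < 7276, (fun u => chkAux tab aux u) u = true := ext_range (a := 5457) (len := 1819) h3 ma_3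
  have h5 : ∀ u < 9095, (fun u => chkAux tab aux u) u = true := ext_range (a := 7276) (len := 1819) h4 ma_4
  have h6 : ∀ u < 10914, (fun u => chkAux tab aux u) u = true := ext_range (a := 9095) (len := 1819) h5 ma_5
  have h7 : ∀ u < 12733, (fun u => chkAux tab aux u) u = true := ext_range (a := 10914) (len := 1819) h6 ma_6
  have h8 : ∀ u < 14552, (fun u => chkAux tab aux u) u = true := ext_range (a := 12733) (len := 1819) h7 ma_7
  have h9 : ∀ u < 16371, (fun u => chkAux tab aux u) u = true := ext_range (a := 14552) (len := 1819) h8 ma_8
  have h10 : ∀ u < 18190, (fun u => chkAux tab aux u) u = true := ext_range (a := 16371) (len := 1819) h9 ma_9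
  have h11 : ∀ u < 20009, (fun u => chkAux tab aux u) u = true := ext_range (a := 18190) (len := 1819) h10 ma_10
  have h12 : ∀ u < 21828, (fun u => chkAux tab aux u) u = true := ext_range (a := 20009) (len := 1819) h11 ma_11
  have h13 : ∀ u < 23647, (fun u => chkAux tab aux u) u = true := ext_range (a := 21828) (len := 1819) h12 ma_12
  have h14 : ∀ u < 25466, (fun u => chkAux tab aux u) u = true := ext_range (a := 23647) (len := 1819) h13 ma_13
  have h15 : ∀ u < 27285, (fun u => chkAux tab aux u) u = true := ext_range (a := 25466) (len := 1819) h14 ma_14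
  have h16 : ∀ u < 29104, (fun u => chkAux tab aux u) u = true := ext_range (a := 27285) (len := 1819) h15 ma_15
  have h17 : ∀ u < 30923, (fun u => chkAux tab aux u) u = true := ext_range (a := 29104) (len := 1819) h16 ma_16
  have h18 : ∀ u < 32742, (fun u => chkAux tab aux u) u = true := ext_range (a := 30923) (len := 1819) h17 ma_17
  have h19 : ∀ u < 34561, (fun u => chkAux tab aux u) u = true := ext_range (a := 32742) (len := 1819) h18 ma_18
  have h20 : ∀ u < 36380, (fun u => chkAux tab aux u) u = true := ext_range (a := 34561) (len := 1819) h19 ma_19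
  have h21 : ∀ u < 38199, (fun u => chkAux tab aux u) u = true := ext_range (a := 36380) (len := 1819) h20 ma_20
  have h22 : ∀ u < 40018, (fun u => chkAux tab aux u) u = true := ext_range (a := 38199) (len := 1819) h21 ma_21
  have h23 : ∀ u < 41837, (fun u => chkAux tab aux u) u = true := ext_range (a := 40018) (len := 1819) h22 ma_22
  have h24 : ∀ u < 43656, (fun u => chkAux tab aux u) u = true := ext_range (a := 41837) (len := 1819) h23 ma_23
  have h25 : ∀ u < 45475, (fun u => chkAux tab aux u) u = true := ext_range (a := 43656) (len := 1819) h24 ma_24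
  have h26 : ∀ u < 47294, (fun u => chkAux tab aux u) u = true := ext_range (a := 45475) (len := 1819) h25 ma_25
  have h27 : ∀ u < 49113, (fun u => chkAux tab aux u) u = true := ext_range (a := 47294) (len := 1819) h26 ma_26
  have h28 : ∀ u < 50932, (fun u => chkAux tab aux u) u = true := ext_range (a := 49113) (len := 1819) h27 ma_27
  have h29 : ∀ u < 52751, (fun u => chkAux tab aux u) u = true := ext_range (a := 50932) (len := 1819) h28 ma_28
  have h30 : ∀ u < 54570, (fun u => chkAux tab aux u) u = true := ext_range (a := 52751) (len := 1819) h29 ma_29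
  have h31 : ∀ u < 56389, (fun u => chkAux tab aux u) u = true := ext_range (a := 54570) (len := 1819) h30 ma_30
  have h32 : ∀ u < 58208, (fun u => chkAux tab aux u) u = true := ext_range (a := 56389) (len := 1819) h31 ma_31
  have h33 : ∀ u < 60027, (fun u => chkAux tab aux u) u = true := ext_range (a := 58208) (len := 1819) h32 ma_32
  have h34 : ∀ u < 61846, (fun u => chkAux tab aux u) u = true := ext_range (a := 60027) (len := 1819) h33 ma_33
  have h35 : ∀ u < 63665, (fun u => chkAux tab aux u) u = true := ext_range (a := 61846) (len := 1819) h34 ma_34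
  have h36 : ∀ u < 65484, (fun u => chkAux tab aux u) u = true := ext_range (a := 63665) (len := 1819) h35 ma_35
  have h37 : ∀ u < 67303, (fun u => chkAux tab aux u) u = true := ext_range (a := 65484) (len := 1819) h36 ma_36
  have h38 : ∀ u < 69122, (fun u => chkAux tab aux u) u = true := ext_range (a := 67303) (len := 1819) h37 ma_37
  have h39 : ∀ u < 70941, (fun u => chkAux tab aux u) u = true := ext_range (a := 69122) (len := 1819) h38 ma_38
  have h40 : ∀ u < 72760, (fun u => chkAux tab aux u) u = true := ext_range (a := 70941) (len := 1819) h39 ma_39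
  have h41 : ∀ u < 74579, (fun u => chkAux tab aux u) u = true := ext_range (a := 72760) (len := 1819) h40 ma_40
  have h42 : ∀ u < 76398, (fun u => chkAux tab aux u) u = true := ext_range (a := 74579) (len := 1819) h41 ma_41
  have h43 : ∀ u < 78217, (fun u => chkAux tab aux u) u = true := ext_range (a := 76398) (len := 1819) h42 ma_42
  have h44 : ∀ u < 80036, (fun u => chkAux tab aux u) u = true := ext_range (a := 78217) (len := 1819) h43 ma_43
  have h45 : ∀ u < 81855, (fun u => chkAux tab aux u) u = true := ext_range (a := 80036) (len := 1819) h44 ma_44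
  have h46 : ∀ u < 83674, (fun u => chkAux tab aux u) u = true := ext_range (a := 81855) (len := 1819) h45 ma_45
  have h47 : ∀ u < 85493, (fun u => chkAux tab aux u) u = true := ext_range (a := 83674) (len := 1819) h46 ma_46
  have h48 : ∀ u < 87312, (fun u => chkAux tab aux u) u = true := ext_range (a := 85493) (len := 1819) h47 ma_47
  have h49 : ∀ u < 89131, (fun u => chkAux tab aux u) u = true := ext_range (a := 87312) (len := 1819) h48 ma_48
  have h50 : ∀ u < 90950, (fun u => chkAux tab aux u) u = true := ext_range (a := 89131) (len := 1819) h49 ma_49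
  have h51 : ∀ u < 92769, (fun u => chkAux tab aux u) u = true := ext_range (a := 90950) (len := 1819) h50 ma_50
  have h52 : ∀ u < 94588, (fun u => chkAux tab aux u) u = true := ext_range (a := 92769) (len := 1819) h51 ma_51
  have h53 : ∀ u < 96407, (fun u => chkAux tab aux u) u = true := ext_range (a := 94588) (len := 1819) h52 ma_52
  have h54 : ∀ u < 98226, (fun u => chkAux tab aux u) u = true := ext_range (a := 96407) (len := 1819) h53 ma_53
  have h55 : ∀ u < 100045, (fun u => chkAux tab aux u) u = true := ext_range (a := 98226) (len := 1819) h54 ma_54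
  have h56 : ∀ u < 101864, (fun u => chkAux tab aux u) u = true := ext_range (a := 100045) (len := 1819) h55 ma_55
  have h57 : ∀ u < 103683, (fun u => chkAux tab aux u) u = true := ext_range (a := 101864) (len := 1819) h56 ma_56
  have h58 : ∀ u < 105502, (fun u => chkAux tab aux u) u = true := ext_range (a := 103683) (len := 1819) h57 ma_57
  have h59 : ∀ u < 107321, (fun u => chkAux tab aux u) u = true := ext_range (a := 105502) (len := 1819) h58 ma_58
  have h60 : ∀ u < 109140, (fun u => chkAux tab aux u) u = true := ext_range (a := 107321) (len := 1819) h59 ma_59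
  have h61 : ∀ u < 110959, (fun u => chkAux tab aux u) u = true := ext_range (a := 109140) (len := 1819) h60 ma_60
  have h62 : ∀ u < 112778, (fun u => chkAux tab aux u) u = true := ext_range (a := 110959) (len := 1819) h61 ma_61
  have h63 : ∀ u < 114597, (fun u => chkAux tab aux u) u = true := ext_range (a := 112778) (len := 1819) h62 ma_62
  have h64 : ∀ u < 116416, (fun u => chkAux tab aux u) u = true := ext_range (a := 114597) (len := 1819) h63 ma_63
  have h65 : ∀ u < 118235, (fun u => chkAux tab aux u) u = true := ext_range (a := 116416) (len := 1819) h64 ma_64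
  have h66 : ∀ u < 120054, (fun u => chkAux tab aux u) u = true := ext_range (a := 118235) (len := 1819) h65 ma_65
  have h67 : ∀ u < 121873, (fun u => chkAux tab aux u) u = true := ext_range (a := 120054) (len := 1819) h66 ma_66
  have h68 : ∀ u < 123692, (fun u => chkAux tab aux u) u = true := ext_range (a := 121873) (len := 1819) h67 ma_67
  have h69 : ∀ u < 125511, (fun u => chkAux tab aux u) u = true := ext_range (a := 123692) (len := 1819) h68 ma_68
  have h70 : ∀ u < 127330, (fun u => chkAux tab aux u) u = true := ext_range (a := 125511) (len := 1819) h69 ma_69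
  have h71 : ∀ u < 129149, (fun u => chkAux tab aux u) u = true := ext_range (a := 127330) (len := 1819) h70 ma_70
  have h72 : ∀ u < 130968, (fun u => chkAux tab aux u) u = true := ext_range (a := 129149) (len := 1819) h71 ma_71
  have h73 : ∀ u < 132787, (fun u => chkAux tab aux u) u = true := ext_range (a := 130968) (len := 1819) h72 ma_72
  have h74 : ∀ u < 134606, (fun u => chkAux tab aux u) u = true := ext_range (a := 132787) (len := 1819) h73 ma_73
  have h75 : ∀ u < 136425, (fun u => chkAux tab aux u) u = true := ext_range (a := 134606) (len := 1819) h74 ma_74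
  have h76 : ∀ u < 138244, (fun u => chkAux tab aux u) u = true := ext_range (a := 136425) (len := 1819) h75 ma_75
  have h77 : ∀ u < 140063, (fun u => chkAux tab aux u) u = true := ext_range (a := 138244) (len := 1819) h76 ma_76
  have h78 : ∀ u < 141882, (fun u => chkAux tab aux u) u = true := ext_range (a := 140063) (len := 1819) h77 ma_77
  have h79 : ∀ u < 143701, (fun u => chkAux tab aux u) u = true := ext_range (a := 141882) (len := 1819) h78 ma_78
  have h80 : ∀ u < 145520, (fun u => chkAux tab aux u) u = true := ext_range (a := 143701) (len := 1819) h79 ma_79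
  have h81 : ∀ u < 147339, (fun u => chkAux tab aux u) u = true := ext_range (a := 145520) (len := 1819) h80 ma_80
  have h82 : ∀ u < 149158, (fun u => chkAux tab aux u) u = true := ext_range (a := 147339) (len := 1819) h81 ma_81
  have h83 : ∀ u < 150977, (fun u => chkAux tab aux u) u = true := ext_range (a := 149158) (len := 1819) h82 ma_82
  have h84 : ∀ u < 152796, (fun u => chkAux tab aux u) u = true := ext_range (a := 150977) (len := 1819) h83 ma_83
  have h85 : ∀ u < 154615, (fun u => chkAux tab aux u) u = true := ext_range (a := 152796) (len := 1819) h84 ma_84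
  have h86 : ∀ u < 156434, (fun u => chkAux tab aux u) u = true := ext_range (a := 154615) (len := 1819) h85 ma_85
  have h87 : ∀ u < 158253, (fun u => chkAux tab aux u) u = true := ext_range (a := 156434) (len := 1819) h86 ma_86
  have h88 : ∀ u < 160072, (fun u => chkAux tab aux u) u = true := ext_range (a := 158253) (len := 1819) h87 ma_87
  have h89 : ∀ u < 161891, (fun u => chkAux tab aux u) u = true := ext_range (a := 160072) (len := 1819) h88 ma_88
  have h90 : ∀ u < 163710, (fun u => chkAux tab aux u) u = true := ext_range (a := 161891) (len := 1819) h89 ma_89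
  have h91 : ∀ u < 165529, (fun u => chkAux tab aux u) u = true := ext_range (a := 163710) (len := 1819) h90 ma_90
  have h92 : ∀ u < 167348, (fun u => chkAux tab aux u) u = true := ext_range (a := 165529) (len := 1819) h91 ma_91
  have h93 : ∀ u < 169167, (fun u => chkAux tab aux u) u = true := ext_range (a := 167348) (len := 1819) h92 ma_92
  have h94 : ∀ u < 170986, (fun u => chkAux tab aux u) u = true := ext_range (a := 169167) (len := 1819) h93 ma_93
  have h95 : ∀ u < 172805, (fun u => chkAux tab aux u) u = true := ext_range (a := 170986) (len := 1819) h94 ma_94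
  have h96 : ∀ u < 174624, (fun u => chkAux tab aux u) u = true := ext_range (a := 172805) (len := 1819) h95 ma_95
  have h97 : ∀ u < 176443, (fun u => chkAux tab aux u) u = true := ext_range (a := 174624) (len := 1819) h96 ma_96
  have h98 : ∀ u < 178262, (fun u => chkAux tab aux u) u = true := ext_range (a := 176443) (len := 1819) h97 ma_97
  have h99 : ∀ u < 180081, (fun u => chkAux tab aux u) u = true := ext_range (a := 178262) (len := 1819) h98 ma_98
  have h100 : ∀ u < 181900, (fun u => chkAux tab aux u) u = true := ext_range (a := 180081) (len := 1819) h99 ma_99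
  have h101 : ∀ u < 183719, (fun u => chkAux tab aux u) u = true := ext_range (a := 181900) (len := 1819) h100 ma_100
  have h102 : ∀ u < 185538, (fun u => chkAux tab aux u) u = true := ext_range (a := 183719) (len := 1819) h101 ma_101
  have h103 : ∀ u < 187357, (fun u => chkAux tab aux u) u = true := ext_range (a := 185538) (len := 1819) h102 ma_102
  have h104 : ∀ u < 187425, (fun u => chkAux tab aux u) u = true := ext_range (a := 187357) (len := 68) h103 ma_103
  exact h104

theorem hM2A : ∀ u < 187425, chkFix tab mwordsA u = true := by
  have h0 : ∀ u < 0, (fun u => chkFix tab mwordsA u) u = true := range_zero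
  have h1 : ∀ u < 94, (fun u => chkFix tab mwordsA u) u = true := ext_range (a := 0) (len := 94) h0 m2_0
  have h2 : ∀ u < 188, (fun u => chkFix tab mwordsA u) u = true := ext_range (a := 94) (len := 94) h1 m2_1
  have h3 : ∀ u < 282, (fun u => chkFix tab mwordsA u) u = true := ext_range (a := 188) (len := 94) h2 m2_2
  have h4 : ∀ u < 376, (fun u => chkFix tab mwordsA u) u = true := ext_range (a := 282) (len := 94) h3 m2_3
  have h5 : ∀ u < 470, (fun u => chkFix tab mwordsA u) u = true := ext_range (a := 376) (len := 94) h4 m2_4
  have h6 : ∀ u < 564, (fun u => chkFix tab mwordsA u) u = true := ext_range (a := 470) (len := 94) h5 m2_5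
  have h7 : ∀ u < 658, (fun u => chkFix tab mwordsA u) u = true := ext_range (a := 564) (len := 94) h6 m2_6
  have h8 : ∀ u < 752, (fun u => chkFix tab mwordsA u) u = true := ext_range (a := 658) (len := 94) h7 m2_7
  have h9 : ∀ u < 846, (fun u => chkFix tab mwordsA u) u = true := ext_range (a := 752) (len := 94) h8 m2_8
  have h10 : ∀ u < 940, (fun u => chkFix tab mwordsA u) u = true := ext_range (a := 846) (len := 94) h9 m2_9
  have h11 : ∀ u < 1034, (fun u => chkFix tab mwordsA u) u = true := ext_range (a := 940) (len := 94) h10 m2_10
  have h12 : ∀ u < 1128, (fun u => chkFix tab mwordsA u) u = true := ext_range (a := 1034) (len := 94) h11 m2_11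
  have h13 : ∀ u < 1222, (fun u => chkFix tab mwordsA u) u = true := ext_range (a := 1128) (len := 94) h12 m2_12
  have h14 : ∀ u < 1316, (fun u => chkFix tab mwordsA u) u = true := ext_range (a := 1222) (len := 94) h13 m2_13
  have h15 : ∀ u < 1410, (fun u => chkFix tab mwordsA u) u = true := ext_range (a := 1316) (len := 94) h14 m2_14
  have h16 : ∀ u < 1504, (fun u => chkFix tab mwordsA u) u = true := ext_range (a := 1410) (len := 94) h15 m2_15
  have h17 : ∀ u < 1598, (fun u => chkFix tab mwordsA u) u = true := ext_range (a := 1504) (len := 94) h16 m2_16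
  have h18 : ∀ u < 1692, (fun u => chkFix tab mwordsA u) u = true := ext_range (a := 1598) (len := 94) h17 m2_17
  have h19 : ∀ u < 1786, (fun u => chkFix tab mwordsA u) u = true := ext_range (a := 1692) (len := 94) h18 m2_18
  have h20 : ∀ u < 1880, (fun u => chkFix tab mwordsA u) u = true := ext_range (a := 1786) (len := 94) h19 m2_19
  have h21 : ∀ u < 1974, (fun u => chkFix tab mwordsA u) u = true := ext_range (a := 1880) (len := 94) h20 m2_20
  have h22 : ∀ u < 2068, (fun u => chkFix tab mwordsA u) u = true := ext_range (a := 1974) (len := 94) h21 m2_21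
  have h23 : ∀ u < 2162, (fun u => chkFix tab mwordsA u) u = true := ext_range (a := 2068) (len := 94) h22 m2_22
  have h24 : ∀ u < 2256, (fun u => chkFix tab mwordsA u) u = true := ext_range (a := 2162) (len := 94) h23 m2_23
  have h25 : ∀ u < 2350, (fun u => chkFix tab mwordsA u) u = true := ext_range (a := 2256) (len := 94) h24 m2_24
  have h26 : ∀ u < 2444, (fun u => chkFix tab mwordsA u) u = true := ext_range (a := 2350) (len := 94) h25 m2_25
  have h27 : ∀ u < 2538, (fun u => chkFix tab mwordsA u) u = true := ext_range (a := 2444) (len := 94) h26 m2_26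
  have h28 : ∀ u < 2632, (fun u => chkFix tab mwordsA u) u = true := ext_range (a := 2538) (len := 94) h27 m2_27
  have h29 : ∀ u < 2726, (fun u => chkFix tab mwordsA u) u = true := ext_range (a := 2632) (len := 94) h28 m2_28
  have h30 : ∀ u < 2820, (fun u => chkFix tab mwordsA u) u = true := ext_range (a := 2726) (len := 94) h29 m2_29
  have h31 : ∀ u < 2914, (fun u => chkFix tab mwordsA u) u = true := ext_range (a := 2820) (len := 94) h30 m2_30
  have h32 : ∀ u < 3008, (fun u => chkFix tab mwordsA u) u = true := ext_range (a := 2914) (len := 94) h31 m2_31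
  have h33 : ∀ u < 3102, (fun u => chkFix tab mwordsA u) u = true := ext_range (a := 3008) (len := 94) h32 m2_32
  have h34 : ∀ u < 3196, (fun u => chkFix tab mwordsA u) u = true := ext_range (a := 3102) (len := 94) h33 m2_33
  have h35 : ∀ u < 3290, (fun u => chkFix tab mwordsA u) u = true := ext_range (a := 3196) (len := 94) h34 m2_34
  have h36 : ∀ u < 3384, (fun u => chkFix tab mwordsA u) u = true := ext_range (a := 3290) (len := 94) h35 m2_35
  have h37 : ∀ u < 3478, (fun u => chkFix tab mwordsA u) u = true := ext_range (a := 3384) (len := 94) h36 m2_36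
  have h38 : ∀ u < 3572, (fun u => chkFix tab mwordsA u) u = true := ext_range (a := 3478) (len := 94) h37 m2_37
  have h39 : ∀ u < 3666, (fun u => chkFix tab mwordsA u) u = true := ext_range (a := 3572) (len := 94) h38 m2_38
  have h40 : ∀ u < 3760, (fun u => chkFix tab mwordsA u) u = true := ext_range (a := 3666) (len := 94) h39 m2_39
  have h41 : ∀ u < 3854, (fun u => chkFix tab mwordsA u) u = true := ext_range (a := 3760) (len := 94) h40 m2_40
  have h42 : ∀ u < 3948, (fun u => chkFix tab mwordsA u) u = true := ext_range (a := 3854) (len := 94) h41 m2_41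
  have h43 : ∀ u < 4042, (fun u => chkFix tab mwordsA u) u = true := ext_range (a := 3948) (len := 94) h42 m2_42
  have h44 : ∀ u < 4136, (fun u => chkFix tab mwordsA u) u = true := ext_range (a := 4042) (len := 94) h43 m2_43
  have h45 : ∀ u < 4230, (fun u => chkFix tab mwordsA u) u = true := ext_range (a := 4136) (len := 94) h44 m2_44
  have h46 : ∀ u < 4324, (fun u => chkFix tab mwordsA u) u = true := ext_range (a := 4230) (len := 94) h45 m2_45
  have h47 : ∀ u < 4418, (fun u => chkFix tab mwordsA u) u = true := ext_range (a := 4324) (len := 94) h46 m2_46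
  have h48 : ∀ u < 4512, (fun u => chkFix tab mwordsA u) u = true := ext_range (a := 4418) (len := 94) h47 m2_47
  have h49 : ∀ u < 4606, (fun u => chkFix tab mwordsA u) u = true := ext_range (a := 4512) (len := 94) h48 m2_48
  have h50 : ∀ u < 4700, (fun u => chkFix tab mwordsA u) u = true := ext_range (a := 4606) (len := 94) h49 m2_49
  have h51 : ∀ u < 4794, (fun u => chkFix tab mwordsA u) u = true := ext_range (a := 4700) (len := 94) h50 m2_50
  have h52 : ∀ u < 4888, (fun u => chkFix tab mwordsA u) u = true := ext_range (a := 4794) (len := 94) h51 m2_51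
  have h53 : ∀ u < 4982, (fun u => chkFix tab mwordsA u) u = true := ext_range (a := 4888) (len := 94) h52 m2_52
  have h54 : ∀ u < 5076, (fun u => chkFix tab mwordsA u) u = true := ext_range (a := 4982) (len := 94) h53 m2_53
  have h55 : ∀ u < 5170, (fun u => chkFix tab mwordsA u) u = true := ext_range (a := 5076) (len := 94) h54 m2_54
  have h56 : ∀ u < 5264, (fun u => chkFix tab mwordsA u) u = true := ext_range (a := 5170) (len := 94) h55 m2_55
  have h57 : ∀ u < 5358, (fun u => chkFix tab mwordsA u) u = true := ext_range (a := 5264) (len := 94) h56 m2_56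
  have h58 : ∀ u < 5452, (fun u => chkFix tab mwordsA u) u = true := ext_range (a := 5358) (len := 94) h57 m2_57
  have h59 : ∀ u < 5546, (fun u => chkFix tab mwordsA u) u = true := ext_range (a := 5452) (len := 94) h58 m2_58
  have h60 : ∀ u < 5640, (fun u => chkFix tab mwordsA u) u = true := ext_range (a := 5546) (len := 94) h59 m2_59
  have h61 : ∀ u < 5734, (fun u => chkFix tab mwordsA u) u = true := ext_range (a := 5640) (len := 94) h60 m2_60
  have h62 : ∀ u < 5828, (fun u => chkFix tab mwordsA u) u = true := ext_range (a := 5734) (len := 94) h61 m2_61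
  have h63 : ∀ u < 5922, (fun u => chkFix tab mwordsA u) u = true := ext_range (a := 5828) (len := 94) h62 m2_62
  have h64 : ∀ u < 6016, (fun u => chkFix tab mwordsA u) u = true := ext_range (a := 5922) (len := 94) h63 m2_63
  have h65 : ∀ u < 6110, (fun u => chkFix tab mwordsA u) u = true := ext_range (a := 6016) (len := 94) h64 m2_64
  have h66 : ∀ u < 6204, (fun u => chkFix tab mwordsA u) u = true := ext_range (a := 6110) (len := 94) h65 m2_65
  have h67 : ∀ u < 6298, (fun u => chkFix tab mwordsA u) u = true := ext_range (a := 6204) (len := 94) h66 m2_66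
  have h68 : ∀ u < 6392, (fun u => chkFix tab mwordsA u) u = true := ext_range (a := 6298) (len := 94) h67 m2_67
  have h69 : ∀ u < 6486, (fun u => chkFix tab mwordsA u) u = true := ext_range (a := 6392) (len := 94) h68 m2_68
  have h70 : ∀ u < 6580, (fun u => chkFix tab mwordsA u) u = true := ext_range (a := 6486) (len := 94) h69 m2_69
  have h71 : ∀ u < 6674, (fun u => chkFix tab mwordsA u) u = true := ext_range (a := 6580) (len := 94) h70 m2_70
  have h72 : ∀ u < 6768, (fun u => chkFix tab mwordsA u) u = true := ext_range (a := 6674) (len := 94) h71 m2_71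
  have h73 : ∀ u < 6862, (fun u => chkFix tab mwordsA u) u = true := ext_range (a := 6768) (len := 94) h72 m2_72
  have h74 : ∀ u < 6956, (fun u => chkFix tab mwordsA u) u = true := ext_range (a := 6862) (len := 94) h73 m2_73
  have h75 : ∀ u < 7050, (fun u => chkFix tab mwordsA u) u = true := ext_range (a := 6956) (len := 94) h74 m2_74
  have h76 : ∀ u < 7144, (fun u => chkFix tab mwordsA u) u = true := ext_range (a := 7050) (len := 94) h75 m2_75
  have h77 : ∀ u < 7238, (fun u => chkFix tab mwordsA u) u = true := ext_range (a := 7144) (len := 94) h76 m2_76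
  have h78 : ∀ u < 7332, (fun u => chkFix tab mwordsA u) u = true := ext_range (a := 7238) (len := 94) h77 m2_77
  have h79 : ∀ u < 7426, (fun u => chkFix tab mwordsA u) u = true := ext_range (a := 7332) (len := 94) h78 m2_78
  have h80 : ∀ u < 7520, (fun u => chkFix tab mwordsA u) u = true := ext_range (a := 7426) (len := 94) h79 m2_79
  have h81 : ∀ u < 7614, (fun u => chkFix tab mwordsA u) u = true := ext_range (a := 7520) (len := 94) h80 m2_80
  have h82 : ∀ u < 7708, (fun u => chkFix tab mwordsA u) u = true := ext_range (a := 7614) (len := 94) h81 m2_81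
  have h83 : ∀ u < 7802, (fun u => chkFix tab mwordsA u) u = true := ext_range (a := 7708) (len := 94) h82 m2_82
  have h84 : ∀ u < 7896, (fun u => chkFix tab mwordsA u) u = true := ext_range (a := 7802) (len := 94) h83 m2_83
  have h85 : ∀ u < 7990, (fun u => chkFix tab mwordsA u) u = true := ext_range (a := 7896) (len := 94) h84 m2_84
  have h86 : ∀ u < 8084, (fun u => chkFix tab mwordsA u) u = true := ext_range (a := 7990) (len := 94) h85 m2_85
  have h87 : ∀ u < 8178, (fun u => chkFix tab mwordsA u) u = true := ext_range (a := 8084) (len := 94) h86 m2_86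
  have h88 : ∀ u < 8272, (fun u => chkFix tab mwordsA u) u = true := ext_range (a := 8178) (len := 94) h87 m2_87
  have h89 : ∀ u < 8366, (fun u => chkFix tab mwordsA u) u = true := ext_range (a := 8272) (len := 94) h88 m2_88
  have h90 : ∀ u < 8460, (fun u => chkFix tab mwordsA u) u = true := ext_range (a := 8366) (len := 94) h89 m2_89
  have h91 : ∀ u < 8554, (fun u => chkFix tab mwordsA u) u = true := ext_range (a := 8460) (len := 94) h90 m2_90
  have h92 : ∀ u < 8648, (fun u => chkFix tab mwordsA u) u = true := ext_range (a := 8554) (len := 94) h91 m2_91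
  have h93 : ∀ u < 8742, (fun u => chkFix tab mwordsA u) u = true := ext_range (a := 8648) (len := 94) h92 m2_92
  have h94 : ∀ u < 8836, (fun u => chkFix tab mwordsA u) u = true := ext_range (a := 8742) (len := 94) h93 m2_93
  have h95 : ∀ u < 8930, (fun u => chkFix tab mwordsA u) u = true := ext_range (a := 8836) (len := 94) h94 m2_94
  have h96 : ∀ u < 9024, (fun u => chkFix tab mwordsA u) u = true := ext_range (a := 8930) (len := 94) h95 m2_95
  have h97 : ∀ u < 9118, (fun u => chkFix tab mwordsA u) u = true := ext_range (a := 9024) (len := 94) h96 m2_96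
  have h98 : ∀ u < 9212, (fun u => chkFix tab mwordsA u) u = true := ext_range (a := 9118) (len := 94) h97 m2_97
  have h99 : ∀ u < 9306, (fun u => chkFix tab mwordsA u) u = true := ext_range (a := 9212) (len := 94) h98 m2_98
  have h100 : ∀ u < 9400, (fun u => chkFix tab mwordsA u) u = true := ext_range (a := 9306) (len := 94) h99 m2_99
  have h101 : ∀ u < 9494, (fun u => chkFix tab mwordsA u) u = true := ext_range (a := 9400) (len := 94) h100 m2_100
  have h102 : ∀ u < 9588, (fun u => chkFix tab mwordsA u) u = true := ext_range (a := 9494) (len := 94) h101 m2_101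
  have h103 : ∀ u < 9682, (fun u => chkFix tab mwordsA u) u = true := ext_range (a := 9588) (len := 94) h102 m2_102
  have h104 : ∀ u < 9776, (fun u => chkFix tab mwordsA u) u = true := ext_range (a := 9682) (len := 94) h103 m2_103
  have h105 : ∀ u < 9870, (fun u => chkFix tab mwordsA u) u = true := ext_range (a := 9776) (len := 94) h104 m2_104
  have h106 : ∀ u < 9964, (fun u => chkFix tab mwordsA u) u = true := ext_range (a := 9870) (len := 94) h105 m2_105
  have h107 : ∀ u < 10058, (fun u => chkFix tab mwordsA u) u = true := ext_range (a := 9964) (len := 94) h106 m2_106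
  have h108 : ∀ u < 10152, (fun u => chkFix tab mwordsA u) u = true := ext_range (a := 10058) (len := 94) h107 m2_107
  have h109 : ∀ u < 10246, (fun u => chkFix tab mwordsA u) u = true := ext_range (a := 10152) (len := 94) h108 m2_108
  have h110 : ∀ u < 10340, (fun u => chkFix tab mwordsA u) u = true := ext_range (a := 10246) (len := 94) h109 m2_109
  have h111 : ∀ u < 10434, (fun u => chkFix tab mwordsA u) u = true := ext_range (a := 10340) (len := 94) h110 m2_110
  have h112 : ∀ u < 10528, (fun u => chkFix tab mwordsA u) u = true := ext_range (a := 10434) (len := 94) h111 m2_111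
  have h113 : ∀ u < 10622, (fun u => chkFix tab mwordsA u) u = true := ext_range (a := 10528) (len := 94) h112 m2_112
  have h114 : ∀ u < 10716, (fun u => chkFix tab mwordsA u) u = true := ext_range (a := 10622) (len := 94) h113 m2_113
  have h115 : ∀ u < 10810, (fun u => chkFix tab mwordsA u) u = true := ext_range (a := 10716) (len := 94) h114 m2_114
  have h116 : ∀ u < 10904, (fun u => chkFix tab mwordsA u) u = true := ext_range (a := 10810) (len := 94) h115 m2_115
  have h117 : ∀ u < 10998, (fun u => chkFix tab mwordsA u) u = true := ext_range (a := 10904) (len := 94) h116 m2_116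
  have h118 : ∀ u < 11092, (fun u => chkFix tab mwordsA u) u = true := ext_range (a := 10998) (len := 94) h117 m2_117
  have h119 : ∀ u < 11186, (fun u => chkFix tab mwordsA u) u = true := ext_range (a := 11092) (len := 94) h118 m2_118
  have h120 : ∀ u < 11280, (fun u => chkFix tab mwordsA u) u = true := ext_range (a := 11186) (len := 94) h119 m2_119
  have h121 : ∀ u < 11374, (fun u => chkFix tab mwordsA u) u = true := ext_range (a := 11280) (len := 94) h120 m2_120
  have h122 : ∀ u < 11468, (fun u => chkFix tab mwordsA u) u = true := ext_range (a := 11374) (len := 94) h121 m2_121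
  have h123 : ∀ u < 11562, (fun u => chkFix tab mwordsA u) u = true := ext_range (a := 11468) (len := 94) h122 m2_122
  have h124 : ∀ u < 11656, (fun u => chkFix tab mwordsA u) u = true := ext_range (a := 11562) (len := 94) h123 m2_123
  have h125 : ∀ u < 11750, (fun u => chkFix tab mwordsA u) u = true := ext_range (a := 11656) (len := 94) h124 m2_124
  have h126 : ∀ u < 11844, (fun u => chkFix tab mwordsA u) u = true := ext_range (a := 11750) (len := 94) h125 m2_125
  have h127 : ∀ u < 11938, (fun u => chkFix tab mwordsA u) u = true := ext_range (a := 11844) (len := 94) h126 m2_126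
  have h128 : ∀ u < 12032, (fun u => chkFix tab mwordsA u) u = true := ext_range (a := 11938) (len := 94) h127 m2_127
  have h129 : ∀ u < 12126, (fun u => chkFix tab mwordsA u) u = true := ext_range (a := 12032) (len := 94) h128 m2_128
  have h130 : ∀ u < 12220, (fun u => chkFix tab mwordsA u) u = true := ext_range (a := 12126) (len := 94) h129 m2_129
  have h131 : ∀ u < 12314, (fun u => chkFix tab mwordsA u) u = true := ext_range (a := 12220) (len := 94) h130 m2_130
  have h132 : ∀ u < 12408, (fun u => chkFix tab mwordsA u) u = true := ext_range (a := 12314) (len := 94) h131 m2_131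
  have h133 : ∀ u < 12502, (fun u => chkFix tab mwordsA u) u = true := ext_range (a := 12408) (len := 94) h132 m2_132
  have h134 : ∀ u < 12596, (fun u => chkFix tab mwordsA u) u = true := ext_range (a := 12502) (len := 94) h133 m2_133
  have h135 : ∀ u < 12690, (fun u => chkFix tab mwordsA u) u = true := ext_range (a := 12596) (len := 94) h134 m2_134
  have h136 : ∀ u < 12784, (fun u => chkFix tab mwordsA u) u = true := ext_range (a := 12690) (len := 94) h135 m2_135
  have h137 : ∀ u < 12878, (fun u => chkFix tab mwordsA u) u = true := ext_range (a := 12784) (len := 94) h136 m2_136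
  have h138 : ∀ u < 12972, (fun u => chkFix tab mwordsA u) u = true := ext_range (a := 12878) (len := 94) h137 m2_137
  have h139 : ∀ u < 13066, (fun u => chkFix tab mwordsA u) u = true := ext_range (a := 12972) (len := 94) h138 m2_138
  have h140 : ∀ u < 13160, (fun u => chkFix tab mwordsA u) u = true := ext_range (a := 13066) (len := 94) h139 m2_139
  have h141 : ∀ u < 13254, (fun u => chkFix tab mwordsA u) u = true := ext_range (a := 13160) (len := 94) h140 m2_140
  have h142 : ∀ u < 13348, (fun u => chkFix tab mwordsA u) u = true := ext_range (a := 13254) (len := 94) h141 m2_141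
  have h143 : ∀ u < 13442, (fun u => chkFix tab mwordsA u) u = true := ext_range (a := 13348) (len := 94) h142 m2_142
  have h144 : ∀ u < 13536, (fun u => chkFix tab mwordsA u) u = true := ext_range (a := 13442) (len := 94) h143 m2_143
  have h145 : ∀ u < 13630, (fun u => chkFix tab mwordsA u) u = true := ext_range (a := 13536) (len := 94) h144 m2_144
  have h146 : ∀ u < 13724, (fun u => chkFix tab mwordsA u) u = true := ext_range (a := 13630) (len := 94) h145 m2_145
  have h147 : ∀ u < 13818, (fun u => chkFix tab mwordsA u) u = true := ext_range (a := 13724) (len := 94) h146 m2_146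
  have h148 : ∀ u < 13912, (fun u => chkFix tab mwordsA u) u = true := ext_range (a := 13818) (len := 94) h147 m2_147
  have h149 : ∀ u < 14006, (fun u => chkFix tab mwordsA u) u = true := ext_range (a := 13912) (len := 94) h148 m2_148
  have h150 : ∀ u < 14100, (fun u => chkFix tab mwordsA u) u = true := ext_range (a := 14006) (len := 94) h149 m2_149
  have h151 : ∀ u < 14194, (fun u => chkFix tab mwordsA u) u = true := ext_range (a := 14100) (len := 94) h150 m2_150
  have h152 : ∀ u < 14288, (fun u => chkFix tab mwordsA u) u = true := ext_range (a := 14194) (len := 94) h151 m2_151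
  have h153 : ∀ u < 14382, (fun u => chkFix tab mwordsA u) u = true := ext_range (a := 14288) (len := 94) h152 m2_152
  have h154 : ∀ u < 14476, (fun u => chkFix tab mwordsA u) u = true := ext_range (a := 14382) (len := 94) h153 m2_153
  have h155 : ∀ u < 14570, (fun u => chkFix tab mwordsA u) u = true := ext_range (a := 14476) (len := 94) h154 m2_154
  have h156 : ∀ u < 14664, (fun u => chkFix tab mwordsA u) u = true := ext_range (a := 14570) (len := 94) h155 m2_155
  have h157 : ∀ u < 14758, (fun u => chkFix tab mwordsA u) u = true := ext_range (a := 14664) (len := 94) h156 m2_156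
  have h158 : ∀ u < 14852, (fun u => chkFix tab mwordsA u) u = true := ext_range (a := 14758) (len := 94) h157 m2_157
  have h159 : ∀ u < 14946, (fun u => chkFix tab mwordsA u) u = true := ext_range (a := 14852) (len := 94) h158 m2_158
  have h160 : ∀ u < 15040, (fun u => chkFix tab mwordsA u) u = true := ext_range (a := 14946) (len := 94) h159 m2_159
  have h161 : ∀ u < 15134, (fun u => chkFix tab mwordsA u) u = true := ext_range (a := 15040) (len := 94) h160 m2_160
  have h162 : ∀ u < 15228, (fun u => chkFix tab mwordsA u) u = true := ext_range (a := 15134) (len := 94) h161 m2_161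
  have h163 : ∀ u < 15322, (fun u => chkFix tab mwordsA u) u = true := ext_range (a := 15228) (len := 94) h162 m2_162
  have h164 : ∀ u < 15416, (fun u => chkFix tab mwordsA u) u = true := ext_range (a := 15322) (len := 94) h163 m2_163
  have h165 : ∀ u < 15510, (fun u => chkFix tab mwordsA u) u = true := ext_range (a := 15416) (len := 94) h164 m2_164
  have h166 : ∀ u < 15604, (fun u => chkFix tab mwordsA u) u = true := ext_range (a := 15510) (len := 94) h165 m2_165
  have h167 : ∀ u < 15698, (fun u => chkFix tab mwordsA u) u = true := ext_range (a := 15604) (len := 94) h166 m2_166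
  have h168 : ∀ u < 15792, (fun u => chkFix tab mwordsA u) u = true := ext_range (a := 15698) (len := 94) h167 m2_167
  have h169 : ∀ u < 15886, (fun u => chkFix tab mwordsA u) u = true := ext_range (a := 15792) (len := 94) h168 m2_168
  have h170 : ∀ u < 15980, (fun u => chkFix tab mwordsA u) u = true := ext_range (a := 15886) (len := 94) h169 m2_169
  have h171 : ∀ u < 16074, (fun u => chkFix tab mwordsA u) u = true := ext_range (a := 15980) (len := 94) h170 m2_170
  have h172 : ∀ u < 16168, (fun u => chkFix tab mwordsA u) u = true := ext_range (a := 16074) (len := 94) h171 m2_171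
  have h173 : ∀ u < 16262, (fun u => chkFix tab mwordsA u) u = true := ext_range (a := 16168) (len := 94) h172 m2_172
  have h174 : ∀ u < 16356, (fun u => chkFix tab mwordsA u) u = true := ext_range (a := 16262) (len := 94) h173 m2_173
  have h175 : ∀ u < 16450, (fun u => chkFix tab mwordsA u) u = true := ext_range (a := 16356) (len := 94) h174 m2_174
  have h176 : ∀ u < 16544, (fun u => chkFix tab mwordsA u) u = true := ext_range (a := 16450) (len := 94) h175 m2_175
  have h177 : ∀ u < 16638, (fun u => chkFix tab mwordsA u) u = true := ext_range (a := 16544) (len := 94) h176 m2_176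
  have h178 : ∀ u < 16732, (fun u => chkFix tab mwordsA u) u = true := ext_range (a := 16638) (len := 94) h177 m2_177
  have h179 : ∀ u < 16826, (fun u => chkFix tab mwordsA u) u = true := ext_range (a := 16732) (len := 94) h178 m2_178
  have h180 : ∀ u < 16920, (fun u => chkFix tab mwordsA u) u = true := ext_range (a := 16826) (len := 94) h179 m2_179
  have h181 : ∀ u < 17014, (fun u => chkFix tab mwordsA u) u = true := ext_range (a := 16920) (len := 94) h180 m2_180
  have h182 : ∀ u < 17108, (fun u => chkFix tab mwordsA u) u = true := ext_range (a := 17014) (len := 94) h181 m2_181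
  have h183 : ∀ u < 17202, (fun u => chkFix tab mwordsA u) u = true := ext_range (a := 17108) (len := 94) h182 m2_182
  have h184 : ∀ u < 17296, (fun u => chkFix tab mwordsA u) u = true := ext_range (a := 17202) (len := 94) h183 m2_183
  have h185 : ∀ u < 17390, (fun u => chkFix tab mwordsA u) u = true := ext_range (a := 17296) (len := 94) h184 m2_184
  have h186 : ∀ u < 17484, (fun u => chkFix tab mwordsA u) u = true := ext_range (a := 17390) (len := 94) h185 m2_185
  have h187 : ∀ u < 17578, (fun u => chkFix tab mwordsA u) u = true := ext_range (a := 17484) (len := 94) h186 m2_186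
  have h188 : ∀ u < 17672, (fun u => chkFix tab mwordsA u) u = true := ext_range (a := 17578) (len := 94) h187 m2_187
  have h189 : ∀ u < 17766, (fun u => chkFix tab mwordsA u) u = true := ext_range (a := 17672) (len := 94) h188 m2_188
  have h190 : ∀ u < 17860, (fun u => chkFix tab mwordsA u) u = true := ext_range (a := 17766) (len := 94) h189 m2_189
  have h191 : ∀ u < 17954, (fun u => chkFix tab mwordsA u) u = true := ext_range (a := 17860) (len := 94) h190 m2_190
  have h192 : ∀ u < 18048, (fun u => chkFix tab mwordsA u) u = true := ext_range (a := 17954) (len := 94) h191 m2_191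
  have h193 : ∀ u < 18142, (fun u => chkFix tab mwordsA u) u = true := ext_range (a := 18048) (len := 94) h192 m2_192
  have h194 : ∀ u < 18236, (fun u => chkFix tab mwordsA u) u = true := ext_range (a := 18142) (len := 94) h193 m2_193
  have h195 : ∀ u < 18330, (fun u => chkFix tab mwordsA u) u = true := ext_range (a := 18236) (len := 94) h194 m2_194
  have h196 : ∀ u < 18424, (fun u => chkFix tab mwordsA u) u = true := ext_range (a := 18330) (len := 94) h195 m2_195
  have h197 : ∀ u < 18518, (fun u => chkFix tab mwordsA u) u = true := ext_range (a := 18424) (len := 94) h196 m2_196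
  have h198 : ∀ u < 18612, (fun u => chkFix tab mwordsA u) u = true := ext_range (a := 18518) (len := 94) h197 m2_197
  have h199 : ∀ u < 18706, (fun u => chkFix tab mwordsA u) u = true := ext_range (a := 18612) (len := 94) h198 m2_198
  have h200 : ∀ u < 18800, (fun u => chkFix tab mwordsA u) u = true := ext_range (a := 18706) (len := 94) h199 m2_199
  have h201 : ∀ u < 18894, (fun u => chkFix tab mwordsA u) u = true := ext_range (a := 18800) (len := 94) h200 m2_200
  have h202 : ∀ u < 18988, (fun u => chkFix tab mwordsA u) u = true := ext_range (a := 18894) (len := 94) h201 m2_201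
  have h203 : ∀ u < 19082, (fun u => chkFix tab mwordsA u) u = true := ext_range (a := 18988) (len := 94) h202 m2_202
  have h204 : ∀ u < 19176, (fun u => chkFix tab mwordsA u) u = true := ext_range (a := 19082) (len := 94) h203 m2_203
  have h205 : ∀ u < 19270, (fun u => chkFix tab mwordsA u) u = true := ext_range (a := 19176) (len := 94) h204 m2_204
  have h206 : ∀ u < 19364, (fun u => chkFix tab mwordsA u) u = true := ext_range (a := 19270) (len := 94) h205 m2_205
  have h207 : ∀ u < 19458, (fun u => chkFix tab mwordsA u) u = true := ext_range (a := 19364) (len := 94) h206 m2_206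
  have h208 : ∀ u < 19552, (fun u => chkFix tab mwordsA u) u = true := ext_range (a := 19458) (len := 94) h207 m2_207
  have h209 : ∀ u < 19646, (fun u => chkFix tab mwordsA u) u = true := ext_range (a := 19552) (len := 94) h208 m2_208
  have h210 : ∀ u < 19740, (fun u => chkFix tab mwordsA u) u = true := ext_range (a := 19646) (len := 94) h209 m2_209
  have h211 : ∀ u < 19834, (fun u => chkFix tab mwordsA u) u = true := ext_range (a := 19740) (len := 94) h210 m2_210
  have h212 : ∀ u < 19928, (fun u => chkFix tab mwordsA u) u = true := ext_range (a := 19834) (len := 94) h211 m2_211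
  have h213 : ∀ u < 20022, (fun u => chkFix tab mwordsA u) u = true := ext_range (a := 19928) (len := 94) h212 m2_212
  have h214 : ∀ u < 20116, (fun u => chkFix tab mwordsA u) u = true := ext_range (a := 20022) (len := 94) h213 m2_213
  have h215 : ∀ u < 20210, (fun u => chkFix tab mwordsA u) u = true := ext_range (a := 20116) (len := 94) h214 m2_214
  have h216 : ∀ u < 20304, (fun u => chkFix tab mwordsA u) u = true := ext_range (a := 20210) (len := 94) h215 m2_215
  have h217 : ∀ u < 20398, (fun u => chkFix tab mwordsA u) u = true := ext_range (a := 20304) (len := 94) h216 m2_216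
  have h218 : ∀ u < 20492, (fun u => chkFix tab mwordsA u) u = true := ext_range (a := 20398) (len := 94) h217 m2_217
  have h219 : ∀ u < 20586, (fun u => chkFix tab mwordsA u) u = true := ext_range (a := 20492) (len := 94) h218 m2_218
  have h220 : ∀ u < 20680, (fun u => chkFix tab mwordsA u) u = true := ext_range (a := 20586) (len := 94) h219 m2_219
  have h221 : ∀ u < 20774, (fun u => chkFix tab mwordsA u) u = true := ext_range (a := 20680) (len := 94) h220 m2_220
  have h222 : ∀ u < 20868, (fun u => chkFix tab mwordsA u) u = true := ext_range (a := 20774) (len := 94) h221 m2_221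
  have h223 : ∀ u < 20962, (fun u => chkFix tab mwordsA u) u = true := ext_range (a := 20868) (len := 94) h222 m2_222
  have h224 : ∀ u < 21056, (fun u => chkFix tab mwordsA u) u = true := ext_range (a := 20962) (len := 94) h223 m2_223
  have h225 : ∀ u < 21150, (fun u => chkFix tab mwordsA u) u = true := ext_range (a := 21056) (len := 94) h224 m2_224
  have h226 : ∀ u < 21244, (fun u => chkFix tab mwordsA u) u = true := ext_range (a := 21150) (len := 94) h225 m2_225
  have h227 : ∀ u < 21338, (fun u => chkFix tab mwordsA u) u = true := ext_range (a := 21244) (len := 94) h226 m2_226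
  have h228 : ∀ u < 21432, (fun u => chkFix tab mwordsA u) u = true := ext_range (a := 21338) (len := 94) h227 m2_227
  have h229 : ∀ u < 21526, (fun u => chkFix tab mwordsA u) u = true := ext_range (a := 21432) (len := 94) h228 m2_228
  have h230 : ∀ u < 21620, (fun u => chkFix tab mwordsA u) u = true := ext_range (a := 21526) (len := 94) h229 m2_229
  have h231 : ∀ u < 21714, (fun u => chkFix tab mwordsA u) u = true := ext_range (a := 21620) (len := 94) h230 m2_230
  have h232 : ∀ u < 21808, (fun u => chkFix tab mwordsA u) u = true := ext_range (a := 21714) (len := 94) h231 m2_231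
  have h233 : ∀ u < 21902, (fun u => chkFix tab mwordsA u) u = true := ext_range (a := 21808) (len := 94) h232 m2_232
  have h234 : ∀ u < 21996, (fun u => chkFix tab mwordsA u) u = true := ext_range (a := 21902) (len := 94) h233 m2_233
  have h235 : ∀ u < 22090, (fun u => chkFix tab mwordsA u) u = true := ext_range (a := 21996) (len := 94) h234 m2_234
  have h236 : ∀ u < 22184, (fun u => chkFix tab mwordsA u) u = true := ext_range (a := 22090) (len := 94) h235 m2_235
  have h237 : ∀ u < 22278, (fun u => chkFix tab mwordsA u) u = true := ext_range (a := 22184) (len := 94) h236 m2_236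
  have h238 : ∀ u < 22372, (fun u => chkFix tab mwordsA u) u = true := ext_range (a := 22278) (len := 94) h237 m2_237
  have h239 : ∀ u < 22466, (fun u => chkFix tab mwordsA u) u = true := ext_range (a := 22372) (len := 94) h238 m2_238
  have h240 : ∀ u < 22560, (fun u => chkFix tab mwordsA u) u = true := ext_range (a := 22466) (len := 94) h239 m2_239
  have h241 : ∀ u < 22654, (fun u => chkFix tab mwordsA u) u = true := ext_range (a := 22560) (len := 94) h240 m2_240
  have h242 : ∀ u < 22748, (fun u => chkFix tab mwordsA u) u = true := ext_range (a := 22654) (len := 94) h241 m2_241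
  have h243 : ∀ u < 22842, (fun u => chkFix tab mwordsA u) u = true := ext_range (a := 22748) (len := 94) h242 m2_242
  have h244 : ∀ u < 22936, (fun u => chkFix tab mwordsA u) u = true := ext_range (a := 22842) (len := 94) h243 m2_243
  have h245 : ∀ u < 23030, (fun u => chkFix tab mwordsA u) u = true := ext_range (a := 22936) (len := 94) h244 m2_244
  have h246 : ∀ u < 23124, (fun u => chkFix tab mwordsA u) u = true := ext_range (a := 23030) (len := 94) h245 m2_245
  have h247 : ∀ u < 23218, (fun u => chkFix tab mwordsA u) u = true := ext_range (a := 23124) (len := 94) h246 m2_246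
  have h248 : ∀ u < 23312, (fun u => chkFix tab mwordsA u) u = true := ext_range (a := 23218) (len := 94) h247 m2_247
  have h249 : ∀ u < 23406, (fun u => chkFix tab mwordsA u) u = true := ext_range (a := 23312) (len := 94) h248 m2_248
  have h250 : ∀ u < 23500, (fun u => chkFix tab mwordsA u) u = true := ext_range (a := 23406) (len := 94) h249 m2_249
  have h251 : ∀ u < 23594, (fun u => chkFix tab mwordsA u) u = true := ext_range (a := 23500) (len := 94) h250 m2_250
  have h252 : ∀ u < 23688, (fun u => chkFix tab mwordsA u) u = true := ext_range (a := 23594) (len := 94) h251 m2_251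
  have h253 : ∀ u < 23782, (fun u => chkFix tab mwordsA u) u = true := ext_range (a := 23688) (len := 94) h252 m2_252
  have h254 : ∀ u < 23876, (fun u => chkFix tab mwordsA u) u = true := ext_range (a := 23782) (len := 94) h253 m2_253
  have h255 : ∀ u < 23970, (fun u => chkFix tab mwordsA u) u = true := ext_range (a := 23876) (len := 94) h254 m2_254
  have h256 : ∀ u < 24064, (fun u => chkFix tab mwordsA u) u = true := ext_range (a := 23970) (len := 94) h255 m2_255
  have h257 : ∀ u < 24158, (fun u => chkFix tab mwordsA u) u = true := ext_range (a := 24064) (len := 94) h256 m2_256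
  have h258 : ∀ u < 24252, (fun u => chkFix tab mwordsA u) u = true := ext_range (a := 24158) (len := 94) h257 m2_257
  have h259 : ∀ u < 24346, (fun u => chkFix tab mwordsA u) u = true := ext_range (a := 24252) (len := 94) h258 m2_258
  have h260 : ∀ u < 24440, (fun u => chkFix tab mwordsA u) u = true := ext_range (a := 24346) (len := 94) h259 m2_259
  have h261 : ∀ u < 24534, (fun u => chkFix tab mwordsA u) u = true := ext_range (a := 24440) (len := 94) h260 m2_260
  have h262 : ∀ u < 24628, (fun u => chkFix tab mwordsA u) u = true := ext_range (a := 24534) (len := 94) h261 m2_261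
  have h263 : ∀ u < 24722, (fun u => chkFix tab mwordsA u) u = true := ext_range (a := 24628) (len := 94) h262 m2_262
  have h264 : ∀ u < 24816, (fun u => chkFix tab mwordsA u) u = true := ext_range (a := 24722) (len := 94) h263 m2_263
  have h265 : ∀ u < 24910, (fun u => chkFix tab mwordsA u) u = true := ext_range (a := 24816) (len := 94) h264 m2_264
  have h266 : ∀ u < 25004, (fun u => chkFix tab mwordsA u) u = true := ext_range (a := 24910) (len := 94) h265 m2_265
  have h267 : ∀ u < 25098, (fun u => chkFix tab mwordsA u) u = true := ext_range (a := 25004) (len := 94) h266 m2_266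
  have h268 : ∀ u < 25192, (fun u => chkFix tab mwordsA u) u = true := ext_range (a := 25098) (len := 94) h267 m2_267
  have h269 : ∀ u < 25286, (fun u => chkFix tab mwordsA u) u = true := ext_range (a := 25192) (len := 94) h268 m2_268
  have h270 : ∀ u < 25380, (fun u => chkFix tab mwordsA u) u = true := ext_range (a := 25286) (len := 94) h269 m2_269
  have h271 : ∀ u < 25474, (fun u => chkFix tab mwordsA u) u = true := ext_range (a := 25380) (len := 94) h270 m2_270
  have h272 : ∀ u < 25568, (fun u => chkFix tab mwordsA u) u = true := ext_range (a := 25474) (len := 94) h271 m2_271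
  have h273 : ∀ u < 25662, (fun u => chkFix tab mwordsA u) u = true := ext_range (a := 25568) (len := 94) h272 m2_272
  have h274 : ∀ u < 25756, (fun u => chkFix tab mwordsA u) u = true := ext_range (a := 25662) (len := 94) h273 m2_273
  have h275 : ∀ u < 25850, (fun u => chkFix tab mwordsA u) u = true := ext_range (a := 25756) (len := 94) h274 m2_274
  have h276 : ∀ u < 25944, (fun u => chkFix tab mwordsA u) u = true := ext_range (a := 25850) (len := 94) h275 m2_275
  have h277 : ∀ u < 26038, (fun u => chkFix tab mwordsA u) u = true := ext_range (a := 25944) (len := 94) h276 m2_276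
  have h278 : ∀ u < 26132, (fun u => chkFix tab mwordsA u) u = true := ext_range (a := 26038) (len := 94) h277 m2_277
  have h279 : ∀ u < 26226, (fun u => chkFix tab mwordsA u) u = true := ext_range (a := 26132) (len := 94) h278 m2_278
  have h280 : ∀ u < 26320, (fun u => chkFix tab mwordsA u) u = true := ext_range (a := 26226) (len := 94) h279 m2_279
  have h281 : ∀ u < 26414, (fun u => chkFix tab mwordsA u) u = true := ext_range (a := 26320) (len := 94) h280 m2_280
  have h282 : ∀ u < 26508, (fun u => chkFix tab mwordsA u) u = true := ext_range (a := 26414) (len := 94) h281 m2_281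
  have h283 : ∀ u < 26602, (fun u => chkFix tab mwordsA u) u = true := ext_range (a := 26508) (len := 94) h282 m2_282
  have h284 : ∀ u < 26696, (fun u => chkFix tab mwordsA u) u = true := ext_range (a := 26602) (len := 94) h283 m2_283
  have h285 : ∀ u < 26790, (fun u => chkFix tab mwordsA u) u = true := ext_range (a := 26696) (len := 94) h284 m2_284
  have h286 : ∀ u < 26884, (fun u => chkFix tab mwordsA u) u = true := ext_range (a := 26790) (len := 94) h285 m2_285
  have h287 : ∀ u < 26978, (fun u => chkFix tab mwordsA u) u = true := ext_range (a := 26884) (len := 94) h286 m2_286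
  have h288 : ∀ u < 27072, (fun u => chkFix tab mwordsA u) u = true := ext_range (a := 26978) (len := 94) h287 m2_287
  have h289 : ∀ u < 27166, (fun u => chkFix tab mwordsA u) u = true := ext_range (a := 27072) (len := 94) h288 m2_288
  have h290 : ∀ u < 27260, (fun u => chkFix tab mwordsA u) u = true := ext_range (a := 27166) (len := 94) h289 m2_289
  have h291 : ∀ u < 27354, (fun u => chkFix tab mwordsA u) u = true := ext_range (a := 27260) (len := 94) h290 m2_290
  have h292 : ∀ u < 27448, (fun u => chkFix tab mwordsA u) u = true := ext_range (a := 27354) (len := 94) h291 m2_291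
  have h293 : ∀ u < 27542, (fun u => chkFix tab mwordsA u) u = true := ext_range (a := 27448) (len := 94) h292 m2_292
  have h294 : ∀ u < 27636, (fun u => chkFix tab mwordsA u) u = true := ext_range (a := 27542) (len := 94) h293 m2_293
  have h295 : ∀ u < 27730, (fun u => chkFix tab mwordsA u) u = true := ext_range (a := 27636) (len := 94) h294 m2_294
  have h296 : ∀ u < 27824, (fun u => chkFix tab mwordsA u) u = true := ext_range (a := 27730) (len := 94) h295 m2_295
  have h297 : ∀ u < 27918, (fun u => chkFix tab mwordsA u) u = true := ext_range (a := 27824) (len := 94) h296 m2_296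
  have h298 : ∀ u < 28012, (fun u => chkFix tab mwordsA u) u = true := ext_range (a := 27918) (len := 94) h297 m2_297
  have h299 : ∀ u < 28106, (fun u => chkFix tab mwordsA u) u = true := ext_range (a := 28012) (len := 94) h298 m2_298
  have h300 : ∀ u < 28200, (fun u => chkFix tab mwordsA u) u = true := ext_range (a := 28106) (len := 94) h299 m2_299
  have h301 : ∀ u < 28294, (fun u => chkFix tab mwordsA u) u = true := ext_range (a := 28200) (len := 94) h300 m2_300
  have h302 : ∀ u < 28388, (fun u => chkFix tab mwordsA u) u = true := ext_range (a := 28294) (len := 94) h301 m2_301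
  have h303 : ∀ u < 28482, (fun u => chkFix tab mwordsA u) u = true := ext_range (a := 28388) (len := 94) h302 m2_302
  have h304 : ∀ u < 28576, (fun u => chkFix tab mwordsA u) u = true := ext_range (a := 28482) (len := 94) h303 m2_303
  have h305 : ∀ u < 28670, (fun u => chkFix tab mwordsA u) u = true := ext_range (a := 28576) (len := 94) h304 m2_304
  have h306 : ∀ u < 28764, (fun u => chkFix tab mwordsA u) u = true := ext_range (a := 28670) (len := 94) h305 m2_305
  have h307 : ∀ u < 28858, (fun u => chkFix tab mwordsA u) u = true := ext_range (a := 28764) (len := 94) h306 m2_306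
  have h308 : ∀ u < 28952, (fun u => chkFix tab mwordsA u) u = true := ext_range (a := 28858) (len := 94) h307 m2_307
  have h309 : ∀ u < 29046, (fun u => chkFix tab mwordsA u) u = true := ext_range (a := 28952) (len := 94) h308 m2_308
  have h310 : ∀ u < 29140, (fun u => chkFix tab mwordsA u) u = true := ext_range (a := 29046) (len := 94) h309 m2_309
  have h311 : ∀ u < 29234, (fun u => chkFix tab mwordsA u) u = true := ext_range (a := 29140) (len := 94) h310 m2_310
  have h312 : ∀ u < 29328, (fun u => chkFix tab mwordsA u) u = true := ext_range (a := 29234) (len := 94) h311 m2_311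
  have h313 : ∀ u < 29422, (fun u => chkFix tab mwordsA u) u = true := ext_range (a := 29328) (len := 94) h312 m2_312
  have h314 : ∀ u < 29516, (fun u => chkFix tab mwordsA u) u = true := ext_range (a := 29422) (len := 94) h313 m2_313
  have h315 : ∀ u < 29610, (fun u => chkFix tab mwordsA u) u = true := ext_range (a := 29516) (len := 94) h314 m2_314
  have h316 : ∀ u < 29704, (fun u => chkFix tab mwordsA u) u = true := ext_range (a := 29610) (len := 94) h315 m2_315
  have h317 : ∀ u < 29798, (fun u => chkFix tab mwordsA u) u = true := ext_range (a := 29704) (len := 94) h316 m2_316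
  have h318 : ∀ u < 29892, (fun u => chkFix tab mwordsA u) u = true := ext_range (a := 29798) (len := 94) h317 m2_317
  have h319 : ∀ u < 29986, (fun u => chkFix tab mwordsA u) u = true := ext_range (a := 29892) (len := 94) h318 m2_318
  have h320 : ∀ u < 30080, (fun u => chkFix tab mwordsA u) u = true := ext_range (a := 29986) (len := 94) h319 m2_319
  have h321 : ∀ u < 30174, (fun u => chkFix tab mwordsA u) u = true := ext_range (a := 30080) (len := 94) h320 m2_320
  have h322 : ∀ u < 30268, (fun u => chkFix tab mwordsA u) u = true := ext_range (a := 30174) (len := 94) h321 m2_321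
  have h323 : ∀ u < 30362, (fun u => chkFix tab mwordsA u) u = true := ext_range (a := 30268) (len := 94) h322 m2_322
  have h324 : ∀ u < 30456, (fun u => chkFix tab mwordsA u) u = true := ext_range (a := 30362) (len := 94) h323 m2_323
  have h325 : ∀ u < 30550, (fun u => chkFix tab mwordsA u) u = true := ext_range (a := 30456) (len := 94) h324 m2_324
  have h326 : ∀ u < 30644, (fun u => chkFix tab mwordsA u) u = true := ext_range (a := 30550) (len := 94) h325 m2_325
  have h327 : ∀ u < 30738, (fun u => chkFix tab mwordsA u) u = true := ext_range (a := 30644) (len := 94) h326 m2_326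
  have h328 : ∀ u < 30832, (fun u => chkFix tab mwordsA u) u = true := ext_range (a := 30738) (len := 94) h327 m2_327
  have h329 : ∀ u < 30926, (fun u => chkFix tab mwordsA u) u = true := ext_range (a := 30832) (len := 94) h328 m2_328
  have h330 : ∀ u < 31020, (fun u => chkFix tab mwordsA u) u = true := ext_range (a := 30926) (len := 94) h329 m2_329
  have h331 : ∀ u < 31114, (fun u => chkFix tab mwordsA u) u = true := ext_range (a := 31020) (len := 94) h330 m2_330
  have h332 : ∀ u < 31208, (fun u => chkFix tab mwordsA u) u = true := ext_range (a := 31114) (len := 94) h331 m2_331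
  have h333 : ∀ u < 31302, (fun u => chkFix tab mwordsA u) u = true := ext_range (a := 31208) (len := 94) h332 m2_332
  have h334 : ∀ u < 31396, (fun u => chkFix tab mwordsA u) u = true := ext_range (a := 31302) (len := 94) h333 m2_333
  have h335 : ∀ u < 31490, (fun u => chkFix tab mwordsA u) u = true := ext_range (a := 31396) (len := 94) h334 m2_334
  have h336 : ∀ u < 31584, (fun u => chkFix tab mwordsA u) u = true := ext_range (a := 31490) (len := 94) h335 m2_335
  have h337 : ∀ u < 31678, (fun u => chkFix tab mwordsA u) u = true := ext_range (a := 31584) (len := 94) h336 m2_336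
  have h338 : ∀ u < 31772, (fun u => chkFix tab mwordsA u) u = true := ext_range (a := 31678) (len := 94) h337 m2_337
  have h339 : ∀ u < 31866, (fun u => chkFix tab mwordsA u) u = true := ext_range (a := 31772) (len := 94) h338 m2_338
  have h340 : ∀ u < 31960, (fun u => chkFix tab mwordsA u) u = true := ext_range (a := 31866) (len := 94) h339 m2_339
  have h341 : ∀ u < 32054, (fun u => chkFix tab mwordsA u) u = true := ext_range (a := 31960) (len := 94) h340 m2_340
  have h342 : ∀ u < 32148, (fun u => chkFix tab mwordsA u) u = true := ext_range (a := 32054) (len := 94) h341 m2_341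
  have h343 : ∀ u < 32242, (fun u => chkFix tab mwordsA u) u = true := ext_range (a := 32148) (len := 94) h342 m2_342
  have h344 : ∀ u < 32336, (fun u => chkFix tab mwordsA u) u = true := ext_range (a := 32242) (len := 94) h343 m2_343
  have h345 : ∀ u < 32430, (fun u => chkFix tab mwordsA u) u = true := ext_range (a := 32336) (len := 94) h344 m2_344
  have h346 : ∀ u < 32524, (fun u => chkFix tab mwordsA u) u = true := ext_range (a := 32430) (len := 94) h345 m2_345
  have h347 : ∀ u < 32618, (fun u => chkFix tab mwordsA u) u = true := ext_range (a := 32524) (len := 94) h346 m2_346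
  have h348 : ∀ u < 32712, (fun u => chkFix tab mwordsA u) u = true := ext_range (a := 32618) (len := 94) h347 m2_347
  have h349 : ∀ u < 32806, (fun u => chkFix tab mwordsA u) u = true := ext_range (a := 32712) (len := 94) h348 m2_348
  have h350 : ∀ u < 32900, (fun u => chkFix tab mwordsA u) u = true := ext_range (a := 32806) (len := 94) h349 m2_349
  have h351 : ∀ u < 32994, (fun u => chkFix tab mwordsA u) u = true := ext_range (a := 32900) (len := 94) h350 m2_350
  have h352 : ∀ u < 33088, (fun u => chkFix tab mwordsA u) u = true := ext_range (a := 32994) (len := 94) h351 m2_351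
  have h353 : ∀ u < 33182, (fun u => chkFix tab mwordsA u) u = true := ext_range (a := 33088) (len := 94) h352 m2_352
  have h354 : ∀ u < 33276, (fun u => chkFix tab mwordsA u) u = true := ext_range (a := 33182) (len := 94) h353 m2_353
  have h355 : ∀ u < 33370, (fun u => chkFix tab mwordsA u) u = true := ext_range (a := 33276) (len := 94) h354 m2_354
  have h356 : ∀ u < 33464, (fun u => chkFix tab mwordsA u) u = true := ext_range (a := 33370) (len := 94) h355 m2_355
  have h357 : ∀ u < 33558, (fun u => chkFix tab mwordsA u) u = true := ext_range (a := 33464) (len := 94) h356 m2_356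
  have h358 : ∀ u < 33652, (fun u => chkFix tab mwordsA u) u = true := ext_range (a := 33558) (len := 94) h357 m2_357
  have h359 : ∀ u < 33746, (fun u => chkFix tab mwordsA u) u = true := ext_range (a := 33652) (len := 94) h358 m2_358
  have h360 : ∀ u < 33840, (fun u => chkFix tab mwordsA u) u = true := ext_range (a := 33746) (len := 94) h359 m2_359
  have h361 : ∀ u < 33934, (fun u => chkFix tab mwordsA u) u = true := ext_range (a := 33840) (len := 94) h360 m2_360
  have h362 : ∀ u < 34028, (fun u => chkFix tab mwordsA u) u = true := ext_range (a := 33934) (len := 94) h361 m2_361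
  have h363 : ∀ u < 34122, (fun u => chkFix tab mwordsA u) u = true := ext_range (a := 34028) (len := 94) h362 m2_362
  have h364 : ∀ u < 34216, (fun u => chkFix tab mwordsA u) u = true := ext_range (a := 34122) (len := 94) h363 m2_363
  have h365 : ∀ u < 34310, (fun u => chkFix tab mwordsA u) u = true := ext_range (a := 34216) (len := 94) h364 m2_364
  have h366 : ∀ u < 34404, (fun u => chkFix tab mwordsA u) u = true := ext_range (a := 34310) (len := 94) h365 m2_365
  have h367 : ∀ u < 34498, (fun u => chkFix tab mwordsA u) u = true := ext_range (a := 34404) (len := 94) h366 m2_366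
  have h368 : ∀ u < 34592, (fun u => chkFix tab mwordsA u) u = true := ext_range (a := 34498) (len := 94) h367 m2_367
  have h369 : ∀ u < 34686, (fun u => chkFix tab mwordsA u) u = true := ext_range (a := 34592) (len := 94) h368 m2_368
  have h370 : ∀ u < 34780, (fun u => chkFix tab mwordsA u) u = true := ext_range (a := 34686) (len := 94) h369 m2_369
  have h371 : ∀ u < 34874, (fun u => chkFix tab mwordsA u) u = true := ext_range (a := 34780) (len := 94) h370 m2_370
  have h372 : ∀ u < 34968, (fun u => chkFix tab mwordsA u) u = true := ext_range (a := 34874) (len := 94) h371 m2_371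
  have h373 : ∀ u < 35062, (fun u => chkFix tab mwordsA u) u = true := ext_range (a := 34968) (len := 94) h372 m2_372
  have h374 : ∀ u < 35156, (fun u => chkFix tab mwordsA u) u = true := ext_range (a := 35062) (len := 94) h373 m2_373
  have h375 : ∀ u < 35250, (fun u => chkFix tab mwordsA u) u = true := ext_range (a := 35156) (len := 94) h374 m2_374
  have h376 : ∀ u < 35344, (fun u => chkFix tab mwordsA u) u = true := ext_range (a := 35250) (len := 94) h375 m2_375
  have h377 : ∀ u < 35438, (fun u => chkFix tab mwordsA u) u = true := ext_range (a := 35344) (len := 94) h376 m2_376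
  have h378 : ∀ u < 35532, (fun u => chkFix tab mwordsA u) u = true := ext_range (a := 35438) (len := 94) h377 m2_377
  have h379 : ∀ u < 35626, (fun u => chkFix tab mwordsA u) u = true := ext_range (a := 35532) (len := 94) h378 m2_378
  have h380 : ∀ u < 35720, (fun u => chkFix tab mwordsA u) u = true := ext_range (a := 35626) (len := 94) h379 m2_379
  have h381 : ∀ u < 35814, (fun u => chkFix tab mwordsA u) u = true := ext_range (a := 35720) (len := 94) h380 m2_380
  have h382 : ∀ u < 35908, (fun u => chkFix tab mwordsA u) u = true := ext_range (a := 35814) (len := 94) h381 m2_381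
  have h383 : ∀ u < 36002, (fun u => chkFix tab mwordsA u) u = true := ext_range (a := 35908) (len := 94) h382 m2_382
  have h384 : ∀ u < 36096, (fun u => chkFix tab mwordsA u) u = true := ext_range (a := 36002) (len := 94) h383 m2_383
  have h385 : ∀ u < 36190, (fun u => chkFix tab mwordsA u) u = true := ext_range (a := 36096) (len := 94) h384 m2_384
  have h386 : ∀ u < 36284, (fun u => chkFix tab mwordsA u) u = true := ext_range (a := 36190) (len := 94) h385 m2_385
  have h387 : ∀ u < 36378, (fun u => chkFix tab mwordsA u) u = true := ext_range (a := 36284) (len := 94) h386 m2_386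
  have h388 : ∀ u < 36472, (fun u => chkFix tab mwordsA u) u = true := ext_range (a := 36378) (len := 94) h387 m2_387
  have h389 : ∀ u < 36566, (fun u => chkFix tab mwordsA u) u = true := ext_range (a := 36472) (len := 94) h388 m2_388
  have h390 : ∀ u < 36660, (fun u => chkFix tab mwordsA u) u = true := ext_range (a := 36566) (len := 94) h389 m2_389
  have h391 : ∀ u < 36754, (fun u => chkFix tab mwordsA u) u = true := ext_range (a := 36660) (len := 94) h390 m2_390
  have h392 : ∀ u < 36848, (fun u => chkFix tab mwordsA u) u = true := ext_range (a := 36754) (len := 94) h391 m2_391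
  have h393 : ∀ u < 36942, (fun u => chkFix tab mwordsA u) u = true := ext_range (a := 36848) (len := 94) h392 m2_392
  have h394 : ∀ u < 37036, (fun u => chkFix tab mwordsA u) u = true := ext_range (a := 36942) (len := 94) h393 m2_393
  have h395 : ∀ u < 37130, (fun u => chkFix tab mwordsA u) u = true := ext_range (a := 37036) (len := 94) h394 m2_394
  have h396 : ∀ u < 37224, (fun u => chkFix tab mwordsA u) u = true := ext_range (a := 37130) (len := 94) h395 m2_395
  have h397 : ∀ u < 37318, (fun u => chkFix tab mwordsA u) u = true := ext_range (a := 37224) (len := 94) h396 m2_396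
  have h398 : ∀ u < 37412, (fun u => chkFix tab mwordsA u) u = true := ext_range (a := 37318) (len := 94) h397 m2_397
  have h399 : ∀ u < 37506, (fun u => chkFix tab mwordsA u) u = true := ext_range (a := 37412) (len := 94) h398 m2_398
  have h400 : ∀ u < 37600, (fun u => chkFix tab mwordsA u) u = true := ext_range (a := 37506) (len := 94) h399 m2_399
  have h401 : ∀ u < 37694, (fun u => chkFix tab mwordsA u) u = true := ext_range (a := 37600) (len := 94) h400 m2_400
  have h402 : ∀ u < 37788, (fun u => chkFix tab mwordsA u) u = true := ext_range (a := 37694) (len := 94) h401 m2_401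
  have h403 : ∀ u < 37882, (fun u => chkFix tab mwordsA u) u = true := ext_range (a := 37788) (len := 94) h402 m2_402
  have h404 : ∀ u < 37976, (fun u => chkFix tab mwordsA u) u = true := ext_range (a := 37882) (len := 94) h403 m2_403
  have h405 : ∀ u < 38070, (fun u => chkFix tab mwordsA u) u = true := ext_range (a := 37976) (len := 94) h404 m2_404
  have h406 : ∀ u < 38164, (fun u => chkFix tab mwordsA u) u = true := ext_range (a := 38070) (len := 94) h405 m2_405
  have h407 : ∀ u < 38258, (fun u => chkFix tab mwordsA u) u = true := ext_range (a := 38164) (len := 94) h406 m2_406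
  have h408 : ∀ u < 38352, (fun u => chkFix tab mwordsA u) u = true := ext_range (a := 38258) (len := 94) h407 m2_407
  have h409 : ∀ u < 38446, (fun u => chkFix tab mwordsA u) u = true := ext_range (a := 38352) (len := 94) h408 m2_408
  have h410 : ∀ u < 38540, (fun u => chkFix tab mwordsA u) u = true := ext_range (a := 38446) (len := 94) h409 m2_409
  have h411 : ∀ u < 38634, (fun u => chkFix tab mwordsA u) u = true := ext_range (a := 38540) (len := 94) h410 m2_410
  have h412 : ∀ u < 38728, (fun u => chkFix tab mwordsA u) u = true := ext_range (a := 38634) (len := 94) h411 m2_411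
  have h413 : ∀ u < 38822, (fun u => chkFix tab mwordsA u) u = true := ext_range (a := 38728) (len := 94) h412 m2_412
  have h414 : ∀ u < 38916, (fun u => chkFix tab mwordsA u) u = true := ext_range (a := 38822) (len := 94) h413 m2_413
  have h415 : ∀ u < 39010, (fun u => chkFix tab mwordsA u) u = true := ext_range (a := 38916) (len := 94) h414 m2_414
  have h416 : ∀ u < 39104, (fun u => chkFix tab mwordsA u) u = true := ext_range (a := 39010) (len := 94) h415 m2_415
  have h417 : ∀ u < 39198, (fun u => chkFix tab mwordsA u) u = true := ext_range (a := 39104) (len := 94) h416 m2_416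
  have h418 : ∀ u < 39292, (fun u => chkFix tab mwordsA u) u = true := ext_range (a := 39198) (len := 94) h417 m2_417
  have h419 : ∀ u < 39386, (fun u => chkFix tab mwordsA u) u = true := ext_range (a := 39292) (len := 94) h418 m2_418
  have h420 : ∀ u < 39480, (fun u => chkFix tab mwordsA u) u = true := ext_range (a := 39386) (len := 94) h419 m2_419
  have h421 : ∀ u < 39574, (fun u => chkFix tab mwordsA u) u = true := ext_range (a := 39480) (len := 94) h420 m2_420
  have h422 : ∀ u < 39668, (fun u => chkFix tab mwordsA u) u = true := ext_range (a := 39574) (len := 94) h421 m2_421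
  have h423 : ∀ u < 39762, (fun u => chkFix tab mwordsA u) u = true := ext_range (a := 39668) (len := 94) h422 m2_422
  have h424 : ∀ u < 39856, (fun u => chkFix tab mwordsA u) u = true := ext_range (a := 39762) (len := 94) h423 m2_423
  have h425 : ∀ u < 39950, (fun u => chkFix tab mwordsA u) u = true := ext_range (a := 39856) (len := 94) h424 m2_424
  have h426 : ∀ u < 40044, (fun u => chkFix tab mwordsA u) u = true := ext_range (a := 39950) (len := 94) h425 m2_425
  have h427 : ∀ u < 40138, (fun u => chkFix tab mwordsA u) u = true := ext_range (a := 40044) (len := 94) h426 m2_426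
  have h428 : ∀ u < 40232, (fun u => chkFix tab mwordsA u) u = true := ext_range (a := 40138) (len := 94) h427 m2_427
  have h429 : ∀ u < 40326, (fun u => chkFix tab mwordsA u) u = true := ext_range (a := 40232) (len := 94) h428 m2_428
  have h430 : ∀ u < 40420, (fun u => chkFix tab mwordsA u) u = true := ext_range (a := 40326) (len := 94) h429 m2_429
  have h431 : ∀ u < 40514, (fun u => chkFix tab mwordsA u) u = true := ext_range (a := 40420) (len := 94) h430 m2_430
  have h432 : ∀ u < 40608, (fun u => chkFix tab mwordsA u) u = true := ext_range (a := 40514) (len := 94) h431 m2_431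
  have h433 : ∀ u < 40702, (fun u => chkFix tab mwordsA u) u = true := ext_range (a := 40608) (len := 94) h432 m2_432
  have h434 : ∀ u < 40796, (fun u => chkFix tab mwordsA u) u = true := ext_range (a := 40702) (len := 94) h433 m2_433
  have h435 : ∀ u < 40890, (fun u => chkFix tab mwordsA u) u = true := ext_range (a := 40796) (len := 94) h434 m2_434
  have h436 : ∀ u < 40984, (fun u => chkFix tab mwordsA u) u = true := ext_range (a := 40890) (len := 94) h435 m2_435
  have h437 : ∀ u < 41078, (fun u => chkFix tab mwordsA u) u = true := ext_range (a := 40984) (len := 94) h436 m2_436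
  have h438 : ∀ u < 41172, (fun u => chkFix tab mwordsA u) u = true := ext_range (a := 41078) (len := 94) h437 m2_437
  have h439 : ∀ u < 41266, (fun u => chkFix tab mwordsA u) u = true := ext_range (a := 41172) (len := 94) h438 m2_438
  have h440 : ∀ u < 41360, (fun u => chkFix tab mwordsA u) u = true := ext_range (a := 41266) (len := 94) h439 m2_439
  have h441 : ∀ u < 41454, (fun u => chkFix tab mwordsA u) u = true := ext_range (a := 41360) (len := 94) h440 m2_440
  have h442 : ∀ u < 41548, (fun u => chkFix tab mwordsA u) u = true := ext_range (a := 41454) (len := 94) h441 m2_441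
  have h443 : ∀ u < 41642, (fun u => chkFix tab mwordsA u) u = true := ext_range (a := 41548) (len := 94) h442 m2_442
  have h444 : ∀ u < 41736, (fun u => chkFix tab mwordsA u) u = true := ext_range (a := 41642) (len := 94) h443 m2_443
  have h445 : ∀ u < 41830, (fun u => chkFix tab mwordsA u) u = true := ext_range (a := 41736) (len := 94) h444 m2_444
  have h446 : ∀ u < 41924, (fun u => chkFix tab mwordsA u) u = true := ext_range (a := 41830) (len := 94) h445 m2_445
  have h447 : ∀ u < 42018, (fun u => chkFix tab mwordsA u) u = true := ext_range (a := 41924) (len := 94) h446 m2_446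
  have h448 : ∀ u < 42112, (fun u => chkFix tab mwordsA u) u = true := ext_range (a := 42018) (len := 94) h447 m2_447
  have h449 : ∀ u < 42206, (fun u => chkFix tab mwordsA u) u = true := ext_range (a := 42112) (len := 94) h448 m2_448
  have h450 : ∀ u < 42300, (fun u => chkFix tab mwordsA u) u = true := ext_range (a := 42206) (len := 94) h449 m2_449
  have h451 : ∀ u < 42394, (fun u => chkFix tab mwordsA u) u = true := ext_range (a := 42300) (len := 94) h450 m2_450
  have h452 : ∀ u < 42488, (fun u => chkFix tab mwordsA u) u = true := ext_range (a := 42394) (len := 94) h451 m2_451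
  have h453 : ∀ u < 42582, (fun u => chkFix tab mwordsA u) u = true := ext_range (a := 42488) (len := 94) h452 m2_452
  have h454 : ∀ u < 42676, (fun u => chkFix tab mwordsA u) u = true := ext_range (a := 42582) (len := 94) h453 m2_453
  have h455 : ∀ u < 42770, (fun u => chkFix tab mwordsA u) u = true := ext_range (a := 42676) (len := 94) h454 m2_454
  have h456 : ∀ u < 42864, (fun u => chkFix tab mwordsA u) u = true := ext_range (a := 42770) (len := 94) h455 m2_455
  have h457 : ∀ u < 42958, (fun u => chkFix tab mwordsA u) u = true := ext_range (a := 42864) (len := 94) h456 m2_456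
  have h458 : ∀ u < 43052, (fun u => chkFix tab mwordsA u) u = true := ext_range (a := 42958) (len := 94) h457 m2_457
  have h459 : ∀ u < 43146, (fun u => chkFix tab mwordsA u) u = true := ext_range (a := 43052) (len := 94) h458 m2_458
  have h460 : ∀ u < 43240, (fun u => chkFix tab mwordsA u) u = true := ext_range (a := 43146) (len := 94) h459 m2_459
  have h461 : ∀ u < 43334, (fun u => chkFix tab mwordsA u) u = true := ext_range (a := 43240) (len := 94) h460 m2_460
  have h462 : ∀ u < 43428, (fun u => chkFix tab mwordsA u) u = true := ext_range (a := 43334) (len := 94) h461 m2_461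
  have h463 : ∀ u < 43522, (fun u => chkFix tab mwordsA u) u = true := ext_range (a := 43428) (len := 94) h462 m2_462
  have h464 : ∀ u < 43616, (fun u => chkFix tab mwordsA u) u = true := ext_range (a := 43522) (len := 94) h463 m2_463
  have h465 : ∀ u < 43710, (fun u => chkFix tab mwordsA u) u = true := ext_range (a := 43616) (len := 94) h464 m2_464
  have h466 : ∀ u < 43804, (fun u => chkFix tab mwordsA u) u = true := ext_range (a := 43710) (len := 94) h465 m2_465
  have h467 : ∀ u < 43898, (fun u => chkFix tab mwordsA u) u = true := ext_range (a := 43804) (len := 94) h466 m2_466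
  have h468 : ∀ u < 43992, (fun u => chkFix tab mwordsA u) u = true := ext_range (a := 43898) (len := 94) h467 m2_467
  have h469 : ∀ u < 44086, (fun u => chkFix tab mwordsA u) u = true := ext_range (a := 43992) (len := 94) h468 m2_468
  have h470 : ∀ u < 44180, (fun u => chkFix tab mwordsA u) u = true := ext_range (a := 44086) (len := 94) h469 m2_469
  have h471 : ∀ u < 44274, (fun u => chkFix tab mwordsA u) u = true := ext_range (a := 44180) (len := 94) h470 m2_470
  have h472 : ∀ u < 44368, (fun u => chkFix tab mwordsA u) u = true := ext_range (a := 44274) (len := 94) h471 m2_471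
  have h473 : ∀ u < 44462, (fun u => chkFix tab mwordsA u) u = true := ext_range (a := 44368) (len := 94) h472 m2_472
  have h474 : ∀ u < 44556, (fun u => chkFix tab mwordsA u) u = true := ext_range (a := 44462) (len := 94) h473 m2_473
  have h475 : ∀ u < 44650, (fun u => chkFix tab mwordsA u) u = true := ext_range (a := 44556) (len := 94) h474 m2_474
  have h476 : ∀ u < 44744, (fun u => chkFix tab mwordsA u) u = true := ext_range (a := 44650) (len := 94) h475 m2_475
  have h477 : ∀ u < 44838, (fun u => chkFix tab mwordsA u) u = true := ext_range (a := 44744) (len := 94) h476 m2_476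
  have h478 : ∀ u < 44932, (fun u => chkFix tab mwordsA u) u = true := ext_range (a := 44838) (len := 94) h477 m2_477
  have h479 : ∀ u < 45026, (fun u => chkFix tab mwordsA u) u = true := ext_range (a := 44932) (len := 94) h478 m2_478
  have h480 : ∀ u < 45120, (fun u => chkFix tab mwordsA u) u = true := ext_range (a := 45026) (len := 94) h479 m2_479
  have h481 : ∀ u < 45214, (fun u => chkFix tab mwordsA u) u = true := ext_range (a := 45120) (len := 94) h480 m2_480
  have h482 : ∀ u < 45308, (fun u => chkFix tab mwordsA u) u = true := ext_range (a := 45214) (len := 94) h481 m2_481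
  have h483 : ∀ u < 45402, (fun u => chkFix tab mwordsA u) u = true := ext_range (a := 45308) (len := 94) h482 m2_482
  have h484 : ∀ u < 45496, (fun u => chkFix tab mwordsA u) u = true := ext_range (a := 45402) (len := 94) h483 m2_483
  have h485 : ∀ u < 45590, (fun u => chkFix tab mwordsA u) u = true := ext_range (a := 45496) (len := 94) h484 m2_484
  have h486 : ∀ u < 45684, (fun u => chkFix tab mwordsA u) u = true := ext_range (a := 45590) (len := 94) h485 m2_485
  have h487 : ∀ u < 45778, (fun u => chkFix tab mwordsA u) u = true := ext_range (a := 45684) (len := 94) h486 m2_486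
  have h488 : ∀ u < 45872, (fun u => chkFix tab mwordsA u) u = true := ext_range (a := 45778) (len := 94) h487 m2_487
  have h489 : ∀ u < 45966, (fun u => chkFix tab mwordsA u) u = true := ext_range (a := 45872) (len := 94) h488 m2_488
  have h490 : ∀ u < 46060, (fun u => chkFix tab mwordsA u) u = true := ext_range (a := 45966) (len := 94) h489 m2_489
  have h491 : ∀ u < 46154, (fun u => chkFix tab mwordsA u) u = true := ext_range (a := 46060) (len := 94) h490 m2_490
  have h492 : ∀ u < 46248, (fun u => chkFix tab mwordsA u) u = true := ext_range (a := 46154) (len := 94) h491 m2_491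
  have h493 : ∀ u < 46342, (fun u => chkFix tab mwordsA u) u = true := ext_range (a := 46248) (len := 94) h492 m2_492
  have h494 : ∀ u < 46436, (fun u => chkFix tab mwordsA u) u = true := ext_range (a := 46342) (len := 94) h493 m2_493
  have h495 : ∀ u < 46530, (fun u => chkFix tab mwordsA u) u = true := ext_range (a := 46436) (len := 94) h494 m2_494
  have h496 : ∀ u < 46624, (fun u => chkFix tab mwordsA u) u = true := ext_range (a := 46530) (len := 94) h495 m2_495
  have h497 : ∀ u < 46718, (fun u => chkFix tab mwordsA u) u = true := ext_range (a := 46624) (len := 94) h496 m2_496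
  have h498 : ∀ u < 46812, (fun u => chkFix tab mwordsA u) u = true := ext_range (a := 46718) (len := 94) h497 m2_497
  have h499 : ∀ u < 46906, (fun u => chkFix tab mwordsA u) u = true := ext_range (a := 46812) (len := 94) h498 m2_498
  have h500 : ∀ u < 47000, (fun u => chkFix tab mwordsA u) u = true := ext_range (a := 46906) (len := 94) h499 m2_499
  have h501 : ∀ u < 47094, (fun u => chkFix tab mwordsA u) u = true := ext_range (a := 47000) (len := 94) h500 m2_500
  have h502 : ∀ u < 47188, (fun u => chkFix tab mwordsA u) u = true := ext_range (a := 47094) (len := 94) h501 m2_501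
  have h503 : ∀ u < 47282, (fun u => chkFix tab mwordsA u) u = true := ext_range (a := 47188) (len := 94) h502 m2_502
  have h504 : ∀ u < 47376, (fun u => chkFix tab mwordsA u) u = true := ext_range (a := 47282) (len := 94) h503 m2_503
  have h505 : ∀ u < 47470, (fun u => chkFix tab mwordsA u) u = true := ext_range (a := 47376) (len := 94) h504 m2_504
  have h506 : ∀ u < 47564, (fun u => chkFix tab mwordsA u) u = true := ext_range (a := 47470) (len := 94) h505 m2_505
  have h507 : ∀ u < 47658, (fun u => chkFix tab mwordsA u) u = true := ext_range (a := 47564) (len := 94) h506 m2_506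
  have h508 : ∀ u < 47752, (fun u => chkFix tab mwordsA u) u = true := ext_range (a := 47658) (len := 94) h507 m2_507
  have h509 : ∀ u < 47846, (fun u => chkFix tab mwordsA u) u = true := ext_range (a := 47752) (len := 94) h508 m2_508
  have h510 : ∀ u < 47940, (fun u => chkFix tab mwordsA u) u = true := ext_range (a := 47846) (len := 94) h509 m2_509
  have h511 : ∀ u < 48034, (fun u => chkFix tab mwordsA u) u = true := ext_range (a := 47940) (len := 94) h510 m2_510
  have h512 : ∀ u < 48128, (fun u => chkFix tab mwordsA u) u = true := ext_range (a := 48034) (len := 94) h511 m2_511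
  have h513 : ∀ u < 48222, (fun u => chkFix tab mwordsA u) u = true := ext_range (a := 48128) (len := 94) h512 m2_512
  have h514 : ∀ u < 48316, (fun u => chkFix tab mwordsA u) u = true := ext_range (a := 48222) (len := 94) h513 m2_513
  have h515 : ∀ u < 48410, (fun u => chkFix tab mwordsA u) u = true := ext_range (a := 48316) (len := 94) h514 m2_514
  have h516 : ∀ u < 48504, (fun u => chkFix tab mwordsA u) u = true := ext_range (a := 48410) (len := 94) h515 m2_515
  have h517 : ∀ u < 48598, (fun u => chkFix tab mwordsA u) u = true := ext_range (a := 48504) (len := 94) h516 m2_516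
  have h518 : ∀ u < 48692, (fun u => chkFix tab mwordsA u) u = true := ext_range (a := 48598) (len := 94) h517 m2_517
  have h519 : ∀ u < 48786, (fun u => chkFix tab mwordsA u) u = true := ext_range (a := 48692) (len := 94) h518 m2_518
  have h520 : ∀ u < 48880, (fun u => chkFix tab mwordsA u) u = true := ext_range (a := 48786) (len := 94) h519 m2_519
  have h521 : ∀ u < 48974, (fun u => chkFix tab mwordsA u) u = true := ext_range (a := 48880) (len := 94) h520 m2_520
  have h522 : ∀ u < 49068, (fun u => chkFix tab mwordsA u) u = true := ext_range (a := 48974) (len := 94) h521 m2_521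
  have h523 : ∀ u < 49162, (fun u => chkFix tab mwordsA u) u = true := ext_range (a := 49068) (len := 94) h522 m2_522
  have h524 : ∀ u < 49256, (fun u => chkFix tab mwordsA u) u = true := ext_range (a := 49162) (len := 94) h523 m2_523
  have h525 : ∀ u < 49350, (fun u => chkFix tab mwordsA u) u = true := ext_range (a := 49256) (len := 94) h524 m2_524
  have h526 : ∀ u < 49444, (fun u => chkFix tab mwordsA u) u = true := ext_range (a := 49350) (len := 94) h525 m2_525
  have h527 : ∀ u < 49538, (fun u => chkFix tab mwordsA u) u = true := ext_range (a := 49444) (len := 94) h526 m2_526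
  have h528 : ∀ u < 49632, (fun u => chkFix tab mwordsA u) u = true := ext_range (a := 49538) (len := 94) h527 m2_527
  have h529 : ∀ u < 49726, (fun u => chkFix tab mwordsA u) u = true := ext_range (a := 49632) (len := 94) h528 m2_528
  have h530 : ∀ u < 49820, (fun u => chkFix tab mwordsA u) u = true := ext_range (a := 49726) (len := 94) h529 m2_529
  have h531 : ∀ u < 49914, (fun u => chkFix tab mwordsA u) u = true := ext_range (a := 49820) (len := 94) h530 m2_530
  have h532 : ∀ u < 50008, (fun u => chkFix tab mwordsA u) u = true := ext_range (a := 49914) (len := 94) h531 m2_531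
  have h533 : ∀ u < 50102, (fun u => chkFix tab mwordsA u) u = true := ext_range (a := 50008) (len := 94) h532 m2_532
  have h534 : ∀ u < 50196, (fun u => chkFix tab mwordsA u) u = true := ext_range (a := 50102) (len := 94) h533 m2_533
  have h535 : ∀ u < 50290, (fun u => chkFix tab mwordsA u) u = true := ext_range (a := 50196) (len := 94) h534 m2_534
  have h536 : ∀ u < 50384, (fun u => chkFix tab mwordsA u) u = true := ext_range (a := 50290) (len := 94) h535 m2_535
  have h537 : ∀ u < 50478, (fun u => chkFix tab mwordsA u) u = true := ext_range (a := 50384) (len := 94) h536 m2_536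
  have h538 : ∀ u < 50572, (fun u => chkFix tab mwordsA u) u = true := ext_range (a := 50478) (len := 94) h537 m2_537
  have h539 : ∀ u < 50666, (fun u => chkFix tab mwordsA u) u = true := ext_range (a := 50572) (len := 94) h538 m2_538
  have h540 : ∀ u < 50760, (fun u => chkFix tab mwordsA u) u = true := ext_range (a := 50666) (len := 94) h539 m2_539
  have h541 : ∀ u < 50854, (fun u => chkFix tab mwordsA u) u = true := ext_range (a := 50760) (len := 94) h540 m2_540
  have h542 : ∀ u < 50948, (fun u => chkFix tab mwordsA u) u = true := ext_range (a := 50854) (len := 94) h541 m2_541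
  have h543 : ∀ u < 51042, (fun u => chkFix tab mwordsA u) u = true := ext_range (a := 50948) (len := 94) h542 m2_542
  have h544 : ∀ u < 51136, (fun u => chkFix tab mwordsA u) u = true := ext_range (a := 51042) (len := 94) h543 m2_543
  have h545 : ∀ u < 51230, (fun u => chkFix tab mwordsA u) u = true := ext_range (a := 51136) (len := 94) h544 m2_544
  have h546 : ∀ u < 51324, (fun u => chkFix tab mwordsA u) u = true := ext_range (a := 51230) (len := 94) h545 m2_545
  have h547 : ∀ u < 51418, (fun u => chkFix tab mwordsA u) u = true := ext_range (a := 51324) (len := 94) h546 m2_546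
  have h548 : ∀ u < 51512, (fun u => chkFix tab mwordsA u) u = true := ext_range (a := 51418) (len := 94) h547 m2_547
  have h549 : ∀ u < 51606, (fun u => chkFix tab mwordsA u) u = true := ext_range (a := 51512) (len := 94) h548 m2_548
  have h550 : ∀ u < 51700, (fun u => chkFix tab mwordsA u) u = true := ext_range (a := 51606) (len := 94) h549 m2_549
  have h551 : ∀ u < 51794, (fun u => chkFix tab mwordsA u) u = true := ext_range (a := 51700) (len := 94) h550 m2_550
  have h552 : ∀ u < 51888, (fun u => chkFix tab mwordsA u) u = true := ext_range (a := 51794) (len := 94) h551 m2_551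
  have h553 : ∀ u < 51982, (fun u => chkFix tab mwordsA u) u = true := ext_range (a := 51888) (len := 94) h552 m2_552
  have h554 : ∀ u < 52076, (fun u => chkFix tab mwordsA u) u = true := ext_range (a := 51982) (len := 94) h553 m2_553
  have h555 : ∀ u < 52170, (fun u => chkFix tab mwordsA u) u = true := ext_range (a := 52076) (len := 94) h554 m2_554
  have h556 : ∀ u < 52264, (fun u => chkFix tab mwordsA u) u = true := ext_range (a := 52170) (len := 94) h555 m2_555
  have h557 : ∀ u < 52358, (fun u => chkFix tab mwordsA u) u = true := ext_range (a := 52264) (len := 94) h556 m2_556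
  have h558 : ∀ u < 52452, (fun u => chkFix tab mwordsA u) u = true := ext_range (a := 52358) (len := 94) h557 m2_557
  have h559 : ∀ u < 52546, (fun u => chkFix tab mwordsA u) u = true := ext_range (a := 52452) (len := 94) h558 m2_558
  have h560 : ∀ u < 52640, (fun u => chkFix tab mwordsA u) u = true := ext_range (a := 52546) (len := 94) h559 m2_559
  have h561 : ∀ u < 52734, (fun u => chkFix tab mwordsA u) u = true := ext_range (a := 52640) (len := 94) h560 m2_560
  have h562 : ∀ u < 52828, (fun u => chkFix tab mwordsA u) u = true := ext_range (a := 52734) (len := 94) h561 m2_561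
  have h563 : ∀ u < 52922, (fun u => chkFix tab mwordsA u) u = true := ext_range (a := 52828) (len := 94) h562 m2_562
  have h564 : ∀ u < 53016, (fun u => chkFix tab mwordsA u) u = true := ext_range (a := 52922) (len := 94) h563 m2_563
  have h565 : ∀ u < 53110, (fun u => chkFix tab mwordsA u) u = true := ext_range (a := 53016) (len := 94) h564 m2_564
  have h566 : ∀ u < 53204, (fun u => chkFix tab mwordsA u) u = true := ext_range (a := 53110) (len := 94) h565 m2_565
  have h567 : ∀ u < 53298, (fun u => chkFix tab mwordsA u) u = true := ext_range (a := 53204) (len := 94) h566 m2_566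
  have h568 : ∀ u < 53392, (fun u => chkFix tab mwordsA u) u = true := ext_range (a := 53298) (len := 94) h567 m2_567
  have h569 : ∀ u < 53486, (fun u => chkFix tab mwordsA u) u = true := ext_range (a := 53392) (len := 94) h568 m2_568
  have h570 : ∀ u < 53580, (fun u => chkFix tab mwordsA u) u = true := ext_range (a := 53486) (len := 94) h569 m2_569
  have h571 : ∀ u < 53674, (fun u => chkFix tab mwordsA u) u = true := ext_range (a := 53580) (len := 94) h570 m2_570
  have h572 : ∀ u < 53768, (fun u => chkFix tab mwordsA u) u = true := ext_range (a := 53674) (len := 94) h571 m2_571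
  have h573 : ∀ u < 53862, (fun u => chkFix tab mwordsA u) u = true := ext_range (a := 53768) (len := 94) h572 m2_572
  have h574 : ∀ u < 53956, (fun u => chkFix tab mwordsA u) u = true := ext_range (a := 53862) (len := 94) h573 m2_573
  have h575 : ∀ u < 54050, (fun u => chkFix tab mwordsA u) u = true := ext_range (a := 53956) (len := 94) h574 m2_574
  have h576 : ∀ u < 54144, (fun u => chkFix tab mwordsA u) u = true := ext_range (a := 54050) (len := 94) h575 m2_575
  have h577 : ∀ u < 54238, (fun u => chkFix tab mwordsA u) u = true := ext_range (a := 54144) (len := 94) h576 m2_576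
  have h578 : ∀ u < 54332, (fun u => chkFix tab mwordsA u) u = true := ext_range (a := 54238) (len := 94) h577 m2_577
  have h579 : ∀ u < 54426, (fun u => chkFix tab mwordsA u) u = true := ext_range (a := 54332) (len := 94) h578 m2_578
  have h580 : ∀ u < 54520, (fun u => chkFix tab mwordsA u) u = true := ext_range (a := 54426) (len := 94) h579 m2_579
  have h581 : ∀ u < 54614, (fun u => chkFix tab mwordsA u) u = true := ext_range (a := 54520) (len := 94) h580 m2_580
  have h582 : ∀ u < 54708, (fun u => chkFix tab mwordsA u) u = true := ext_range (a := 54614) (len := 94) h581 m2_581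
  have h583 : ∀ u < 54802, (fun u => chkFix tab mwordsA u) u = true := ext_range (a := 54708) (len := 94) h582 m2_582
  have h584 : ∀ u < 54896, (fun u => chkFix tab mwordsA u) u = true := ext_range (a := 54802) (len := 94) h583 m2_583
  have h585 : ∀ u < 54990, (fun u => chkFix tab mwordsA u) u = true := ext_range (a := 54896) (len := 94) h584 m2_584
  have h586 : ∀ u < 55084, (fun u => chkFix tab mwordsA u) u = true := ext_range (a := 54990) (len := 94) h585 m2_585
  have h587 : ∀ u < 55178, (fun u => chkFix tab mwordsA u) u = true := ext_range (a := 55084) (len := 94) h586 m2_586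
  have h588 : ∀ u < 55272, (fun u => chkFix tab mwordsA u) u = true := ext_range (a := 55178) (len := 94) h587 m2_587
  have h589 : ∀ u < 55366, (fun u => chkFix tab mwordsA u) u = true := ext_range (a := 55272) (len := 94) h588 m2_588
  have h590 : ∀ u < 55460, (fun u => chkFix tab mwordsA u) u = true := ext_range (a := 55366) (len := 94) h589 m2_589
  have h591 : ∀ u < 55554, (fun u => chkFix tab mwordsA u) u = true := ext_range (a := 55460) (len := 94) h590 m2_590
  have h592 : ∀ u < 55648, (fun u => chkFix tab mwordsA u) u = true := ext_range (a := 55554) (len := 94) h591 m2_591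
  have h593 : ∀ u < 55742, (fun u => chkFix tab mwordsA u) u = true := ext_range (a := 55648) (len := 94) h592 m2_592
  have h594 : ∀ u < 55836, (fun u => chkFix tab mwordsA u) u = true := ext_range (a := 55742) (len := 94) h593 m2_593
  have h595 : ∀ u < 55930, (fun u => chkFix tab mwordsA u) u = true := ext_range (a := 55836) (len := 94) h594 m2_594
  have h596 : ∀ u < 56024, (fun u => chkFix tab mwordsA u) u = true := ext_range (a := 55930) (len := 94) h595 m2_595
  have h597 : ∀ u < 56118, (fun u => chkFix tab mwordsA u) u = true := ext_range (a := 56024) (len := 94) h596 m2_596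
  have h598 : ∀ u < 56212, (fun u => chkFix tab mwordsA u) u = true := ext_range (a := 56118) (len := 94) h597 m2_597
  have h599 : ∀ u < 56306, (fun u => chkFix tab mwordsA u) u = true := ext_range (a := 56212) (len := 94) h598 m2_598
  have h600 : ∀ u < 56400, (fun u => chkFix tab mwordsA u) u = true := ext_range (a := 56306) (len := 94) h599 m2_599
  have h601 : ∀ u < 56494, (fun u => chkFix tab mwordsA u) u = true := ext_range (a := 56400) (len := 94) h600 m2_600
  have h602 : ∀ u < 56588, (fun u => chkFix tab mwordsA u) u = true := ext_range (a := 56494) (len := 94) h601 m2_601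
  have h603 : ∀ u < 56682, (fun u => chkFix tab mwordsA u) u = true := ext_range (a := 56588) (len := 94) h602 m2_602
  have h604 : ∀ u < 56776, (fun u => chkFix tab mwordsA u) u = true := ext_range (a := 56682) (len := 94) h603 m2_603
  have h605 : ∀ u < 56870, (fun u => chkFix tab mwordsA u) u = true := ext_range (a := 56776) (len := 94) h604 m2_604
  have h606 : ∀ u < 56964, (fun u => chkFix tab mwordsA u) u = true := ext_range (a := 56870) (len := 94) h605 m2_605
  have h607 : ∀ u < 57058, (fun u => chkFix tab mwordsA u) u = true := ext_range (a := 56964) (len := 94) h606 m2_606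
  have h608 : ∀ u < 57152, (fun u => chkFix tab mwordsA u) u = true := ext_range (a := 57058) (len := 94) h607 m2_607
  have h609 : ∀ u < 57246, (fun u => chkFix tab mwordsA u) u = true := ext_range (a := 57152) (len := 94) h608 m2_608
  have h610 : ∀ u < 57340, (fun u => chkFix tab mwordsA u) u = true := ext_range (a := 57246) (len := 94) h609 m2_609
  have h611 : ∀ u < 57434, (fun u => chkFix tab mwordsA u) u = true := ext_range (a := 57340) (len := 94) h610 m2_610
  have h612 : ∀ u < 57528, (fun u => chkFix tab mwordsA u) u = true := ext_range (a := 57434) (len := 94) h611 m2_611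
  have h613 : ∀ u < 57622, (fun u => chkFix tab mwordsA u) u = true := ext_range (a := 57528) (len := 94) h612 m2_612
  have h614 : ∀ u < 57716, (fun u => chkFix tab mwordsA u) u = true := ext_range (a := 57622) (len := 94) h613 m2_613
  have h615 : ∀ u < 57810, (fun u => chkFix tab mwordsA u) u = true := ext_range (a := 57716) (len := 94) h614 m2_614
  have h616 : ∀ u < 57904, (fun u => chkFix tab mwordsA u) u = true := ext_range (a := 57810) (len := 94) h615 m2_615
  have h617 : ∀ u < 57998, (fun u => chkFix tab mwordsA u) u = true := ext_range (a := 57904) (len := 94) h616 m2_616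
  have h618 : ∀ u < 58092, (fun u => chkFix tab mwordsA u) u = true := ext_range (a := 57998) (len := 94) h617 m2_617
  have h619 : ∀ u < 58186, (fun u => chkFix tab mwordsA u) u = true := ext_range (a := 58092) (len := 94) h618 m2_618
  have h620 : ∀ u < 58280, (fun u => chkFix tab mwordsA u) u = true := ext_range (a := 58186) (len := 94) h619 m2_619
  have h621 : ∀ u < 58374, (fun u => chkFix tab mwordsA u) u = true := ext_range (a := 58280) (len := 94) h620 m2_620
  have h622 : ∀ u < 58468, (fun u => chkFix tab mwordsA u) u = true := ext_range (a := 58374) (len := 94) h621 m2_621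
  have h623 : ∀ u < 58562, (fun u => chkFix tab mwordsA u) u = true := ext_range (a := 58468) (len := 94) h622 m2_622
  have h624 : ∀ u < 58656, (fun u => chkFix tab mwordsA u) u = true := ext_range (a := 58562) (len := 94) h623 m2_623
  have h625 : ∀ u < 58750, (fun u => chkFix tab mwordsA u) u = true := ext_range (a := 58656) (len := 94) h624 m2_624
  have h626 : ∀ u < 58844, (fun u => chkFix tab mwordsA u) u = true := ext_range (a := 58750) (len := 94) h625 m2_625
  have h627 : ∀ u < 58938, (fun u => chkFix tab mwordsA u) u = true := ext_range (a := 58844) (len := 94) h626 m2_626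
  have h628 : ∀ u < 59032, (fun u => chkFix tab mwordsA u) u = true := ext_range (a := 58938) (len := 94) h627 m2_627
  have h629 : ∀ u < 59126, (fun u => chkFix tab mwordsA u) u = true := ext_range (a := 59032) (len := 94) h628 m2_628
  have h630 : ∀ u < 59220, (fun u => chkFix tab mwordsA u) u = true := ext_range (a := 59126) (len := 94) h629 m2_629
  have h631 : ∀ u < 59314, (fun u => chkFix tab mwordsA u) u = true := ext_range (a := 59220) (len := 94) h630 m2_630
  have h632 : ∀ u < 59408, (fun u => chkFix tab mwordsA u) u = true := ext_range (a := 59314) (len := 94) h631 m2_631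
  have h633 : ∀ u < 59502, (fun u => chkFix tab mwordsA u) u = true := ext_range (a := 59408) (len := 94) h632 m2_632
  have h634 : ∀ u < 59596, (fun u => chkFix tab mwordsA u) u = true := ext_range (a := 59502) (len := 94) h633 m2_633
  have h635 : ∀ u < 59690, (fun u => chkFix tab mwordsA u) u = true := ext_range (a := 59596) (len := 94) h634 m2_634
  have h636 : ∀ u < 59784, (fun u => chkFix tab mwordsA u) u = true := ext_range (a := 59690) (len := 94) h635 m2_635
  have h637 : ∀ u < 59878, (fun u => chkFix tab mwordsA u) u = true := ext_range (a := 59784) (len := 94) h636 m2_636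
  have h638 : ∀ u < 59972, (fun u => chkFix tab mwordsA u) u = true := ext_range (a := 59878) (len := 94) h637 m2_637
  have h639 : ∀ u < 60066, (fun u => chkFix tab mwordsA u) u = true := ext_range (a := 59972) (len := 94) h638 m2_638
  have h640 : ∀ u < 60160, (fun u => chkFix tab mwordsA u) u = true := ext_range (a := 60066) (len := 94) h639 m2_639
  have h641 : ∀ u < 60254, (fun u => chkFix tab mwordsA u) u = true := ext_range (a := 60160) (len := 94) h640 m2_640
  have h642 : ∀ u < 60348, (fun u => chkFix tab mwordsA u) u = true := ext_range (a := 60254) (len := 94) h641 m2_641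
  have h643 : ∀ u < 60442, (fun u => chkFix tab mwordsA u) u = true := ext_range (a := 60348) (len := 94) h642 m2_642
  have h644 : ∀ u < 60536, (fun u => chkFix tab mwordsA u) u = true := ext_range (a := 60442) (len := 94) h643 m2_643
  have h645 : ∀ u < 60630, (fun u => chkFix tab mwordsA u) u = true := ext_range (a := 60536) (len := 94) h644 m2_644
  have h646 : ∀ u < 60724, (fun u => chkFix tab mwordsA u) u = true := ext_range (a := 60630) (len := 94) h645 m2_645
  have h647 : ∀ u < 60818, (fun u => chkFix tab mwordsA u) u = true := ext_range (a := 60724) (len := 94) h646 m2_646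
  have h648 : ∀ u < 60912, (fun u => chkFix tab mwordsA u) u = true := ext_range (a := 60818) (len := 94) h647 m2_647
  have h649 : ∀ u < 61006, (fun u => chkFix tab mwordsA u) u = true := ext_range (a := 60912) (len := 94) h648 m2_648
  have h650 : ∀ u < 61100, (fun u => chkFix tab mwordsA u) u = true := ext_range (a := 61006) (len := 94) h649 m2_649
  have h651 : ∀ u < 61194, (fun u => chkFix tab mwordsA u) u = true := ext_range (a := 61100) (len := 94) h650 m2_650
  have h652 : ∀ u < 61288, (fun u => chkFix tab mwordsA u) u = true := ext_range (a := 61194) (len := 94) h651 m2_651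
  have h653 : ∀ u < 61382, (fun u => chkFix tab mwordsA u) u = true := ext_range (a := 61288) (len := 94) h652 m2_652
  have h654 : ∀ u < 61476, (fun u => chkFix tab mwordsA u) u = true := ext_range (a := 61382) (len := 94) h653 m2_653
  have h655 : ∀ u < 61570, (fun u => chkFix tab mwordsA u) u = true := ext_range (a := 61476) (len := 94) h654 m2_654
  have h656 : ∀ u < 61664, (fun u => chkFix tab mwordsA u) u = true := ext_range (a := 61570) (len := 94) h655 m2_655
  have h657 : ∀ u < 61758, (fun u => chkFix tab mwordsA u) u = true := ext_range (a := 61664) (len := 94) h656 m2_656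
  have h658 : ∀ u < 61852, (fun u => chkFix tab mwordsA u) u = true := ext_range (a := 61758) (len := 94) h657 m2_657
  have h659 : ∀ u < 61946, (fun u => chkFix tab mwordsA u) u = true := ext_range (a := 61852) (len := 94) h658 m2_658
  have h660 : ∀ u < 62040, (fun u => chkFix tab mwordsA u) u = true := ext_range (a := 61946) (len := 94) h659 m2_659
  have h661 : ∀ u < 62134, (fun u => chkFix tab mwordsA u) u = true := ext_range (a := 62040) (len := 94) h660 m2_660
  have h662 : ∀ u < 62228, (fun u => chkFix tab mwordsA u) u = true := ext_range (a := 62134) (len := 94) h661 m2_661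
  have h663 : ∀ u < 62322, (fun u => chkFix tab mwordsA u) u = true := ext_range (a := 62228) (len := 94) h662 m2_662
  have h664 : ∀ u < 62416, (fun u => chkFix tab mwordsA u) u = true := ext_range (a := 62322) (len := 94) h663 m2_663
  have h665 : ∀ u < 62510, (fun u => chkFix tab mwordsA u) u = true := ext_range (a := 62416) (len := 94) h664 m2_664
  have h666 : ∀ u < 62604, (fun u => chkFix tab mwordsA u) u = true := ext_range (a := 62510) (len := 94) h665 m2_665
  have h667 : ∀ u < 62698, (fun u => chkFix tab mwordsA u) u = true := ext_range (a := 62604) (len := 94) h666 m2_666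
  have h668 : ∀ u < 62792, (fun u => chkFix tab mwordsA u) u = true := ext_range (a := 62698) (len := 94) h667 m2_667
  have h669 : ∀ u < 62886, (fun u => chkFix tab mwordsA u) u = true := ext_range (a := 62792) (len := 94) h668 m2_668
  have h670 : ∀ u < 62980, (fun u => chkFix tab mwordsA u) u = true := ext_range (a := 62886) (len := 94) h669 m2_669
  have h671 : ∀ u < 63074, (fun u => chkFix tab mwordsA u) u = true := ext_range (a := 62980) (len := 94) h670 m2_670
  have h672 : ∀ u < 63168, (fun u => chkFix tab mwordsA u) u = true := ext_range (a := 63074) (len := 94) h671 m2_671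
  have h673 : ∀ u < 63262, (fun u => chkFix tab mwordsA u) u = true := ext_range (a := 63168) (len := 94) h672 m2_672
  have h674 : ∀ u < 63356, (fun u => chkFix tab mwordsA u) u = true := ext_range (a := 63262) (len := 94) h673 m2_673
  have h675 : ∀ u < 63450, (fun u => chkFix tab mwordsA u) u = true := ext_range (a := 63356) (len := 94) h674 m2_674
  have h676 : ∀ u < 63544, (fun u => chkFix tab mwordsA u) u = true := ext_range (a := 63450) (len := 94) h675 m2_675
  have h677 : ∀ u < 63638, (fun u => chkFix tab mwordsA u) u = true := ext_range (a := 63544) (len := 94) h676 m2_676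
  have h678 : ∀ u < 63732, (fun u => chkFix tab mwordsA u) u = true := ext_range (a := 63638) (len := 94) h677 m2_677
  have h679 : ∀ u < 63826, (fun u => chkFix tab mwordsA u) u = true := ext_range (a := 63732) (len := 94) h678 m2_678
  have h680 : ∀ u < 63920, (fun u => chkFix tab mwordsA u) u = true := ext_range (a := 63826) (len := 94) h679 m2_679
  have h681 : ∀ u < 64014, (fun u => chkFix tab mwordsA u) u = true := ext_range (a := 63920) (len := 94) h680 m2_680
  have h682 : ∀ u < 64108, (fun u => chkFix tab mwordsA u) u = true := ext_range (a := 64014) (len := 94) h681 m2_681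
  have h683 : ∀ u < 64202, (fun u => chkFix tab mwordsA u) u = true := ext_range (a := 64108) (len := 94) h682 m2_682
  have h684 : ∀ u < 64296, (fun u => chkFix tab mwordsA u) u = true := ext_range (a := 64202) (len := 94) h683 m2_683
  have h685 : ∀ u < 64390, (fun u => chkFix tab mwordsA u) u = true := ext_range (a := 64296) (len := 94) h684 m2_684
  have h686 : ∀ u < 64484, (fun u => chkFix tab mwordsA u) u = true := ext_range (a := 64390) (len := 94) h685 m2_685
  have h687 : ∀ u < 64578, (fun u => chkFix tab mwordsA u) u = true := ext_range (a := 64484) (len := 94) h686 m2_686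
  have h688 : ∀ u < 64672, (fun u => chkFix tab mwordsA u) u = true := ext_range (a := 64578) (len := 94) h687 m2_687
  have h689 : ∀ u < 64766, (fun u => chkFix tab mwordsA u) u = true := ext_range (a := 64672) (len := 94) h688 m2_688
  have h690 : ∀ u < 64860, (fun u => chkFix tab mwordsA u) u = true := ext_range (a := 64766) (len := 94) h689 m2_689
  have h691 : ∀ u < 64954, (fun u => chkFix tab mwordsA u) u = true := ext_range (a := 64860) (len := 94) h690 m2_690
  have h692 : ∀ u < 65048, (fun u => chkFix tab mwordsA u) u = true := ext_range (a := 64954) (len := 94) h691 m2_691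
  have h693 : ∀ u < 65142, (fun u => chkFix tab mwordsA u) u = true := ext_range (a := 65048) (len := 94) h692 m2_692
  have h694 : ∀ u < 65236, (fun u => chkFix tab mwordsA u) u = true := ext_range (a := 65142) (len := 94) h693 m2_693
  have h695 : ∀ u < 65330, (fun u => chkFix tab mwordsA u) u = true := ext_range (a := 65236) (len := 94) h694 m2_694
  have h696 : ∀ u < 65424, (fun u => chkFix tab mwordsA u) u = true := ext_range (a := 65330) (len := 94) h695 m2_695
  have h697 : ∀ u < 65518, (fun u => chkFix tab mwordsA u) u = true := ext_range (a := 65424) (len := 94) h696 m2_696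
  have h698 : ∀ u < 65612, (fun u => chkFix tab mwordsA u) u = true := ext_range (a := 65518) (len := 94) h697 m2_697
  have h699 : ∀ u < 65706, (fun u => chkFix tab mwordsA u) u = true := ext_range (a := 65612) (len := 94) h698 m2_698
  have h700 : ∀ u < 65800, (fun u => chkFix tab mwordsA u) u = true := ext_range (a := 65706) (len := 94) h699 m2_699
  have h701 : ∀ u < 65894, (fun u => chkFix tab mwordsA u) u = true := ext_range (a := 65800) (len := 94) h700 m2_700
  have h702 : ∀ u < 65988, (fun u => chkFix tab mwordsA u) u = true := ext_range (a := 65894) (len := 94) h701 m2_701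
  have h703 : ∀ u < 66082, (fun u => chkFix tab mwordsA u) u = true := ext_range (a := 65988) (len := 94) h702 m2_702
  have h704 : ∀ u < 66176, (fun u => chkFix tab mwordsA u) u = true := ext_range (a := 66082) (len := 94) h703 m2_703
  have h705 : ∀ u < 66270, (fun u => chkFix tab mwordsA u) u = true := ext_range (a := 66176) (len := 94) h704 m2_704
  have h706 : ∀ u < 66364, (fun u => chkFix tab mwordsA u) u = true := ext_range (a := 66270) (len := 94) h705 m2_705
  have h707 : ∀ u < 66458, (fun u => chkFix tab mwordsA u) u = true := ext_range (a := 66364) (len := 94) h706 m2_706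
  have h708 : ∀ u < 66552, (fun u => chkFix tab mwordsA u) u = true := ext_range (a := 66458) (len := 94) h707 m2_707
  have h709 : ∀ u < 66646, (fun u => chkFix tab mwordsA u) u = true := ext_range (a := 66552) (len := 94) h708 m2_708
  have h710 : ∀ u < 66740, (fun u => chkFix tab mwordsA u) u = true := ext_range (a := 66646) (len := 94) h709 m2_709
  have h711 : ∀ u < 66834, (fun u => chkFix tab mwordsA u) u = true := ext_range (a := 66740) (len := 94) h710 m2_710
  have h712 : ∀ u < 66928, (fun u => chkFix tab mwordsA u) u = true := ext_range (a := 66834) (len := 94) h711 m2_711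
  have h713 : ∀ u < 67022, (fun u => chkFix tab mwordsA u) u = true := ext_range (a := 66928) (len := 94) h712 m2_712
  have h714 : ∀ u < 67116, (fun u => chkFix tab mwordsA u) u = true := ext_range (a := 67022) (len := 94) h713 m2_713
  have h715 : ∀ u < 67210, (fun u => chkFix tab mwordsA u) u = true := ext_range (a := 67116) (len := 94) h714 m2_714
  have h716 : ∀ u < 67304, (fun u => chkFix tab mwordsA u) u = true := ext_range (a := 67210) (len := 94) h715 m2_715
  have h717 : ∀ u < 67398, (fun u => chkFix tab mwordsA u) u = true := ext_range (a := 67304) (len := 94) h716 m2_716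
  have h718 : ∀ u < 67492, (fun u => chkFix tab mwordsA u) u = true := ext_range (a := 67398) (len := 94) h717 m2_717
  have h719 : ∀ u < 67586, (fun u => chkFix tab mwordsA u) u = true := ext_range (a := 67492) (len := 94) h718 m2_718
  have h720 : ∀ u < 67680, (fun u => chkFix tab mwordsA u) u = true := ext_range (a := 67586) (len := 94) h719 m2_719
  have h721 : ∀ u < 67774, (fun u => chkFix tab mwordsA u) u = true := ext_range (a := 67680) (len := 94) h720 m2_720
  have h722 : ∀ u < 67868, (fun u => chkFix tab mwordsA u) u = true := ext_range (a := 67774) (len := 94) h721 m2_721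
  have h723 : ∀ u < 67962, (fun u => chkFix tab mwordsA u) u = true := ext_range (a := 67868) (len := 94) h722 m2_722
  have h724 : ∀ u < 68056, (fun u => chkFix tab mwordsA u) u = true := ext_range (a := 67962) (len := 94) h723 m2_723
  have h725 : ∀ u < 68150, (fun u => chkFix tab mwordsA u) u = true := ext_range (a := 68056) (len := 94) h724 m2_724
  have h726 : ∀ u < 68244, (fun u => chkFix tab mwordsA u) u = true := ext_range (a := 68150) (len := 94) h725 m2_725
  have h727 : ∀ u < 68338, (fun u => chkFix tab mwordsA u) u = true := ext_range (a := 68244) (len := 94) h726 m2_726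
  have h728 : ∀ u < 68432, (fun u => chkFix tab mwordsA u) u = true := ext_range (a := 68338) (len := 94) h727 m2_727
  have h729 : ∀ u < 68526, (fun u => chkFix tab mwordsA u) u = true := ext_range (a := 68432) (len := 94) h728 m2_728
  have h730 : ∀ u < 68620, (fun u => chkFix tab mwordsA u) u = true := ext_range (a := 68526) (len := 94) h729 m2_729
  have h731 : ∀ u < 68714, (fun u => chkFix tab mwordsA u) u = true := ext_range (a := 68620) (len := 94) h730 m2_730
  have h732 : ∀ u < 68808, (fun u => chkFix tab mwordsA u) u = true := ext_range (a := 68714) (len := 94) h731 m2_731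
  have h733 : ∀ u < 68902, (fun u => chkFix tab mwordsA u) u = true := ext_range (a := 68808) (len := 94) h732 m2_732
  have h734 : ∀ u < 68996, (fun u => chkFix tab mwordsA u) u = true := ext_range (a := 68902) (len := 94) h733 m2_733
  have h735 : ∀ u < 69090, (fun u => chkFix tab mwordsA u) u = true := ext_range (a := 68996) (len := 94) h734 m2_734
  have h736 : ∀ u < 69184, (fun u => chkFix tab mwordsA u) u = true := ext_range (a := 69090) (len := 94) h735 m2_735
  have h737 : ∀ u < 69278, (fun u => chkFix tab mwordsA u) u = true := ext_range (a := 69184) (len := 94) h736 m2_736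
  have h738 : ∀ u < 69372, (fun u => chkFix tab mwordsA u) u = true := ext_range (a := 69278) (len := 94) h737 m2_737
  have h739 : ∀ u < 69466, (fun u => chkFix tab mwordsA u) u = true := ext_range (a := 69372) (len := 94) h738 m2_738
  have h740 : ∀ u < 69560, (fun u => chkFix tab mwordsA u) u = true := ext_range (a := 69466) (len := 94) h739 m2_739
  have h741 : ∀ u < 69654, (fun u => chkFix tab mwordsA u) u = true := ext_range (a := 69560) (len := 94) h740 m2_740
  have h742 : ∀ u < 69748, (fun u => chkFix tab mwordsA u) u = true := ext_range (a := 69654) (len := 94) h741 m2_741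
  have h743 : ∀ u < 69842, (fun u => chkFix tab mwordsA u) u = true := ext_range (a := 69748) (len := 94) h742 m2_742
  have h744 : ∀ u < 69936, (fun u => chkFix tab mwordsA u) u = true := ext_range (a := 69842) (len := 94) h743 m2_743
  have h745 : ∀ u < 70030, (fun u => chkFix tab mwordsA u) u = true := ext_range (a := 69936) (len := 94) h744 m2_744
  have h746 : ∀ u < 70124, (fun u => chkFix tab mwordsA u) u = true := ext_range (a := 70030) (len := 94) h745 m2_745
  have h747 : ∀ u < 70218, (fun u => chkFix tab mwordsA u) u = true := ext_range (a := 70124) (len := 94) h746 m2_746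
  have h748 : ∀ u < 70312, (fun u => chkFix tab mwordsA u) u = true := ext_range (a := 70218) (len := 94) h747 m2_747
  have h749 : ∀ u < 70406, (fun u => chkFix tab mwordsA u) u = true := ext_range (a := 70312) (len := 94) h748 m2_748
  have h750 : ∀ u < 70500, (fun u => chkFix tab mwordsA u) u = true := ext_range (a := 70406) (len := 94) h749 m2_749
  have h751 : ∀ u < 70594, (fun u => chkFix tab mwordsA u) u = true := ext_range (a := 70500) (len := 94) h750 m2_750
  have h752 : ∀ u < 70688, (fun u => chkFix tab mwordsA u) u = true := ext_range (a := 70594) (len := 94) h751 m2_751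
  have h753 : ∀ u < 70782, (fun u => chkFix tab mwordsA u) u = true := ext_range (a := 70688) (len := 94) h752 m2_752
  have h754 : ∀ u < 70876, (fun u => chkFix tab mwordsA u) u = true := ext_range (a := 70782) (len := 94) h753 m2_753
  have h755 : ∀ u < 70970, (fun u => chkFix tab mwordsA u) u = true := ext_range (a := 70876) (len := 94) h754 m2_754
  have h756 : ∀ u < 71064, (fun u => chkFix tab mwordsA u) u = true := ext_range (a := 70970) (len := 94) h755 m2_755
  have h757 : ∀ u < 71158, (fun u => chkFix tab mwordsA u) u = true := ext_range (a := 71064) (len := 94) h756 m2_756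
  have h758 : ∀ u < 71252, (fun u => chkFix tab mwordsA u) u = true := ext_range (a := 71158) (len := 94) h757 m2_757
  have h759 : ∀ u < 71346, (fun u => chkFix tab mwordsA u) u = true := ext_range (a := 71252) (len := 94) h758 m2_758
  have h760 : ∀ u < 71440, (fun u => chkFix tab mwordsA u) u = true := ext_range (a := 71346) (len := 94) h759 m2_759
  have h761 : ∀ u < 71534, (fun u => chkFix tab mwordsA u) u = true := ext_range (a := 71440) (len := 94) h760 m2_760
  have h762 : ∀ u < 71628, (fun u => chkFix tab mwordsA u) u = true := ext_range (a := 71534) (len := 94) h761 m2_761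
  have h763 : ∀ u < 71722, (fun u => chkFix tab mwordsA u) u = true := ext_range (a := 71628) (len := 94) h762 m2_762
  have h764 : ∀ u < 71816, (fun u => chkFix tab mwordsA u) u = true := ext_range (a := 71722) (len := 94) h763 m2_763
  have h765 : ∀ u < 71910, (fun u => chkFix tab mwordsA u) u = true := ext_range (a := 71816) (len := 94) h764 m2_764
  have h766 : ∀ u < 72004, (fun u => chkFix tab mwordsA u) u = true := ext_range (a := 71910) (len := 94) h765 m2_765
  have h767 : ∀ u < 72098, (fun u => chkFix tab mwordsA u) u = true := ext_range (a := 72004) (len := 94) h766 m2_766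
  have h768 : ∀ u < 72192, (fun u => chkFix tab mwordsA u) u = true := ext_range (a := 72098) (len := 94) h767 m2_767
  have h769 : ∀ u < 72286, (fun u => chkFix tab mwordsA u) u = true := ext_range (a := 72192) (len := 94) h768 m2_768
  have h770 : ∀ u < 72380, (fun u => chkFix tab mwordsA u) u = true := ext_range (a := 72286) (len := 94) h769 m2_769
  have h771 : ∀ u < 72474, (fun u => chkFix tab mwordsA u) u = true := ext_range (a := 72380) (len := 94) h770 m2_770
  have h772 : ∀ u < 72568, (fun u => chkFix tab mwordsA u) u = true := ext_range (a := 72474) (len := 94) h771 m2_771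
  have h773 : ∀ u < 72662, (fun u => chkFix tab mwordsA u) u = true := ext_range (a := 72568) (len := 94) h772 m2_772
  have h774 : ∀ u < 72756, (fun u => chkFix tab mwordsA u) u = true := ext_range (a := 72662) (len := 94) h773 m2_773
  have h775 : ∀ u < 72850, (fun u => chkFix tab mwordsA u) u = true := ext_range (a := 72756) (len := 94) h774 m2_774
  have h776 : ∀ u < 72944, (fun u => chkFix tab mwordsA u) u = true := ext_range (a := 72850) (len := 94) h775 m2_775
  have h777 : ∀ u < 73038, (fun u => chkFix tab mwordsA u) u = true := ext_range (a := 72944) (len := 94) h776 m2_776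
  have h778 : ∀ u < 73132, (fun u => chkFix tab mwordsA u) u = true := ext_range (a := 73038) (len := 94) h777 m2_777
  have h779 : ∀ u < 73226, (fun u => chkFix tab mwordsA u) u = true := ext_range (a := 73132) (len := 94) h778 m2_778
  have h780 : ∀ u < 73320, (fun u => chkFix tab mwordsA u) u = true := ext_range (a := 73226) (len := 94) h779 m2_779
  have h781 : ∀ u < 73414, (fun u => chkFix tab mwordsA u) u = true := ext_range (a := 73320) (len := 94) h780 m2_780
  have h782 : ∀ u < 73508, (fun u => chkFix tab mwordsA u) u = true := ext_range (a := 73414) (len := 94) h781 m2_781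
  have h783 : ∀ u < 73602, (fun u => chkFix tab mwordsA u) u = true := ext_range (a := 73508) (len := 94) h782 m2_782
  have h784 : ∀ u < 73696, (fun u => chkFix tab mwordsA u) u = true := ext_range (a := 73602) (len := 94) h783 m2_783
  have h785 : ∀ u < 73790, (fun u => chkFix tab mwordsA u) u = true := ext_range (a := 73696) (len := 94) h784 m2_784
  have h786 : ∀ u < 73884, (fun u => chkFix tab mwordsA u) u = true := ext_range (a := 73790) (len := 94) h785 m2_785
  have h787 : ∀ u < 73978, (fun u => chkFix tab mwordsA u) u = true := ext_range (a := 73884) (len := 94) h786 m2_786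
  have h788 : ∀ u < 74072, (fun u => chkFix tab mwordsA u) u = true := ext_range (a := 73978) (len := 94) h787 m2_787
  have h789 : ∀ u < 74166, (fun u => chkFix tab mwordsA u) u = true := ext_range (a := 74072) (len := 94) h788 m2_788
  have h790 : ∀ u < 74260, (fun u => chkFix tab mwordsA u) u = true := ext_range (a := 74166) (len := 94) h789 m2_789
  have h791 : ∀ u < 74354, (fun u => chkFix tab mwordsA u) u = true := ext_range (a := 74260) (len := 94) h790 m2_790
  have h792 : ∀ u < 74448, (fun u => chkFix tab mwordsA u) u = true := ext_range (a := 74354) (len := 94) h791 m2_791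
  have h793 : ∀ u < 74542, (fun u => chkFix tab mwordsA u) u = true := ext_range (a := 74448) (len := 94) h792 m2_792
  have h794 : ∀ u < 74636, (fun u => chkFix tab mwordsA u) u = true := ext_range (a := 74542) (len := 94) h793 m2_793
  have h795 : ∀ u < 74730, (fun u => chkFix tab mwordsA u) u = true := ext_range (a := 74636) (len := 94) h794 m2_794
  have h796 : ∀ u < 74824, (fun u => chkFix tab mwordsA u) u = true := ext_range (a := 74730) (len := 94) h795 m2_795
  have h797 : ∀ u < 74918, (fun u => chkFix tab mwordsA u) u = true := ext_range (a := 74824) (len := 94) h796 m2_796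
  have h798 : ∀ u < 75012, (fun u => chkFix tab mwordsA u) u = true := ext_range (a := 74918) (len := 94) h797 m2_797
  have h799 : ∀ u < 75106, (fun u => chkFix tab mwordsA u) u = true := ext_range (a := 75012) (len := 94) h798 m2_798
  have h800 : ∀ u < 75200, (fun u => chkFix tab mwordsA u) u = true := ext_range (a := 75106) (len := 94) h799 m2_799
  have h801 : ∀ u < 75294, (fun u => chkFix tab mwordsA u) u = true := ext_range (a := 75200) (len := 94) h800 m2_800
  have h802 : ∀ u < 75388, (fun u => chkFix tab mwordsA u) u = true := ext_range (a := 75294) (len := 94) h801 m2_801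
  have h803 : ∀ u < 75482, (fun u => chkFix tab mwordsA u) u = true := ext_range (a := 75388) (len := 94) h802 m2_802
  have h804 : ∀ u < 75576, (fun u => chkFix tab mwordsA u) u = true := ext_range (a := 75482) (len := 94) h803 m2_803
  have h805 : ∀ u < 75670, (fun u => chkFix tab mwordsA u) u = true := ext_range (a := 75576) (len := 94) h804 m2_804
  have h806 : ∀ u < 75764, (fun u => chkFix tab mwordsA u) u = true := ext_range (a := 75670) (len := 94) h805 m2_805
  have h807 : ∀ u < 75858, (fun u => chkFix tab mwordsA u) u = true := ext_range (a := 75764) (len := 94) h806 m2_806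
  have h808 : ∀ u < 75952, (fun u => chkFix tab mwordsA u) u = true := ext_range (a := 75858) (len := 94) h807 m2_807
  have h809 : ∀ u < 76046, (fun u => chkFix tab mwordsA u) u = true := ext_range (a := 75952) (len := 94) h808 m2_808
  have h810 : ∀ u < 76140, (fun u => chkFix tab mwordsA u) u = true := ext_range (a := 76046) (len := 94) h809 m2_809
  have h811 : ∀ u < 76234, (fun u => chkFix tab mwordsA u) u = true := ext_range (a := 76140) (len := 94) h810 m2_810
  have h812 : ∀ u < 76328, (fun u => chkFix tab mwordsA u) u = true := ext_range (a := 76234) (len := 94) h811 m2_811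
  have h813 : ∀ u < 76422, (fun u => chkFix tab mwordsA u) u = true := ext_range (a := 76328) (len := 94) h812 m2_812
  have h814 : ∀ u < 76516, (fun u => chkFix tab mwordsA u) u = true := ext_range (a := 76422) (len := 94) h813 m2_813
  have h815 : ∀ u < 76610, (fun u => chkFix tab mwordsA u) u = true := ext_range (a := 76516) (len := 94) h814 m2_814
  have h816 : ∀ u < 76704, (fun u => chkFix tab mwordsA u) u = true := ext_range (a := 76610) (len := 94) h815 m2_815
  have h817 : ∀ u < 76798, (fun u => chkFix tab mwordsA u) u = true := ext_range (a := 76704) (len := 94) h816 m2_816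
  have h818 : ∀ u < 76892, (fun u => chkFix tab mwordsA u) u = true := ext_range (a := 76798) (len := 94) h817 m2_817
  have h819 : ∀ u < 76986, (fun u => chkFix tab mwordsA u) u = true := ext_range (a := 76892) (len := 94) h818 m2_818
  have h820 : ∀ u < 77080, (fun u => chkFix tab mwordsA u) u = true := ext_range (a := 76986) (len := 94) h819 m2_819
  have h821 : ∀ u < 77174, (fun u => chkFix tab mwordsA u) u = true := ext_range (a := 77080) (len := 94) h820 m2_820
  have h822 : ∀ u < 77268, (fun u => chkFix tab mwordsA u) u = true := ext_range (a := 77174) (len := 94) h821 m2_821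
  have h823 : ∀ u < 77362, (fun u => chkFix tab mwordsA u) u = true := ext_range (a := 77268) (len := 94) h822 m2_822
  have h824 : ∀ u < 77456, (fun u => chkFix tab mwordsA u) u = true := ext_range (a := 77362) (len := 94) h823 m2_823
  have h825 : ∀ u < 77550, (fun u => chkFix tab mwordsA u) u = true := ext_range (a := 77456) (len := 94) h824 m2_824
  have h826 : ∀ u < 77644, (fun u => chkFix tab mwordsA u) u = true := ext_range (a := 77550) (len := 94) h825 m2_825
  have h827 : ∀ u < 77738, (fun u => chkFix tab mwordsA u) u = true := ext_range (a := 77644) (len := 94) h826 m2_826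
  have h828 : ∀ u < 77832, (fun u => chkFix tab mwordsA u) u = true := ext_range (a := 77738) (len := 94) h827 m2_827
  have h829 : ∀ u < 77926, (fun u => chkFix tab mwordsA u) u = true := ext_range (a := 77832) (len := 94) h828 m2_828
  have h830 : ∀ u < 78020, (fun u => chkFix tab mwordsA u) u = true := ext_range (a := 77926) (len := 94) h829 m2_829
  have h831 : ∀ u < 78114, (fun u => chkFix tab mwordsA u) u = true := ext_range (a := 78020) (len := 94) h830 m2_830
  have h832 : ∀ u < 78208, (fun u => chkFix tab mwordsA u) u = true := ext_range (a := 78114) (len := 94) h831 m2_831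
  have h833 : ∀ u < 78302, (fun u => chkFix tab mwordsA u) u = true := ext_range (a := 78208) (len := 94) h832 m2_832
  have h834 : ∀ u < 78396, (fun u => chkFix tab mwordsA u) u = true := ext_range (a := 78302) (len := 94) h833 m2_833
  have h835 : ∀ u < 78490, (fun u => chkFix tab mwordsA u) u = true := ext_range (a := 78396) (len := 94) h834 m2_834
  have h836 : ∀ u < 78584, (fun u => chkFix tab mwordsA u) u = true := ext_range (a := 78490) (len := 94) h835 m2_835
  have h837 : ∀ u < 78678, (fun u => chkFix tab mwordsA u) u = true := ext_range (a := 78584) (len := 94) h836 m2_836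
  have h838 : ∀ u < 78772, (fun u => chkFix tab mwordsA u) u = true := ext_range (a := 78678) (len := 94) h837 m2_837
  have h839 : ∀ u < 78866, (fun u => chkFix tab mwordsA u) u = true := ext_range (a := 78772) (len := 94) h838 m2_838
  have h840 : ∀ u < 78960, (fun u => chkFix tab mwordsA u) u = true := ext_range (a := 78866) (len := 94) h839 m2_839
  have h841 : ∀ u < 79054, (fun u => chkFix tab mwordsA u) u = true := ext_range (a := 78960) (len := 94) h840 m2_840
  have h842 : ∀ u < 79148, (fun u => chkFix tab mwordsA u) u = true := ext_range (a := 79054) (len := 94) h841 m2_841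
  have h843 : ∀ u < 79242, (fun u => chkFix tab mwordsA u) u = true := ext_range (a := 79148) (len := 94) h842 m2_842
  have h844 : ∀ u < 79336, (fun u => chkFix tab mwordsA u) u = true := ext_range (a := 79242) (len := 94) h843 m2_843
  have h845 : ∀ u < 79430, (fun u => chkFix tab mwordsA u) u = true := ext_range (a := 79336) (len := 94) h844 m2_844
  have h846 : ∀ u < 79524, (fun u => chkFix tab mwordsA u) u = true := ext_range (a := 79430) (len := 94) h845 m2_845
  have h847 : ∀ u < 79618, (fun u => chkFix tab mwordsA u) u = true := ext_range (a := 79524) (len := 94) h846 m2_846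
  have h848 : ∀ u < 79712, (fun u => chkFix tab mwordsA u) u = true := ext_range (a := 79618) (len := 94) h847 m2_847
  have h849 : ∀ u < 79806, (fun u => chkFix tab mwordsA u) u = true := ext_range (a := 79712) (len := 94) h848 m2_848
  have h850 : ∀ u < 79900, (fun u => chkFix tab mwordsA u) u = true := ext_range (a := 79806) (len := 94) h849 m2_849
  have h851 : ∀ u < 79994, (fun u => chkFix tab mwordsA u) u = true := ext_range (a := 79900) (len := 94) h850 m2_850
  have h852 : ∀ u < 80088, (fun u => chkFix tab mwordsA u) u = true := ext_range (a := 79994) (len := 94) h851 m2_851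
  have h853 : ∀ u < 80182, (fun u => chkFix tab mwordsA u) u = true := ext_range (a := 80088) (len := 94) h852 m2_852
  have h854 : ∀ u < 80276, (fun u => chkFix tab mwordsA u) u = true := ext_range (a := 80182) (len := 94) h853 m2_853
  have h855 : ∀ u < 80370, (fun u => chkFix tab mwordsA u) u = true := ext_range (a := 80276) (len := 94) h854 m2_854
  have h856 : ∀ u < 80464, (fun u => chkFix tab mwordsA u) u = true := ext_range (a := 80370) (len := 94) h855 m2_855
  have h857 : ∀ u < 80558, (fun u => chkFix tab mwordsA u) u = true := ext_range (a := 80464) (len := 94) h856 m2_856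
  have h858 : ∀ u < 80652, (fun u => chkFix tab mwordsA u) u = true := ext_range (a := 80558) (len := 94) h857 m2_857
  have h859 : ∀ u < 80746, (fun u => chkFix tab mwordsA u) u = true := ext_range (a := 80652) (len := 94) h858 m2_858
  have h860 : ∀ u < 80840, (fun u => chkFix tab mwordsA u) u = true := ext_range (a := 80746) (len := 94) h859 m2_859
  have h861 : ∀ u < 80934, (fun u => chkFix tab mwordsA u) u = true := ext_range (a := 80840) (len := 94) h860 m2_860
  have h862 : ∀ u < 81028, (fun u => chkFix tab mwordsA u) u = true := ext_range (a := 80934) (len := 94) h861 m2_861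
  have h863 : ∀ u < 81122, (fun u => chkFix tab mwordsA u) u = true := ext_range (a := 81028) (len := 94) h862 m2_862
  have h864 : ∀ u < 81216, (fun u => chkFix tab mwordsA u) u = true := ext_range (a := 81122) (len := 94) h863 m2_863
  have h865 : ∀ u < 81310, (fun u => chkFix tab mwordsA u) u = true := ext_range (a := 81216) (len := 94) h864 m2_864
  have h866 : ∀ u < 81404, (fun u => chkFix tab mwordsA u) u = true := ext_range (a := 81310) (len := 94) h865 m2_865
  have h867 : ∀ u < 81498, (fun u => chkFix tab mwordsA u) u = true := ext_range (a := 81404) (len := 94) h866 m2_866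
  have h868 : ∀ u < 81592, (fun u => chkFix tab mwordsA u) u = true := ext_range (a := 81498) (len := 94) h867 m2_867
  have h869 : ∀ u < 81686, (fun u => chkFix tab mwordsA u) u = true := ext_range (a := 81592) (len := 94) h868 m2_868
  have h870 : ∀ u < 81780, (fun u => chkFix tab mwordsA u) u = true := ext_range (a := 81686) (len := 94) h869 m2_869
  have h871 : ∀ u < 81874, (fun u => chkFix tab mwordsA u) u = true := ext_range (a := 81780) (len := 94) h870 m2_870
  have h872 : ∀ u < 81968, (fun u => chkFix tab mwordsA u) u = true := ext_range (a := 81874) (len := 94) h871 m2_871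
  have h873 : ∀ u < 82062, (fun u => chkFix tab mwordsA u) u = true := ext_range (a := 81968) (len := 94) h872 m2_872
  have h874 : ∀ u < 82156, (fun u => chkFix tab mwordsA u) u = true := ext_range (a := 82062) (len := 94) h873 m2_873
  have h875 : ∀ u < 82250, (fun u => chkFix tab mwordsA u) u = true := ext_range (a := 82156) (len := 94) h874 m2_874
  have h876 : ∀ u < 82344, (fun u => chkFix tab mwordsA u) u = true := ext_range (a := 82250) (len := 94) h875 m2_875
  have h877 : ∀ u < 82438, (fun u => chkFix tab mwordsA u) u = true := ext_range (a := 82344) (len := 94) h876 m2_876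
  have h878 : ∀ u < 82532, (fun u => chkFix tab mwordsA u) u = true := ext_range (a := 82438) (len := 94) h877 m2_877
  have h879 : ∀ u < 82626, (fun u => chkFix tab mwordsA u) u = true := ext_range (a := 82532) (len := 94) h878 m2_878
  have h880 : ∀ u < 82720, (fun u => chkFix tab mwordsA u) u = true := ext_range (a := 82626) (len := 94) h879 m2_879
  have h881 : ∀ u < 82814, (fun u => chkFix tab mwordsA u) u = true := ext_range (a := 82720) (len := 94) h880 m2_880
  have h882 : ∀ u < 82908, (fun u => chkFix tab mwordsA u) u = true := ext_range (a := 82814) (len := 94) h881 m2_881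
  have h883 : ∀ u < 83002, (fun u => chkFix tab mwordsA u) u = true := ext_range (a := 82908) (len := 94) h882 m2_882
  have h884 : ∀ u < 83096, (fun u => chkFix tab mwordsA u) u = true := ext_range (a := 83002) (len := 94) h883 m2_883
  have h885 : ∀ u < 83190, (fun u => chkFix tab mwordsA u) u = true := ext_range (a := 83096) (len := 94) h884 m2_884
  have h886 : ∀ u < 83284, (fun u => chkFix tab mwordsA u) u = true := ext_range (a := 83190) (len := 94) h885 m2_885
  have h887 : ∀ u < 83378, (fun u => chkFix tab mwordsA u) u = true := ext_range (a := 83284) (len := 94) h886 m2_886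
  have h888 : ∀ u < 83472, (fun u => chkFix tab mwordsA u) u = true := ext_range (a := 83378) (len := 94) h887 m2_887
  have h889 : ∀ u < 83566, (fun u => chkFix tab mwordsA u) u = true := ext_range (a := 83472) (len := 94) h888 m2_888
  have h890 : ∀ u < 83660, (fun u => chkFix tab mwordsA u) u = true := ext_range (a := 83566) (len := 94) h889 m2_889
  have h891 : ∀ u < 83754, (fun u => chkFix tab mwordsA u) u = true := ext_range (a := 83660) (len := 94) h890 m2_890
  have h892 : ∀ u < 83848, (fun u => chkFix tab mwordsA u) u = true := ext_range (a := 83754) (len := 94) h891 m2_891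
  have h893 : ∀ u < 83942, (fun u => chkFix tab mwordsA u) u = true := ext_range (a := 83848) (len := 94) h892 m2_892
  have h894 : ∀ u < 84036, (fun u => chkFix tab mwordsA u) u = true := ext_range (a := 83942) (len := 94) h893 m2_893
  have h895 : ∀ u < 84130, (fun u => chkFix tab mwordsA u) u = true := ext_range (a := 84036) (len := 94) h894 m2_894
  have h896 : ∀ u < 84224, (fun u => chkFix tab mwordsA u) u = true := ext_range (a := 84130) (len := 94) h895 m2_895
  have h897 : ∀ u < 84318, (fun u => chkFix tab mwordsA u) u = true := ext_range (a := 84224) (len := 94) h896 m2_896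
  have h898 : ∀ u < 84412, (fun u => chkFix tab mwordsA u) u = true := ext_range (a := 84318) (len := 94) h897 m2_897
  have h899 : ∀ u < 84506, (fun u => chkFix tab mwordsA u) u = true := ext_range (a := 84412) (len := 94) h898 m2_898
  have h900 : ∀ u < 84600, (fun u => chkFix tab mwordsA u) u = true := ext_range (a := 84506) (len := 94) h899 m2_899
  have h901 : ∀ u < 84694, (fun u => chkFix tab mwordsA u) u = true := ext_range (a := 84600) (len := 94) h900 m2_900
  have h902 : ∀ u < 84788, (fun u => chkFix tab mwordsA u) u = true := ext_range (a := 84694) (len := 94) h901 m2_901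
  have h903 : ∀ u < 84882, (fun u => chkFix tab mwordsA u) u = true := ext_range (a := 84788) (len := 94) h902 m2_902
  have h904 : ∀ u < 84976, (fun u => chkFix tab mwordsA u) u = true := ext_range (a := 84882) (len := 94) h903 m2_903
  have h905 : ∀ u < 85070, (fun u => chkFix tab mwordsA u) u = true := ext_range (a := 84976) (len := 94) h904 m2_904
  have h906 : ∀ u < 85164, (fun u => chkFix tab mwordsA u) u = true := ext_range (a := 85070) (len := 94) h905 m2_905
  have h907 : ∀ u < 85258, (fun u => chkFix tab mwordsA u) u = true := ext_range (a := 85164) (len := 94) h906 m2_906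
  have h908 : ∀ u < 85352, (fun u => chkFix tab mwordsA u) u = true := ext_range (a := 85258) (len := 94) h907 m2_907
  have h909 : ∀ u < 85446, (fun u => chkFix tab mwordsA u) u = true := ext_range (a := 85352) (len := 94) h908 m2_908
  have h910 : ∀ u < 85540, (fun u => chkFix tab mwordsA u) u = true := ext_range (a := 85446) (len := 94) h909 m2_909
  have h911 : ∀ u < 85634, (fun u => chkFix tab mwordsA u) u = true := ext_range (a := 85540) (len := 94) h910 m2_910
  have h912 : ∀ u < 85728, (fun u => chkFix tab mwordsA u) u = true := ext_range (a := 85634) (len := 94) h911 m2_911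
  have h913 : ∀ u < 85822, (fun u => chkFix tab mwordsA u) u = true := ext_range (a := 85728) (len := 94) h912 m2_912
  have h914 : ∀ u < 85916, (fun u => chkFix tab mwordsA u) u = true := ext_range (a := 85822) (len := 94) h913 m2_913
  have h915 : ∀ u < 86010, (fun u => chkFix tab mwordsA u) u = true := ext_range (a := 85916) (len := 94) h914 m2_914
  have h916 : ∀ u < 86104, (fun u => chkFix tab mwordsA u) u = true := ext_range (a := 86010) (len := 94) h915 m2_915
  have h917 : ∀ u < 86198, (fun u => chkFix tab mwordsA u) u = true := ext_range (a := 86104) (len := 94) h916 m2_916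
  have h918 : ∀ u < 86292, (fun u => chkFix tab mwordsA u) u = true := ext_range (a := 86198) (len := 94) h917 m2_917
  have h919 : ∀ u < 86386, (fun u => chkFix tab mwordsA u) u = true := ext_range (a := 86292) (len := 94) h918 m2_918
  have h920 : ∀ u < 86480, (fun u => chkFix tab mwordsA u) u = true := ext_range (a := 86386) (len := 94) h919 m2_919
  have h921 : ∀ u < 86574, (fun u => chkFix tab mwordsA u) u = true := ext_range (a := 86480) (len := 94) h920 m2_920
  have h922 : ∀ u < 86668, (fun u => chkFix tab mwordsA u) u = true := ext_range (a := 86574) (len := 94) h921 m2_921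
  have h923 : ∀ u < 86762, (fun u => chkFix tab mwordsA u) u = true := ext_range (a := 86668) (len := 94) h922 m2_922
  have h924 : ∀ u < 86856, (fun u => chkFix tab mwordsA u) u = true := ext_range (a := 86762) (len := 94) h923 m2_923
  have h925 : ∀ u < 86950, (fun u => chkFix tab mwordsA u) u = true := ext_range (a := 86856) (len := 94) h924 m2_924
  have h926 : ∀ u < 87044, (fun u => chkFix tab mwordsA u) u = true := ext_range (a := 86950) (len := 94) h925 m2_925
  have h927 : ∀ u < 87138, (fun u => chkFix tab mwordsA u) u = true := ext_range (a := 87044) (len := 94) h926 m2_926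
  have h928 : ∀ u < 87232, (fun u => chkFix tab mwordsA u) u = true := ext_range (a := 87138) (len := 94) h927 m2_927
  have h929 : ∀ u < 87326, (fun u => chkFix tab mwordsA u) u = true := ext_range (a := 87232) (len := 94) h928 m2_928
  have h930 : ∀ u < 87420, (fun u => chkFix tab mwordsA u) u = true := ext_range (a := 87326) (len := 94) h929 m2_929
  have h931 : ∀ u < 87514, (fun u => chkFix tab mwordsA u) u = true := ext_range (a := 87420) (len := 94) h930 m2_930
  have h932 : ∀ u < 87608, (fun u => chkFix tab mwordsA u) u = true := ext_range (a := 87514) (len := 94) h931 m2_931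
  have h933 : ∀ u < 87702, (fun u => chkFix tab mwordsA u) u = true := ext_range (a := 87608) (len := 94) h932 m2_932
  have h934 : ∀ u < 87796, (fun u => chkFix tab mwordsA u) u = true := ext_range (a := 87702) (len := 94) h933 m2_933
  have h935 : ∀ u < 87890, (fun u => chkFix tab mwordsA u) u = true := ext_range (a := 87796) (len := 94) h934 m2_934
  have h936 : ∀ u < 87984, (fun u => chkFix tab mwordsA u) u = true := ext_range (a := 87890) (len := 94) h935 m2_935
  have h937 : ∀ u < 88078, (fun u => chkFix tab mwordsA u) u = true := ext_range (a := 87984) (len := 94) h936 m2_936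
  have h938 : ∀ u < 88172, (fun u => chkFix tab mwordsA u) u = true := ext_range (a := 88078) (len := 94) h937 m2_937
  have h939 : ∀ u < 88266, (fun u => chkFix tab mwordsA u) u = true := ext_range (a := 88172) (len := 94) h938 m2_938
  have h940 : ∀ u < 88360, (fun u => chkFix tab mwordsA u) u = true := ext_range (a := 88266) (len := 94) h939 m2_939
  have h941 : ∀ u < 88454, (fun u => chkFix tab mwordsA u) u = true := ext_range (a := 88360) (len := 94) h940 m2_940
  have h942 : ∀ u < 88548, (fun u => chkFix tab mwordsA u) u = true := ext_range (a := 88454) (len := 94) h941 m2_941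
  have h943 : ∀ u < 88642, (fun u => chkFix tab mwordsA u) u = true := ext_range (a := 88548) (len := 94) h942 m2_942
  have h944 : ∀ u < 88736, (fun u => chkFix tab mwordsA u) u = true := ext_range (a := 88642) (len := 94) h943 m2_943
  have h945 : ∀ u < 88830, (fun u => chkFix tab mwordsA u) u = true := ext_range (a := 88736) (len := 94) h944 m2_944
  have h946 : ∀ u < 88924, (fun u => chkFix tab mwordsA u) u = true := ext_range (a := 88830) (len := 94) h945 m2_945
  have h947 : ∀ u < 89018, (fun u => chkFix tab mwordsA u) u = true := ext_range (a := 88924) (len := 94) h946 m2_946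
  have h948 : ∀ u < 89112, (fun u => chkFix tab mwordsA u) u = true := ext_range (a := 89018) (len := 94) h947 m2_947
  have h949 : ∀ u < 89206, (fun u => chkFix tab mwordsA u) u = true := ext_range (a := 89112) (len := 94) h948 m2_948
  have h950 : ∀ u < 89300, (fun u => chkFix tab mwordsA u) u = true := ext_range (a := 89206) (len := 94) h949 m2_949
  have h951 : ∀ u < 89394, (fun u => chkFix tab mwordsA u) u = true := ext_range (a := 89300) (len := 94) h950 m2_950
  have h952 : ∀ u < 89488, (fun u => chkFix tab mwordsA u) u = true := ext_range (a := 89394) (len := 94) h951 m2_951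
  have h953 : ∀ u < 89582, (fun u => chkFix tab mwordsA u) u = true := ext_range (a := 89488) (len := 94) h952 m2_952
  have h954 : ∀ u < 89676, (fun u => chkFix tab mwordsA u) u = true := ext_range (a := 89582) (len := 94) h953 m2_953
  have h955 : ∀ u < 89770, (fun u => chkFix tab mwordsA u) u = true := ext_range (a := 89676) (len := 94) h954 m2_954
  have h956 : ∀ u < 89864, (fun u => chkFix tab mwordsA u) u = true := ext_range (a := 89770) (len := 94) h955 m2_955
  have h957 : ∀ u < 89958, (fun u => chkFix tab mwordsA u) u = true := ext_range (a := 89864) (len := 94) h956 m2_956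
  have h958 : ∀ u < 90052, (fun u => chkFix tab mwordsA u) u = true := ext_range (a := 89958) (len := 94) h957 m2_957
  have h959 : ∀ u < 90146, (fun u => chkFix tab mwordsA u) u = true := ext_range (a := 90052) (len := 94) h958 m2_958
  have h960 : ∀ u < 90240, (fun u => chkFix tab mwordsA u) u = true := ext_range (a := 90146) (len := 94) h959 m2_959
  have h961 : ∀ u < 90334, (fun u => chkFix tab mwordsA u) u = true := ext_range (a := 90240) (len := 94) h960 m2_960
  have h962 : ∀ u < 90428, (fun u => chkFix tab mwordsA u) u = true := ext_range (a := 90334) (len := 94) h961 m2_961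
  have h963 : ∀ u < 90522, (fun u => chkFix tab mwordsA u) u = true := ext_range (a := 90428) (len := 94) h962 m2_962
  have h964 : ∀ u < 90616, (fun u => chkFix tab mwordsA u) u = true := ext_range (a := 90522) (len := 94) h963 m2_963
  have h965 : ∀ u < 90710, (fun u => chkFix tab mwordsA u) u = true := ext_range (a := 90616) (len := 94) h964 m2_964
  have h966 : ∀ u < 90804, (fun u => chkFix tab mwordsA u) u = true := ext_range (a := 90710) (len := 94) h965 m2_965
  have h967 : ∀ u < 90898, (fun u => chkFix tab mwordsA u) u = true := ext_range (a := 90804) (len := 94) h966 m2_966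
  have h968 : ∀ u < 90992, (fun u => chkFix tab mwordsA u) u = true := ext_range (a := 90898) (len := 94) h967 m2_967
  have h969 : ∀ u < 91086, (fun u => chkFix tab mwordsA u) u = true := ext_range (a := 90992) (len := 94) h968 m2_968
  have h970 : ∀ u < 91180, (fun u => chkFix tab mwordsA u) u = true := ext_range (a := 91086) (len := 94) h969 m2_969
  have h971 : ∀ u < 91274, (fun u => chkFix tab mwordsA u) u = true := ext_range (a := 91180) (len := 94) h970 m2_970
  have h972 : ∀ u < 91368, (fun u => chkFix tab mwordsA u) u = true := ext_range (a := 91274) (len := 94) h971 m2_971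
  have h973 : ∀ u < 91462, (fun u => chkFix tab mwordsA u) u = true := ext_range (a := 91368) (len := 94) h972 m2_972
  have h974 : ∀ u < 91556, (fun u => chkFix tab mwordsA u) u = true := ext_range (a := 91462) (len := 94) h973 m2_973
  have h975 : ∀ u < 91650, (fun u => chkFix tab mwordsA u) u = true := ext_range (a := 91556) (len := 94) h974 m2_974
  have h976 : ∀ u < 91744, (fun u => chkFix tab mwordsA u) u = true := ext_range (a := 91650) (len := 94) h975 m2_975
  have h977 : ∀ u < 91838, (fun u => chkFix tab mwordsA u) u = true := ext_range (a := 91744) (len := 94) h976 m2_976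
  have h978 : ∀ u < 91932, (fun u => chkFix tab mwordsA u) u = true := ext_range (a := 91838) (len := 94) h977 m2_977
  have h979 : ∀ u < 92026, (fun u => chkFix tab mwordsA u) u = true := ext_range (a := 91932) (len := 94) h978 m2_978
  have h980 : ∀ u < 92120, (fun u => chkFix tab mwordsA u) u = true := ext_range (a := 92026) (len := 94) h979 m2_979
  have h981 : ∀ u < 92214, (fun u => chkFix tab mwordsA u) u = true := ext_range (a := 92120) (len := 94) h980 m2_980
  have h982 : ∀ u < 92308, (fun u => chkFix tab mwordsA u) u = true := ext_range (a := 92214) (len := 94) h981 m2_981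
  have h983 : ∀ u < 92402, (fun u => chkFix tab mwordsA u) u = true := ext_range (a := 92308) (len := 94) h982 m2_982
  have h984 : ∀ u < 92496, (fun u => chkFix tab mwordsA u) u = true := ext_range (a := 92402) (len := 94) h983 m2_983
  have h985 : ∀ u < 92590, (fun u => chkFix tab mwordsA u) u = true := ext_range (a := 92496) (len := 94) h984 m2_984
  have h986 : ∀ u < 92684, (fun u => chkFix tab mwordsA u) u = true := ext_range (a := 92590) (len := 94) h985 m2_985
  have h987 : ∀ u < 92778, (fun u => chkFix tab mwordsA u) u = true := ext_range (a := 92684) (len := 94) h986 m2_986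
  have h988 : ∀ u < 92872, (fun u => chkFix tab mwordsA u) u = true := ext_range (a := 92778) (len := 94) h987 m2_987
  have h989 : ∀ u < 92966, (fun u => chkFix tab mwordsA u) u = true := ext_range (a := 92872) (len := 94) h988 m2_988
  have h990 : ∀ u < 93060, (fun u => chkFix tab mwordsA u) u = true := ext_range (a := 92966) (len := 94) h989 m2_989
  have h991 : ∀ u < 93154, (fun u => chkFix tab mwordsA u) u = true := ext_range (a := 93060) (len := 94) h990 m2_990
  have h992 : ∀ u < 93248, (fun u => chkFix tab mwordsA u) u = true := ext_range (a := 93154) (len := 94) h991 m2_991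
  have h993 : ∀ u < 93342, (fun u => chkFix tab mwordsA u) u = true := ext_range (a := 93248) (len := 94) h992 m2_992
  have h994 : ∀ u < 93436, (fun u => chkFix tab mwordsA u) u = true := ext_range (a := 93342) (len := 94) h993 m2_993
  have h995 : ∀ u < 93530, (fun u => chkFix tab mwordsA u) u = true := ext_range (a := 93436) (len := 94) h994 m2_994
  have h996 : ∀ u < 93624, (fun u => chkFix tab mwordsA u) u = true := ext_range (a := 93530) (len := 94) h995 m2_995
  have h997 : ∀ u < 93718, (fun u => chkFix tab mwordsA u) u = true := ext_range (a := 93624) (len := 94) h996 m2_996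
  have h998 : ∀ u < 93812, (fun u => chkFix tab mwordsA u) u = true := ext_range (a := 93718) (len := 94) h997 m2_997
  have h999 : ∀ u < 93906, (fun u => chkFix tab mwordsA u) u = true := ext_range (a := 93812) (len := 94) h998 m2_998
  have h1000 : ∀ u < 94000, (fun u => chkFix tab mwordsA u) u = true := ext_range (a := 93906) (len := 94) h999 m2_999
  have h1001 : ∀ u < 94094, (fun u => chkFix tab mwordsA u) u = true := ext_range (a := 94000) (len := 94) h1000 m2_1000
  have h1002 : ∀ u < 94188, (fun u => chkFix tab mwordsA u) u = true := ext_range (a := 94094) (len := 94) h1001 m2_1001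
  have h1003 : ∀ u < 94282, (fun u => chkFix tab mwordsA u) u = true := ext_range (a := 94188) (len := 94) h1002 m2_1002
  have h1004 : ∀ u < 94376, (fun u => chkFix tab mwordsA u) u = true := ext_range (a := 94282) (len := 94) h1003 m2_1003
  have h1005 : ∀ u < 94470, (fun u => chkFix tab mwordsA u) u = true := ext_range (a := 94376) (len := 94) h1004 m2_1004
  have h1006 : ∀ u < 94564, (fun u => chkFix tab mwordsA u) u = true := ext_range (a := 94470) (len := 94) h1005 m2_1005
  have h1007 : ∀ u < 94658, (fun u => chkFix tab mwordsA u) u = true := ext_range (a := 94564) (len := 94) h1006 m2_1006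
  have h1008 : ∀ u < 94752, (fun u => chkFix tab mwordsA u) u = true := ext_range (a := 94658) (len := 94) h1007 m2_1007
  have h1009 : ∀ u < 94846, (fun u => chkFix tab mwordsA u) u = true := ext_range (a := 94752) (len := 94) h1008 m2_1008
  have h1010 : ∀ u < 94940, (fun u => chkFix tab mwordsA u) u = true := ext_range (a := 94846) (len := 94) h1009 m2_1009
  have h1011 : ∀ u < 95034, (fun u => chkFix tab mwordsA u) u = true := ext_range (a := 94940) (len := 94) h1010 m2_1010
  have h1012 : ∀ u < 95128, (fun u => chkFix tab mwordsA u) u = true := ext_range (a := 95034) (len := 94) h1011 m2_1011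
  have h1013 : ∀ u < 95222, (fun u => chkFix tab mwordsA u) u = true := ext_range (a := 95128) (len := 94) h1012 m2_1012
  have h1014 : ∀ u < 95316, (fun u => chkFix tab mwordsA u) u = true := ext_range (a := 95222) (len := 94) h1013 m2_1013
  have h1015 : ∀ u < 95410, (fun u => chkFix tab mwordsA u) u = true := ext_range (a := 95316) (len := 94) h1014 m2_1014
  have h1016 : ∀ u < 95504, (fun u => chkFix tab mwordsA u) u = true := ext_range (a := 95410) (len := 94) h1015 m2_1015
  have h1017 : ∀ u < 95598, (fun u => chkFix tab mwordsA u) u = true := ext_range (a := 95504) (len := 94) h1016 m2_1016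
  have h1018 : ∀ u < 95692, (fun u => chkFix tab mwordsA u) u = true := ext_range (a := 95598) (len := 94) h1017 m2_1017
  have h1019 : ∀ u < 95786, (fun u => chkFix tab mwordsA u) u = true := ext_range (a := 95692) (len := 94) h1018 m2_1018
  have h1020 : ∀ u < 95880, (fun u => chkFix tab mwordsA u) u = true := ext_range (a := 95786) (len := 94) h1019 m2_1019
  have h1021 : ∀ u < 95974, (fun u => chkFix tab mwordsA u) u = true := ext_range (a := 95880) (len := 94) h1020 m2_1020
  have h1022 : ∀ u < 96068, (fun u => chkFix tab mwordsA u) u = true := ext_range (a := 95974) (len := 94) h1021 m2_1021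
  have h1023 : ∀ u < 96162, (fun u => chkFix tab mwordsA u) u = true := ext_range (a := 96068) (len := 94) h1022 m2_1022
  have h1024 : ∀ u < 96256, (fun u => chkFix tab mwordsA u) u = true := ext_range (a := 96162) (len := 94) h1023 m2_1023
  have h1025 : ∀ u < 96350, (fun u => chkFix tab mwordsA u) u = true := ext_range (a := 96256) (len := 94) h1024 m2_1024
  have h1026 : ∀ u < 96444, (fun u => chkFix tab mwordsA u) u = true := ext_range (a := 96350) (len := 94) h1025 m2_1025
  have h1027 : ∀ u < 96538, (fun u => chkFix tab mwordsA u) u = true := ext_range (a := 96444) (len := 94) h1026 m2_1026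
  have h1028 : ∀ u < 96632, (fun u => chkFix tab mwordsA u) u = true := ext_range (a := 96538) (len := 94) h1027 m2_1027
  have h1029 : ∀ u < 96726, (fun u => chkFix tab mwordsA u) u = true := ext_range (a := 96632) (len := 94) h1028 m2_1028
  have h1030 : ∀ u < 96820, (fun u => chkFix tab mwordsA u) u = true := ext_range (a := 96726) (len := 94) h1029 m2_1029
  have h1031 : ∀ u < 96914, (fun u => chkFix tab mwordsA u) u = true := ext_range (a := 96820) (len := 94) h1030 m2_1030
  have h1032 : ∀ u < 97008, (fun u => chkFix tab mwordsA u) u = true := ext_range (a := 96914) (len := 94) h1031 m2_1031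
  have h1033 : ∀ u < 97102, (fun u => chkFix tab mwordsA u) u = true := ext_range (a := 97008) (len := 94) h1032 m2_1032
  have h1034 : ∀ u < 97196, (fun u => chkFix tab mwordsA u) u = true := ext_range (a := 97102) (len := 94) h1033 m2_1033
  have h1035 : ∀ u < 97290, (fun u => chkFix tab mwordsA u) u = true := ext_range (a := 97196) (len := 94) h1034 m2_1034
  have h1036 : ∀ u < 97384, (fun u => chkFix tab mwordsA u) u = true := ext_range (a := 97290) (len := 94) h1035 m2_1035
  have h1037 : ∀ u < 97478, (fun u => chkFix tab mwordsA u) u = true := ext_range (a := 97384) (len := 94) h1036 m2_1036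
  have h1038 : ∀ u < 97572, (fun u => chkFix tab mwordsA u) u = true := ext_range (a := 97478) (len := 94) h1037 m2_1037
  have h1039 : ∀ u < 97666, (fun u => chkFix tab mwordsA u) u = true := ext_range (a := 97572) (len := 94) h1038 m2_1038
  have h1040 : ∀ u < 97760, (fun u => chkFix tab mwordsA u) u = true := ext_range (a := 97666) (len := 94) h1039 m2_1039
  have h1041 : ∀ u < 97854, (fun u => chkFix tab mwordsA u) u = true := ext_range (a := 97760) (len := 94) h1040 m2_1040
  have h1042 : ∀ u < 97948, (fun u => chkFix tab mwordsA u) u = true := ext_range (a := 97854) (len := 94) h1041 m2_1041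
  have h1043 : ∀ u < 98042, (fun u => chkFix tab mwordsA u) u = true := ext_range (a := 97948) (len := 94) h1042 m2_1042
  have h1044 : ∀ u < 98136, (fun u => chkFix tab mwordsA u) u = true := ext_range (a := 98042) (len := 94) h1043 m2_1043
  have h1045 : ∀ u < 98230, (fun u => chkFix tab mwordsA u) u = true := ext_range (a := 98136) (len := 94) h1044 m2_1044
  have h1046 : ∀ u < 98324, (fun u => chkFix tab mwordsA u) u = true := ext_range (a := 98230) (len := 94) h1045 m2_1045
  have h1047 : ∀ u < 98418, (fun u => chkFix tab mwordsA u) u = true := ext_range (a := 98324) (len := 94) h1046 m2_1046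
  have h1048 : ∀ u < 98512, (fun u => chkFix tab mwordsA u) u = true := ext_range (a := 98418) (len := 94) h1047 m2_1047
  have h1049 : ∀ u < 98606, (fun u => chkFix tab mwordsA u) u = true := ext_range (a := 98512) (len := 94) h1048 m2_1048
  have h1050 : ∀ u < 98700, (fun u => chkFix tab mwordsA u) u = true := ext_range (a := 98606) (len := 94) h1049 m2_1049
  have h1051 : ∀ u < 98794, (fun u => chkFix tab mwordsA u) u = true := ext_range (a := 98700) (len := 94) h1050 m2_1050
  have h1052 : ∀ u < 98888, (fun u => chkFix tab mwordsA u) u = true := ext_range (a := 98794) (len := 94) h1051 m2_1051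
  have h1053 : ∀ u < 98982, (fun u => chkFix tab mwordsA u) u = true := ext_range (a := 98888) (len := 94) h1052 m2_1052
  have h1054 : ∀ u < 99076, (fun u => chkFix tab mwordsA u) u = true := ext_range (a := 98982) (len := 94) h1053 m2_1053
  have h1055 : ∀ u < 99170, (fun u => chkFix tab mwordsA u) u = true := ext_range (a := 99076) (len := 94) h1054 m2_1054
  have h1056 : ∀ u < 99264, (fun u => chkFix tab mwordsA u) u = true := ext_range (a := 99170) (len := 94) h1055 m2_1055
  have h1057 : ∀ u < 99358, (fun u => chkFix tab mwordsA u) u = true := ext_range (a := 99264) (len := 94) h1056 m2_1056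
  have h1058 : ∀ u < 99452, (fun u => chkFix tab mwordsA u) u = true := ext_range (a := 99358) (len := 94) h1057 m2_1057
  have h1059 : ∀ u < 99546, (fun u => chkFix tab mwordsA u) u = true := ext_range (a := 99452) (len := 94) h1058 m2_1058
  have h1060 : ∀ u < 99640, (fun u => chkFix tab mwordsA u) u = true := ext_range (a := 99546) (len := 94) h1059 m2_1059
  have h1061 : ∀ u < 99734, (fun u => chkFix tab mwordsA u) u = true := ext_range (a := 99640) (len := 94) h1060 m2_1060
  have h1062 : ∀ u < 99828, (fun u => chkFix tab mwordsA u) u = true := ext_range (a := 99734) (len := 94) h1061 m2_1061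
  have h1063 : ∀ u < 99922, (fun u => chkFix tab mwordsA u) u = true := ext_range (a := 99828) (len := 94) h1062 m2_1062
  have h1064 : ∀ u < 100016, (fun u => chkFix tab mwordsA u) u = true := ext_range (a := 99922) (len := 94) h1063 m2_1063
  have h1065 : ∀ u < 100110, (fun u => chkFix tab mwordsA u) u = true := ext_range (a := 100016) (len := 94) h1064 m2_1064
  have h1066 : ∀ u < 100204, (fun u => chkFix tab mwordsA u) u = true := ext_range (a := 100110) (len := 94) h1065 m2_1065
  have h1067 : ∀ u < 100298, (fun u => chkFix tab mwordsA u) u = true := ext_range (a := 100204) (len := 94) h1066 m2_1066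
  have h1068 : ∀ u < 100392, (fun u => chkFix tab mwordsA u) u = true := ext_range (a := 100298) (len := 94) h1067 m2_1067
  have h1069 : ∀ u < 100486, (fun u => chkFix tab mwordsA u) u = true := ext_range (a := 100392) (len := 94) h1068 m2_1068
  have h1070 : ∀ u < 100580, (fun u => chkFix tab mwordsA u) u = true := ext_range (a := 100486) (len := 94) h1069 m2_1069
  have h1071 : ∀ u < 100674, (fun u => chkFix tab mwordsA u) u = true := ext_range (a := 100580) (len := 94) h1070 m2_1070
  have h1072 : ∀ u < 100768, (fun u => chkFix tab mwordsA u) u = true := ext_range (a := 100674) (len := 94) h1071 m2_1071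
  have h1073 : ∀ u < 100862, (fun u => chkFix tab mwordsA u) u = true := ext_range (a := 100768) (len := 94) h1072 m2_1072
  have h1074 : ∀ u < 100956, (fun u => chkFix tab mwordsA u) u = true := ext_range (a := 100862) (len := 94) h1073 m2_1073
  have h1075 : ∀ u < 101050, (fun u => chkFix tab mwordsA u) u = true := ext_range (a := 100956) (len := 94) h1074 m2_1074
  have h1076 : ∀ u < 101144, (fun u => chkFix tab mwordsA u) u = true := ext_range (a := 101050) (len := 94) h1075 m2_1075
  have h1077 : ∀ u < 101238, (fun u => chkFix tab mwordsA u) u = true := ext_range (a := 101144) (len := 94) h1076 m2_1076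
  have h1078 : ∀ u < 101332, (fun u => chkFix tab mwordsA u) u = true := ext_range (a := 101238) (len := 94) h1077 m2_1077
  have h1079 : ∀ u < 101426, (fun u => chkFix tab mwordsA u) u = true := ext_range (a := 101332) (len := 94) h1078 m2_1078
  have h1080 : ∀ u < 101520, (fun u => chkFix tab mwordsA u) u = true := ext_range (a := 101426) (len := 94) h1079 m2_1079
  have h1081 : ∀ u < 101614, (fun u => chkFix tab mwordsA u) u = true := ext_range (a := 101520) (len := 94) h1080 m2_1080
  have h1082 : ∀ u < 101708, (fun u => chkFix tab mwordsA u) u = true := ext_range (a := 101614) (len := 94) h1081 m2_1081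
  have h1083 : ∀ u < 101802, (fun u => chkFix tab mwordsA u) u = true := ext_range (a := 101708) (len := 94) h1082 m2_1082
  have h1084 : ∀ u < 101896, (fun u => chkFix tab mwordsA u) u = true := ext_range (a := 101802) (len := 94) h1083 m2_1083
  have h1085 : ∀ u < 101990, (fun u => chkFix tab mwordsA u) u = true := ext_range (a := 101896) (len := 94) h1084 m2_1084
  have h1086 : ∀ u < 102084, (fun u => chkFix tab mwordsA u) u = true := ext_range (a := 101990) (len := 94) h1085 m2_1085
  have h1087 : ∀ u < 102178, (fun u => chkFix tab mwordsA u) u = true := ext_range (a := 102084) (len := 94) h1086 m2_1086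
  have h1088 : ∀ u < 102272, (fun u => chkFix tab mwordsA u) u = true := ext_range (a := 102178) (len := 94) h1087 m2_1087
  have h1089 : ∀ u < 102366, (fun u => chkFix tab mwordsA u) u = true := ext_range (a := 102272) (len := 94) h1088 m2_1088
  have h1090 : ∀ u < 102460, (fun u => chkFix tab mwordsA u) u = true := ext_range (a := 102366) (len := 94) h1089 m2_1089
  have h1091 : ∀ u < 102554, (fun u => chkFix tab mwordsA u) u = true := ext_range (a := 102460) (len := 94) h1090 m2_1090
  have h1092 : ∀ u < 102648, (fun u => chkFix tab mwordsA u) u = true := ext_range (a := 102554) (len := 94) h1091 m2_1091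
  have h1093 : ∀ u < 102742, (fun u => chkFix tab mwordsA u) u = true := ext_range (a := 102648) (len := 94) h1092 m2_1092
  have h1094 : ∀ u < 102836, (fun u => chkFix tab mwordsA u) u = true := ext_range (a := 102742) (len := 94) h1093 m2_1093
  have h1095 : ∀ u < 102930, (fun u => chkFix tab mwordsA u) u = true := ext_range (a := 102836) (len := 94) h1094 m2_1094
  have h1096 : ∀ u < 103024, (fun u => chkFix tab mwordsA u) u = true := ext_range (a := 102930) (len := 94) h1095 m2_1095
  have h1097 : ∀ u < 103118, (fun u => chkFix tab mwordsA u) u = true := ext_range (a := 103024) (len := 94) h1096 m2_1096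
  have h1098 : ∀ u < 103212, (fun u => chkFix tab mwordsA u) u = true := ext_range (a := 103118) (len := 94) h1097 m2_1097
  have h1099 : ∀ u < 103306, (fun u => chkFix tab mwordsA u) u = true := ext_range (a := 103212) (len := 94) h1098 m2_1098
  have h1100 : ∀ u < 103400, (fun u => chkFix tab mwordsA u) u = true := ext_range (a := 103306) (len := 94) h1099 m2_1099
  have h1101 : ∀ u < 103494, (fun u => chkFix tab mwordsA u) u = true := ext_range (a := 103400) (len := 94) h1100 m2_1100
  have h1102 : ∀ u < 103588, (fun u => chkFix tab mwordsA u) u = true := ext_range (a := 103494) (len := 94) h1101 m2_1101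
  have h1103 : ∀ u < 103682, (fun u => chkFix tab mwordsA u) u = true := ext_range (a := 103588) (len := 94) h1102 m2_1102
  have h1104 : ∀ u < 103776, (fun u => chkFix tab mwordsA u) u = true := ext_range (a := 103682) (len := 94) h1103 m2_1103
  have h1105 : ∀ u < 103870, (fun u => chkFix tab mwordsA u) u = true := ext_range (a := 103776) (len := 94) h1104 m2_1104
  have h1106 : ∀ u < 103964, (fun u => chkFix tab mwordsA u) u = true := ext_range (a := 103870) (len := 94) h1105 m2_1105
  have h1107 : ∀ u < 104058, (fun u => chkFix tab mwordsA u) u = true := ext_range (a := 103964) (len := 94) h1106 m2_1106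
  have h1108 : ∀ u < 104152, (fun u => chkFix tab mwordsA u) u = true := ext_range (a := 104058) (len := 94) h1107 m2_1107
  have h1109 : ∀ u < 104246, (fun u => chkFix tab mwordsA u) u = true := ext_range (a := 104152) (len := 94) h1108 m2_1108
  have h1110 : ∀ u < 104340, (fun u => chkFix tab mwordsA u) u = true := ext_range (a := 104246) (len := 94) h1109 m2_1109
  have h1111 : ∀ u < 104434, (fun u => chkFix tab mwordsA u) u = true := ext_range (a := 104340) (len := 94) h1110 m2_1110
  have h1112 : ∀ u < 104528, (fun u => chkFix tab mwordsA u) u = true := ext_range (a := 104434) (len := 94) h1111 m2_1111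
  have h1113 : ∀ u < 104622, (fun u => chkFix tab mwordsA u) u = true := ext_range (a := 104528) (len := 94) h1112 m2_1112
  have h1114 : ∀ u < 104716, (fun u => chkFix tab mwordsA u) u = true := ext_range (a := 104622) (len := 94) h1113 m2_1113
  have h1115 : ∀ u < 104810, (fun u => chkFix tab mwordsA u) u = true := ext_range (a := 104716) (len := 94) h1114 m2_1114
  have h1116 : ∀ u < 104904, (fun u => chkFix tab mwordsA u) u = true := ext_range (a := 104810) (len := 94) h1115 m2_1115
  have h1117 : ∀ u < 104998, (fun u => chkFix tab mwordsA u) u = true := ext_range (a := 104904) (len := 94) h1116 m2_1116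
  have h1118 : ∀ u < 105092, (fun u => chkFix tab mwordsA u) u = true := ext_range (a := 104998) (len := 94) h1117 m2_1117
  have h1119 : ∀ u < 105186, (fun u => chkFix tab mwordsA u) u = true := ext_range (a := 105092) (len := 94) h1118 m2_1118
  have h1120 : ∀ u < 105280, (fun u => chkFix tab mwordsA u) u = true := ext_range (a := 105186) (len := 94) h1119 m2_1119
  have h1121 : ∀ u < 105374, (fun u => chkFix tab mwordsA u) u = true := ext_range (a := 105280) (len := 94) h1120 m2_1120
  have h1122 : ∀ u < 105468, (fun u => chkFix tab mwordsA u) u = true := ext_range (a := 105374) (len := 94) h1121 m2_1121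
  have h1123 : ∀ u < 105562, (fun u => chkFix tab mwordsA u) u = true := ext_range (a := 105468) (len := 94) h1122 m2_1122
  have h1124 : ∀ u < 105656, (fun u => chkFix tab mwordsA u) u = true := ext_range (a := 105562) (len := 94) h1123 m2_1123
  have h1125 : ∀ u < 105750, (fun u => chkFix tab mwordsA u) u = true := ext_range (a := 105656) (len := 94) h1124 m2_1124
  have h1126 : ∀ u < 105844, (fun u => chkFix tab mwordsA u) u = true := ext_range (a := 105750) (len := 94) h1125 m2_1125
  have h1127 : ∀ u < 105938, (fun u => chkFix tab mwordsA u) u = true := ext_range (a := 105844) (len := 94) h1126 m2_1126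
  have h1128 : ∀ u < 106032, (fun u => chkFix tab mwordsA u) u = true := ext_range (a := 105938) (len := 94) h1127 m2_1127
  have h1129 : ∀ u < 106126, (fun u => chkFix tab mwordsA u) u = true := ext_range (a := 106032) (len := 94) h1128 m2_1128
  have h1130 : ∀ u < 106220, (fun u => chkFix tab mwordsA u) u = true := ext_range (a := 106126) (len := 94) h1129 m2_1129
  have h1131 : ∀ u < 106314, (fun u => chkFix tab mwordsA u) u = true := ext_range (a := 106220) (len := 94) h1130 m2_1130
  have h1132 : ∀ u < 106408, (fun u => chkFix tab mwordsA u) u = true := ext_range (a := 106314) (len := 94) h1131 m2_1131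
  have h1133 : ∀ u < 106502, (fun u => chkFix tab mwordsA u) u = true := ext_range (a := 106408) (len := 94) h1132 m2_1132
  have h1134 : ∀ u < 106596, (fun u => chkFix tab mwordsA u) u = true := ext_range (a := 106502) (len := 94) h1133 m2_1133
  have h1135 : ∀ u < 106690, (fun u => chkFix tab mwordsA u) u = true := ext_range (a := 106596) (len := 94) h1134 m2_1134
  have h1136 : ∀ u < 106784, (fun u => chkFix tab mwordsA u) u = true := ext_range (a := 106690) (len := 94) h1135 m2_1135
  have h1137 : ∀ u < 106878, (fun u => chkFix tab mwordsA u) u = true := ext_range (a := 106784) (len := 94) h1136 m2_1136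
  have h1138 : ∀ u < 106972, (fun u => chkFix tab mwordsA u) u = true := ext_range (a := 106878) (len := 94) h1137 m2_1137
  have h1139 : ∀ u < 107066, (fun u => chkFix tab mwordsA u) u = true := ext_range (a := 106972) (len := 94) h1138 m2_1138
  have h1140 : ∀ u < 107160, (fun u => chkFix tab mwordsA u) u = true := ext_range (a := 107066) (len := 94) h1139 m2_1139
  have h1141 : ∀ u < 107254, (fun u => chkFix tab mwordsA u) u = true := ext_range (a := 107160) (len := 94) h1140 m2_1140
  have h1142 : ∀ u < 107348, (fun u => chkFix tab mwordsA u) u = true := ext_range (a := 107254) (len := 94) h1141 m2_1141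
  have h1143 : ∀ u < 107442, (fun u => chkFix tab mwordsA u) u = true := ext_range (a := 107348) (len := 94) h1142 m2_1142
  have h1144 : ∀ u < 107536, (fun u => chkFix tab mwordsA u) u = true := ext_range (a := 107442) (len := 94) h1143 m2_1143
  have h1145 : ∀ u < 107630, (fun u => chkFix tab mwordsA u) u = true := ext_range (a := 107536) (len := 94) h1144 m2_1144
  have h1146 : ∀ u < 107724, (fun u => chkFix tab mwordsA u) u = true := ext_range (a := 107630) (len := 94) h1145 m2_1145
  have h1147 : ∀ u < 107818, (fun u => chkFix tab mwordsA u) u = true := ext_range (a := 107724) (len := 94) h1146 m2_1146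
  have h1148 : ∀ u < 107912, (fun u => chkFix tab mwordsA u) u = true := ext_range (a := 107818) (len := 94) h1147 m2_1147
  have h1149 : ∀ u < 108006, (fun u => chkFix tab mwordsA u) u = true := ext_range (a := 107912) (len := 94) h1148 m2_1148
  have h1150 : ∀ u < 108100, (fun u => chkFix tab mwordsA u) u = true := ext_range (a := 108006) (len := 94) h1149 m2_1149
  have h1151 : ∀ u < 108194, (fun u => chkFix tab mwordsA u) u = true := ext_range (a := 108100) (len := 94) h1150 m2_1150
  have h1152 : ∀ u < 108288, (fun u => chkFix tab mwordsA u) u = true := ext_range (a := 108194) (len := 94) h1151 m2_1151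
  have h1153 : ∀ u < 108382, (fun u => chkFix tab mwordsA u) u = true := ext_range (a := 108288) (len := 94) h1152 m2_1152
  have h1154 : ∀ u < 108476, (fun u => chkFix tab mwordsA u) u = true := ext_range (a := 108382) (len := 94) h1153 m2_1153
  have h1155 : ∀ u < 108570, (fun u => chkFix tab mwordsA u) u = true := ext_range (a := 108476) (len := 94) h1154 m2_1154
  have h1156 : ∀ u < 108664, (fun u => chkFix tab mwordsA u) u = true := ext_range (a := 108570) (len := 94) h1155 m2_1155
  have h1157 : ∀ u < 108758, (fun u => chkFix tab mwordsA u) u = true := ext_range (a := 108664) (len := 94) h1156 m2_1156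
  have h1158 : ∀ u < 108852, (fun u => chkFix tab mwordsA u) u = true := ext_range (a := 108758) (len := 94) h1157 m2_1157
  have h1159 : ∀ u < 108946, (fun u => chkFix tab mwordsA u) u = true := ext_range (a := 108852) (len := 94) h1158 m2_1158
  have h1160 : ∀ u < 109040, (fun u => chkFix tab mwordsA u) u = true := ext_range (a := 108946) (len := 94) h1159 m2_1159
  have h1161 : ∀ u < 109134, (fun u => chkFix tab mwordsA u) u = true := ext_range (a := 109040) (len := 94) h1160 m2_1160
  have h1162 : ∀ u < 109228, (fun u => chkFix tab mwordsA u) u = true := ext_range (a := 109134) (len := 94) h1161 m2_1161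
  have h1163 : ∀ u < 109322, (fun u => chkFix tab mwordsA u) u = true := ext_range (a := 109228) (len := 94) h1162 m2_1162
  have h1164 : ∀ u < 109416, (fun u => chkFix tab mwordsA u) u = true := ext_range (a := 109322) (len := 94) h1163 m2_1163
  have h1165 : ∀ u < 109510, (fun u => chkFix tab mwordsA u) u = true := ext_range (a := 109416) (len := 94) h1164 m2_1164
  have h1166 : ∀ u < 109604, (fun u => chkFix tab mwordsA u) u = true := ext_range (a := 109510) (len := 94) h1165 m2_1165
  have h1167 : ∀ u < 109698, (fun u => chkFix tab mwordsA u) u = true := ext_range (a := 109604) (len := 94) h1166 m2_1166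
  have h1168 : ∀ u < 109792, (fun u => chkFix tab mwordsA u) u = true := ext_range (a := 109698) (len := 94) h1167 m2_1167
  have h1169 : ∀ u < 109886, (fun u => chkFix tab mwordsA u) u = true := ext_range (a := 109792) (len := 94) h1168 m2_1168
  have h1170 : ∀ u < 109980, (fun u => chkFix tab mwordsA u) u = true := ext_range (a := 109886) (len := 94) h1169 m2_1169
  have h1171 : ∀ u < 110074, (fun u => chkFix tab mwordsA u) u = true := ext_range (a := 109980) (len := 94) h1170 m2_1170
  have h1172 : ∀ u < 110168, (fun u => chkFix tab mwordsA u) u = true := ext_range (a := 110074) (len := 94) h1171 m2_1171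
  have h1173 : ∀ u < 110262, (fun u => chkFix tab mwordsA u) u = true := ext_range (a := 110168) (len := 94) h1172 m2_1172
  have h1174 : ∀ u < 110356, (fun u => chkFix tab mwordsA u) u = true := ext_range (a := 110262) (len := 94) h1173 m2_1173
  have h1175 : ∀ u < 110450, (fun u => chkFix tab mwordsA u) u = true := ext_range (a := 110356) (len := 94) h1174 m2_1174
  have h1176 : ∀ u < 110544, (fun u => chkFix tab mwordsA u) u = true := ext_range (a := 110450) (len := 94) h1175 m2_1175
  have h1177 : ∀ u < 110638, (fun u => chkFix tab mwordsA u) u = true := ext_range (a := 110544) (len := 94) h1176 m2_1176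
  have h1178 : ∀ u < 110732, (fun u => chkFix tab mwordsA u) u = true := ext_range (a := 110638) (len := 94) h1177 m2_1177
  have h1179 : ∀ u < 110826, (fun u => chkFix tab mwordsA u) u = true := ext_range (a := 110732) (len := 94) h1178 m2_1178
  have h1180 : ∀ u < 110920, (fun u => chkFix tab mwordsA u) u = true := ext_range (a := 110826) (len := 94) h1179 m2_1179
  have h1181 : ∀ u < 111014, (fun u => chkFix tab mwordsA u) u = true := ext_range (a := 110920) (len := 94) h1180 m2_1180
  have h1182 : ∀ u < 111108, (fun u => chkFix tab mwordsA u) u = true := ext_range (a := 111014) (len := 94) h1181 m2_1181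
  have h1183 : ∀ u < 111202, (fun u => chkFix tab mwordsA u) u = true := ext_range (a := 111108) (len := 94) h1182 m2_1182
  have h1184 : ∀ u < 111296, (fun u => chkFix tab mwordsA u) u = true := ext_range (a := 111202) (len := 94) h1183 m2_1183
  have h1185 : ∀ u < 111390, (fun u => chkFix tab mwordsA u) u = true := ext_range (a := 111296) (len := 94) h1184 m2_1184
  have h1186 : ∀ u < 111484, (fun u => chkFix tab mwordsA u) u = true := ext_range (a := 111390) (len := 94) h1185 m2_1185
  have h1187 : ∀ u < 111578, (fun u => chkFix tab mwordsA u) u = true := ext_range (a := 111484) (len := 94) h1186 m2_1186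
  have h1188 : ∀ u < 111672, (fun u => chkFix tab mwordsA u) u = true := ext_range (a := 111578) (len := 94) h1187 m2_1187
  have h1189 : ∀ u < 111766, (fun u => chkFix tab mwordsA u) u = true := ext_range (a := 111672) (len := 94) h1188 m2_1188
  have h1190 : ∀ u < 111860, (fun u => chkFix tab mwordsA u) u = true := ext_range (a := 111766) (len := 94) h1189 m2_1189
  have h1191 : ∀ u < 111954, (fun u => chkFix tab mwordsA u) u = true := ext_range (a := 111860) (len := 94) h1190 m2_1190
  have h1192 : ∀ u < 112048, (fun u => chkFix tab mwordsA u) u = true := ext_range (a := 111954) (len := 94) h1191 m2_1191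
  have h1193 : ∀ u < 112142, (fun u => chkFix tab mwordsA u) u = true := ext_range (a := 112048) (len := 94) h1192 m2_1192
  have h1194 : ∀ u < 112236, (fun u => chkFix tab mwordsA u) u = true := ext_range (a := 112142) (len := 94) h1193 m2_1193
  have h1195 : ∀ u < 112330, (fun u => chkFix tab mwordsA u) u = true := ext_range (a := 112236) (len := 94) h1194 m2_1194
  have h1196 : ∀ u < 112424, (fun u => chkFix tab mwordsA u) u = true := ext_range (a := 112330) (len := 94) h1195 m2_1195
  have h1197 : ∀ u < 112518, (fun u => chkFix tab mwordsA u) u = true := ext_range (a := 112424) (len := 94) h1196 m2_1196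
  have h1198 : ∀ u < 112612, (fun u => chkFix tab mwordsA u) u = true := ext_range (a := 112518) (len := 94) h1197 m2_1197
  have h1199 : ∀ u < 112706, (fun u => chkFix tab mwordsA u) u = true := ext_range (a := 112612) (len := 94) h1198 m2_1198
  have h1200 : ∀ u < 112800, (fun u => chkFix tab mwordsA u) u = true := ext_range (a := 112706) (len := 94) h1199 m2_1199
  have h1201 : ∀ u < 112894, (fun u => chkFix tab mwordsA u) u = true := ext_range (a := 112800) (len := 94) h1200 m2_1200
  have h1202 : ∀ u < 112988, (fun u => chkFix tab mwordsA u) u = true := ext_range (a := 112894) (len := 94) h1201 m2_1201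
  have h1203 : ∀ u < 113082, (fun u => chkFix tab mwordsA u) u = true := ext_range (a := 112988) (len := 94) h1202 m2_1202
  have h1204 : ∀ u < 113176, (fun u => chkFix tab mwordsA u) u = true := ext_range (a := 113082) (len := 94) h1203 m2_1203
  have h1205 : ∀ u < 113270, (fun u => chkFix tab mwordsA u) u = true := ext_range (a := 113176) (len := 94) h1204 m2_1204
  have h1206 : ∀ u < 113364, (fun u => chkFix tab mwordsA u) u = true := ext_range (a := 113270) (len := 94) h1205 m2_1205
  have h1207 : ∀ u < 113458, (fun u => chkFix tab mwordsA u) u = true := ext_range (a := 113364) (len := 94) h1206 m2_1206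
  have h1208 : ∀ u < 113552, (fun u => chkFix tab mwordsA u) u = true := ext_range (a := 113458) (len := 94) h1207 m2_1207
  have h1209 : ∀ u < 113646, (fun u => chkFix tab mwordsA u) u = true := ext_range (a := 113552) (len := 94) h1208 m2_1208
  have h1210 : ∀ u < 113740, (fun u => chkFix tab mwordsA u) u = true := ext_range (a := 113646) (len := 94) h1209 m2_1209
  have h1211 : ∀ u < 113834, (fun u => chkFix tab mwordsA u) u = true := ext_range (a := 113740) (len := 94) h1210 m2_1210
  have h1212 : ∀ u < 113928, (fun u => chkFix tab mwordsA u) u = true := ext_range (a := 113834) (len := 94) h1211 m2_1211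
  have h1213 : ∀ u < 114022, (fun u => chkFix tab mwordsA u) u = true := ext_range (a := 113928) (len := 94) h1212 m2_1212
  have h1214 : ∀ u < 114116, (fun u => chkFix tab mwordsA u) u = true := ext_range (a := 114022) (len := 94) h1213 m2_1213
  have h1215 : ∀ u < 114210, (fun u => chkFix tab mwordsA u) u = true := ext_range (a := 114116) (len := 94) h1214 m2_1214
  have h1216 : ∀ u < 114304, (fun u => chkFix tab mwordsA u) u = true := ext_range (a := 114210) (len := 94) h1215 m2_1215
  have h1217 : ∀ u < 114398, (fun u => chkFix tab mwordsA u) u = true := ext_range (a := 114304) (len := 94) h1216 m2_1216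
  have h1218 : ∀ u < 114492, (fun u => chkFix tab mwordsA u) u = true := ext_range (a := 114398) (len := 94) h1217 m2_1217
  have h1219 : ∀ u < 114586, (fun u => chkFix tab mwordsA u) u = true := ext_range (a := 114492) (len := 94) h1218 m2_1218
  have h1220 : ∀ u < 114680, (fun u => chkFix tab mwordsA u) u = true := ext_range (a := 114586) (len := 94) h1219 m2_1219
  have h1221 : ∀ u < 114774, (fun u => chkFix tab mwordsA u) u = true := ext_range (a := 114680) (len := 94) h1220 m2_1220
  have h1222 : ∀ u < 114868, (fun u => chkFix tab mwordsA u) u = true := ext_range (a := 114774) (len := 94) h1221 m2_1221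
  have h1223 : ∀ u < 114962, (fun u => chkFix tab mwordsA u) u = true := ext_range (a := 114868) (len := 94) h1222 m2_1222
  have h1224 : ∀ u < 115056, (fun u => chkFix tab mwordsA u) u = true := ext_range (a := 114962) (len := 94) h1223 m2_1223
  have h1225 : ∀ u < 115150, (fun u => chkFix tab mwordsA u) u = true := ext_range (a := 115056) (len := 94) h1224 m2_1224
  have h1226 : ∀ u < 115244, (fun u => chkFix tab mwordsA u) u = true := ext_range (a := 115150) (len := 94) h1225 m2_1225
  have h1227 : ∀ u < 115338, (fun u => chkFix tab mwordsA u) u = true := ext_range (a := 115244) (len := 94) h1226 m2_1226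
  have h1228 : ∀ u < 115432, (fun u => chkFix tab mwordsA u) u = true := ext_range (a := 115338) (len := 94) h1227 m2_1227
  have h1229 : ∀ u < 115526, (fun u => chkFix tab mwordsA u) u = true := ext_range (a := 115432) (len := 94) h1228 m2_1228
  have h1230 : ∀ u < 115620, (fun u => chkFix tab mwordsA u) u = true := ext_range (a := 115526) (len := 94) h1229 m2_1229
  have h1231 : ∀ u < 115714, (fun u => chkFix tab mwordsA u) u = true := ext_range (a := 115620) (len := 94) h1230 m2_1230
  have h1232 : ∀ u < 115808, (fun u => chkFix tab mwordsA u) u = true := ext_range (a := 115714) (len := 94) h1231 m2_1231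
  have h1233 : ∀ u < 115902, (fun u => chkFix tab mwordsA u) u = true := ext_range (a := 115808) (len := 94) h1232 m2_1232
  have h1234 : ∀ u < 115996, (fun u => chkFix tab mwordsA u) u = true := ext_range (a := 115902) (len := 94) h1233 m2_1233
  have h1235 : ∀ u < 116090, (fun u => chkFix tab mwordsA u) u = true := ext_range (a := 115996) (len := 94) h1234 m2_1234
  have h1236 : ∀ u < 116184, (fun u => chkFix tab mwordsA u) u = true := ext_range (a := 116090) (len := 94) h1235 m2_1235
  have h1237 : ∀ u < 116278, (fun u => chkFix tab mwordsA u) u = true := ext_range (a := 116184) (len := 94) h1236 m2_1236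
  have h1238 : ∀ u < 116372, (fun u => chkFix tab mwordsA u) u = true := ext_range (a := 116278) (len := 94) h1237 m2_1237
  have h1239 : ∀ u < 116466, (fun u => chkFix tab mwordsA u) u = true := ext_range (a := 116372) (len := 94) h1238 m2_1238
  have h1240 : ∀ u < 116560, (fun u => chkFix tab mwordsA u) u = true := ext_range (a := 116466) (len := 94) h1239 m2_1239
  have h1241 : ∀ u < 116654, (fun u => chkFix tab mwordsA u) u = true := ext_range (a := 116560) (len := 94) h1240 m2_1240
  have h1242 : ∀ u < 116748, (fun u => chkFix tab mwordsA u) u = true := ext_range (a := 116654) (len := 94) h1241 m2_1241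
  have h1243 : ∀ u < 116842, (fun u => chkFix tab mwordsA u) u = true := ext_range (a := 116748) (len := 94) h1242 m2_1242
  have h1244 : ∀ u < 116936, (fun u => chkFix tab mwordsA u) u = true := ext_range (a := 116842) (len := 94) h1243 m2_1243
  have h1245 : ∀ u < 117030, (fun u => chkFix tab mwordsA u) u = true := ext_range (a := 116936) (len := 94) h1244 m2_1244
  have h1246 : ∀ u < 117124, (fun u => chkFix tab mwordsA u) u = true := ext_range (a := 117030) (len := 94) h1245 m2_1245
  have h1247 : ∀ u < 117218, (fun u => chkFix tab mwordsA u) u = true := ext_range (a := 117124) (len := 94) h1246 m2_1246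
  have h1248 : ∀ u < 117312, (fun u => chkFix tab mwordsA u) u = true := ext_range (a := 117218) (len := 94) h1247 m2_1247
  have h1249 : ∀ u < 117406, (fun u => chkFix tab mwordsA u) u = true := ext_range (a := 117312) (len := 94) h1248 m2_1248
  have h1250 : ∀ u < 117500, (fun u => chkFix tab mwordsA u) u = true := ext_range (a := 117406) (len := 94) h1249 m2_1249
  have h1251 : ∀ u < 117594, (fun u => chkFix tab mwordsA u) u = true := ext_range (a := 117500) (len := 94) h1250 m2_1250
  have h1252 : ∀ u < 117688, (fun u => chkFix tab mwordsA u) u = true := ext_range (a := 117594) (len := 94) h1251 m2_1251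
  have h1253 : ∀ u < 117782, (fun u => chkFix tab mwordsA u) u = true := ext_range (a := 117688) (len := 94) h1252 m2_1252
  have h1254 : ∀ u < 117876, (fun u => chkFix tab mwordsA u) u = true := ext_range (a := 117782) (len := 94) h1253 m2_1253
  have h1255 : ∀ u < 117970, (fun u => chkFix tab mwordsA u) u = true := ext_range (a := 117876) (len := 94) h1254 m2_1254
  have h1256 : ∀ u < 118064, (fun u => chkFix tab mwordsA u) u = true := ext_range (a := 117970) (len := 94) h1255 m2_1255
  have h1257 : ∀ u < 118158, (fun u => chkFix tab mwordsA u) u = true := ext_range (a := 118064) (len := 94) h1256 m2_1256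
  have h1258 : ∀ u < 118252, (fun u => chkFix tab mwordsA u) u = true := ext_range (a := 118158) (len := 94) h1257 m2_1257
  have h1259 : ∀ u < 118346, (fun u => chkFix tab mwordsA u) u = true := ext_range (a := 118252) (len := 94) h1258 m2_1258
  have h1260 : ∀ u < 118440, (fun u => chkFix tab mwordsA u) u = true := ext_range (a := 118346) (len := 94) h1259 m2_1259
  have h1261 : ∀ u < 118534, (fun u => chkFix tab mwordsA u) u = true := ext_range (a := 118440) (len := 94) h1260 m2_1260
  have h1262 : ∀ u < 118628, (fun u => chkFix tab mwordsA u) u = true := ext_range (a := 118534) (len := 94) h1261 m2_1261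
  have h1263 : ∀ u < 118722, (fun u => chkFix tab mwordsA u) u = true := ext_range (a := 118628) (len := 94) h1262 m2_1262
  have h1264 : ∀ u < 118816, (fun u => chkFix tab mwordsA u) u = true := ext_range (a := 118722) (len := 94) h1263 m2_1263
  have h1265 : ∀ u < 118910, (fun u => chkFix tab mwordsA u) u = true := ext_range (a := 118816) (len := 94) h1264 m2_1264
  have h1266 : ∀ u < 119004, (fun u => chkFix tab mwordsA u) u = true := ext_range (a := 118910) (len := 94) h1265 m2_1265
  have h1267 : ∀ u < 119098, (fun u => chkFix tab mwordsA u) u = true := ext_range (a := 119004) (len := 94) h1266 m2_1266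
  have h1268 : ∀ u < 119192, (fun u => chkFix tab mwordsA u) u = true := ext_range (a := 119098) (len := 94) h1267 m2_1267
  have h1269 : ∀ u < 119286, (fun u => chkFix tab mwordsA u) u = true := ext_range (a := 119192) (len := 94) h1268 m2_1268
  have h1270 : ∀ u < 119380, (fun u => chkFix tab mwordsA u) u = true := ext_range (a := 119286) (len := 94) h1269 m2_1269
  have h1271 : ∀ u < 119474, (fun u => chkFix tab mwordsA u) u = true := ext_range (a := 119380) (len := 94) h1270 m2_1270
  have h1272 : ∀ u < 119568, (fun u => chkFix tab mwordsA u) u = true := ext_range (a := 119474) (len := 94) h1271 m2_1271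
  have h1273 : ∀ u < 119662, (fun u => chkFix tab mwordsA u) u = true := ext_range (a := 119568) (len := 94) h1272 m2_1272
  have h1274 : ∀ u < 119756, (fun u => chkFix tab mwordsA u) u = true := ext_range (a := 119662) (len := 94) h1273 m2_1273
  have h1275 : ∀ u < 119850, (fun u => chkFix tab mwordsA u) u = true := ext_range (a := 119756) (len := 94) h1274 m2_1274
  have h1276 : ∀ u < 119944, (fun u => chkFix tab mwordsA u) u = true := ext_range (a := 119850) (len := 94) h1275 m2_1275
  have h1277 : ∀ u < 120038, (fun u => chkFix tab mwordsA u) u = true := ext_range (a := 119944) (len := 94) h1276 m2_1276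
  have h1278 : ∀ u < 120132, (fun u => chkFix tab mwordsA u) u = true := ext_range (a := 120038) (len := 94) h1277 m2_1277
  have h1279 : ∀ u < 120226, (fun u => chkFix tab mwordsA u) u = true := ext_range (a := 120132) (len := 94) h1278 m2_1278
  have h1280 : ∀ u < 120320, (fun u => chkFix tab mwordsA u) u = true := ext_range (a := 120226) (len := 94) h1279 m2_1279
  have h1281 : ∀ u < 120414, (fun u => chkFix tab mwordsA u) u = true := ext_range (a := 120320) (len := 94) h1280 m2_1280
  have h1282 : ∀ u < 120508, (fun u => chkFix tab mwordsA u) u = true := ext_range (a := 120414) (len := 94) h1281 m2_1281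
  have h1283 : ∀ u < 120602, (fun u => chkFix tab mwordsA u) u = true := ext_range (a := 120508) (len := 94) h1282 m2_1282
  have h1284 : ∀ u < 120696, (fun u => chkFix tab mwordsA u) u = true := ext_range (a := 120602) (len := 94) h1283 m2_1283
  have h1285 : ∀ u < 120790, (fun u => chkFix tab mwordsA u) u = true := ext_range (a := 120696) (len := 94) h1284 m2_1284
  have h1286 : ∀ u < 120884, (fun u => chkFix tab mwordsA u) u = true := ext_range (a := 120790) (len := 94) h1285 m2_1285
  have h1287 : ∀ u < 120978, (fun u => chkFix tab mwordsA u) u = true := ext_range (a := 120884) (len := 94) h1286 m2_1286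
  have h1288 : ∀ u < 121072, (fun u => chkFix tab mwordsA u) u = true := ext_range (a := 120978) (len := 94) h1287 m2_1287
  have h1289 : ∀ u < 121166, (fun u => chkFix tab mwordsA u) u = true := ext_range (a := 121072) (len := 94) h1288 m2_1288
  have h1290 : ∀ u < 121260, (fun u => chkFix tab mwordsA u) u = true := ext_range (a := 121166) (len := 94) h1289 m2_1289
  have h1291 : ∀ u < 121354, (fun u => chkFix tab mwordsA u) u = true := ext_range (a := 121260) (len := 94) h1290 m2_1290
  have h1292 : ∀ u < 121448, (fun u => chkFix tab mwordsA u) u = true := ext_range (a := 121354) (len := 94) h1291 m2_1291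
  have h1293 : ∀ u < 121542, (fun u => chkFix tab mwordsA u) u = true := ext_range (a := 121448) (len := 94) h1292 m2_1292
  have h1294 : ∀ u < 121636, (fun u => chkFix tab mwordsA u) u = true := ext_range (a := 121542) (len := 94) h1293 m2_1293
  have h1295 : ∀ u < 121730, (fun u => chkFix tab mwordsA u) u = true := ext_range (a := 121636) (len := 94) h1294 m2_1294
  have h1296 : ∀ u < 121824, (fun u => chkFix tab mwordsA u) u = true := ext_range (a := 121730) (len := 94) h1295 m2_1295
  have h1297 : ∀ u < 121918, (fun u => chkFix tab mwordsA u) u = true := ext_range (a := 121824) (len := 94) h1296 m2_1296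
  have h1298 : ∀ u < 122012, (fun u => chkFix tab mwordsA u) u = true := ext_range (a := 121918) (len := 94) h1297 m2_1297
  have h1299 : ∀ u < 122106, (fun u => chkFix tab mwordsA u) u = true := ext_range (a := 122012) (len := 94) h1298 m2_1298
  have h1300 : ∀ u < 122200, (fun u => chkFix tab mwordsA u) u = true := ext_range (a := 122106) (len := 94) h1299 m2_1299
  have h1301 : ∀ u < 122294, (fun u => chkFix tab mwordsA u) u = true := ext_range (a := 122200) (len := 94) h1300 m2_1300
  have h1302 : ∀ u < 122388, (fun u => chkFix tab mwordsA u) u = true := ext_range (a := 122294) (len := 94) h1301 m2_1301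
  have h1303 : ∀ u < 122482, (fun u => chkFix tab mwordsA u) u = true := ext_range (a := 122388) (len := 94) h1302 m2_1302
  have h1304 : ∀ u < 122576, (fun u => chkFix tab mwordsA u) u = true := ext_range (a := 122482) (len := 94) h1303 m2_1303
  have h1305 : ∀ u < 122670, (fun u => chkFix tab mwordsA u) u = true := ext_range (a := 122576) (len := 94) h1304 m2_1304
  have h1306 : ∀ u < 122764, (fun u => chkFix tab mwordsA u) u = true := ext_range (a := 122670) (len := 94) h1305 m2_1305
  have h1307 : ∀ u < 122858, (fun u => chkFix tab mwordsA u) u = true := ext_range (a := 122764) (len := 94) h1306 m2_1306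
  have h1308 : ∀ u < 122952, (fun u => chkFix tab mwordsA u) u = true := ext_range (a := 122858) (len := 94) h1307 m2_1307
  have h1309 : ∀ u < 123046, (fun u => chkFix tab mwordsA u) u = true := ext_range (a := 122952) (len := 94) h1308 m2_1308
  have h1310 : ∀ u < 123140, (fun u => chkFix tab mwordsA u) u = true := ext_range (a := 123046) (len := 94) h1309 m2_1309
  have h1311 : ∀ u < 123234, (fun u => chkFix tab mwordsA u) u = true := ext_range (a := 123140) (len := 94) h1310 m2_1310
  have h1312 : ∀ u < 123328, (fun u => chkFix tab mwordsA u) u = true := ext_range (a := 123234) (len := 94) h1311 m2_1311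
  have h1313 : ∀ u < 123422, (fun u => chkFix tab mwordsA u) u = true := ext_range (a := 123328) (len := 94) h1312 m2_1312
  have h1314 : ∀ u < 123516, (fun u => chkFix tab mwordsA u) u = true := ext_range (a := 123422) (len := 94) h1313 m2_1313
  have h1315 : ∀ u < 123610, (fun u => chkFix tab mwordsA u) u = true := ext_range (a := 123516) (len := 94) h1314 m2_1314
  have h1316 : ∀ u < 123704, (fun u => chkFix tab mwordsA u) u = true := ext_range (a := 123610) (len := 94) h1315 m2_1315
  have h1317 : ∀ u < 123798, (fun u => chkFix tab mwordsA u) u = true := ext_range (a := 123704) (len := 94) h1316 m2_1316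
  have h1318 : ∀ u < 123892, (fun u => chkFix tab mwordsA u) u = true := ext_range (a := 123798) (len := 94) h1317 m2_1317
  have h1319 : ∀ u < 123986, (fun u => chkFix tab mwordsA u) u = true := ext_range (a := 123892) (len := 94) h1318 m2_1318
  have h1320 : ∀ u < 124080, (fun u => chkFix tab mwordsA u) u = true := ext_range (a := 123986) (len := 94) h1319 m2_1319
  have h1321 : ∀ u < 124174, (fun u => chkFix tab mwordsA u) u = true := ext_range (a := 124080) (len := 94) h1320 m2_1320
  have h1322 : ∀ u < 124268, (fun u => chkFix tab mwordsA u) u = true := ext_range (a := 124174) (len := 94) h1321 m2_1321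
  have h1323 : ∀ u < 124362, (fun u => chkFix tab mwordsA u) u = true := ext_range (a := 124268) (len := 94) h1322 m2_1322
  have h1324 : ∀ u < 124456, (fun u => chkFix tab mwordsA u) u = true := ext_range (a := 124362) (len := 94) h1323 m2_1323
  have h1325 : ∀ u < 124550, (fun u => chkFix tab mwordsA u) u = true := ext_range (a := 124456) (len := 94) h1324 m2_1324
  have h1326 : ∀ u < 124644, (fun u => chkFix tab mwordsA u) u = true := ext_range (a := 124550) (len := 94) h1325 m2_1325
  have h1327 : ∀ u < 124738, (fun u => chkFix tab mwordsA u) u = true := ext_range (a := 124644) (len := 94) h1326 m2_1326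
  have h1328 : ∀ u < 124832, (fun u => chkFix tab mwordsA u) u = true := ext_range (a := 124738) (len := 94) h1327 m2_1327
  have h1329 : ∀ u < 124926, (fun u => chkFix tab mwordsA u) u = true := ext_range (a := 124832) (len := 94) h1328 m2_1328
  have h1330 : ∀ u < 125020, (fun u => chkFix tab mwordsA u) u = true := ext_range (a := 124926) (len := 94) h1329 m2_1329
  have h1331 : ∀ u < 125114, (fun u => chkFix tab mwordsA u) u = true := ext_range (a := 125020) (len := 94) h1330 m2_1330
  have h1332 : ∀ u < 125208, (fun u => chkFix tab mwordsA u) u = true := ext_range (a := 125114) (len := 94) h1331 m2_1331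
  have h1333 : ∀ u < 125302, (fun u => chkFix tab mwordsA u) u = true := ext_range (a := 125208) (len := 94) h1332 m2_1332
  have h1334 : ∀ u < 125396, (fun u => chkFix tab mwordsA u) u = true := ext_range (a := 125302) (len := 94) h1333 m2_1333
  have h1335 : ∀ u < 125490, (fun u => chkFix tab mwordsA u) u = true := ext_range (a := 125396) (len := 94) h1334 m2_1334
  have h1336 : ∀ u < 125584, (fun u => chkFix tab mwordsA u) u = true := ext_range (a := 125490) (len := 94) h1335 m2_1335
  have h1337 : ∀ u < 125678, (fun u => chkFix tab mwordsA u) u = true := ext_range (a := 125584) (len := 94) h1336 m2_1336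
  have h1338 : ∀ u < 125772, (fun u => chkFix tab mwordsA u) u = true := ext_range (a := 125678) (len := 94) h1337 m2_1337
  have h1339 : ∀ u < 125866, (fun u => chkFix tab mwordsA u) u = true := ext_range (a := 125772) (len := 94) h1338 m2_1338
  have h1340 : ∀ u < 125960, (fun u => chkFix tab mwordsA u) u = true := ext_range (a := 125866) (len := 94) h1339 m2_1339
  have h1341 : ∀ u < 126054, (fun u => chkFix tab mwordsA u) u = true := ext_range (a := 125960) (len := 94) h1340 m2_1340
  have h1342 : ∀ u < 126148, (fun u => chkFix tab mwordsA u) u = true := ext_range (a := 126054) (len := 94) h1341 m2_1341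
  have h1343 : ∀ u < 126242, (fun u => chkFix tab mwordsA u) u = true := ext_range (a := 126148) (len := 94) h1342 m2_1342
  have h1344 : ∀ u < 126336, (fun u => chkFix tab mwordsA u) u = true := ext_range (a := 126242) (len := 94) h1343 m2_1343
  have h1345 : ∀ u < 126430, (fun u => chkFix tab mwordsA u) u = true := ext_range (a := 126336) (len := 94) h1344 m2_1344
  have h1346 : ∀ u < 126524, (fun u => chkFix tab mwordsA u) u = true := ext_range (a := 126430) (len := 94) h1345 m2_1345
  have h1347 : ∀ u < 126618, (fun u => chkFix tab mwordsA u) u = true := ext_range (a := 126524) (len := 94) h1346 m2_1346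
  have h1348 : ∀ u < 126712, (fun u => chkFix tab mwordsA u) u = true := ext_range (a := 126618) (len := 94) h1347 m2_1347
  have h1349 : ∀ u < 126806, (fun u => chkFix tab mwordsA u) u = true := ext_range (a := 126712) (len := 94) h1348 m2_1348
  have h1350 : ∀ u < 126900, (fun u => chkFix tab mwordsA u) u = true := ext_range (a := 126806) (len := 94) h1349 m2_1349
  have h1351 : ∀ u < 126994, (fun u => chkFix tab mwordsA u) u = true := ext_range (a := 126900) (len := 94) h1350 m2_1350
  have h1352 : ∀ u < 127088, (fun u => chkFix tab mwordsA u) u = true := ext_range (a := 126994) (len := 94) h1351 m2_1351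
  have h1353 : ∀ u < 127182, (fun u => chkFix tab mwordsA u) u = true := ext_range (a := 127088) (len := 94) h1352 m2_1352
  have h1354 : ∀ u < 127276, (fun u => chkFix tab mwordsA u) u = true := ext_range (a := 127182) (len := 94) h1353 m2_1353
  have h1355 : ∀ u < 127370, (fun u => chkFix tab mwordsA u) u = true := ext_range (a := 127276) (len := 94) h1354 m2_1354
  have h1356 : ∀ u < 127464, (fun u => chkFix tab mwordsA u) u = true := ext_range (a := 127370) (len := 94) h1355 m2_1355
  have h1357 : ∀ u < 127558, (fun u => chkFix tab mwordsA u) u = true := ext_range (a := 127464) (len := 94) h1356 m2_1356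
  have h1358 : ∀ u < 127652, (fun u => chkFix tab mwordsA u) u = true := ext_range (a := 127558) (len := 94) h1357 m2_1357
  have h1359 : ∀ u < 127746, (fun u => chkFix tab mwordsA u) u = true := ext_range (a := 127652) (len := 94) h1358 m2_1358
  have h1360 : ∀ u < 127840, (fun u => chkFix tab mwordsA u) u = true := ext_range (a := 127746) (len := 94) h1359 m2_1359
  have h1361 : ∀ u < 127934, (fun u => chkFix tab mwordsA u) u = true := ext_range (a := 127840) (len := 94) h1360 m2_1360
  have h1362 : ∀ u < 128028, (fun u => chkFix tab mwordsA u) u = true := ext_range (a := 127934) (len := 94) h1361 m2_1361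
  have h1363 : ∀ u < 128122, (fun u => chkFix tab mwordsA u) u = true := ext_range (a := 128028) (len := 94) h1362 m2_1362
  have h1364 : ∀ u < 128216, (fun u => chkFix tab mwordsA u) u = true := ext_range (a := 128122) (len := 94) h1363 m2_1363
  have h1365 : ∀ u < 128310, (fun u => chkFix tab mwordsA u) u = true := ext_range (a := 128216) (len := 94) h1364 m2_1364
  have h1366 : ∀ u < 128404, (fun u => chkFix tab mwordsA u) u = true := ext_range (a := 128310) (len := 94) h1365 m2_1365
  have h1367 : ∀ u < 128498, (fun u => chkFix tab mwordsA u) u = true := ext_range (a := 128404) (len := 94) h1366 m2_1366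
  have h1368 : ∀ u < 128592, (fun u => chkFix tab mwordsA u) u = true := ext_range (a := 128498) (len := 94) h1367 m2_1367
  have h1369 : ∀ u < 128686, (fun u => chkFix tab mwordsA u) u = true := ext_range (a := 128592) (len := 94) h1368 m2_1368
  have h1370 : ∀ u < 128780, (fun u => chkFix tab mwordsA u) u = true := ext_range (a := 128686) (len := 94) h1369 m2_1369
  have h1371 : ∀ u < 128874, (fun u => chkFix tab mwordsA u) u = true := ext_range (a := 128780) (len := 94) h1370 m2_1370
  have h1372 : ∀ u < 128968, (fun u => chkFix tab mwordsA u) u = true := ext_range (a := 128874) (len := 94) h1371 m2_1371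
  have h1373 : ∀ u < 129062, (fun u => chkFix tab mwordsA u) u = true := ext_range (a := 128968) (len := 94) h1372 m2_1372
  have h1374 : ∀ u < 129156, (fun u => chkFix tab mwordsA u) u = true := ext_range (a := 129062) (len := 94) h1373 m2_1373
  have h1375 : ∀ u < 129250, (fun u => chkFix tab mwordsA u) u = true := ext_range (a := 129156) (len := 94) h1374 m2_1374
  have h1376 : ∀ u < 129344, (fun u => chkFix tab mwordsA u) u = true := ext_range (a := 129250) (len := 94) h1375 m2_1375
  have h1377 : ∀ u < 129438, (fun u => chkFix tab mwordsA u) u = true := ext_range (a := 129344) (len := 94) h1376 m2_1376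
  have h1378 : ∀ u < 129532, (fun u => chkFix tab mwordsA u) u = true := ext_range (a := 129438) (len := 94) h1377 m2_1377
  have h1379 : ∀ u < 129626, (fun u => chkFix tab mwordsA u) u = true := ext_range (a := 129532) (len := 94) h1378 m2_1378
  have h1380 : ∀ u < 129720, (fun u => chkFix tab mwordsA u) u = true := ext_range (a := 129626) (len := 94) h1379 m2_1379
  have h1381 : ∀ u < 129814, (fun u => chkFix tab mwordsA u) u = true := ext_range (a := 129720) (len := 94) h1380 m2_1380
  have h1382 : ∀ u < 129908, (fun u => chkFix tab mwordsA u) u = true := ext_range (a := 129814) (len := 94) h1381 m2_1381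
  have h1383 : ∀ u < 130002, (fun u => chkFix tab mwordsA u) u = true := ext_range (a := 129908) (len := 94) h1382 m2_1382
  have h1384 : ∀ u < 130096, (fun u => chkFix tab mwordsA u) u = true := ext_range (a := 130002) (len := 94) h1383 m2_1383
  have h1385 : ∀ u < 130190, (fun u => chkFix tab mwordsA u) u = true := ext_range (a := 130096) (len := 94) h1384 m2_1384
  have h1386 : ∀ u < 130284, (fun u => chkFix tab mwordsA u) u = true := ext_range (a := 130190) (len := 94) h1385 m2_1385
  have h1387 : ∀ u < 130378, (fun u => chkFix tab mwordsA u) u = true := ext_range (a := 130284) (len := 94) h1386 m2_1386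
  have h1388 : ∀ u < 130472, (fun u => chkFix tab mwordsA u) u = true := ext_range (a := 130378) (len := 94) h1387 m2_1387
  have h1389 : ∀ u < 130566, (fun u => chkFix tab mwordsA u) u = true := ext_range (a := 130472) (len := 94) h1388 m2_1388
  have h1390 : ∀ u < 130660, (fun u => chkFix tab mwordsA u) u = true := ext_range (a := 130566) (len := 94) h1389 m2_1389
  have h1391 : ∀ u < 130754, (fun u => chkFix tab mwordsA u) u = true := ext_range (a := 130660) (len := 94) h1390 m2_1390
  have h1392 : ∀ u < 130848, (fun u => chkFix tab mwordsA u) u = true := ext_range (a := 130754) (len := 94) h1391 m2_1391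
  have h1393 : ∀ u < 130942, (fun u => chkFix tab mwordsA u) u = true := ext_range (a := 130848) (len := 94) h1392 m2_1392
  have h1394 : ∀ u < 131036, (fun u => chkFix tab mwordsA u) u = true := ext_range (a := 130942) (len := 94) h1393 m2_1393
  have h1395 : ∀ u < 131130, (fun u => chkFix tab mwordsA u) u = true := ext_range (a := 131036) (len := 94) h1394 m2_1394
  have h1396 : ∀ u < 131224, (fun u => chkFix tab mwordsA u) u = true := ext_range (a := 131130) (len := 94) h1395 m2_1395
  have h1397 : ∀ u < 131318, (fun u => chkFix tab mwordsA u) u = true := ext_range (a := 131224) (len := 94) h1396 m2_1396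
  have h1398 : ∀ u < 131412, (fun u => chkFix tab mwordsA u) u = true := ext_range (a := 131318) (len := 94) h1397 m2_1397
  have h1399 : ∀ u < 131506, (fun u => chkFix tab mwordsA u) u = true := ext_range (a := 131412) (len := 94) h1398 m2_1398
  have h1400 : ∀ u < 131600, (fun u => chkFix tab mwordsA u) u = true := ext_range (a := 131506) (len := 94) h1399 m2_1399
  have h1401 : ∀ u < 131694, (fun u => chkFix tab mwordsA u) u = true := ext_range (a := 131600) (len := 94) h1400 m2_1400
  have h1402 : ∀ u < 131788, (fun u => chkFix tab mwordsA u) u = true := ext_range (a := 131694) (len := 94) h1401 m2_1401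
  have h1403 : ∀ u < 131882, (fun u => chkFix tab mwordsA u) u = true := ext_range (a := 131788) (len := 94) h1402 m2_1402
  have h1404 : ∀ u < 131976, (fun u => chkFix tab mwordsA u) u = true := ext_range (a := 131882) (len := 94) h1403 m2_1403
  have h1405 : ∀ u < 132070, (fun u => chkFix tab mwordsA u) u = true := ext_range (a := 131976) (len := 94) h1404 m2_1404
  have h1406 : ∀ u < 132164, (fun u => chkFix tab mwordsA u) u = true := ext_range (a := 132070) (len := 94) h1405 m2_1405
  have h1407 : ∀ u < 132258, (fun u => chkFix tab mwordsA u) u = true := ext_range (a := 132164) (len := 94) h1406 m2_1406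
  have h1408 : ∀ u < 132352, (fun u => chkFix tab mwordsA u) u = true := ext_range (a := 132258) (len := 94) h1407 m2_1407
  have h1409 : ∀ u < 132446, (fun u => chkFix tab mwordsA u) u = true := ext_range (a := 132352) (len := 94) h1408 m2_1408
  have h1410 : ∀ u < 132540, (fun u => chkFix tab mwordsA u) u = true := ext_range (a := 132446) (len := 94) h1409 m2_1409
  have h1411 : ∀ u < 132634, (fun u => chkFix tab mwordsA u) u = true := ext_range (a := 132540) (len := 94) h1410 m2_1410
  have h1412 : ∀ u < 132728, (fun u => chkFix tab mwordsA u) u = true := ext_range (a := 132634) (len := 94) h1411 m2_1411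
  have h1413 : ∀ u < 132822, (fun u => chkFix tab mwordsA u) u = true := ext_range (a := 132728) (len := 94) h1412 m2_1412
  have h1414 : ∀ u < 132916, (fun u => chkFix tab mwordsA u) u = true := ext_range (a := 132822) (len := 94) h1413 m2_1413
  have h1415 : ∀ u < 133010, (fun u => chkFix tab mwordsA u) u = true := ext_range (a := 132916) (len := 94) h1414 m2_1414
  have h1416 : ∀ u < 133104, (fun u => chkFix tab mwordsA u) u = true := ext_range (a := 133010) (len := 94) h1415 m2_1415
  have h1417 : ∀ u < 133198, (fun u => chkFix tab mwordsA u) u = true := ext_range (a := 133104) (len := 94) h1416 m2_1416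
  have h1418 : ∀ u < 133292, (fun u => chkFix tab mwordsA u) u = true := ext_range (a := 133198) (len := 94) h1417 m2_1417
  have h1419 : ∀ u < 133386, (fun u => chkFix tab mwordsA u) u = true := ext_range (a := 133292) (len := 94) h1418 m2_1418
  have h1420 : ∀ u < 133480, (fun u => chkFix tab mwordsA u) u = true := ext_range (a := 133386) (len := 94) h1419 m2_1419
  have h1421 : ∀ u < 133574, (fun u => chkFix tab mwordsA u) u = true := ext_range (a := 133480) (len := 94) h1420 m2_1420
  have h1422 : ∀ u < 133668, (fun u => chkFix tab mwordsA u) u = true := ext_range (a := 133574) (len := 94) h1421 m2_1421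
  have h1423 : ∀ u < 133762, (fun u => chkFix tab mwordsA u) u = true := ext_range (a := 133668) (len := 94) h1422 m2_1422
  have h1424 : ∀ u < 133856, (fun u => chkFix tab mwordsA u) u = true := ext_range (a := 133762) (len := 94) h1423 m2_1423
  have h1425 : ∀ u < 133950, (fun u => chkFix tab mwordsA u) u = true := ext_range (a := 133856) (len := 94) h1424 m2_1424
  have h1426 : ∀ u < 134044, (fun u => chkFix tab mwordsA u) u = true := ext_range (a := 133950) (len := 94) h1425 m2_1425
  have h1427 : ∀ u < 134138, (fun u => chkFix tab mwordsA u) u = true := ext_range (a := 134044) (len := 94) h1426 m2_1426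
  have h1428 : ∀ u < 134232, (fun u => chkFix tab mwordsA u) u = true := ext_range (a := 134138) (len := 94) h1427 m2_1427
  have h1429 : ∀ u < 134326, (fun u => chkFix tab mwordsA u) u = true := ext_range (a := 134232) (len := 94) h1428 m2_1428
  have h1430 : ∀ u < 134420, (fun u => chkFix tab mwordsA u) u = true := ext_range (a := 134326) (len := 94) h1429 m2_1429
  have h1431 : ∀ u < 134514, (fun u => chkFix tab mwordsA u) u = true := ext_range (a := 134420) (len := 94) h1430 m2_1430
  have h1432 : ∀ u < 134608, (fun u => chkFix tab mwordsA u) u = true := ext_range (a := 134514) (len := 94) h1431 m2_1431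
  have h1433 : ∀ u < 134702, (fun u => chkFix tab mwordsA u) u = true := ext_range (a := 134608) (len := 94) h1432 m2_1432
  have h1434 : ∀ u < 134796, (fun u => chkFix tab mwordsA u) u = true := ext_range (a := 134702) (len := 94) h1433 m2_1433
  have h1435 : ∀ u < 134890, (fun u => chkFix tab mwordsA u) u = true := ext_range (a := 134796) (len := 94) h1434 m2_1434
  have h1436 : ∀ u < 134984, (fun u => chkFix tab mwordsA u) u = true := ext_range (a := 134890) (len := 94) h1435 m2_1435
  have h1437 : ∀ u < 135078, (fun u => chkFix tab mwordsA u) u = true := ext_range (a := 134984) (len := 94) h1436 m2_1436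
  have h1438 : ∀ u < 135172, (fun u => chkFix tab mwordsA u) u = true := ext_range (a := 135078) (len := 94) h1437 m2_1437
  have h1439 : ∀ u < 135266, (fun u => chkFix tab mwordsA u) u = true := ext_range (a := 135172) (len := 94) h1438 m2_1438
  have h1440 : ∀ u < 135360, (fun u => chkFix tab mwordsA u) u = true := ext_range (a := 135266) (len := 94) h1439 m2_1439
  have h1441 : ∀ u < 135454, (fun u => chkFix tab mwordsA u) u = true := ext_range (a := 135360) (len := 94) h1440 m2_1440
  have h1442 : ∀ u < 135548, (fun u => chkFix tab mwordsA u) u = true := ext_range (a := 135454) (len := 94) h1441 m2_1441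
  have h1443 : ∀ u < 135642, (fun u => chkFix tab mwordsA u) u = true := ext_range (a := 135548) (len := 94) h1442 m2_1442
  have h1444 : ∀ u < 135736, (fun u => chkFix tab mwordsA u) u = true := ext_range (a := 135642) (len := 94) h1443 m2_1443
  have h1445 : ∀ u < 135830, (fun u => chkFix tab mwordsA u) u = true := ext_range (a := 135736) (len := 94) h1444 m2_1444
  have h1446 : ∀ u < 135924, (fun u => chkFix tab mwordsA u) u = true := ext_range (a := 135830) (len := 94) h1445 m2_1445
  have h1447 : ∀ u < 136018, (fun u => chkFix tab mwordsA u) u = true := ext_range (a := 135924) (len := 94) h1446 m2_1446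
  have h1448 : ∀ u < 136112, (fun u => chkFix tab mwordsA u) u = true := ext_range (a := 136018) (len := 94) h1447 m2_1447
  have h1449 : ∀ u < 136206, (fun u => chkFix tab mwordsA u) u = true := ext_range (a := 136112) (len := 94) h1448 m2_1448
  have h1450 : ∀ u < 136300, (fun u => chkFix tab mwordsA u) u = true := ext_range (a := 136206) (len := 94) h1449 m2_1449
  have h1451 : ∀ u < 136394, (fun u => chkFix tab mwordsA u) u = true := ext_range (a := 136300) (len := 94) h1450 m2_1450
  have h1452 : ∀ u < 136488, (fun u => chkFix tab mwordsA u) u = true := ext_range (a := 136394) (len := 94) h1451 m2_1451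
  have h1453 : ∀ u < 136582, (fun u => chkFix tab mwordsA u) u = true := ext_range (a := 136488) (len := 94) h1452 m2_1452
  have h1454 : ∀ u < 136676, (fun u => chkFix tab mwordsA u) u = true := ext_range (a := 136582) (len := 94) h1453 m2_1453
  have h1455 : ∀ u < 136770, (fun u => chkFix tab mwordsA u) u = true := ext_range (a := 136676) (len := 94) h1454 m2_1454
  have h1456 : ∀ u < 136864, (fun u => chkFix tab mwordsA u) u = true := ext_range (a := 136770) (len := 94) h1455 m2_1455
  have h1457 : ∀ u < 136958, (fun u => chkFix tab mwordsA u) u = true := ext_range (a := 136864) (len := 94) h1456 m2_1456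
  have h1458 : ∀ u < 137052, (fun u => chkFix tab mwordsA u) u = true := ext_range (a := 136958) (len := 94) h1457 m2_1457
  have h1459 : ∀ u < 137146, (fun u => chkFix tab mwordsA u) u = true := ext_range (a := 137052) (len := 94) h1458 m2_1458
  have h1460 : ∀ u < 137240, (fun u => chkFix tab mwordsA u) u = true := ext_range (a := 137146) (len := 94) h1459 m2_1459
  have h1461 : ∀ u < 137334, (fun u => chkFix tab mwordsA u) u = true := ext_range (a := 137240) (len := 94) h1460 m2_1460
  have h1462 : ∀ u < 137428, (fun u => chkFix tab mwordsA u) u = true := ext_range (a := 137334) (len := 94) h1461 m2_1461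
  have h1463 : ∀ u < 137522, (fun u => chkFix tab mwordsA u) u = true := ext_range (a := 137428) (len := 94) h1462 m2_1462
  have h1464 : ∀ u < 137616, (fun u => chkFix tab mwordsA u) u = true := ext_range (a := 137522) (len := 94) h1463 m2_1463
  have h1465 : ∀ u < 137710, (fun u => chkFix tab mwordsA u) u = true := ext_range (a := 137616) (len := 94) h1464 m2_1464
  have h1466 : ∀ u < 137804, (fun u => chkFix tab mwordsA u) u = true := ext_range (a := 137710) (len := 94) h1465 m2_1465
  have h1467 : ∀ u < 137898, (fun u => chkFix tab mwordsA u) u = true := ext_range (a := 137804) (len := 94) h1466 m2_1466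
  have h1468 : ∀ u < 137992, (fun u => chkFix tab mwordsA u) u = true := ext_range (a := 137898) (len := 94) h1467 m2_1467
  have h1469 : ∀ u < 138086, (fun u => chkFix tab mwordsA u) u = true := ext_range (a := 137992) (len := 94) h1468 m2_1468
  have h1470 : ∀ u < 138180, (fun u => chkFix tab mwordsA u) u = true := ext_range (a := 138086) (len := 94) h1469 m2_1469
  have h1471 : ∀ u < 138274, (fun u => chkFix tab mwordsA u) u = true := ext_range (a := 138180) (len := 94) h1470 m2_1470
  have h1472 : ∀ u < 138368, (fun u => chkFix tab mwordsA u) u = true := ext_range (a := 138274) (len := 94) h1471 m2_1471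
  have h1473 : ∀ u < 138462, (fun u => chkFix tab mwordsA u) u = true := ext_range (a := 138368) (len := 94) h1472 m2_1472
  have h1474 : ∀ u < 138556, (fun u => chkFix tab mwordsA u) u = true := ext_range (a := 138462) (len := 94) h1473 m2_1473
  have h1475 : ∀ u < 138650, (fun u => chkFix tab mwordsA u) u = true := ext_range (a := 138556) (len := 94) h1474 m2_1474
  have h1476 : ∀ u < 138744, (fun u => chkFix tab mwordsA u) u = true := ext_range (a := 138650) (len := 94) h1475 m2_1475
  have h1477 : ∀ u < 138838, (fun u => chkFix tab mwordsA u) u = true := ext_range (a := 138744) (len := 94) h1476 m2_1476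
  have h1478 : ∀ u < 138932, (fun u => chkFix tab mwordsA u) u = true := ext_range (a := 138838) (len := 94) h1477 m2_1477
  have h1479 : ∀ u < 139026, (fun u => chkFix tab mwordsA u) u = true := ext_range (a := 138932) (len := 94) h1478 m2_1478
  have h1480 : ∀ u < 139120, (fun u => chkFix tab mwordsA u) u = true := ext_range (a := 139026) (len := 94) h1479 m2_1479
  have h1481 : ∀ u < 139214, (fun u => chkFix tab mwordsA u) u = true := ext_range (a := 139120) (len := 94) h1480 m2_1480
  have h1482 : ∀ u < 139308, (fun u => chkFix tab mwordsA u) u = true := ext_range (a := 139214) (len := 94) h1481 m2_1481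
  have h1483 : ∀ u < 139402, (fun u => chkFix tab mwordsA u) u = true := ext_range (a := 139308) (len := 94) h1482 m2_1482
  have h1484 : ∀ u < 139496, (fun u => chkFix tab mwordsA u) u = true := ext_range (a := 139402) (len := 94) h1483 m2_1483
  have h1485 : ∀ u < 139590, (fun u => chkFix tab mwordsA u) u = true := ext_range (a := 139496) (len := 94) h1484 m2_1484
  have h1486 : ∀ u < 139684, (fun u => chkFix tab mwordsA u) u = true := ext_range (a := 139590) (len := 94) h1485 m2_1485
  have h1487 : ∀ u < 139778, (fun u => chkFix tab mwordsA u) u = true := ext_range (a := 139684) (len := 94) h1486 m2_1486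
  have h1488 : ∀ u < 139872, (fun u => chkFix tab mwordsA u) u = true := ext_range (a := 139778) (len := 94) h1487 m2_1487
  have h1489 : ∀ u < 139966, (fun u => chkFix tab mwordsA u) u = true := ext_range (a := 139872) (len := 94) h1488 m2_1488
  have h1490 : ∀ u < 140060, (fun u => chkFix tab mwordsA u) u = true := ext_range (a := 139966) (len := 94) h1489 m2_1489
  have h1491 : ∀ u < 140154, (fun u => chkFix tab mwordsA u) u = true := ext_range (a := 140060) (len := 94) h1490 m2_1490
  have h1492 : ∀ u < 140248, (fun u => chkFix tab mwordsA u) u = true := ext_range (a := 140154) (len := 94) h1491 m2_1491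
  have h1493 : ∀ u < 140342, (fun u => chkFix tab mwordsA u) u = true := ext_range (a := 140248) (len := 94) h1492 m2_1492
  have h1494 : ∀ u < 140436, (fun u => chkFix tab mwordsA u) u = true := ext_range (a := 140342) (len := 94) h1493 m2_1493
  have h1495 : ∀ u < 140530, (fun u => chkFix tab mwordsA u) u = true := ext_range (a := 140436) (len := 94) h1494 m2_1494
  have h1496 : ∀ u < 140624, (fun u => chkFix tab mwordsA u) u = true := ext_range (a := 140530) (len := 94) h1495 m2_1495
  have h1497 : ∀ u < 140718, (fun u => chkFix tab mwordsA u) u = true := ext_range (a := 140624) (len := 94) h1496 m2_1496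
  have h1498 : ∀ u < 140812, (fun u => chkFix tab mwordsA u) u = true := ext_range (a := 140718) (len := 94) h1497 m2_1497
  have h1499 : ∀ u < 140906, (fun u => chkFix tab mwordsA u) u = true := ext_range (a := 140812) (len := 94) h1498 m2_1498
  have h1500 : ∀ u < 141000, (fun u => chkFix tab mwordsA u) u = true := ext_range (a := 140906) (len := 94) h1499 m2_1499
  have h1501 : ∀ u < 141094, (fun u => chkFix tab mwordsA u) u = true := ext_range (a := 141000) (len := 94) h1500 m2_1500
  have h1502 : ∀ u < 141188, (fun u => chkFix tab mwordsA u) u = true := ext_range (a := 141094) (len := 94) h1501 m2_1501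
  have h1503 : ∀ u < 141282, (fun u => chkFix tab mwordsA u) u = true := ext_range (a := 141188) (len := 94) h1502 m2_1502
  have h1504 : ∀ u < 141376, (fun u => chkFix tab mwordsA u) u = true := ext_range (a := 141282) (len := 94) h1503 m2_1503
  have h1505 : ∀ u < 141470, (fun u => chkFix tab mwordsA u) u = true := ext_range (a := 141376) (len := 94) h1504 m2_1504
  have h1506 : ∀ u < 141564, (fun u => chkFix tab mwordsA u) u = true := ext_range (a := 141470) (len := 94) h1505 m2_1505
  have h1507 : ∀ u < 141658, (fun u => chkFix tab mwordsA u) u = true := ext_range (a := 141564) (len := 94) h1506 m2_1506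
  have h1508 : ∀ u < 141752, (fun u => chkFix tab mwordsA u) u = true := ext_range (a := 141658) (len := 94) h1507 m2_1507
  have h1509 : ∀ u < 141846, (fun u => chkFix tab mwordsA u) u = true := ext_range (a := 141752) (len := 94) h1508 m2_1508
  have h1510 : ∀ u < 141940, (fun u => chkFix tab mwordsA u) u = true := ext_range (a := 141846) (len := 94) h1509 m2_1509
  have h1511 : ∀ u < 142034, (fun u => chkFix tab mwordsA u) u = true := ext_range (a := 141940) (len := 94) h1510 m2_1510
  have h1512 : ∀ u < 142128, (fun u => chkFix tab mwordsA u) u = true := ext_range (a := 142034) (len := 94) h1511 m2_1511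
  have h1513 : ∀ u < 142222, (fun u => chkFix tab mwordsA u) u = true := ext_range (a := 142128) (len := 94) h1512 m2_1512
  have h1514 : ∀ u < 142316, (fun u => chkFix tab mwordsA u) u = true := ext_range (a := 142222) (len := 94) h1513 m2_1513
  have h1515 : ∀ u < 142410, (fun u => chkFix tab mwordsA u) u = true := ext_range (a := 142316) (len := 94) h1514 m2_1514
  have h1516 : ∀ u < 142504, (fun u => chkFix tab mwordsA u) u = true := ext_range (a := 142410) (len := 94) h1515 m2_1515
  have h1517 : ∀ u < 142598, (fun u => chkFix tab mwordsA u) u = true := ext_range (a := 142504) (len := 94) h1516 m2_1516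
  have h1518 : ∀ u < 142692, (fun u => chkFix tab mwordsA u) u = true := ext_range (a := 142598) (len := 94) h1517 m2_1517
  have h1519 : ∀ u < 142786, (fun u => chkFix tab mwordsA u) u = true := ext_range (a := 142692) (len := 94) h1518 m2_1518
  have h1520 : ∀ u < 142880, (fun u => chkFix tab mwordsA u) u = true := ext_range (a := 142786) (len := 94) h1519 m2_1519
  have h1521 : ∀ u < 142974, (fun u => chkFix tab mwordsA u) u = true := ext_range (a := 142880) (len := 94) h1520 m2_1520
  have h1522 : ∀ u < 143068, (fun u => chkFix tab mwordsA u) u = true := ext_range (a := 142974) (len := 94) h1521 m2_1521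
  have h1523 : ∀ u < 143162, (fun u => chkFix tab mwordsA u) u = true := ext_range (a := 143068) (len := 94) h1522 m2_1522
  have h1524 : ∀ u < 143256, (fun u => chkFix tab mwordsA u) u = true := ext_range (a := 143162) (len := 94) h1523 m2_1523
  have h1525 : ∀ u < 143350, (fun u => chkFix tab mwordsA u) u = true := ext_range (a := 143256) (len := 94) h1524 m2_1524
  have h1526 : ∀ u < 143444, (fun u => chkFix tab mwordsA u) u = true := ext_range (a := 143350) (len := 94) h1525 m2_1525
  have h1527 : ∀ u < 143538, (fun u => chkFix tab mwordsA u) u = true := ext_range (a := 143444) (len := 94) h1526 m2_1526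
  have h1528 : ∀ u < 143632, (fun u => chkFix tab mwordsA u) u = true := ext_range (a := 143538) (len := 94) h1527 m2_1527
  have h1529 : ∀ u < 143726, (fun u => chkFix tab mwordsA u) u = true := ext_range (a := 143632) (len := 94) h1528 m2_1528
  have h1530 : ∀ u < 143820, (fun u => chkFix tab mwordsA u) u = true := ext_range (a := 143726) (len := 94) h1529 m2_1529
  have h1531 : ∀ u < 143914, (fun u => chkFix tab mwordsA u) u = true := ext_range (a := 143820) (len := 94) h1530 m2_1530
  have h1532 : ∀ u < 144008, (fun u => chkFix tab mwordsA u) u = true := ext_range (a := 143914) (len := 94) h1531 m2_1531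
  have h1533 : ∀ u < 144102, (fun u => chkFix tab mwordsA u) u = true := ext_range (a := 144008) (len := 94) h1532 m2_1532
  have h1534 : ∀ u < 144196, (fun u => chkFix tab mwordsA u) u = true := ext_range (a := 144102) (len := 94) h1533 m2_1533
  have h1535 : ∀ u < 144290, (fun u => chkFix tab mwordsA u) u = true := ext_range (a := 144196) (len := 94) h1534 m2_1534
  have h1536 : ∀ u < 144384, (fun u => chkFix tab mwordsA u) u = true := ext_range (a := 144290) (len := 94) h1535 m2_1535
  have h1537 : ∀ u < 144478, (fun u => chkFix tab mwordsA u) u = true := ext_range (a := 144384) (len := 94) h1536 m2_1536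
  have h1538 : ∀ u < 144572, (fun u => chkFix tab mwordsA u) u = true := ext_range (a := 144478) (len := 94) h1537 m2_1537
  have h1539 : ∀ u < 144666, (fun u => chkFix tab mwordsA u) u = true := ext_range (a := 144572) (len := 94) h1538 m2_1538
  have h1540 : ∀ u < 144760, (fun u => chkFix tab mwordsA u) u = true := ext_range (a := 144666) (len := 94) h1539 m2_1539
  have h1541 : ∀ u < 144854, (fun u => chkFix tab mwordsA u) u = true := ext_range (a := 144760) (len := 94) h1540 m2_1540
  have h1542 : ∀ u < 144948, (fun u => chkFix tab mwordsA u) u = true := ext_range (a := 144854) (len := 94) h1541 m2_1541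
  have h1543 : ∀ u < 145042, (fun u => chkFix tab mwordsA u) u = true := ext_range (a := 144948) (len := 94) h1542 m2_1542
  have h1544 : ∀ u < 145136, (fun u => chkFix tab mwordsA u) u = true := ext_range (a := 145042) (len := 94) h1543 m2_1543
  have h1545 : ∀ u < 145230, (fun u => chkFix tab mwordsA u) u = true := ext_range (a := 145136) (len := 94) h1544 m2_1544
  have h1546 : ∀ u < 145324, (fun u => chkFix tab mwordsA u) u = true := ext_range (a := 145230) (len := 94) h1545 m2_1545
  have h1547 : ∀ u < 145418, (fun u => chkFix tab mwordsA u) u = true := ext_range (a := 145324) (len := 94) h1546 m2_1546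
  have h1548 : ∀ u < 145512, (fun u => chkFix tab mwordsA u) u = true := ext_range (a := 145418) (len := 94) h1547 m2_1547
  have h1549 : ∀ u < 145606, (fun u => chkFix tab mwordsA u) u = true := ext_range (a := 145512) (len := 94) h1548 m2_1548
  have h1550 : ∀ u < 145700, (fun u => chkFix tab mwordsA u) u = true := ext_range (a := 145606) (len := 94) h1549 m2_1549
  have h1551 : ∀ u < 145794, (fun u => chkFix tab mwordsA u) u = true := ext_range (a := 145700) (len := 94) h1550 m2_1550
  have h1552 : ∀ u < 145888, (fun u => chkFix tab mwordsA u) u = true := ext_range (a := 145794) (len := 94) h1551 m2_1551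
  have h1553 : ∀ u < 145982, (fun u => chkFix tab mwordsA u) u = true := ext_range (a := 145888) (len := 94) h1552 m2_1552
  have h1554 : ∀ u < 146076, (fun u => chkFix tab mwordsA u) u = true := ext_range (a := 145982) (len := 94) h1553 m2_1553
  have h1555 : ∀ u < 146170, (fun u => chkFix tab mwordsA u) u = true := ext_range (a := 146076) (len := 94) h1554 m2_1554
  have h1556 : ∀ u < 146264, (fun u => chkFix tab mwordsA u) u = true := ext_range (a := 146170) (len := 94) h1555 m2_1555
  have h1557 : ∀ u < 146358, (fun u => chkFix tab mwordsA u) u = true := ext_range (a := 146264) (len := 94) h1556 m2_1556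
  have h1558 : ∀ u < 146452, (fun u => chkFix tab mwordsA u) u = true := ext_range (a := 146358) (len := 94) h1557 m2_1557
  have h1559 : ∀ u < 146546, (fun u => chkFix tab mwordsA u) u = true := ext_range (a := 146452) (len := 94) h1558 m2_1558
  have h1560 : ∀ u < 146640, (fun u => chkFix tab mwordsA u) u = true := ext_range (a := 146546) (len := 94) h1559 m2_1559
  have h1561 : ∀ u < 146734, (fun u => chkFix tab mwordsA u) u = true := ext_range (a := 146640) (len := 94) h1560 m2_1560
  have h1562 : ∀ u < 146828, (fun u => chkFix tab mwordsA u) u = true := ext_range (a := 146734) (len := 94) h1561 m2_1561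
  have h1563 : ∀ u < 146922, (fun u => chkFix tab mwordsA u) u = true := ext_range (a := 146828) (len := 94) h1562 m2_1562
  have h1564 : ∀ u < 147016, (fun u => chkFix tab mwordsA u) u = true := ext_range (a := 146922) (len := 94) h1563 m2_1563
  have h1565 : ∀ u < 147110, (fun u => chkFix tab mwordsA u) u = true := ext_range (a := 147016) (len := 94) h1564 m2_1564
  have h1566 : ∀ u < 147204, (fun u => chkFix tab mwordsA u) u = true := ext_range (a := 147110) (len := 94) h1565 m2_1565
  have h1567 : ∀ u < 147298, (fun u => chkFix tab mwordsA u) u = true := ext_range (a := 147204) (len := 94) h1566 m2_1566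
  have h1568 : ∀ u < 147392, (fun u => chkFix tab mwordsA u) u = true := ext_range (a := 147298) (len := 94) h1567 m2_1567
  have h1569 : ∀ u < 147486, (fun u => chkFix tab mwordsA u) u = true := ext_range (a := 147392) (len := 94) h1568 m2_1568
  have h1570 : ∀ u < 147580, (fun u => chkFix tab mwordsA u) u = true := ext_range (a := 147486) (len := 94) h1569 m2_1569
  have h1571 : ∀ u < 147674, (fun u => chkFix tab mwordsA u) u = true := ext_range (a := 147580) (len := 94) h1570 m2_1570
  have h1572 : ∀ u < 147768, (fun u => chkFix tab mwordsA u) u = true := ext_range (a := 147674) (len := 94) h1571 m2_1571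
  have h1573 : ∀ u < 147862, (fun u => chkFix tab mwordsA u) u = true := ext_range (a := 147768) (len := 94) h1572 m2_1572
  have h1574 : ∀ u < 147956, (fun u => chkFix tab mwordsA u) u = true := ext_range (a := 147862) (len := 94) h1573 m2_1573
  have h1575 : ∀ u < 148050, (fun u => chkFix tab mwordsA u) u = true := ext_range (a := 147956) (len := 94) h1574 m2_1574
  have h1576 : ∀ u < 148144, (fun u => chkFix tab mwordsA u) u = true := ext_range (a := 148050) (len := 94) h1575 m2_1575
  have h1577 : ∀ u < 148238, (fun u => chkFix tab mwordsA u) u = true := ext_range (a := 148144) (len := 94) h1576 m2_1576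
  have h1578 : ∀ u < 148332, (fun u => chkFix tab mwordsA u) u = true := ext_range (a := 148238) (len := 94) h1577 m2_1577
  have h1579 : ∀ u < 148426, (fun u => chkFix tab mwordsA u) u = true := ext_range (a := 148332) (len := 94) h1578 m2_1578
  have h1580 : ∀ u < 148520, (fun u => chkFix tab mwordsA u) u = true := ext_range (a := 148426) (len := 94) h1579 m2_1579
  have h1581 : ∀ u < 148614, (fun u => chkFix tab mwordsA u) u = true := ext_range (a := 148520) (len := 94) h1580 m2_1580
  have h1582 : ∀ u < 148708, (fun u => chkFix tab mwordsA u) u = true := ext_range (a := 148614) (len := 94) h1581 m2_1581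
  have h1583 : ∀ u < 148802, (fun u => chkFix tab mwordsA u) u = true := ext_range (a := 148708) (len := 94) h1582 m2_1582
  have h1584 : ∀ u < 148896, (fun u => chkFix tab mwordsA u) u = true := ext_range (a := 148802) (len := 94) h1583 m2_1583
  have h1585 : ∀ u < 148990, (fun u => chkFix tab mwordsA u) u = true := ext_range (a := 148896) (len := 94) h1584 m2_1584
  have h1586 : ∀ u < 149084, (fun u => chkFix tab mwordsA u) u = true := ext_range (a := 148990) (len := 94) h1585 m2_1585
  have h1587 : ∀ u < 149178, (fun u => chkFix tab mwordsA u) u = true := ext_range (a := 149084) (len := 94) h1586 m2_1586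
  have h1588 : ∀ u < 149272, (fun u => chkFix tab mwordsA u) u = true := ext_range (a := 149178) (len := 94) h1587 m2_1587
  have h1589 : ∀ u < 149366, (fun u => chkFix tab mwordsA u) u = true := ext_range (a := 149272) (len := 94) h1588 m2_1588
  have h1590 : ∀ u < 149460, (fun u => chkFix tab mwordsA u) u = true := ext_range (a := 149366) (len := 94) h1589 m2_1589
  have h1591 : ∀ u < 149554, (fun u => chkFix tab mwordsA u) u = true := ext_range (a := 149460) (len := 94) h1590 m2_1590
  have h1592 : ∀ u < 149648, (fun u => chkFix tab mwordsA u) u = true := ext_range (a := 149554) (len := 94) h1591 m2_1591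
  have h1593 : ∀ u < 149742, (fun u => chkFix tab mwordsA u) u = true := ext_range (a := 149648) (len := 94) h1592 m2_1592
  have h1594 : ∀ u < 149836, (fun u => chkFix tab mwordsA u) u = true := ext_range (a := 149742) (len := 94) h1593 m2_1593
  have h1595 : ∀ u < 149930, (fun u => chkFix tab mwordsA u) u = true := ext_range (a := 149836) (len := 94) h1594 m2_1594
  have h1596 : ∀ u < 150024, (fun u => chkFix tab mwordsA u) u = true := ext_range (a := 149930) (len := 94) h1595 m2_1595
  have h1597 : ∀ u < 150118, (fun u => chkFix tab mwordsA u) u = true := ext_range (a := 150024) (len := 94) h1596 m2_1596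
  have h1598 : ∀ u < 150212, (fun u => chkFix tab mwordsA u) u = true := ext_range (a := 150118) (len := 94) h1597 m2_1597
  have h1599 : ∀ u < 150306, (fun u => chkFix tab mwordsA u) u = true := ext_range (a := 150212) (len := 94) h1598 m2_1598
  have h1600 : ∀ u < 150400, (fun u => chkFix tab mwordsA u) u = true := ext_range (a := 150306) (len := 94) h1599 m2_1599
  have h1601 : ∀ u < 150494, (fun u => chkFix tab mwordsA u) u = true := ext_range (a := 150400) (len := 94) h1600 m2_1600
  have h1602 : ∀ u < 150588, (fun u => chkFix tab mwordsA u) u = true := ext_range (a := 150494) (len := 94) h1601 m2_1601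
  have h1603 : ∀ u < 150682, (fun u => chkFix tab mwordsA u) u = true := ext_range (a := 150588) (len := 94) h1602 m2_1602
  have h1604 : ∀ u < 150776, (fun u => chkFix tab mwordsA u) u = true := ext_range (a := 150682) (len := 94) h1603 m2_1603
  have h1605 : ∀ u < 150870, (fun u => chkFix tab mwordsA u) u = true := ext_range (a := 150776) (len := 94) h1604 m2_1604
  have h1606 : ∀ u < 150964, (fun u => chkFix tab mwordsA u) u = true := ext_range (a := 150870) (len := 94) h1605 m2_1605
  have h1607 : ∀ u < 151058, (fun u => chkFix tab mwordsA u) u = true := ext_range (a := 150964) (len := 94) h1606 m2_1606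
  have h1608 : ∀ u < 151152, (fun u => chkFix tab mwordsA u) u = true := ext_range (a := 151058) (len := 94) h1607 m2_1607
  have h1609 : ∀ u < 151246, (fun u => chkFix tab mwordsA u) u = true := ext_range (a := 151152) (len := 94) h1608 m2_1608
  have h1610 : ∀ u < 151340, (fun u => chkFix tab mwordsA u) u = true := ext_range (a := 151246) (len := 94) h1609 m2_1609
  have h1611 : ∀ u < 151434, (fun u => chkFix tab mwordsA u) u = true := ext_range (a := 151340) (len := 94) h1610 m2_1610
  have h1612 : ∀ u < 151528, (fun u => chkFix tab mwordsA u) u = true := ext_range (a := 151434) (len := 94) h1611 m2_1611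
  have h1613 : ∀ u < 151622, (fun u => chkFix tab mwordsA u) u = true := ext_range (a := 151528) (len := 94) h1612 m2_1612
  have h1614 : ∀ u < 151716, (fun u => chkFix tab mwordsA u) u = true := ext_range (a := 151622) (len := 94) h1613 m2_1613
  have h1615 : ∀ u < 151810, (fun u => chkFix tab mwordsA u) u = true := ext_range (a := 151716) (len := 94) h1614 m2_1614
  have h1616 : ∀ u < 151904, (fun u => chkFix tab mwordsA u) u = true := ext_range (a := 151810) (len := 94) h1615 m2_1615
  have h1617 : ∀ u < 151998, (fun u => chkFix tab mwordsA u) u = true := ext_range (a := 151904) (len := 94) h1616 m2_1616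
  have h1618 : ∀ u < 152092, (fun u => chkFix tab mwordsA u) u = true := ext_range (a := 151998) (len := 94) h1617 m2_1617
  have h1619 : ∀ u < 152186, (fun u => chkFix tab mwordsA u) u = true := ext_range (a := 152092) (len := 94) h1618 m2_1618
  have h1620 : ∀ u < 152280, (fun u => chkFix tab mwordsA u) u = true := ext_range (a := 152186) (len := 94) h1619 m2_1619
  have h1621 : ∀ u < 152374, (fun u => chkFix tab mwordsA u) u = true := ext_range (a := 152280) (len := 94) h1620 m2_1620
  have h1622 : ∀ u < 152468, (fun u => chkFix tab mwordsA u) u = true := ext_range (a := 152374) (len := 94) h1621 m2_1621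
  have h1623 : ∀ u < 152562, (fun u => chkFix tab mwordsA u) u = true := ext_range (a := 152468) (len := 94) h1622 m2_1622
  have h1624 : ∀ u < 152656, (fun u => chkFix tab mwordsA u) u = true := ext_range (a := 152562) (len := 94) h1623 m2_1623
  have h1625 : ∀ u < 152750, (fun u => chkFix tab mwordsA u) u = true := ext_range (a := 152656) (len := 94) h1624 m2_1624
  have h1626 : ∀ u < 152844, (fun u => chkFix tab mwordsA u) u = true := ext_range (a := 152750) (len := 94) h1625 m2_1625
  have h1627 : ∀ u < 152938, (fun u => chkFix tab mwordsA u) u = true := ext_range (a := 152844) (len := 94) h1626 m2_1626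
  have h1628 : ∀ u < 153032, (fun u => chkFix tab mwordsA u) u = true := ext_range (a := 152938) (len := 94) h1627 m2_1627
  have h1629 : ∀ u < 153126, (fun u => chkFix tab mwordsA u) u = true := ext_range (a := 153032) (len := 94) h1628 m2_1628
  have h1630 : ∀ u < 153220, (fun u => chkFix tab mwordsA u) u = true := ext_range (a := 153126) (len := 94) h1629 m2_1629
  have h1631 : ∀ u < 153314, (fun u => chkFix tab mwordsA u) u = true := ext_range (a := 153220) (len := 94) h1630 m2_1630
  have h1632 : ∀ u < 153408, (fun u => chkFix tab mwordsA u) u = true := ext_range (a := 153314) (len := 94) h1631 m2_1631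
  have h1633 : ∀ u < 153502, (fun u => chkFix tab mwordsA u) u = true := ext_range (a := 153408) (len := 94) h1632 m2_1632
  have h1634 : ∀ u < 153596, (fun u => chkFix tab mwordsA u) u = true := ext_range (a := 153502) (len := 94) h1633 m2_1633
  have h1635 : ∀ u < 153690, (fun u => chkFix tab mwordsA u) u = true := ext_range (a := 153596) (len := 94) h1634 m2_1634
  have h1636 : ∀ u < 153784, (fun u => chkFix tab mwordsA u) u = true := ext_range (a := 153690) (len := 94) h1635 m2_1635
  have h1637 : ∀ u < 153878, (fun u => chkFix tab mwordsA u) u = true := ext_range (a := 153784) (len := 94) h1636 m2_1636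
  have h1638 : ∀ u < 153972, (fun u => chkFix tab mwordsA u) u = true := ext_range (a := 153878) (len := 94) h1637 m2_1637
  have h1639 : ∀ u < 154066, (fun u => chkFix tab mwordsA u) u = true := ext_range (a := 153972) (len := 94) h1638 m2_1638
  have h1640 : ∀ u < 154160, (fun u => chkFix tab mwordsA u) u = true := ext_range (a := 154066) (len := 94) h1639 m2_1639
  have h1641 : ∀ u < 154254, (fun u => chkFix tab mwordsA u) u = true := ext_range (a := 154160) (len := 94) h1640 m2_1640
  have h1642 : ∀ u < 154348, (fun u => chkFix tab mwordsA u) u = true := ext_range (a := 154254) (len := 94) h1641 m2_1641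
  have h1643 : ∀ u < 154442, (fun u => chkFix tab mwordsA u) u = true := ext_range (a := 154348) (len := 94) h1642 m2_1642
  have h1644 : ∀ u < 154536, (fun u => chkFix tab mwordsA u) u = true := ext_range (a := 154442) (len := 94) h1643 m2_1643
  have h1645 : ∀ u < 154630, (fun u => chkFix tab mwordsA u) u = true := ext_range (a := 154536) (len := 94) h1644 m2_1644
  have h1646 : ∀ u < 154724, (fun u => chkFix tab mwordsA u) u = true := ext_range (a := 154630) (len := 94) h1645 m2_1645
  have h1647 : ∀ u < 154818, (fun u => chkFix tab mwordsA u) u = true := ext_range (a := 154724) (len := 94) h1646 m2_1646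
  have h1648 : ∀ u < 154912, (fun u => chkFix tab mwordsA u) u = true := ext_range (a := 154818) (len := 94) h1647 m2_1647
  have h1649 : ∀ u < 155006, (fun u => chkFix tab mwordsA u) u = true := ext_range (a := 154912) (len := 94) h1648 m2_1648
  have h1650 : ∀ u < 155100, (fun u => chkFix tab mwordsA u) u = true := ext_range (a := 155006) (len := 94) h1649 m2_1649
  have h1651 : ∀ u < 155194, (fun u => chkFix tab mwordsA u) u = true := ext_range (a := 155100) (len := 94) h1650 m2_1650
  have h1652 : ∀ u < 155288, (fun u => chkFix tab mwordsA u) u = true := ext_range (a := 155194) (len := 94) h1651 m2_1651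
  have h1653 : ∀ u < 155382, (fun u => chkFix tab mwordsA u) u = true := ext_range (a := 155288) (len := 94) h1652 m2_1652
  have h1654 : ∀ u < 155476, (fun u => chkFix tab mwordsA u) u = true := ext_range (a := 155382) (len := 94) h1653 m2_1653
  have h1655 : ∀ u < 155570, (fun u => chkFix tab mwordsA u) u = true := ext_range (a := 155476) (len := 94) h1654 m2_1654
  have h1656 : ∀ u < 155664, (fun u => chkFix tab mwordsA u) u = true := ext_range (a := 155570) (len := 94) h1655 m2_1655
  have h1657 : ∀ u < 155758, (fun u => chkFix tab mwordsA u) u = true := ext_range (a := 155664) (len := 94) h1656 m2_1656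
  have h1658 : ∀ u < 155852, (fun u => chkFix tab mwordsA u) u = true := ext_range (a := 155758) (len := 94) h1657 m2_1657
  have h1659 : ∀ u < 155946, (fun u => chkFix tab mwordsA u) u = true := ext_range (a := 155852) (len := 94) h1658 m2_1658
  have h1660 : ∀ u < 156040, (fun u => chkFix tab mwordsA u) u = true := ext_range (a := 155946) (len := 94) h1659 m2_1659
  have h1661 : ∀ u < 156134, (fun u => chkFix tab mwordsA u) u = true := ext_range (a := 156040) (len := 94) h1660 m2_1660
  have h1662 : ∀ u < 156228, (fun u => chkFix tab mwordsA u) u = true := ext_range (a := 156134) (len := 94) h1661 m2_1661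
  have h1663 : ∀ u < 156322, (fun u => chkFix tab mwordsA u) u = true := ext_range (a := 156228) (len := 94) h1662 m2_1662
  have h1664 : ∀ u < 156416, (fun u => chkFix tab mwordsA u) u = true := ext_range (a := 156322) (len := 94) h1663 m2_1663
  have h1665 : ∀ u < 156510, (fun u => chkFix tab mwordsA u) u = true := ext_range (a := 156416) (len := 94) h1664 m2_1664
  have h1666 : ∀ u < 156604, (fun u => chkFix tab mwordsA u) u = true := ext_range (a := 156510) (len := 94) h1665 m2_1665
  have h1667 : ∀ u < 156698, (fun u => chkFix tab mwordsA u) u = true := ext_range (a := 156604) (len := 94) h1666 m2_1666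
  have h1668 : ∀ u < 156792, (fun u => chkFix tab mwordsA u) u = true := ext_range (a := 156698) (len := 94) h1667 m2_1667
  have h1669 : ∀ u < 156886, (fun u => chkFix tab mwordsA u) u = true := ext_range (a := 156792) (len := 94) h1668 m2_1668
  have h1670 : ∀ u < 156980, (fun u => chkFix tab mwordsA u) u = true := ext_range (a := 156886) (len := 94) h1669 m2_1669
  have h1671 : ∀ u < 157074, (fun u => chkFix tab mwordsA u) u = true := ext_range (a := 156980) (len := 94) h1670 m2_1670
  have h1672 : ∀ u < 157168, (fun u => chkFix tab mwordsA u) u = true := ext_range (a := 157074) (len := 94) h1671 m2_1671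
  have h1673 : ∀ u < 157262, (fun u => chkFix tab mwordsA u) u = true := ext_range (a := 157168) (len := 94) h1672 m2_1672
  have h1674 : ∀ u < 157356, (fun u => chkFix tab mwordsA u) u = true := ext_range (a := 157262) (len := 94) h1673 m2_1673
  have h1675 : ∀ u < 157450, (fun u => chkFix tab mwordsA u) u = true := ext_range (a := 157356) (len := 94) h1674 m2_1674
  have h1676 : ∀ u < 157544, (fun u => chkFix tab mwordsA u) u = true := ext_range (a := 157450) (len := 94) h1675 m2_1675
  have h1677 : ∀ u < 157638, (fun u => chkFix tab mwordsA u) u = true := ext_range (a := 157544) (len := 94) h1676 m2_1676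
  have h1678 : ∀ u < 157732, (fun u => chkFix tab mwordsA u) u = true := ext_range (a := 157638) (len := 94) h1677 m2_1677
  have h1679 : ∀ u < 157826, (fun u => chkFix tab mwordsA u) u = true := ext_range (a := 157732) (len := 94) h1678 m2_1678
  have h1680 : ∀ u < 157920, (fun u => chkFix tab mwordsA u) u = true := ext_range (a := 157826) (len := 94) h1679 m2_1679
  have h1681 : ∀ u < 158014, (fun u => chkFix tab mwordsA u) u = true := ext_range (a := 157920) (len := 94) h1680 m2_1680
  have h1682 : ∀ u < 158108, (fun u => chkFix tab mwordsA u) u = true := ext_range (a := 158014) (len := 94) h1681 m2_1681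
  have h1683 : ∀ u < 158202, (fun u => chkFix tab mwordsA u) u = true := ext_range (a := 158108) (len := 94) h1682 m2_1682
  have h1684 : ∀ u < 158296, (fun u => chkFix tab mwordsA u) u = true := ext_range (a := 158202) (len := 94) h1683 m2_1683
  have h1685 : ∀ u < 158390, (fun u => chkFix tab mwordsA u) u = true := ext_range (a := 158296) (len := 94) h1684 m2_1684
  have h1686 : ∀ u < 158484, (fun u => chkFix tab mwordsA u) u = true := ext_range (a := 158390) (len := 94) h1685 m2_1685
  have h1687 : ∀ u < 158578, (fun u => chkFix tab mwordsA u) u = true := ext_range (a := 158484) (len := 94) h1686 m2_1686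
  have h1688 : ∀ u < 158672, (fun u => chkFix tab mwordsA u) u = true := ext_range (a := 158578) (len := 94) h1687 m2_1687
  have h1689 : ∀ u < 158766, (fun u => chkFix tab mwordsA u) u = true := ext_range (a := 158672) (len := 94) h1688 m2_1688
  have h1690 : ∀ u < 158860, (fun u => chkFix tab mwordsA u) u = true := ext_range (a := 158766) (len := 94) h1689 m2_1689
  have h1691 : ∀ u < 158954, (fun u => chkFix tab mwordsA u) u = true := ext_range (a := 158860) (len := 94) h1690 m2_1690
  have h1692 : ∀ u < 159048, (fun u => chkFix tab mwordsA u) u = true := ext_range (a := 158954) (len := 94) h1691 m2_1691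
  have h1693 : ∀ u < 159142, (fun u => chkFix tab mwordsA u) u = true := ext_range (a := 159048) (len := 94) h1692 m2_1692
  have h1694 : ∀ u < 159236, (fun u => chkFix tab mwordsA u) u = true := ext_range (a := 159142) (len := 94) h1693 m2_1693
  have h1695 : ∀ u < 159330, (fun u => chkFix tab mwordsA u) u = true := ext_range (a := 159236) (len := 94) h1694 m2_1694
  have h1696 : ∀ u < 159424, (fun u => chkFix tab mwordsA u) u = true := ext_range (a := 159330) (len := 94) h1695 m2_1695
  have h1697 : ∀ u < 159518, (fun u => chkFix tab mwordsA u) u = true := ext_range (a := 159424) (len := 94) h1696 m2_1696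
  have h1698 : ∀ u < 159612, (fun u => chkFix tab mwordsA u) u = true := ext_range (a := 159518) (len := 94) h1697 m2_1697
  have h1699 : ∀ u < 159706, (fun u => chkFix tab mwordsA u) u = true := ext_range (a := 159612) (len := 94) h1698 m2_1698
  have h1700 : ∀ u < 159800, (fun u => chkFix tab mwordsA u) u = true := ext_range (a := 159706) (len := 94) h1699 m2_1699
  have h1701 : ∀ u < 159894, (fun u => chkFix tab mwordsA u) u = true := ext_range (a := 159800) (len := 94) h1700 m2_1700
  have h1702 : ∀ u < 159988, (fun u => chkFix tab mwordsA u) u = true := ext_range (a := 159894) (len := 94) h1701 m2_1701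
  have h1703 : ∀ u < 160082, (fun u => chkFix tab mwordsA u) u = true := ext_range (a := 159988) (len := 94) h1702 m2_1702
  have h1704 : ∀ u < 160176, (fun u => chkFix tab mwordsA u) u = true := ext_range (a := 160082) (len := 94) h1703 m2_1703
  have h1705 : ∀ u < 160270, (fun u => chkFix tab mwordsA u) u = true := ext_range (a := 160176) (len := 94) h1704 m2_1704
  have h1706 : ∀ u < 160364, (fun u => chkFix tab mwordsA u) u = true := ext_range (a := 160270) (len := 94) h1705 m2_1705
  have h1707 : ∀ u < 160458, (fun u => chkFix tab mwordsA u) u = true := ext_range (a := 160364) (len := 94) h1706 m2_1706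
  have h1708 : ∀ u < 160552, (fun u => chkFix tab mwordsA u) u = true := ext_range (a := 160458) (len := 94) h1707 m2_1707
  have h1709 : ∀ u < 160646, (fun u => chkFix tab mwordsA u) u = true := ext_range (a := 160552) (len := 94) h1708 m2_1708
  have h1710 : ∀ u < 160740, (fun u => chkFix tab mwordsA u) u = true := ext_range (a := 160646) (len := 94) h1709 m2_1709
  have h1711 : ∀ u < 160834, (fun u => chkFix tab mwordsA u) u = true := ext_range (a := 160740) (len := 94) h1710 m2_1710
  have h1712 : ∀ u < 160928, (fun u => chkFix tab mwordsA u) u = true := ext_range (a := 160834) (len := 94) h1711 m2_1711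
  have h1713 : ∀ u < 161022, (fun u => chkFix tab mwordsA u) u = true := ext_range (a := 160928) (len := 94) h1712 m2_1712
  have h1714 : ∀ u < 161116, (fun u => chkFix tab mwordsA u) u = true := ext_range (a := 161022) (len := 94) h1713 m2_1713
  have h1715 : ∀ u < 161210, (fun u => chkFix tab mwordsA u) u = true := ext_range (a := 161116) (len := 94) h1714 m2_1714
  have h1716 : ∀ u < 161304, (fun u => chkFix tab mwordsA u) u = true := ext_range (a := 161210) (len := 94) h1715 m2_1715
  have h1717 : ∀ u < 161398, (fun u => chkFix tab mwordsA u) u = true := ext_range (a := 161304) (len := 94) h1716 m2_1716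
  have h1718 : ∀ u < 161492, (fun u => chkFix tab mwordsA u) u = true := ext_range (a := 161398) (len := 94) h1717 m2_1717
  have h1719 : ∀ u < 161586, (fun u => chkFix tab mwordsA u) u = true := ext_range (a := 161492) (len := 94) h1718 m2_1718
  have h1720 : ∀ u < 161680, (fun u => chkFix tab mwordsA u) u = true := ext_range (a := 161586) (len := 94) h1719 m2_1719
  have h1721 : ∀ u < 161774, (fun u => chkFix tab mwordsA u) u = true := ext_range (a := 161680) (len := 94) h1720 m2_1720
  have h1722 : ∀ u < 161868, (fun u => chkFix tab mwordsA u) u = true := ext_range (a := 161774) (len := 94) h1721 m2_1721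
  have h1723 : ∀ u < 161962, (fun u => chkFix tab mwordsA u) u = true := ext_range (a := 161868) (len := 94) h1722 m2_1722
  have h1724 : ∀ u < 162056, (fun u => chkFix tab mwordsA u) u = true := ext_range (a := 161962) (len := 94) h1723 m2_1723
  have h1725 : ∀ u < 162150, (fun u => chkFix tab mwordsA u) u = true := ext_range (a := 162056) (len := 94) h1724 m2_1724
  have h1726 : ∀ u < 162244, (fun u => chkFix tab mwordsA u) u = true := ext_range (a := 162150) (len := 94) h1725 m2_1725
  have h1727 : ∀ u < 162338, (fun u => chkFix tab mwordsA u) u = true := ext_range (a := 162244) (len := 94) h1726 m2_1726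
  have h1728 : ∀ u < 162432, (fun u => chkFix tab mwordsA u) u = true := ext_range (a := 162338) (len := 94) h1727 m2_1727
  have h1729 : ∀ u < 162526, (fun u => chkFix tab mwordsA u) u = true := ext_range (a := 162432) (len := 94) h1728 m2_1728
  have h1730 : ∀ u < 162620, (fun u => chkFix tab mwordsA u) u = true := ext_range (a := 162526) (len := 94) h1729 m2_1729
  have h1731 : ∀ u < 162714, (fun u => chkFix tab mwordsA u) u = true := ext_range (a := 162620) (len := 94) h1730 m2_1730
  have h1732 : ∀ u < 162808, (fun u => chkFix tab mwordsA u) u = true := ext_range (a := 162714) (len := 94) h1731 m2_1731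
  have h1733 : ∀ u < 162902, (fun u => chkFix tab mwordsA u) u = true := ext_range (a := 162808) (len := 94) h1732 m2_1732
  have h1734 : ∀ u < 162996, (fun u => chkFix tab mwordsA u) u = true := ext_range (a := 162902) (len := 94) h1733 m2_1733
  have h1735 : ∀ u < 163090, (fun u => chkFix tab mwordsA u) u = true := ext_range (a := 162996) (len := 94) h1734 m2_1734
  have h1736 : ∀ u < 163184, (fun u => chkFix tab mwordsA u) u = true := ext_range (a := 163090) (len := 94) h1735 m2_1735
  have h1737 : ∀ u < 163278, (fun u => chkFix tab mwordsA u) u = true := ext_range (a := 163184) (len := 94) h1736 m2_1736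
  have h1738 : ∀ u < 163372, (fun u => chkFix tab mwordsA u) u = true := ext_range (a := 163278) (len := 94) h1737 m2_1737
  have h1739 : ∀ u < 163466, (fun u => chkFix tab mwordsA u) u = true := ext_range (a := 163372) (len := 94) h1738 m2_1738
  have h1740 : ∀ u < 163560, (fun u => chkFix tab mwordsA u) u = true := ext_range (a := 163466) (len := 94) h1739 m2_1739
  have h1741 : ∀ u < 163654, (fun u => chkFix tab mwordsA u) u = true := ext_range (a := 163560) (len := 94) h1740 m2_1740
  have h1742 : ∀ u < 163748, (fun u => chkFix tab mwordsA u) u = true := ext_range (a := 163654) (len := 94) h1741 m2_1741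
  have h1743 : ∀ u < 163842, (fun u => chkFix tab mwordsA u) u = true := ext_range (a := 163748) (len := 94) h1742 m2_1742
  have h1744 : ∀ u < 163936, (fun u => chkFix tab mwordsA u) u = true := ext_range (a := 163842) (len := 94) h1743 m2_1743
  have h1745 : ∀ u < 164030, (fun u => chkFix tab mwordsA u) u = true := ext_range (a := 163936) (len := 94) h1744 m2_1744
  have h1746 : ∀ u < 164124, (fun u => chkFix tab mwordsA u) u = true := ext_range (a := 164030) (len := 94) h1745 m2_1745
  have h1747 : ∀ u < 164218, (fun u => chkFix tab mwordsA u) u = true := ext_range (a := 164124) (len := 94) h1746 m2_1746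
  have h1748 : ∀ u < 164312, (fun u => chkFix tab mwordsA u) u = true := ext_range (a := 164218) (len := 94) h1747 m2_1747
  have h1749 : ∀ u < 164406, (fun u => chkFix tab mwordsA u) u = true := ext_range (a := 164312) (len := 94) h1748 m2_1748
  have h1750 : ∀ u < 164500, (fun u => chkFix tab mwordsA u) u = true := ext_range (a := 164406) (len := 94) h1749 m2_1749
  have h1751 : ∀ u < 164594, (fun u => chkFix tab mwordsA u) u = true := ext_range (a := 164500) (len := 94) h1750 m2_1750
  have h1752 : ∀ u < 164688, (fun u => chkFix tab mwordsA u) u = true := ext_range (a := 164594) (len := 94) h1751 m2_1751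
  have h1753 : ∀ u < 164782, (fun u => chkFix tab mwordsA u) u = true := ext_range (a := 164688) (len := 94) h1752 m2_1752
  have h1754 : ∀ u < 164876, (fun u => chkFix tab mwordsA u) u = true := ext_range (a := 164782) (len := 94) h1753 m2_1753
  have h1755 : ∀ u < 164970, (fun u => chkFix tab mwordsA u) u = true := ext_range (a := 164876) (len := 94) h1754 m2_1754
  have h1756 : ∀ u < 165064, (fun u => chkFix tab mwordsA u) u = true := ext_range (a := 164970) (len := 94) h1755 m2_1755
  have h1757 : ∀ u < 165158, (fun u => chkFix tab mwordsA u) u = true := ext_range (a := 165064) (len := 94) h1756 m2_1756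
  have h1758 : ∀ u < 165252, (fun u => chkFix tab mwordsA u) u = true := ext_range (a := 165158) (len := 94) h1757 m2_1757
  have h1759 : ∀ u < 165346, (fun u => chkFix tab mwordsA u) u = true := ext_range (a := 165252) (len := 94) h1758 m2_1758
  have h1760 : ∀ u < 165440, (fun u => chkFix tab mwordsA u) u = true := ext_range (a := 165346) (len := 94) h1759 m2_1759
  have h1761 : ∀ u < 165534, (fun u => chkFix tab mwordsA u) u = true := ext_range (a := 165440) (len := 94) h1760 m2_1760
  have h1762 : ∀ u < 165628, (fun u => chkFix tab mwordsA u) u = true := ext_range (a := 165534) (len := 94) h1761 m2_1761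
  have h1763 : ∀ u < 165722, (fun u => chkFix tab mwordsA u) u = true := ext_range (a := 165628) (len := 94) h1762 m2_1762
  have h1764 : ∀ u < 165816, (fun u => chkFix tab mwordsA u) u = true := ext_range (a := 165722) (len := 94) h1763 m2_1763
  have h1765 : ∀ u < 165910, (fun u => chkFix tab mwordsA u) u = true := ext_range (a := 165816) (len := 94) h1764 m2_1764
  have h1766 : ∀ u < 166004, (fun u => chkFix tab mwordsA u) u = true := ext_range (a := 165910) (len := 94) h1765 m2_1765
  have h1767 : ∀ u < 166098, (fun u => chkFix tab mwordsA u) u = true := ext_range (a := 166004) (len := 94) h1766 m2_1766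
  have h1768 : ∀ u < 166192, (fun u => chkFix tab mwordsA u) u = true := ext_range (a := 166098) (len := 94) h1767 m2_1767
  have h1769 : ∀ u < 166286, (fun u => chkFix tab mwordsA u) u = true := ext_range (a := 166192) (len := 94) h1768 m2_1768
  have h1770 : ∀ u < 166380, (fun u => chkFix tab mwordsA u) u = true := ext_range (a := 166286) (len := 94) h1769 m2_1769
  have h1771 : ∀ u < 166474, (fun u => chkFix tab mwordsA u) u = true := ext_range (a := 166380) (len := 94) h1770 m2_1770
  have h1772 : ∀ u < 166568, (fun u => chkFix tab mwordsA u) u = true := ext_range (a := 166474) (len := 94) h1771 m2_1771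
  have h1773 : ∀ u < 166662, (fun u => chkFix tab mwordsA u) u = true := ext_range (a := 166568) (len := 94) h1772 m2_1772
  have h1774 : ∀ u < 166756, (fun u => chkFix tab mwordsA u) u = true := ext_range (a := 166662) (len := 94) h1773 m2_1773
  have h1775 : ∀ u < 166850, (fun u => chkFix tab mwordsA u) u = true := ext_range (a := 166756) (len := 94) h1774 m2_1774
  have h1776 : ∀ u < 166944, (fun u => chkFix tab mwordsA u) u = true := ext_range (a := 166850) (len := 94) h1775 m2_1775
  have h1777 : ∀ u < 167038, (fun u => chkFix tab mwordsA u) u = true := ext_range (a := 166944) (len := 94) h1776 m2_1776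
  have h1778 : ∀ u < 167132, (fun u => chkFix tab mwordsA u) u = true := ext_range (a := 167038) (len := 94) h1777 m2_1777
  have h1779 : ∀ u < 167226, (fun u => chkFix tab mwordsA u) u = true := ext_range (a := 167132) (len := 94) h1778 m2_1778
  have h1780 : ∀ u < 167320, (fun u => chkFix tab mwordsA u) u = true := ext_range (a := 167226) (len := 94) h1779 m2_1779
  have h1781 : ∀ u < 167414, (fun u => chkFix tab mwordsA u) u = true := ext_range (a := 167320) (len := 94) h1780 m2_1780
  have h1782 : ∀ u < 167508, (fun u => chkFix tab mwordsA u) u = true := ext_range (a := 167414) (len := 94) h1781 m2_1781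
  have h1783 : ∀ u < 167602, (fun u => chkFix tab mwordsA u) u = true := ext_range (a := 167508) (len := 94) h1782 m2_1782
  have h1784 : ∀ u < 167696, (fun u => chkFix tab mwordsA u) u = true := ext_range (a := 167602) (len := 94) h1783 m2_1783
  have h1785 : ∀ u < 167790, (fun u => chkFix tab mwordsA u) u = true := ext_range (a := 167696) (len := 94) h1784 m2_1784
  have h1786 : ∀ u < 167884, (fun u => chkFix tab mwordsA u) u = true := ext_range (a := 167790) (len := 94) h1785 m2_1785
  have h1787 : ∀ u < 167978, (fun u => chkFix tab mwordsA u) u = true := ext_range (a := 167884) (len := 94) h1786 m2_1786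
  have h1788 : ∀ u < 168072, (fun u => chkFix tab mwordsA u) u = true := ext_range (a := 167978) (len := 94) h1787 m2_1787
  have h1789 : ∀ u < 168166, (fun u => chkFix tab mwordsA u) u = true := ext_range (a := 168072) (len := 94) h1788 m2_1788
  have h1790 : ∀ u < 168260, (fun u => chkFix tab mwordsA u) u = true := ext_range (a := 168166) (len := 94) h1789 m2_1789
  have h1791 : ∀ u < 168354, (fun u => chkFix tab mwordsA u) u = true := ext_range (a := 168260) (len := 94) h1790 m2_1790
  have h1792 : ∀ u < 168448, (fun u => chkFix tab mwordsA u) u = true := ext_range (a := 168354) (len := 94) h1791 m2_1791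
  have h1793 : ∀ u < 168542, (fun u => chkFix tab mwordsA u) u = true := ext_range (a := 168448) (len := 94) h1792 m2_1792
  have h1794 : ∀ u < 168636, (fun u => chkFix tab mwordsA u) u = true := ext_range (a := 168542) (len := 94) h1793 m2_1793
  have h1795 : ∀ u < 168730, (fun u => chkFix tab mwordsA u) u = true := ext_range (a := 168636) (len := 94) h1794 m2_1794
  have h1796 : ∀ u < 168824, (fun u => chkFix tab mwordsA u) u = true := ext_range (a := 168730) (len := 94) h1795 m2_1795
  have h1797 : ∀ u < 168918, (fun u => chkFix tab mwordsA u) u = true := ext_range (a := 168824) (len := 94) h1796 m2_1796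
  have h1798 : ∀ u < 169012, (fun u => chkFix tab mwordsA u) u = true := ext_range (a := 168918) (len := 94) h1797 m2_1797
  have h1799 : ∀ u < 169106, (fun u => chkFix tab mwordsA u) u = true := ext_range (a := 169012) (len := 94) h1798 m2_1798
  have h1800 : ∀ u < 169200, (fun u => chkFix tab mwordsA u) u = true := ext_range (a := 169106) (len := 94) h1799 m2_1799
  have h1801 : ∀ u < 169294, (fun u => chkFix tab mwordsA u) u = true := ext_range (a := 169200) (len := 94) h1800 m2_1800
  have h1802 : ∀ u < 169388, (fun u => chkFix tab mwordsA u) u = true := ext_range (a := 169294) (len := 94) h1801 m2_1801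
  have h1803 : ∀ u < 169482, (fun u => chkFix tab mwordsA u) u = true := ext_range (a := 169388) (len := 94) h1802 m2_1802
  have h1804 : ∀ u < 169576, (fun u => chkFix tab mwordsA u) u = true := ext_range (a := 169482) (len := 94) h1803 m2_1803
  have h1805 : ∀ u < 169670, (fun u => chkFix tab mwordsA u) u = true := ext_range (a := 169576) (len := 94) h1804 m2_1804
  have h1806 : ∀ u < 169764, (fun u => chkFix tab mwordsA u) u = true := ext_range (a := 169670) (len := 94) h1805 m2_1805
  have h1807 : ∀ u < 169858, (fun u => chkFix tab mwordsA u) u = true := ext_range (a := 169764) (len := 94) h1806 m2_1806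
  have h1808 : ∀ u < 169952, (fun u => chkFix tab mwordsA u) u = true := ext_range (a := 169858) (len := 94) h1807 m2_1807
  have h1809 : ∀ u < 170046, (fun u => chkFix tab mwordsA u) u = true := ext_range (a := 169952) (len := 94) h1808 m2_1808
  have h1810 : ∀ u < 170140, (fun u => chkFix tab mwordsA u) u = true := ext_range (a := 170046) (len := 94) h1809 m2_1809
  have h1811 : ∀ u < 170234, (fun u => chkFix tab mwordsA u) u = true := ext_range (a := 170140) (len := 94) h1810 m2_1810
  have h1812 : ∀ u < 170328, (fun u => chkFix tab mwordsA u) u = true := ext_range (a := 170234) (len := 94) h1811 m2_1811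
  have h1813 : ∀ u < 170422, (fun u => chkFix tab mwordsA u) u = true := ext_range (a := 170328) (len := 94) h1812 m2_1812
  have h1814 : ∀ u < 170516, (fun u => chkFix tab mwordsA u) u = true := ext_range (a := 170422) (len := 94) h1813 m2_1813
  have h1815 : ∀ u < 170610, (fun u => chkFix tab mwordsA u) u = true := ext_range (a := 170516) (len := 94) h1814 m2_1814
  have h1816 : ∀ u < 170704, (fun u => chkFix tab mwordsA u) u = true := ext_range (a := 170610) (len := 94) h1815 m2_1815
  have h1817 : ∀ u < 170798, (fun u => chkFix tab mwordsA u) u = true := ext_range (a := 170704) (len := 94) h1816 m2_1816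
  have h1818 : ∀ u < 170892, (fun u => chkFix tab mwordsA u) u = true := ext_range (a := 170798) (len := 94) h1817 m2_1817
  have h1819 : ∀ u < 170986, (fun u => chkFix tab mwordsA u) u = true := ext_range (a := 170892) (len := 94) h1818 m2_1818
  have h1820 : ∀ u < 171080, (fun u => chkFix tab mwordsA u) u = true := ext_range (a := 170986) (len := 94) h1819 m2_1819
  have h1821 : ∀ u < 171174, (fun u => chkFix tab mwordsA u) u = true := ext_range (a := 171080) (len := 94) h1820 m2_1820
  have h1822 : ∀ u < 171268, (fun u => chkFix tab mwordsA u) u = true := ext_range (a := 171174) (len := 94) h1821 m2_1821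
  have h1823 : ∀ u < 171362, (fun u => chkFix tab mwordsA u) u = true := ext_range (a := 171268) (len := 94) h1822 m2_1822
  have h1824 : ∀ u < 171456, (fun u => chkFix tab mwordsA u) u = true := ext_range (a := 171362) (len := 94) h1823 m2_1823
  have h1825 : ∀ u < 171550, (fun u => chkFix tab mwordsA u) u = true := ext_range (a := 171456) (len := 94) h1824 m2_1824
  have h1826 : ∀ u < 171644, (fun u => chkFix tab mwordsA u) u = true := ext_range (a := 171550) (len := 94) h1825 m2_1825
  have h1827 : ∀ u < 171738, (fun u => chkFix tab mwordsA u) u = true := ext_range (a := 171644) (len := 94) h1826 m2_1826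
  have h1828 : ∀ u < 171832, (fun u => chkFix tab mwordsA u) u = true := ext_range (a := 171738) (len := 94) h1827 m2_1827
  have h1829 : ∀ u < 171926, (fun u => chkFix tab mwordsA u) u = true := ext_range (a := 171832) (len := 94) h1828 m2_1828
  have h1830 : ∀ u < 172020, (fun u => chkFix tab mwordsA u) u = true := ext_range (a := 171926) (len := 94) h1829 m2_1829
  have h1831 : ∀ u < 172114, (fun u => chkFix tab mwordsA u) u = true := ext_range (a := 172020) (len := 94) h1830 m2_1830
  have h1832 : ∀ u < 172208, (fun u => chkFix tab mwordsA u) u = true := ext_range (a := 172114) (len := 94) h1831 m2_1831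
  have h1833 : ∀ u < 172302, (fun u => chkFix tab mwordsA u) u = true := ext_range (a := 172208) (len := 94) h1832 m2_1832
  have h1834 : ∀ u < 172396, (fun u => chkFix tab mwordsA u) u = true := ext_range (a := 172302) (len := 94) h1833 m2_1833
  have h1835 : ∀ u < 172490, (fun u => chkFix tab mwordsA u) u = true := ext_range (a := 172396) (len := 94) h1834 m2_1834
  have h1836 : ∀ u < 172584, (fun u => chkFix tab mwordsA u) u = true := ext_range (a := 172490) (len := 94) h1835 m2_1835
  have h1837 : ∀ u < 172678, (fun u => chkFix tab mwordsA u) u = true := ext_range (a := 172584) (len := 94) h1836 m2_1836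
  have h1838 : ∀ u < 172772, (fun u => chkFix tab mwordsA u) u = true := ext_range (a := 172678) (len := 94) h1837 m2_1837
  have h1839 : ∀ u < 172866, (fun u => chkFix tab mwordsA u) u = true := ext_range (a := 172772) (len := 94) h1838 m2_1838
  have h1840 : ∀ u < 172960, (fun u => chkFix tab mwordsA u) u = true := ext_range (a := 172866) (len := 94) h1839 m2_1839
  have h1841 : ∀ u < 173054, (fun u => chkFix tab mwordsA u) u = true := ext_range (a := 172960) (len := 94) h1840 m2_1840
  have h1842 : ∀ u < 173148, (fun u => chkFix tab mwordsA u) u = true := ext_range (a := 173054) (len := 94) h1841 m2_1841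
  have h1843 : ∀ u < 173242, (fun u => chkFix tab mwordsA u) u = true := ext_range (a := 173148) (len := 94) h1842 m2_1842
  have h1844 : ∀ u < 173336, (fun u => chkFix tab mwordsA u) u = true := ext_range (a := 173242) (len := 94) h1843 m2_1843
  have h1845 : ∀ u < 173430, (fun u => chkFix tab mwordsA u) u = true := ext_range (a := 173336) (len := 94) h1844 m2_1844
  have h1846 : ∀ u < 173524, (fun u => chkFix tab mwordsA u) u = true := ext_range (a := 173430) (len := 94) h1845 m2_1845
  have h1847 : ∀ u < 173618, (fun u => chkFix tab mwordsA u) u = true := ext_range (a := 173524) (len := 94) h1846 m2_1846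
  have h1848 : ∀ u < 173712, (fun u => chkFix tab mwordsA u) u = true := ext_range (a := 173618) (len := 94) h1847 m2_1847
  have h1849 : ∀ u < 173806, (fun u => chkFix tab mwordsA u) u = true := ext_range (a := 173712) (len := 94) h1848 m2_1848
  have h1850 : ∀ u < 173900, (fun u => chkFix tab mwordsA u) u = true := ext_range (a := 173806) (len := 94) h1849 m2_1849
  have h1851 : ∀ u < 173994, (fun u => chkFix tab mwordsA u) u = true := ext_range (a := 173900) (len := 94) h1850 m2_1850
  have h1852 : ∀ u < 174088, (fun u => chkFix tab mwordsA u) u = true := ext_range (a := 173994) (len := 94) h1851 m2_1851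
  have h1853 : ∀ u < 174182, (fun u => chkFix tab mwordsA u) u = true := ext_range (a := 174088) (len := 94) h1852 m2_1852
  have h1854 : ∀ u < 174276, (fun u => chkFix tab mwordsA u) u = true := ext_range (a := 174182) (len := 94) h1853 m2_1853
  have h1855 : ∀ u < 174370, (fun u => chkFix tab mwordsA u) u = true := ext_range (a := 174276) (len := 94) h1854 m2_1854
  have h1856 : ∀ u < 174464, (fun u => chkFix tab mwordsA u) u = true := ext_range (a := 174370) (len := 94) h1855 m2_1855
  have h1857 : ∀ u < 174558, (fun u => chkFix tab mwordsA u) u = true := ext_range (a := 174464) (len := 94) h1856 m2_1856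
  have h1858 : ∀ u < 174652, (fun u => chkFix tab mwordsA u) u = true := ext_range (a := 174558) (len := 94) h1857 m2_1857
  have h1859 : ∀ u < 174746, (fun u => chkFix tab mwordsA u) u = true := ext_range (a := 174652) (len := 94) h1858 m2_1858
  have h1860 : ∀ u < 174840, (fun u => chkFix tab mwordsA u) u = true := ext_range (a := 174746) (len := 94) h1859 m2_1859
  have h1861 : ∀ u < 174934, (fun u => chkFix tab mwordsA u) u = true := ext_range (a := 174840) (len := 94) h1860 m2_1860
  have h1862 : ∀ u < 175028, (fun u => chkFix tab mwordsA u) u = true := ext_range (a := 174934) (len := 94) h1861 m2_1861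
  have h1863 : ∀ u < 175122, (fun u => chkFix tab mwordsA u) u = true := ext_range (a := 175028) (len := 94) h1862 m2_1862
  have h1864 : ∀ u < 175216, (fun u => chkFix tab mwordsA u) u = true := ext_range (a := 175122) (len := 94) h1863 m2_1863
  have h1865 : ∀ u < 175310, (fun u => chkFix tab mwordsA u) u = true := ext_range (a := 175216) (len := 94) h1864 m2_1864
  have h1866 : ∀ u < 175404, (fun u => chkFix tab mwordsA u) u = true := ext_range (a := 175310) (len := 94) h1865 m2_1865
  have h1867 : ∀ u < 175498, (fun u => chkFix tab mwordsA u) u = true := ext_range (a := 175404) (len := 94) h1866 m2_1866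
  have h1868 : ∀ u < 175592, (fun u => chkFix tab mwordsA u) u = true := ext_range (a := 175498) (len := 94) h1867 m2_1867
  have h1869 : ∀ u < 175686, (fun u => chkFix tab mwordsA u) u = true := ext_range (a := 175592) (len := 94) h1868 m2_1868
  have h1870 : ∀ u < 175780, (fun u => chkFix tab mwordsA u) u = true := ext_range (a := 175686) (len := 94) h1869 m2_1869
  have h1871 : ∀ u < 175874, (fun u => chkFix tab mwordsA u) u = true := ext_range (a := 175780) (len := 94) h1870 m2_1870
  have h1872 : ∀ u < 175968, (fun u => chkFix tab mwordsA u) u = true := ext_range (a := 175874) (len := 94) h1871 m2_1871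
  have h1873 : ∀ u < 176062, (fun u => chkFix tab mwordsA u) u = true := ext_range (a := 175968) (len := 94) h1872 m2_1872
  have h1874 : ∀ u < 176156, (fun u => chkFix tab mwordsA u) u = true := ext_range (a := 176062) (len := 94) h1873 m2_1873
  have h1875 : ∀ u < 176250, (fun u => chkFix tab mwordsA u) u = true := ext_range (a := 176156) (len := 94) h1874 m2_1874
  have h1876 : ∀ u < 176344, (fun u => chkFix tab mwordsA u) u = true := ext_range (a := 176250) (len := 94) h1875 m2_1875
  have h1877 : ∀ u < 176438, (fun u => chkFix tab mwordsA u) u = true := ext_range (a := 176344) (len := 94) h1876 m2_1876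
  have h1878 : ∀ u < 176532, (fun u => chkFix tab mwordsA u) u = true := ext_range (a := 176438) (len := 94) h1877 m2_1877
  have h1879 : ∀ u < 176626, (fun u => chkFix tab mwordsA u) u = true := ext_range (a := 176532) (len := 94) h1878 m2_1878
  have h1880 : ∀ u < 176720, (fun u => chkFix tab mwordsA u) u = true := ext_range (a := 176626) (len := 94) h1879 m2_1879
  have h1881 : ∀ u < 176814, (fun u => chkFix tab mwordsA u) u = true := ext_range (a := 176720) (len := 94) h1880 m2_1880
  have h1882 : ∀ u < 176908, (fun u => chkFix tab mwordsA u) u = true := ext_range (a := 176814) (len := 94) h1881 m2_1881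
  have h1883 : ∀ u < 177002, (fun u => chkFix tab mwordsA u) u = true := ext_range (a := 176908) (len := 94) h1882 m2_1882
  have h1884 : ∀ u < 177096, (fun u => chkFix tab mwordsA u) u = true := ext_range (a := 177002) (len := 94) h1883 m2_1883
  have h1885 : ∀ u < 177190, (fun u => chkFix tab mwordsA u) u = true := ext_range (a := 177096) (len := 94) h1884 m2_1884
  have h1886 : ∀ u < 177284, (fun u => chkFix tab mwordsA u) u = true := ext_range (a := 177190) (len := 94) h1885 m2_1885
  have h1887 : ∀ u < 177378, (fun u => chkFix tab mwordsA u) u = true := ext_range (a := 177284) (len := 94) h1886 m2_1886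
  have h1888 : ∀ u < 177472, (fun u => chkFix tab mwordsA u) u = true := ext_range (a := 177378) (len := 94) h1887 m2_1887
  have h1889 : ∀ u < 177566, (fun u => chkFix tab mwordsA u) u = true := ext_range (a := 177472) (len := 94) h1888 m2_1888
  have h1890 : ∀ u < 177660, (fun u => chkFix tab mwordsA u) u = true := ext_range (a := 177566) (len := 94) h1889 m2_1889
  have h1891 : ∀ u < 177754, (fun u => chkFix tab mwordsA u) u = true := ext_range (a := 177660) (len := 94) h1890 m2_1890
  have h1892 : ∀ u < 177848, (fun u => chkFix tab mwordsA u) u = true := ext_range (a := 177754) (len := 94) h1891 m2_1891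
  have h1893 : ∀ u < 177942, (fun u => chkFix tab mwordsA u) u = true := ext_range (a := 177848) (len := 94) h1892 m2_1892
  have h1894 : ∀ u < 178036, (fun u => chkFix tab mwordsA u) u = true := ext_range (a := 177942) (len := 94) h1893 m2_1893
  have h1895 : ∀ u < 178130, (fun u => chkFix tab mwordsA u) u = true := ext_range (a := 178036) (len := 94) h1894 m2_1894
  have h1896 : ∀ u < 178224, (fun u => chkFix tab mwordsA u) u = true := ext_range (a := 178130) (len := 94) h1895 m2_1895
  have h1897 : ∀ u < 178318, (fun u => chkFix tab mwordsA u) u = true := ext_range (a := 178224) (len := 94) h1896 m2_1896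
  have h1898 : ∀ u < 178412, (fun u => chkFix tab mwordsA u) u = true := ext_range (a := 178318) (len := 94) h1897 m2_1897
  have h1899 : ∀ u < 178506, (fun u => chkFix tab mwordsA u) u = true := ext_range (a := 178412) (len := 94) h1898 m2_1898
  have h1900 : ∀ u < 178600, (fun u => chkFix tab mwordsA u) u = true := ext_range (a := 178506) (len := 94) h1899 m2_1899
  have h1901 : ∀ u < 178694, (fun u => chkFix tab mwordsA u) u = true := ext_range (a := 178600) (len := 94) h1900 m2_1900
  have h1902 : ∀ u < 178788, (fun u => chkFix tab mwordsA u) u = true := ext_range (a := 178694) (len := 94) h1901 m2_1901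
  have h1903 : ∀ u < 178882, (fun u => chkFix tab mwordsA u) u = true := ext_range (a := 178788) (len := 94) h1902 m2_1902
  have h1904 : ∀ u < 178976, (fun u => chkFix tab mwordsA u) u = true := ext_range (a := 178882) (len := 94) h1903 m2_1903
  have h1905 : ∀ u < 179070, (fun u => chkFix tab mwordsA u) u = true := ext_range (a := 178976) (len := 94) h1904 m2_1904
  have h1906 : ∀ u < 179164, (fun u => chkFix tab mwordsA u) u = true := ext_range (a := 179070) (len := 94) h1905 m2_1905
  have h1907 : ∀ u < 179258, (fun u => chkFix tab mwordsA u) u = true := ext_range (a := 179164) (len := 94) h1906 m2_1906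
  have h1908 : ∀ u < 179352, (fun u => chkFix tab mwordsA u) u = true := ext_range (a := 179258) (len := 94) h1907 m2_1907
  have h1909 : ∀ u < 179446, (fun u => chkFix tab mwordsA u) u = true := ext_range (a := 179352) (len := 94) h1908 m2_1908
  have h1910 : ∀ u < 179540, (fun u => chkFix tab mwordsA u) u = true := ext_range (a := 179446) (len := 94) h1909 m2_1909
  have h1911 : ∀ u < 179634, (fun u => chkFix tab mwordsA u) u = true := ext_range (a := 179540) (len := 94) h1910 m2_1910
  have h1912 : ∀ u < 179728, (fun u => chkFix tab mwordsA u) u = true := ext_range (a := 179634) (len := 94) h1911 m2_1911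
  have h1913 : ∀ u < 179822, (fun u => chkFix tab mwordsA u) u = true := ext_range (a := 179728) (len := 94) h1912 m2_1912
  have h1914 : ∀ u < 179916, (fun u => chkFix tab mwordsA u) u = true := ext_range (a := 179822) (len := 94) h1913 m2_1913
  have h1915 : ∀ u < 180010, (fun u => chkFix tab mwordsA u) u = true := ext_range (a := 179916) (len := 94) h1914 m2_1914
  have h1916 : ∀ u < 180104, (fun u => chkFix tab mwordsA u) u = true := ext_range (a := 180010) (len := 94) h1915 m2_1915
  have h1917 : ∀ u < 180198, (fun u => chkFix tab mwordsA u) u = true := ext_range (a := 180104) (len := 94) h1916 m2_1916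
  have h1918 : ∀ u < 180292, (fun u => chkFix tab mwordsA u) u = true := ext_range (a := 180198) (len := 94) h1917 m2_1917
  have h1919 : ∀ u < 180386, (fun u => chkFix tab mwordsA u) u = true := ext_range (a := 180292) (len := 94) h1918 m2_1918
  have h1920 : ∀ u < 180480, (fun u => chkFix tab mwordsA u) u = true := ext_range (a := 180386) (len := 94) h1919 m2_1919
  have h1921 : ∀ u < 180574, (fun u => chkFix tab mwordsA u) u = true := ext_range (a := 180480) (len := 94) h1920 m2_1920
  have h1922 : ∀ u < 180668, (fun u => chkFix tab mwordsA u) u = true := ext_range (a := 180574) (len := 94) h1921 m2_1921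
  have h1923 : ∀ u < 180762, (fun u => chkFix tab mwordsA u) u = true := ext_range (a := 180668) (len := 94) h1922 m2_1922
  have h1924 : ∀ u < 180856, (fun u => chkFix tab mwordsA u) u = true := ext_range (a := 180762) (len := 94) h1923 m2_1923
  have h1925 : ∀ u < 180950, (fun u => chkFix tab mwordsA u) u = true := ext_range (a := 180856) (len := 94) h1924 m2_1924
  have h1926 : ∀ u < 181044, (fun u => chkFix tab mwordsA u) u = true := ext_range (a := 180950) (len := 94) h1925 m2_1925
  have h1927 : ∀ u < 181138, (fun u => chkFix tab mwordsA u) u = true := ext_range (a := 181044) (len := 94) h1926 m2_1926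
  have h1928 : ∀ u < 181232, (fun u => chkFix tab mwordsA u) u = true := ext_range (a := 181138) (len := 94) h1927 m2_1927
  have h1929 : ∀ u < 181326, (fun u => chkFix tab mwordsA u) u = true := ext_range (a := 181232) (len := 94) h1928 m2_1928
  have h1930 : ∀ u < 181420, (fun u => chkFix tab mwordsA u) u = true := ext_range (a := 181326) (len := 94) h1929 m2_1929
  have h1931 : ∀ u < 181514, (fun u => chkFix tab mwordsA u) u = true := ext_range (a := 181420) (len := 94) h1930 m2_1930
  have h1932 : ∀ u < 181608, (fun u => chkFix tab mwordsA u) u = true := ext_range (a := 181514) (len := 94) h1931 m2_1931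
  have h1933 : ∀ u < 181702, (fun u => chkFix tab mwordsA u) u = true := ext_range (a := 181608) (len := 94) h1932 m2_1932
  have h1934 : ∀ u < 181796, (fun u => chkFix tab mwordsA u) u = true := ext_range (a := 181702) (len := 94) h1933 m2_1933
  have h1935 : ∀ u < 181890, (fun u => chkFix tab mwordsA u) u = true := ext_range (a := 181796) (len := 94) h1934 m2_1934
  have h1936 : ∀ u < 181984, (fun u => chkFix tab mwordsA u) u = true := ext_range (a := 181890) (len := 94) h1935 m2_1935
  have h1937 : ∀ u < 182078, (fun u => chkFix tab mwordsA u) u = true := ext_range (a := 181984) (len := 94) h1936 m2_1936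
  have h1938 : ∀ u < 182172, (fun u => chkFix tab mwordsA u) u = true := ext_range (a := 182078) (len := 94) h1937 m2_1937
  have h1939 : ∀ u < 182266, (fun u => chkFix tab mwordsA u) u = true := ext_range (a := 182172) (len := 94) h1938 m2_1938
  have h1940 : ∀ u < 182360, (fun u => chkFix tab mwordsA u) u = true := ext_range (a := 182266) (len := 94) h1939 m2_1939
  have h1941 : ∀ u < 182454, (fun u => chkFix tab mwordsA u) u = true := ext_range (a := 182360) (len := 94) h1940 m2_1940
  have h1942 : ∀ u < 182548, (fun u => chkFix tab mwordsA u) u = true := ext_range (a := 182454) (len := 94) h1941 m2_1941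
  have h1943 : ∀ u < 182642, (fun u => chkFix tab mwordsA u) u = true := ext_range (a := 182548) (len := 94) h1942 m2_1942
  have h1944 : ∀ u < 182736, (fun u => chkFix tab mwordsA u) u = true := ext_range (a := 182642) (len := 94) h1943 m2_1943
  have h1945 : ∀ u < 182830, (fun u => chkFix tab mwordsA u) u = true := ext_range (a := 182736) (len := 94) h1944 m2_1944
  have h1946 : ∀ u < 182924, (fun u => chkFix tab mwordsA u) u = true := ext_range (a := 182830) (len := 94) h1945 m2_1945
  have h1947 : ∀ u < 183018, (fun u => chkFix tab mwordsA u) u = true := ext_range (a := 182924) (len := 94) h1946 m2_1946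
  have h1948 : ∀ u < 183112, (fun u => chkFix tab mwordsA u) u = true := ext_range (a := 183018) (len := 94) h1947 m2_1947
  have h1949 : ∀ u < 183206, (fun u => chkFix tab mwordsA u) u = true := ext_range (a := 183112) (len := 94) h1948 m2_1948
  have h1950 : ∀ u < 183300, (fun u => chkFix tab mwordsA u) u = true := ext_range (a := 183206) (len := 94) h1949 m2_1949
  have h1951 : ∀ u < 183394, (fun u => chkFix tab mwordsA u) u = true := ext_range (a := 183300) (len := 94) h1950 m2_1950
  have h1952 : ∀ u < 183488, (fun u => chkFix tab mwordsA u) u = true := ext_range (a := 183394) (len := 94) h1951 m2_1951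
  have h1953 : ∀ u < 183582, (fun u => chkFix tab mwordsA u) u = true := ext_range (a := 183488) (len := 94) h1952 m2_1952
  have h1954 : ∀ u < 183676, (fun u => chkFix tab mwordsA u) u = true := ext_range (a := 183582) (len := 94) h1953 m2_1953
  have h1955 : ∀ u < 183770, (fun u => chkFix tab mwordsA u) u = true := ext_range (a := 183676) (len := 94) h1954 m2_1954
  have h1956 : ∀ u < 183864, (fun u => chkFix tab mwordsA u) u = true := ext_range (a := 183770) (len := 94) h1955 m2_1955
  have h1957 : ∀ u < 183958, (fun u => chkFix tab mwordsA u) u = true := ext_range (a := 183864) (len := 94) h1956 m2_1956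
  have h1958 : ∀ u < 184052, (fun u => chkFix tab mwordsA u) u = true := ext_range (a := 183958) (len := 94) h1957 m2_1957
  have h1959 : ∀ u < 184146, (fun u => chkFix tab mwordsA u) u = true := ext_range (a := 184052) (len := 94) h1958 m2_1958
  have h1960 : ∀ u < 184240, (fun u => chkFix tab mwordsA u) u = true := ext_range (a := 184146) (len := 94) h1959 m2_1959
  have h1961 : ∀ u < 184334, (fun u => chkFix tab mwordsA u) u = true := ext_range (a := 184240) (len := 94) h1960 m2_1960
  have h1962 : ∀ u < 184428, (fun u => chkFix tab mwordsA u) u = true := ext_range (a := 184334) (len := 94) h1961 m2_1961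
  have h1963 : ∀ u < 184522, (fun u => chkFix tab mwordsA u) u = true := ext_range (a := 184428) (len := 94) h1962 m2_1962
  have h1964 : ∀ u < 184616, (fun u => chkFix tab mwordsA u) u = true := ext_range (a := 184522) (len := 94) h1963 m2_1963
  have h1965 : ∀ u < 184710, (fun u => chkFix tab mwordsA u) u = true := ext_range (a := 184616) (len := 94) h1964 m2_1964
  have h1966 : ∀ u < 184804, (fun u => chkFix tab mwordsA u) u = true := ext_range (a := 184710) (len := 94) h1965 m2_1965
  have h1967 : ∀ u < 184898, (fun u => chkFix tab mwordsA u) u = true := ext_range (a := 184804) (len := 94) h1966 m2_1966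
  have h1968 : ∀ u < 184992, (fun u => chkFix tab mwordsA u) u = true := ext_range (a := 184898) (len := 94) h1967 m2_1967
  have h1969 : ∀ u < 185086, (fun u => chkFix tab mwordsA u) u = true := ext_range (a := 184992) (len := 94) h1968 m2_1968
  have h1970 : ∀ u < 185180, (fun u => chkFix tab mwordsA u) u = true := ext_range (a := 185086) (len := 94) h1969 m2_1969
  have h1971 : ∀ u < 185274, (fun u => chkFix tab mwordsA u) u = true := ext_range (a := 185180) (len := 94) h1970 m2_1970
  have h1972 : ∀ u < 185368, (fun u => chkFix tab mwordsA u) u = true := ext_range (a := 185274) (len := 94) h1971 m2_1971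
  have h1973 : ∀ u < 185462, (fun u => chkFix tab mwordsA u) u = true := ext_range (a := 185368) (len := 94) h1972 m2_1972
  have h1974 : ∀ u < 185556, (fun u => chkFix tab mwordsA u) u = true := ext_range (a := 185462) (len := 94) h1973 m2_1973
  have h1975 : ∀ u < 185650, (fun u => chkFix tab mwordsA u) u = true := ext_range (a := 185556) (len := 94) h1974 m2_1974
  have h1976 : ∀ u < 185744, (fun u => chkFix tab mwordsA u) u = true := ext_range (a := 185650) (len := 94) h1975 m2_1975
  have h1977 : ∀ u < 185838, (fun u => chkFix tab mwordsA u) u = true := ext_range (a := 185744) (len := 94) h1976 m2_1976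
  have h1978 : ∀ u < 185932, (fun u => chkFix tab mwordsA u) u = true := ext_range (a := 185838) (len := 94) h1977 m2_1977
  have h1979 : ∀ u < 186026, (fun u => chkFix tab mwordsA u) u = true := ext_range (a := 185932) (len := 94) h1978 m2_1978
  have h1980 : ∀ u < 186120, (fun u => chkFix tab mwordsA u) u = true := ext_range (a := 186026) (len := 94) h1979 m2_1979
  have h1981 : ∀ u < 186214, (fun u => chkFix tab mwordsA u) u = true := ext_range (a := 186120) (len := 94) h1980 m2_1980
  have h1982 : ∀ u < 186308, (fun u => chkFix tab mwordsA u) u = true := ext_range (a := 186214) (len := 94) h1981 m2_1981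
  have h1983 : ∀ u < 186402, (fun u => chkFix tab mwordsA u) u = true := ext_range (a := 186308) (len := 94) h1982 m2_1982
  have h1984 : ∀ u < 186496, (fun u => chkFix tab mwordsA u) u = true := ext_range (a := 186402) (len := 94) h1983 m2_1983
  have h1985 : ∀ u < 186590, (fun u => chkFix tab mwordsA u) u = true := ext_range (a := 186496) (len := 94) h1984 m2_1984
  have h1986 : ∀ u < 186684, (fun u => chkFix tab mwordsA u) u = true := ext_range (a := 186590) (len := 94) h1985 m2_1985
  have h1987 : ∀ u < 186778, (fun u => chkFix tab mwordsA u) u = true := ext_range (a := 186684) (len := 94) h1986 m2_1986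
  have h1988 : ∀ u < 186872, (fun u => chkFix tab mwordsA u) u = true := ext_range (a := 186778) (len := 94) h1987 m2_1987
  have h1989 : ∀ u < 186966, (fun u => chkFix tab mwordsA u) u = true := ext_range (a := 186872) (len := 94) h1988 m2_1988
  have h1990 : ∀ u < 187060, (fun u => chkFix tab mwordsA u) u = true := ext_range (a := 186966) (len := 94) h1989 m2_1989
  have h1991 : ∀ u < 187154, (fun u => chkFix tab mwordsA u) u = true := ext_range (a := 187060) (len := 94) h1990 m2_1990
  have h1992 : ∀ u < 187248, (fun u => chkFix tab mwordsA u) u = true := ext_range (a := 187154) (len := 94) h1991 m2_1991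
  have h1993 : ∀ u < 187342, (fun u => chkFix tab mwordsA u) u = true := ext_range (a := 187248) (len := 94) h1992 m2_1992
  have h1994 : ∀ u < 187425, (fun u => chkFix tab mwordsA u) u = true := ext_range (a := 187342) (len := 83) h1993 m2_1993
  exact h1994

theorem hO1 : ∀ u < 187425, chkO1 tab orb u = true := by
  have h0 : ∀ u < 0, (fun u => chkO1 tab orb u) u = true := range_zero
  have h1 : ∀ u < 288, (fun u => chkO1 tab orb u) u = true := ext_range (a := 0) (len := 288) h0 o1_0
  have h2 : ∀ u < 576, (fun u => chkO1 tab orb u) u = true := ext_range (a := 288) (len := 288) h1 o1_1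
  have h3 : ∀ u < 864, (fun u => chkO1 tab orb u) u = true := ext_range (a := 576) (len := 288) h2 o1_2
  have h4 : ∀ u < 1152, (fun u => chkO1 tab orb u) u = true := ext_range (a := 864) (len := 288) h3 o1_3
  have h5 : ∀ u < 1440, (fun u => chkO1 tab orb u) u = true := ext_range (a := 1152) (len := 288) h4 o1_4
  have h6 : ∀ u < 1728, (fun u => chkO1 tab orb u) u = true := ext_range (a := 1440) (len := 288) h5 o1_5
  have h7 : ∀ u < 2016, (fun u => chkO1 tab orb u) u = true := ext_range (a := 1728) (len := 288) h6 o1_6
  have h8 : ∀ u < 2304, (fun u => chkO1 tab orb u) u = true := ext_range (a := 2016) (len := 288) h7 o1_7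
  have h9 : ∀ u < 2592, (fun u => chkO1 tab orb u) u = true := ext_range (a := 2304) (len := 288) h8 o1_8
  have h10 : ∀ u < 2880, (fun u => chkO1 tab orb u) u = true := ext_range (a := 2592) (len := 288) h9 o1_9
  have h11 : ∀ u < 3168, (fun u => chkO1 tab orb u) u = true := ext_range (a := 2880) (len := 288) h10 o1_10
  have h12 : ∀ u < 3456, (fun u => chkO1 tab orb u) u = true := ext_range (a := 3168) (len := 288) h11 o1_11
  have h13 : ∀ u < 3744, (fun u => chkO1 tab orb u) u = true := ext_range (a := 3456) (len := 288) h12 o1_12
  have h14 : ∀ u < 4032, (fun u => chkO1 tab orb u) u = true := ext_range (a := 3744) (len := 288) h13 o1_13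
  have h15 : ∀ u < 4320, (fun u => chkO1 tab orb u) u = true := ext_range (a := 4032) (len := 288) h14 o1_14
  have h16 : ∀ u < 4608, (fun u => chkO1 tab orb u) u = true := ext_range (a := 4320) (len := 288) h15 o1_15
  have h17 : ∀ u < 4896, (fun u => chkO1 tab orb u) u = true := ext_range (a := 4608) (len := 288) h16 o1_16
  have h18 : ∀ u < 5184, (fun u => chkO1 tab orb u) u = true := ext_range (a := 4896) (len := 288) h17 o1_17
  have h19 : ∀ u < 5472, (fun u => chkO1 tab orb u) u = true := ext_range (a := 5184) (len := 288) h18 o1_18
  have h20 : ∀ u < 5760, (fun u => chkO1 tab orb u) u = true := ext_range (a := 5472) (len := 288) h19 o1_19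
  have h21 : ∀ u < 6048, (fun u => chkO1 tab orb u) u = true := ext_range (a := 5760) (len := 288) h20 o1_20
  have h22 : ∀ u < 6336, (fun u => chkO1 tab orb u) u = true := ext_range (a := 6048) (len := 288) h21 o1_21
  have h23 : ∀ u < 6624, (fun u => chkO1 tab orb u) u = true := ext_range (a := 6336) (len := 288) h22 o1_22
  have h24 : ∀ u < 6912, (fun u => chkO1 tab orb u) u = true := ext_range (a := 6624) (len := 288) h23 o1_23
  have h25 : ∀ u < 7200, (fun u => chkO1 tab orb u) u = true := ext_range (a := 6912) (len := 288) h24 o1_24
  have h26 : ∀ u < 7488, (fun u => chkO1 tab orb u) u = true := ext_range (a := 7200) (len := 288) h25 o1_25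
  have h27 : ∀ u < 7776, (fun u => chkO1 tab orb u) u = true := ext_range (a := 7488) (len := 288) h26 o1_26
  have h28 : ∀ u < 8064, (fun u => chkO1 tab orb u) u = true := ext_range (a := 7776) (len := 288) h27 o1_27
  have h29 : ∀ u < 8352, (fun u => chkO1 tab orb u) u = true := ext_range (a := 8064) (len := 288) h28 o1_28
  have h30 : ∀ u < 8640, (fun u => chkO1 tab orb u) u = true := ext_range (a := 8352) (len := 288) h29 o1_29
  have h31 : ∀ u < 8928, (fun u => chkO1 tab orb u) u = true := ext_range (a := 8640) (len := 288) h30 o1_30
  have h32 : ∀ u < 9216, (fun u => chkO1 tab orb u) u = true := ext_range (a := 8928) (len := 288) h31 o1_31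
  have h33 : ∀ u < 9504, (fun u => chkO1 tab orb u) u = true := ext_range (a := 9216) (len := 288) h32 o1_32
  have h34 : ∀ u < 9792, (fun u => chkO1 tab orb u) u = true := ext_range (a := 9504) (len := 288) h33 o1_33
  have h35 : ∀ u < 10080, (fun u => chkO1 tab orb u) u = true := ext_range (a := 9792) (len := 288) h34 o1_34
  have h36 : ∀ u < 10368, (fun u => chkO1 tab orb u) u = true := ext_range (a := 10080) (len := 288) h35 o1_35
  have h37 : ∀ u < 10656, (fun u => chkO1 tab orb u) u = true := ext_range (a := 10368) (len := 288) h36 o1_36
  have h38 : ∀ u < 10944, (fun u => chkO1 tab orb u) u = true := ext_range (a := 10656) (len := 288) h37 o1_37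
  have h39 : ∀ u < 11232, (fun u => chkO1 tab orb u) u = true := ext_range (a := 10944) (len := 288) h38 o1_38
  have h40 : ∀ u < 11520, (fun u => chkO1 tab orb u) u = true := ext_range (a := 11232) (len := 288) h39 o1_39
  have h41 : ∀ u < 11808, (fun u => chkO1 tab orb u) u = true := ext_range (a := 11520) (len := 288) h40 o1_40
  have h42 : ∀ u < 12096, (fun u => chkO1 tab orb u) u = true := ext_range (a := 11808) (len := 288) h41 o1_41
  have h43 : ∀ u < 12384, (fun u => chkO1 tab orb u) u = true := ext_range (a := 12096) (len := 288) h42 o1_42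
  have h44 : ∀ u < 12672, (fun u => chkO1 tab orb u) u = true := ext_range (a := 12384) (len := 288) h43 o1_43
  have h45 : ∀ u < 12960, (fun u => chkO1 tab orb u) u = true := ext_range (a := 12672) (len := 288) h44 o1_44
  have h46 : ∀ u < 13248, (fun u => chkO1 tab orb u) u = true := ext_range (a := 12960) (len := 288) h45 o1_45
  have h47 : ∀ u < 13536, (fun u => chkO1 tab orb u) u = true := ext_range (a := 13248) (len := 288) h46 o1_46
  have h48 : ∀ u < 13824, (fun u => chkO1 tab orb u) u = true := ext_range (a := 13536) (len := 288) h47 o1_47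
  have h49 : ∀ u < 14112, (fun u => chkO1 tab orb u) u = true := ext_range (a := 13824) (len := 288) h48 o1_48
  have h50 : ∀ u < 14400, (fun u => chkO1 tab orb u) u = true := ext_range (a := 14112) (len := 288) h49 o1_49
  have h51 : ∀ u < 14688, (fun u => chkO1 tab orb u) u = true := ext_range (a := 14400) (len := 288) h50 o1_50
  have h52 : ∀ u < 14976, (fun u => chkO1 tab orb u) u = true := ext_range (a := 14688) (len := 288) h51 o1_51
  have h53 : ∀ u < 15264, (fun u => chkO1 tab orb u) u = true := ext_range (a := 14976) (len := 288) h52 o1_52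
  have h54 : ∀ u < 15552, (fun u => chkO1 tab orb u) u = true := ext_range (a := 15264) (len := 288) h53 o1_53
  have h55 : ∀ u < 15840, (fun u => chkO1 tab orb u) u = true := ext_range (a := 15552) (len := 288) h54 o1_54
  have h56 : ∀ u < 16128, (fun u => chkO1 tab orb u) u = true := ext_range (a := 15840) (len := 288) h55 o1_55
  have h57 : ∀ u < 16416, (fun u => chkO1 tab orb u) u = true := ext_range (a := 16128) (len := 288) h56 o1_56
  have h58 : ∀ u < 16704, (fun u => chkO1 tab orb u) u = true := ext_range (a := 16416) (len := 288) h57 o1_57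
  have h59 : ∀ u < 16992, (fun u => chkO1 tab orb u) u = true := ext_range (a := 16704) (len := 288) h58 o1_58
  have h60 : ∀ u < 17280, (fun u => chkO1 tab orb u) u = true := ext_range (a := 16992) (len := 288) h59 o1_59
  have h61 : ∀ u < 17568, (fun u => chkO1 tab orb u) u = true := ext_range (a := 17280) (len := 288) h60 o1_60
  have h62 : ∀ u < 17856, (fun u => chkO1 tab orb u) u = true := ext_range (a := 17568) (len := 288) h61 o1_61
  have h63 : ∀ u < 18144, (fun u => chkO1 tab orb u) u = true := ext_range (a := 17856) (len := 288) h62 o1_62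
  have h64 : ∀ u < 18432, (fun u => chkO1 tab orb u) u = true := ext_range (a := 18144) (len := 288) h63 o1_63
  have h65 : ∀ u < 18720, (fun u => chkO1 tab orb u) u = true := ext_range (a := 18432) (len := 288) h64 o1_64
  have h66 : ∀ u < 19008, (fun u => chkO1 tab orb u) u = true := ext_range (a := 18720) (len := 288) h65 o1_65
  have h67 : ∀ u < 19296, (fun u => chkO1 tab orb u) u = true := ext_range (a := 19008) (len := 288) h66 o1_66
  have h68 : ∀ u < 19584, (fun u => chkO1 tab orb u) u = true := ext_range (a := 19296) (len := 288) h67 o1_67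
  have h69 : ∀ u < 19872, (fun u => chkO1 tab orb u) u = true := ext_range (a := 19584) (len := 288) h68 o1_68
  have h70 : ∀ u < 20160, (fun u => chkO1 tab orb u) u = true := ext_range (a := 19872) (len := 288) h69 o1_69
  have h71 : ∀ u < 20448, (fun u => chkO1 tab orb u) u = true := ext_range (a := 20160) (len := 288) h70 o1_70
  have h72 : ∀ u < 20736, (fun u => chkO1 tab orb u) u = true := ext_range (a := 20448) (len := 288) h71 o1_71
  have h73 : ∀ u < 21024, (fun u => chkO1 tab orb u) u = true := ext_range (a := 20736) (len := 288) h72 o1_72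
  have h74 : ∀ u < 21312, (fun u => chkO1 tab orb u) u = true := ext_range (a := 21024) (len := 288) h73 o1_73
  have h75 : ∀ u < 21600, (fun u => chkO1 tab orb u) u = true := ext_range (a := 21312) (len := 288) h74 o1_74
  have h76 : ∀ u < 21888, (fun u => chkO1 tab orb u) u = true := ext_range (a := 21600) (len := 288) h75 o1_75
  have h77 : ∀ u < 22176, (fun u => chkO1 tab orb u) u = true := ext_range (a := 21888) (len := 288) h76 o1_76
  have h78 : ∀ u < 22464, (fun u => chkO1 tab orb u) u = true := ext_range (a := 22176) (len := 288) h77 o1_77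
  have h79 : ∀ u < 22752, (fun u => chkO1 tab orb u) u = true := ext_range (a := 22464) (len := 288) h78 o1_78
  have h80 : ∀ u < 23040, (fun u => chkO1 tab orb u) u = true := ext_range (a := 22752) (len := 288) h79 o1_79
  have h81 : ∀ u < 23328, (fun u => chkO1 tab orb u) u = true := ext_range (a := 23040) (len := 288) h80 o1_80
  have h82 : ∀ u < 23616, (fun u => chkO1 tab orb u) u = true := ext_range (a := 23328) (len := 288) h81 o1_81
  have h83 : ∀ u < 23904, (fun u => chkO1 tab orb u) u = true := ext_range (a := 23616) (len := 288) h82 o1_82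
  have h84 : ∀ u < 24192, (fun u => chkO1 tab orb u) u = true := ext_range (a := 23904) (len := 288) h83 o1_83
  have h85 : ∀ u < 24480, (fun u => chkO1 tab orb u) u = true := ext_range (a := 24192) (len := 288) h84 o1_84
  have h86 : ∀ u < 24768, (fun u => chkO1 tab orb u) u = true := ext_range (a := 24480) (len := 288) h85 o1_85
  have h87 : ∀ u < 25056, (fun u => chkO1 tab orb u) u = true := ext_range (a := 24768) (len := 288) h86 o1_86
  have h88 : ∀ u < 25344, (fun u => chkO1 tab orb u) u = true := ext_range (a := 25056) (len := 288) h87 o1_87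
  have h89 : ∀ u < 25632, (fun u => chkO1 tab orb u) u = true := ext_range (a := 25344) (len := 288) h88 o1_88
  have h90 : ∀ u < 25920, (fun u => chkO1 tab orb u) u = true := ext_range (a := 25632) (len := 288) h89 o1_89
  have h91 : ∀ u < 26208, (fun u => chkO1 tab orb u) u = true := ext_range (a := 25920) (len := 288) h90 o1_90
  have h92 : ∀ u < 26496, (fun u => chkO1 tab orb u) u = true := ext_range (a := 26208) (len := 288) h91 o1_91
  have h93 : ∀ u < 26784, (fun u => chkO1 tab orb u) u = true := ext_range (a := 26496) (len := 288) h92 o1_92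
  have h94 : ∀ u < 27072, (fun u => chkO1 tab orb u) u = true := ext_range (a := 26784) (len := 288) h93 o1_93
  have h95 : ∀ u < 27360, (fun u => chkO1 tab orb u) u = true := ext_range (a := 27072) (len := 288) h94 o1_94
  have h96 : ∀ u < 27648, (fun u => chkO1 tab orb u) u = true := ext_range (a := 27360) (len := 288) h95 o1_95
  have h97 : ∀ u < 27936, (fun u => chkO1 tab orb u) u = true := ext_range (a := 27648) (len := 288) h96 o1_96
  have h98 : ∀ u < 28224, (fun u => chkO1 tab orb u) u = true := ext_range (a := 27936) (len := 288) h97 o1_97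
  have h99 : ∀ u < 28512, (fun u => chkO1 tab orb u) u = true := ext_range (a := 28224) (len := 288) h98 o1_98
  have h100 : ∀ u < 28800, (fun u => chkO1 tab orb u) u = true := ext_range (a := 28512) (len := 288) h99 o1_99
  have h101 : ∀ u < 29088, (fun u => chkO1 tab orb u) u = true := ext_range (a := 28800) (len := 288) h100 o1_100
  have h102 : ∀ u < 29376, (fun u => chkO1 tab orb u) u = true := ext_range (a := 29088) (len := 288) h101 o1_101
  have h103 : ∀ u < 29664, (fun u => chkO1 tab orb u) u = true := ext_range (a := 29376) (len := 288) h102 o1_102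
  have h104 : ∀ u < 29952, (fun u => chkO1 tab orb u) u = true := ext_range (a := 29664) (len := 288) h103 o1_103
  have h105 : ∀ u < 30240, (fun u => chkO1 tab orb u) u = true := ext_range (a := 29952) (len := 288) h104 o1_104
  have h106 : ∀ u < 30528, (fun u => chkO1 tab orb u) u = true := ext_range (a := 30240) (len := 288) h105 o1_105
  have h107 : ∀ u < 30816, (fun u => chkO1 tab orb u) u = true := ext_range (a := 30528) (len := 288) h106 o1_106
  have h108 : ∀ u < 31104, (fun u => chkO1 tab orb u) u = true := ext_range (a := 30816) (len := 288) h107 o1_107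
  have h109 : ∀ u < 31392, (fun u => chkO1 tab orb u) u = true := ext_range (a := 31104) (len := 288) h108 o1_108
  have h110 : ∀ u < 31680, (fun u => chkO1 tab orb u) u = true := ext_range (a := 31392) (len := 288) h109 o1_109
  have h111 : ∀ u < 31968, (fun u => chkO1 tab orb u) u = true := ext_range (a := 31680) (len := 288) h110 o1_110
  have h112 : ∀ u < 32256, (fun u => chkO1 tab orb u) u = true := ext_range (a := 31968) (len := 288) h111 o1_111
  have h113 : ∀ u < 32544, (fun u => chkO1 tab orb u) u = true := ext_range (a := 32256) (len := 288) h112 o1_112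
  have h114 : ∀ u < 32832, (fun u => chkO1 tab orb u) u = true := ext_range (a := 32544) (len := 288) h113 o1_113
  have h115 : ∀ u < 33120, (fun u => chkO1 tab orb u) u = true := ext_range (a := 32832) (len := 288) h114 o1_114
  have h116 : ∀ u < 33408, (fun u => chkO1 tab orb u) u = true := ext_range (a := 33120) (len := 288) h115 o1_115
  have h117 : ∀ u < 33696, (fun u => chkO1 tab orb u) u = true := ext_range (a := 33408) (len := 288) h116 o1_116
  have h118 : ∀ u < 33984, (fun u => chkO1 tab orb u) u = true := ext_range (a := 33696) (len := 288) h117 o1_117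
  have h119 : ∀ u < 34272, (fun u => chkO1 tab orb u) u = true := ext_range (a := 33984) (len := 288) h118 o1_118
  have h120 : ∀ u < 34560, (fun u => chkO1 tab orb u) u = true := ext_range (a := 34272) (len := 288) h119 o1_119
  have h121 : ∀ u < 34848, (fun u => chkO1 tab orb u) u = true := ext_range (a := 34560) (len := 288) h120 o1_120
  have h122 : ∀ u < 35136, (fun u => chkO1 tab orb u) u = true := ext_range (a := 34848) (len := 288) h121 o1_121
  have h123 : ∀ u < 35424, (fun u => chkO1 tab orb u) u = true := ext_range (a := 35136) (len := 288) h122 o1_122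
  have h124 : ∀ u < 35712, (fun u => chkO1 tab orb u) u = true := ext_range (a := 35424) (len := 288) h123 o1_123
  have h125 : ∀ u < 36000, (fun u => chkO1 tab orb u) u = true := ext_range (a := 35712) (len := 288) h124 o1_124
  have h126 : ∀ u < 36288, (fun u => chkO1 tab orb u) u = true := ext_range (a := 36000) (len := 288) h125 o1_125
  have h127 : ∀ u < 36576, (fun u => chkO1 tab orb u) u = true := ext_range (a := 36288) (len := 288) h126 o1_126
  have h128 : ∀ u < 36864, (fun u => chkO1 tab orb u) u = true := ext_range (a := 36576) (len := 288) h127 o1_127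
  have h129 : ∀ u < 37152, (fun u => chkO1 tab orb u) u = true := ext_range (a := 36864) (len := 288) h128 o1_128
  have h130 : ∀ u < 37440, (fun u => chkO1 tab orb u) u = true := ext_range (a := 37152) (len := 288) h129 o1_129
  have h131 : ∀ u < 37728, (fun u => chkO1 tab orb u) u = true := ext_range (a := 37440) (len := 288) h130 o1_130
  have h132 : ∀ u < 38016, (fun u => chkO1 tab orb u) u = true := ext_range (a := 37728) (len := 288) h131 o1_131
  have h133 : ∀ u < 38304, (fun u => chkO1 tab orb u) u = true := ext_range (a := 38016) (len := 288) h132 o1_132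
  have h134 : ∀ u < 38592, (fun u => chkO1 tab orb u) u = true := ext_range (a := 38304) (len := 288) h133 o1_133
  have h135 : ∀ u < 38880, (fun u => chkO1 tab orb u) u = true := ext_range (a := 38592) (len := 288) h134 o1_134
  have h136 : ∀ u < 39168, (fun u => chkO1 tab orb u) u = true := ext_range (a := 38880) (len := 288) h135 o1_135
  have h137 : ∀ u < 39456, (fun u => chkO1 tab orb u) u = true := ext_range (a := 39168) (len := 288) h136 o1_136
  have h138 : ∀ u < 39744, (fun u => chkO1 tab orb u) u = true := ext_range (a := 39456) (len := 288) h137 o1_137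
  have h139 : ∀ u < 40032, (fun u => chkO1 tab orb u) u = true := ext_range (a := 39744) (len := 288) h138 o1_138
  have h140 : ∀ u < 40320, (fun u => chkO1 tab orb u) u = true := ext_range (a := 40032) (len := 288) h139 o1_139
  have h141 : ∀ u < 40608, (fun u => chkO1 tab orb u) u = true := ext_range (a := 40320) (len := 288) h140 o1_140
  have h142 : ∀ u < 40896, (fun u => chkO1 tab orb u) u = true := ext_range (a := 40608) (len := 288) h141 o1_141
  have h143 : ∀ u < 41184, (fun u => chkO1 tab orb u) u = true := ext_range (a := 40896) (len := 288) h142 o1_142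
  have h144 : ∀ u < 41472, (fun u => chkO1 tab orb u) u = true := ext_range (a := 41184) (len := 288) h143 o1_143
  have h145 : ∀ u < 41760, (fun u => chkO1 tab orb u) u = true := ext_range (a := 41472) (len := 288) h144 o1_144
  have h146 : ∀ u < 42048, (fun u => chkO1 tab orb u) u = true := ext_range (a := 41760) (len := 288) h145 o1_145
  have h147 : ∀ u < 42336, (fun u => chkO1 tab orb u) u = true := ext_range (a := 42048) (len := 288) h146 o1_146
  have h148 : ∀ u < 42624, (fun u => chkO1 tab orb u) u = true := ext_range (a := 42336) (len := 288) h147 o1_147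
  have h149 : ∀ u < 42912, (fun u => chkO1 tab orb u) u = true := ext_range (a := 42624) (len := 288) h148 o1_148
  have h150 : ∀ u < 43200, (fun u => chkO1 tab orb u) u = true := ext_range (a := 42912) (len := 288) h149 o1_149
  have h151 : ∀ u < 43488, (fun u => chkO1 tab orb u) u = true := ext_range (a := 43200) (len := 288) h150 o1_150
  have h152 : ∀ u < 43776, (fun u => chkO1 tab orb u) u = true := ext_range (a := 43488) (len := 288) h151 o1_151
  have h153 : ∀ u < 44064, (fun u => chkO1 tab orb u) u = true := ext_range (a := 43776) (len := 288) h152 o1_152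
  have h154 : ∀ u < 44352, (fun u => chkO1 tab orb u) u = true := ext_range (a := 44064) (len := 288) h153 o1_153
  have h155 : ∀ u < 44640, (fun u => chkO1 tab orb u) u = true := ext_range (a := 44352) (len := 288) h154 o1_154
  have h156 : ∀ u < 44928, (fun u => chkO1 tab orb u) u = true := ext_range (a := 44640) (len := 288) h155 o1_155
  have h157 : ∀ u < 45216, (fun u => chkO1 tab orb u) u = true := ext_range (a := 44928) (len := 288) h156 o1_156
  have h158 : ∀ u < 45504, (fun u => chkO1 tab orb u) u = true := ext_range (a := 45216) (len := 288) h157 o1_157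
  have h159 : ∀ u < 45792, (fun u => chkO1 tab orb u) u = true := ext_range (a := 45504) (len := 288) h158 o1_158
  have h160 : ∀ u < 46080, (fun u => chkO1 tab orb u) u = true := ext_range (a := 45792) (len := 288) h159 o1_159
  have h161 : ∀ u < 46368, (fun u => chkO1 tab orb u) u = true := ext_range (a := 46080) (len := 288) h160 o1_160
  have h162 : ∀ u < 46656, (fun u => chkO1 tab orb u) u = true := ext_range (a := 46368) (len := 288) h161 o1_161
  have h163 : ∀ u < 46944, (fun u => chkO1 tab orb u) u = true := ext_range (a := 46656) (len := 288) h162 o1_162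
  have h164 : ∀ u < 47232, (fun u => chkO1 tab orb u) u = true := ext_range (a := 46944) (len := 288) h163 o1_163
  have h165 : ∀ u < 47520, (fun u => chkO1 tab orb u) u = true := ext_range (a := 47232) (len := 288) h164 o1_164
  have h166 : ∀ u < 47808, (fun u => chkO1 tab orb u) u = true := ext_range (a := 47520) (len := 288) h165 o1_165
  have h167 : ∀ u < 48096, (fun u => chkO1 tab orb u) u = true := ext_range (a := 47808) (len := 288) h166 o1_166
  have h168 : ∀ u < 48384, (fun u => chkO1 tab orb u) u = true := ext_range (a := 48096) (len := 288) h167 o1_167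
  have h169 : ∀ u < 48672, (fun u => chkO1 tab orb u) u = true := ext_range (a := 48384) (len := 288) h168 o1_168
  have h170 : ∀ u < 48960, (fun u => chkO1 tab orb u) u = true := ext_range (a := 48672) (len := 288) h169 o1_169
  have h171 : ∀ u < 49248, (fun u => chkO1 tab orb u) u = true := ext_range (a := 48960) (len := 288) h170 o1_170
  have h172 : ∀ u < 49536, (fun u => chkO1 tab orb u) u = true := ext_range (a := 49248) (len := 288) h171 o1_171
  have h173 : ∀ u < 49824, (fun u => chkO1 tab orb u) u = true := ext_range (a := 49536) (len := 288) h172 o1_172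
  have h174 : ∀ u < 50112, (fun u => chkO1 tab orb u) u = true := ext_range (a := 49824) (len := 288) h173 o1_173
  have h175 : ∀ u < 50400, (fun u => chkO1 tab orb u) u = true := ext_range (a := 50112) (len := 288) h174 o1_174
  have h176 : ∀ u < 50688, (fun u => chkO1 tab orb u) u = true := ext_range (a := 50400) (len := 288) h175 o1_175
  have h177 : ∀ u < 50976, (fun u => chkO1 tab orb u) u = true := ext_range (a := 50688) (len := 288) h176 o1_176
  have h178 : ∀ u < 51264, (fun u => chkO1 tab orb u) u = true := ext_range (a := 50976) (len := 288) h177 o1_177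
  have h179 : ∀ u < 51552, (fun u => chkO1 tab orb u) u = true := ext_range (a := 51264) (len := 288) h178 o1_178
  have h180 : ∀ u < 51840, (fun u => chkO1 tab orb u) u = true := ext_range (a := 51552) (len := 288) h179 o1_179
  have h181 : ∀ u < 52128, (fun u => chkO1 tab orb u) u = true := ext_range (a := 51840) (len := 288) h180 o1_180
  have h182 : ∀ u < 52416, (fun u => chkO1 tab orb u) u = true := ext_range (a := 52128) (len := 288) h181 o1_181
  have h183 : ∀ u < 52704, (fun u => chkO1 tab orb u) u = true := ext_range (a := 52416) (len := 288) h182 o1_182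
  have h184 : ∀ u < 52992, (fun u => chkO1 tab orb u) u = true := ext_range (a := 52704) (len := 288) h183 o1_183
  have h185 : ∀ u < 53280, (fun u => chkO1 tab orb u) u = true := ext_range (a := 52992) (len := 288) h184 o1_184
  have h186 : ∀ u < 53568, (fun u => chkO1 tab orb u) u = true := ext_range (a := 53280) (len := 288) h185 o1_185
  have h187 : ∀ u < 53856, (fun u => chkO1 tab orb u) u = true := ext_range (a := 53568) (len := 288) h186 o1_186
  have h188 : ∀ u < 54144, (fun u => chkO1 tab orb u) u = true := ext_range (a := 53856) (len := 288) h187 o1_187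
  have h189 : ∀ u < 54432, (fun u => chkO1 tab orb u) u = true := ext_range (a := 54144) (len := 288) h188 o1_188
  have h190 : ∀ u < 54720, (fun u => chkO1 tab orb u) u = true := ext_range (a := 54432) (len := 288) h189 o1_189
  have h191 : ∀ u < 55008, (fun u => chkO1 tab orb u) u = true := ext_range (a := 54720) (len := 288) h190 o1_190
  have h192 : ∀ u < 55296, (fun u => chkO1 tab orb u) u = true := ext_range (a := 55008) (len := 288) h191 o1_191
  have h193 : ∀ u < 55584, (fun u => chkO1 tab orb u) u = true := ext_range (a := 55296) (len := 288) h192 o1_192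
  have h194 : ∀ u < 55872, (fun u => chkO1 tab orb u) u = true := ext_range (a := 55584) (len := 288) h193 o1_193
  have h195 : ∀ u < 56160, (fun u => chkO1 tab orb u) u = true := ext_range (a := 55872) (len := 288) h194 o1_194
  have h196 : ∀ u < 56448, (fun u => chkO1 tab orb u) u = true := ext_range (a := 56160) (len := 288) h195 o1_195
  have h197 : ∀ u < 56736, (fun u => chkO1 tab orb u) u = true := ext_range (a := 56448) (len := 288) h196 o1_196
  have h198 : ∀ u < 57024, (fun u => chkO1 tab orb u) u = true := ext_range (a := 56736) (len := 288) h197 o1_197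
  have h199 : ∀ u < 57312, (fun u => chkO1 tab orb u) u = true := ext_range (a := 57024) (len := 288) h198 o1_198
  have h200 : ∀ u < 57600, (fun u => chkO1 tab orb u) u = true := ext_range (a := 57312) (len := 288) h199 o1_199
  have h201 : ∀ u < 57888, (fun u => chkO1 tab orb u) u = true := ext_range (a := 57600) (len := 288) h200 o1_200
  have h202 : ∀ u < 58176, (fun u => chkO1 tab orb u) u = true := ext_range (a := 57888) (len := 288) h201 o1_201
  have h203 : ∀ u < 58464, (fun u => chkO1 tab orb u) u = true := ext_range (a := 58176) (len := 288) h202 o1_202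
  have h204 : ∀ u < 58752, (fun u => chkO1 tab orb u) u = true := ext_range (a := 58464) (len := 288) h203 o1_203
  have h205 : ∀ u < 59040, (fun u => chkO1 tab orb u) u = true := ext_range (a := 58752) (len := 288) h204 o1_204
  have h206 : ∀ u < 59328, (fun u => chkO1 tab orb u) u = true := ext_range (a := 59040) (len := 288) h205 o1_205
  have h207 : ∀ u < 59616, (fun u => chkO1 tab orb u) u = true := ext_range (a := 59328) (len := 288) h206 o1_206
  have h208 : ∀ u < 59904, (fun u => chkO1 tab orb u) u = true := ext_range (a := 59616) (len := 288) h207 o1_207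
  have h209 : ∀ u < 60192, (fun u => chkO1 tab orb u) u = true := ext_range (a := 59904) (len := 288) h208 o1_208
  have h210 : ∀ u < 60480, (fun u => chkO1 tab orb u) u = true := ext_range (a := 60192) (len := 288) h209 o1_209
  have h211 : ∀ u < 60768, (fun u => chkO1 tab orb u) u = true := ext_range (a := 60480) (len := 288) h210 o1_210
  have h212 : ∀ u < 61056, (fun u => chkO1 tab orb u) u = true := ext_range (a := 60768) (len := 288) h211 o1_211
  have h213 : ∀ u < 61344, (fun u => chkO1 tab orb u) u = true := ext_range (a := 61056) (len := 288) h212 o1_212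
  have h214 : ∀ u < 61632, (fun u => chkO1 tab orb u) u = true := ext_range (a := 61344) (len := 288) h213 o1_213
  have h215 : ∀ u < 61920, (fun u => chkO1 tab orb u) u = true := ext_range (a := 61632) (len := 288) h214 o1_214
  have h216 : ∀ u < 62208, (fun u => chkO1 tab orb u) u = true := ext_range (a := 61920) (len := 288) h215 o1_215
  have h217 : ∀ u < 62496, (fun u => chkO1 tab orb u) u = true := ext_range (a := 62208) (len := 288) h216 o1_216
  have h218 : ∀ u < 62784, (fun u => chkO1 tab orb u) u = true := ext_range (a := 62496) (len := 288) h217 o1_217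
  have h219 : ∀ u < 63072, (fun u => chkO1 tab orb u) u = true := ext_range (a := 62784) (len := 288) h218 o1_218
  have h220 : ∀ u < 63360, (fun u => chkO1 tab orb u) u = true := ext_range (a := 63072) (len := 288) h219 o1_219
  have h221 : ∀ u < 63648, (fun u => chkO1 tab orb u) u = true := ext_range (a := 63360) (len := 288) h220 o1_220
  have h222 : ∀ u < 63936, (fun u => chkO1 tab orb u) u = true := ext_range (a := 63648) (len := 288) h221 o1_221
  have h223 : ∀ u < 64224, (fun u => chkO1 tab orb u) u = true := ext_range (a := 63936) (len := 288) h222 o1_222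
  have h224 : ∀ u < 64512, (fun u => chkO1 tab orb u) u = true := ext_range (a := 64224) (len := 288) h223 o1_223
  have h225 : ∀ u < 64800, (fun u => chkO1 tab orb u) u = true := ext_range (a := 64512) (len := 288) h224 o1_224
  have h226 : ∀ u < 65088, (fun u => chkO1 tab orb u) u = true := ext_range (a := 64800) (len := 288) h225 o1_225
  have h227 : ∀ u < 65376, (fun u => chkO1 tab orb u) u = true := ext_range (a := 65088) (len := 288) h226 o1_226
  have h228 : ∀ u < 65664, (fun u => chkO1 tab orb u) u = true := ext_range (a := 65376) (len := 288) h227 o1_227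
  have h229 : ∀ u < 65952, (fun u => chkO1 tab orb u) u = true := ext_range (a := 65664) (len := 288) h228 o1_228
  have h230 : ∀ u < 66240, (fun u => chkO1 tab orb u) u = true := ext_range (a := 65952) (len := 288) h229 o1_229
  have h231 : ∀ u < 66528, (fun u => chkO1 tab orb u) u = true := ext_range (a := 66240) (len := 288) h230 o1_230
  have h232 : ∀ u < 66816, (fun u => chkO1 tab orb u) u = true := ext_range (a := 66528) (len := 288) h231 o1_231
  have h233 : ∀ u < 67104, (fun u => chkO1 tab orb u) u = true := ext_range (a := 66816) (len := 288) h232 o1_232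
  have h234 : ∀ u < 67392, (fun u => chkO1 tab orb u) u = true := ext_range (a := 67104) (len := 288) h233 o1_233
  have h235 : ∀ u < 67680, (fun u => chkO1 tab orb u) u = true := ext_range (a := 67392) (len := 288) h234 o1_234
  have h236 : ∀ u < 67968, (fun u => chkO1 tab orb u) u = true := ext_range (a := 67680) (len := 288) h235 o1_235
  have h237 : ∀ u < 68256, (fun u => chkO1 tab orb u) u = true := ext_range (a := 67968) (len := 288) h236 o1_236
  have h238 : ∀ u < 68544, (fun u => chkO1 tab orb u) u = true := ext_range (a := 68256) (len := 288) h237 o1_237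
  have h239 : ∀ u < 68832, (fun u => chkO1 tab orb u) u = true := ext_range (a := 68544) (len := 288) h238 o1_238
  have h240 : ∀ u < 69120, (fun u => chkO1 tab orb u) u = true := ext_range (a := 68832) (len := 288) h239 o1_239
  have h241 : ∀ u < 69408, (fun u => chkO1 tab orb u) u = true := ext_range (a := 69120) (len := 288) h240 o1_240
  have h242 : ∀ u < 69696, (fun u => chkO1 tab orb u) u = true := ext_range (a := 69408) (len := 288) h241 o1_241
  have h243 : ∀ u < 69984, (fun u => chkO1 tab orb u) u = true := ext_range (a := 69696) (len := 288) h242 o1_242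
  have h244 : ∀ u < 70272, (fun u => chkO1 tab orb u) u = true := ext_range (a := 69984) (len := 288) h243 o1_243
  have h245 : ∀ u < 70560, (fun u => chkO1 tab orb u) u = true := ext_range (a := 70272) (len := 288) h244 o1_244
  have h246 : ∀ u < 70848, (fun u => chkO1 tab orb u) u = true := ext_range (a := 70560) (len := 288) h245 o1_245
  have h247 : ∀ u < 71136, (fun u => chkO1 tab orb u) u = true := ext_range (a := 70848) (len := 288) h246 o1_246
  have h248 : ∀ u < 71424, (fun u => chkO1 tab orb u) u = true := ext_range (a := 71136) (len := 288) h247 o1_247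
  have h249 : ∀ u < 71712, (fun u => chkO1 tab orb u) u = true := ext_range (a := 71424) (len := 288) h248 o1_248
  have h250 : ∀ u < 72000, (fun u => chkO1 tab orb u) u = true := ext_range (a := 71712) (len := 288) h249 o1_249
  have h251 : ∀ u < 72288, (fun u => chkO1 tab orb u) u = true := ext_range (a := 72000) (len := 288) h250 o1_250
  have h252 : ∀ u < 72576, (fun u => chkO1 tab orb u) u = true := ext_range (a := 72288) (len := 288) h251 o1_251
  have h253 : ∀ u < 72864, (fun u => chkO1 tab orb u) u = true := ext_range (a := 72576) (len := 288) h252 o1_252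
  have h254 : ∀ u < 73152, (fun u => chkO1 tab orb u) u = true := ext_range (a := 72864) (len := 288) h253 o1_253
  have h255 : ∀ u < 73440, (fun u => chkO1 tab orb u) u = true := ext_range (a := 73152) (len := 288) h254 o1_254
  have h256 : ∀ u < 73728, (fun u => chkO1 tab orb u) u = true := ext_range (a := 73440) (len := 288) h255 o1_255
  have h257 : ∀ u < 74016, (fun u => chkO1 tab orb u) u = true := ext_range (a := 73728) (len := 288) h256 o1_256
  have h258 : ∀ u < 74304, (fun u => chkO1 tab orb u) u = true := ext_range (a := 74016) (len := 288) h257 o1_257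
  have h259 : ∀ u < 74592, (fun u => chkO1 tab orb u) u = true := ext_range (a := 74304) (len := 288) h258 o1_258
  have h260 : ∀ u < 74880, (fun u => chkO1 tab orb u) u = true := ext_range (a := 74592) (len := 288) h259 o1_259
  have h261 : ∀ u < 75168, (fun u => chkO1 tab orb u) u = true := ext_range (a := 74880) (len := 288) h260 o1_260
  have h262 : ∀ u < 75456, (fun u => chkO1 tab orb u) u = true := ext_range (a := 75168) (len := 288) h261 o1_261
  have h263 : ∀ u < 75744, (fun u => chkO1 tab orb u) u = true := ext_range (a := 75456) (len := 288) h262 o1_262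
  have h264 : ∀ u < 76032, (fun u => chkO1 tab orb u) u = true := ext_range (a := 75744) (len := 288) h263 o1_263
  have h265 : ∀ u < 76320, (fun u => chkO1 tab orb u) u = true := ext_range (a := 76032) (len := 288) h264 o1_264
  have h266 : ∀ u < 76608, (fun u => chkO1 tab orb u) u = true := ext_range (a := 76320) (len := 288) h265 o1_265
  have h267 : ∀ u < 76896, (fun u => chkO1 tab orb u) u = true := ext_range (a := 76608) (len := 288) h266 o1_266
  have h268 : ∀ u < 77184, (fun u => chkO1 tab orb u) u = true := ext_range (a := 76896) (len := 288) h267 o1_267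
  have h269 : ∀ u < 77472, (fun u => chkO1 tab orb u) u = true := ext_range (a := 77184) (len := 288) h268 o1_268
  have h270 : ∀ u < 77760, (fun u => chkO1 tab orb u) u = true := ext_range (a := 77472) (len := 288) h269 o1_269
  have h271 : ∀ u < 78048, (fun u => chkO1 tab orb u) u = true := ext_range (a := 77760) (len := 288) h270 o1_270
  have h272 : ∀ u < 78336, (fun u => chkO1 tab orb u) u = true := ext_range (a := 78048) (len := 288) h271 o1_271
  have h273 : ∀ u < 78624, (fun u => chkO1 tab orb u) u = true := ext_range (a := 78336) (len := 288) h272 o1_272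
  have h274 : ∀ u < 78912, (fun u => chkO1 tab orb u) u = true := ext_range (a := 78624) (len := 288) h273 o1_273
  have h275 : ∀ u < 79200, (fun u => chkO1 tab orb u) u = true := ext_range (a := 78912) (len := 288) h274 o1_274
  have h276 : ∀ u < 79488, (fun u => chkO1 tab orb u) u = true := ext_range (a := 79200) (len := 288) h275 o1_275
  have h277 : ∀ u < 79776, (fun u => chkO1 tab orb u) u = true := ext_range (a := 79488) (len := 288) h276 o1_276
  have h278 : ∀ u < 80064, (fun u => chkO1 tab orb u) u = true := ext_range (a := 79776) (len := 288) h277 o1_277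
  have h279 : ∀ u < 80352, (fun u => chkO1 tab orb u) u = true := ext_range (a := 80064) (len := 288) h278 o1_278
  have h280 : ∀ u < 80640, (fun u => chkO1 tab orb u) u = true := ext_range (a := 80352) (len := 288) h279 o1_279
  have h281 : ∀ u < 80928, (fun u => chkO1 tab orb u) u = true := ext_range (a := 80640) (len := 288) h280 o1_280
  have h282 : ∀ u < 81216, (fun u => chkO1 tab orb u) u = true := ext_range (a := 80928) (len := 288) h281 o1_281
  have h283 : ∀ u < 81504, (fun u => chkO1 tab orb u) u = true := ext_range (a := 81216) (len := 288) h282 o1_282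
  have h284 : ∀ u < 81792, (fun u => chkO1 tab orb u) u = true := ext_range (a := 81504) (len := 288) h283 o1_283
  have h285 : ∀ u < 82080, (fun u => chkO1 tab orb u) u = true := ext_range (a := 81792) (len := 288) h284 o1_284
  have h286 : ∀ u < 82368, (fun u => chkO1 tab orb u) u = true := ext_range (a := 82080) (len := 288) h285 o1_285
  have h287 : ∀ u < 82656, (fun u => chkO1 tab orb u) u = true := ext_range (a := 82368) (len := 288) h286 o1_286
  have h288 : ∀ u < 82944, (fun u => chkO1 tab orb u) u = true := ext_range (a := 82656) (len := 288) h287 o1_287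
  have h289 : ∀ u < 83232, (fun u => chkO1 tab orb u) u = true := ext_range (a := 82944) (len := 288) h288 o1_288
  have h290 : ∀ u < 83520, (fun u => chkO1 tab orb u) u = true := ext_range (a := 83232) (len := 288) h289 o1_289
  have h291 : ∀ u < 83808, (fun u => chkO1 tab orb u) u = true := ext_range (a := 83520) (len := 288) h290 o1_290
  have h292 : ∀ u < 84096, (fun u => chkO1 tab orb u) u = true := ext_range (a := 83808) (len := 288) h291 o1_291
  have h293 : ∀ u < 84384, (fun u => chkO1 tab orb u) u = true := ext_range (a := 84096) (len := 288) h292 o1_292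
  have h294 : ∀ u < 84672, (fun u => chkO1 tab orb u) u = true := ext_range (a := 84384) (len := 288) h293 o1_293
  have h295 : ∀ u < 84960, (fun u => chkO1 tab orb u) u = true := ext_range (a := 84672) (len := 288) h294 o1_294
  have h296 : ∀ u < 85248, (fun u => chkO1 tab orb u) u = true := ext_range (a := 84960) (len := 288) h295 o1_295
  have h297 : ∀ u < 85536, (fun u => chkO1 tab orb u) u = true := ext_range (a := 85248) (len := 288) h296 o1_296
  have h298 : ∀ u < 85824, (fun u => chkO1 tab orb u) u = true := ext_range (a := 85536) (len := 288) h297 o1_297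
  have h299 : ∀ u < 86112, (fun u => chkO1 tab orb u) u = true := ext_range (a := 85824) (len := 288) h298 o1_298
  have h300 : ∀ u < 86400, (fun u => chkO1 tab orb u) u = true := ext_range (a := 86112) (len := 288) h299 o1_299
  have h301 : ∀ u < 86688, (fun u => chkO1 tab orb u) u = true := ext_range (a := 86400) (len := 288) h300 o1_300
  have h302 : ∀ u < 86976, (fun u => chkO1 tab orb u) u = true := ext_range (a := 86688) (len := 288) h301 o1_301
  have h303 : ∀ u < 87264, (fun u => chkO1 tab orb u) u = true := ext_range (a := 86976) (len := 288) h302 o1_302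
  have h304 : ∀ u < 87552, (fun u => chkO1 tab orb u) u = true := ext_range (a := 87264) (len := 288) h303 o1_303
  have h305 : ∀ u < 87840, (fun u => chkO1 tab orb u) u = true := ext_range (a := 87552) (len := 288) h304 o1_304
  have h306 : ∀ u < 88128, (fun u => chkO1 tab orb u) u = true := ext_range (a := 87840) (len := 288) h305 o1_305
  have h307 : ∀ u < 88416, (fun u => chkO1 tab orb u) u = true := ext_range (a := 88128) (len := 288) h306 o1_306
  have h308 : ∀ u < 88704, (fun u => chkO1 tab orb u) u = true := ext_range (a := 88416) (len := 288) h307 o1_307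
  have h309 : ∀ u < 88992, (fun u => chkO1 tab orb u) u = true := ext_range (a := 88704) (len := 288) h308 o1_308
  have h310 : ∀ u < 89280, (fun u => chkO1 tab orb u) u = true := ext_range (a := 88992) (len := 288) h309 o1_309
  have h311 : ∀ u < 89568, (fun u => chkO1 tab orb u) u = true := ext_range (a := 89280) (len := 288) h310 o1_310
  have h312 : ∀ u < 89856, (fun u => chkO1 tab orb u) u = true := ext_range (a := 89568) (len := 288) h311 o1_311
  have h313 : ∀ u < 90144, (fun u => chkO1 tab orb u) u = true := ext_range (a := 89856) (len := 288) h312 o1_312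
  have h314 : ∀ u < 90432, (fun u => chkO1 tab orb u) u = true := ext_range (a := 90144) (len := 288) h313 o1_313
  have h315 : ∀ u < 90720, (fun u => chkO1 tab orb u) u = true := ext_range (a := 90432) (len := 288) h314 o1_314
  have h316 : ∀ u < 91008, (fun u => chkO1 tab orb u) u = true := ext_range (a := 90720) (len := 288) h315 o1_315
  have h317 : ∀ u < 91296, (fun u => chkO1 tab orb u) u = true := ext_range (a := 91008) (len := 288) h316 o1_316
  have h318 : ∀ u < 91584, (fun u => chkO1 tab orb u) u = true := ext_range (a := 91296) (len := 288) h317 o1_317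
  have h319 : ∀ u < 91872, (fun u => chkO1 tab orb u) u = true := ext_range (a := 91584) (len := 288) h318 o1_318
  have h320 : ∀ u < 92160, (fun u => chkO1 tab orb u) u = true := ext_range (a := 91872) (len := 288) h319 o1_319
  have h321 : ∀ u < 92448, (fun u => chkO1 tab orb u) u = true := ext_range (a := 92160) (len := 288) h320 o1_320
  have h322 : ∀ u < 92736, (fun u => chkO1 tab orb u) u = true := ext_range (a := 92448) (len := 288) h321 o1_321
  have h323 : ∀ u < 93024, (fun u => chkO1 tab orb u) u = true := ext_range (a := 92736) (len := 288) h322 o1_322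
  have h324 : ∀ u < 93312, (fun u => chkO1 tab orb u) u = true := ext_range (a := 93024) (len := 288) h323 o1_323
  have h325 : ∀ u < 93600, (fun u => chkO1 tab orb u) u = true := ext_range (a := 93312) (len := 288) h324 o1_324
  have h326 : ∀ u < 93888, (fun u => chkO1 tab orb u) u = true := ext_range (a := 93600) (len := 288) h325 o1_325
  have h327 : ∀ u < 94176, (fun u => chkO1 tab orb u) u = true := ext_range (a := 93888) (len := 288) h326 o1_326
  have h328 : ∀ u < 94464, (fun u => chkO1 tab orb u) u = true := ext_range (a := 94176) (len := 288) h327 o1_327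
  have h329 : ∀ u < 94752, (fun u => chkO1 tab orb u) u = true := ext_range (a := 94464) (len := 288) h328 o1_328
  have h330 : ∀ u < 95040, (fun u => chkO1 tab orb u) u = true := ext_range (a := 94752) (len := 288) h329 o1_329
  have h331 : ∀ u < 95328, (fun u => chkO1 tab orb u) u = true := ext_range (a := 95040) (len := 288) h330 o1_330
  have h332 : ∀ u < 95616, (fun u => chkO1 tab orb u) u = true := ext_range (a := 95328) (len := 288) h331 o1_331
  have h333 : ∀ u < 95904, (fun u => chkO1 tab orb u) u = true := ext_range (a := 95616) (len := 288) h332 o1_332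
  have h334 : ∀ u < 96192, (fun u => chkO1 tab orb u) u = true := ext_range (a := 95904) (len := 288) h333 o1_333
  have h335 : ∀ u < 96480, (fun u => chkO1 tab orb u) u = true := ext_range (a := 96192) (len := 288) h334 o1_334
  have h336 : ∀ u < 96768, (fun u => chkO1 tab orb u) u = true := ext_range (a := 96480) (len := 288) h335 o1_335
  have h337 : ∀ u < 97056, (fun u => chkO1 tab orb u) u = true := ext_range (a := 96768) (len := 288) h336 o1_336
  have h338 : ∀ u < 97344, (fun u => chkO1 tab orb u) u = true := ext_range (a := 97056) (len := 288) h337 o1_337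
  have h339 : ∀ u < 97632, (fun u => chkO1 tab orb u) u = true := ext_range (a := 97344) (len := 288) h338 o1_338
  have h340 : ∀ u < 97920, (fun u => chkO1 tab orb u) u = true := ext_range (a := 97632) (len := 288) h339 o1_339
  have h341 : ∀ u < 98208, (fun u => chkO1 tab orb u) u = true := ext_range (a := 97920) (len := 288) h340 o1_340
  have h342 : ∀ u < 98496, (fun u => chkO1 tab orb u) u = true := ext_range (a := 98208) (len := 288) h341 o1_341
  have h343 : ∀ u < 98784, (fun u => chkO1 tab orb u) u = true := ext_range (a := 98496) (len := 288) h342 o1_342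
  have h344 : ∀ u < 99072, (fun u => chkO1 tab orb u) u = true := ext_range (a := 98784) (len := 288) h343 o1_343
  have h345 : ∀ u < 99360, (fun u => chkO1 tab orb u) u = true := ext_range (a := 99072) (len := 288) h344 o1_344
  have h346 : ∀ u < 99648, (fun u => chkO1 tab orb u) u = true := ext_range (a := 99360) (len := 288) h345 o1_345
  have h347 : ∀ u < 99936, (fun u => chkO1 tab orb u) u = true := ext_range (a := 99648) (len := 288) h346 o1_346
  have h348 : ∀ u < 100224, (fun u => chkO1 tab orb u) u = true := ext_range (a := 99936) (len := 288) h347 o1_347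
  have h349 : ∀ u < 100512, (fun u => chkO1 tab orb u) u = true := ext_range (a := 100224) (len := 288) h348 o1_348
  have h350 : ∀ u < 100800, (fun u => chkO1 tab orb u) u = true := ext_range (a := 100512) (len := 288) h349 o1_349
  have h351 : ∀ u < 101088, (fun u => chkO1 tab orb u) u = true := ext_range (a := 100800) (len := 288) h350 o1_350
  have h352 : ∀ u < 101376, (fun u => chkO1 tab orb u) u = true := ext_range (a := 101088) (len := 288) h351 o1_351
  have h353 : ∀ u < 101664, (fun u => chkO1 tab orb u) u = true := ext_range (a := 101376) (len := 288) h352 o1_352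
  have h354 : ∀ u < 101952, (fun u => chkO1 tab orb u) u = true := ext_range (a := 101664) (len := 288) h353 o1_353
  have h355 : ∀ u < 102240, (fun u => chkO1 tab orb u) u = true := ext_range (a := 101952) (len := 288) h354 o1_354
  have h356 : ∀ u < 102528, (fun u => chkO1 tab orb u) u = true := ext_range (a := 102240) (len := 288) h355 o1_355
  have h357 : ∀ u < 102816, (fun u => chkO1 tab orb u) u = true := ext_range (a := 102528) (len := 288) h356 o1_356
  have h358 : ∀ u < 103104, (fun u => chkO1 tab orb u) u = true := ext_range (a := 102816) (len := 288) h357 o1_357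
  have h359 : ∀ u < 103392, (fun u => chkO1 tab orb u) u = true := ext_range (a := 103104) (len := 288) h358 o1_358
  have h360 : ∀ u < 103680, (fun u => chkO1 tab orb u) u = true := ext_range (a := 103392) (len := 288) h359 o1_359
  have h361 : ∀ u < 103968, (fun u => chkO1 tab orb u) u = true := ext_range (a := 103680) (len := 288) h360 o1_360
  have h362 : ∀ u < 104256, (fun u => chkO1 tab orb u) u = true := ext_range (a := 103968) (len := 288) h361 o1_361
  have h363 : ∀ u < 104544, (fun u => chkO1 tab orb u) u = true := ext_range (a := 104256) (len := 288) h362 o1_362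
  have h364 : ∀ u < 104832, (fun u => chkO1 tab orb u) u = true := ext_range (a := 104544) (len := 288) h363 o1_363
  have h365 : ∀ u < 105120, (fun u => chkO1 tab orb u) u = true := ext_range (a := 104832) (len := 288) h364 o1_364
  have h366 : ∀ u < 105408, (fun u => chkO1 tab orb u) u = true := ext_range (a := 105120) (len := 288) h365 o1_365
  have h367 : ∀ u < 105696, (fun u => chkO1 tab orb u) u = true := ext_range (a := 105408) (len := 288) h366 o1_366
  have h368 : ∀ u < 105984, (fun u => chkO1 tab orb u) u = true := ext_range (a := 105696) (len := 288) h367 o1_367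
  have h369 : ∀ u < 106272, (fun u => chkO1 tab orb u) u = true := ext_range (a := 105984) (len := 288) h368 o1_368
  have h370 : ∀ u < 106560, (fun u => chkO1 tab orb u) u = true := ext_range (a := 106272) (len := 288) h369 o1_369
  have h371 : ∀ u < 106848, (fun u => chkO1 tab orb u) u = true := ext_range (a := 106560) (len := 288) h370 o1_370
  have h372 : ∀ u < 107136, (fun u => chkO1 tab orb u) u = true := ext_range (a := 106848) (len := 288) h371 o1_371
  have h373 : ∀ u < 107424, (fun u => chkO1 tab orb u) u = true := ext_range (a := 107136) (len := 288) h372 o1_372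
  have h374 : ∀ u < 107712, (fun u => chkO1 tab orb u) u = true := ext_range (a := 107424) (len := 288) h373 o1_373
  have h375 : ∀ u < 108000, (fun u => chkO1 tab orb u) u = true := ext_range (a := 107712) (len := 288) h374 o1_374
  have h376 : ∀ u < 108288, (fun u => chkO1 tab orb u) u = true := ext_range (a := 108000) (len := 288) h375 o1_375
  have h377 : ∀ u < 108576, (fun u => chkO1 tab orb u) u = true := ext_range (a := 108288) (len := 288) h376 o1_376
  have h378 : ∀ u < 108864, (fun u => chkO1 tab orb u) u = true := ext_range (a := 108576) (len := 288) h377 o1_377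
  have h379 : ∀ u < 109152, (fun u => chkO1 tab orb u) u = true := ext_range (a := 108864) (len := 288) h378 o1_378
  have h380 : ∀ u < 109440, (fun u => chkO1 tab orb u) u = true := ext_range (a := 109152) (len := 288) h379 o1_379
  have h381 : ∀ u < 109728, (fun u => chkO1 tab orb u) u = true := ext_range (a := 109440) (len := 288) h380 o1_380
  have h382 : ∀ u < 110016, (fun u => chkO1 tab orb u) u = true := ext_range (a := 109728) (len := 288) h381 o1_381
  have h383 : ∀ u < 110304, (fun u => chkO1 tab orb u) u = true := ext_range (a := 110016) (len := 288) h382 o1_382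
  have h384 : ∀ u < 110592, (fun u => chkO1 tab orb u) u = true := ext_range (a := 110304) (len := 288) h383 o1_383
  have h385 : ∀ u < 110880, (fun u => chkO1 tab orb u) u = true := ext_range (a := 110592) (len := 288) h384 o1_384
  have h386 : ∀ u < 111168, (fun u => chkO1 tab orb u) u = true := ext_range (a := 110880) (len := 288) h385 o1_385
  have h387 : ∀ u < 111456, (fun u => chkO1 tab orb u) u = true := ext_range (a := 111168) (len := 288) h386 o1_386
  have h388 : ∀ u < 111744, (fun u => chkO1 tab orb u) u = true := ext_range (a := 111456) (len := 288) h387 o1_387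
  have h389 : ∀ u < 112032, (fun u => chkO1 tab orb u) u = true := ext_range (a := 111744) (len := 288) h388 o1_388
  have h390 : ∀ u < 112320, (fun u => chkO1 tab orb u) u = true := ext_range (a := 112032) (len := 288) h389 o1_389
  have h391 : ∀ u < 112608, (fun u => chkO1 tab orb u) u = true := ext_range (a := 112320) (len := 288) h390 o1_390
  have h392 : ∀ u < 112896, (fun u => chkO1 tab orb u) u = true := ext_range (a := 112608) (len := 288) h391 o1_391
  have h393 : ∀ u < 113184, (fun u => chkO1 tab orb u) u = true := ext_range (a := 112896) (len := 288) h392 o1_392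
  have h394 : ∀ u < 113472, (fun u => chkO1 tab orb u) u = true := ext_range (a := 113184) (len := 288) h393 o1_393
  have h395 : ∀ u < 113760, (fun u => chkO1 tab orb u) u = true := ext_range (a := 113472) (len := 288) h394 o1_394
  have h396 : ∀ u < 114048, (fun u => chkO1 tab orb u) u = true := ext_range (a := 113760) (len := 288) h395 o1_395
  have h397 : ∀ u < 114336, (fun u => chkO1 tab orb u) u = true := ext_range (a := 114048) (len := 288) h396 o1_396
  have h398 : ∀ u < 114624, (fun u => chkO1 tab orb u) u = true := ext_range (a := 114336) (len := 288) h397 o1_397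
  have h399 : ∀ u < 114912, (fun u => chkO1 tab orb u) u = true := ext_range (a := 114624) (len := 288) h398 o1_398
  have h400 : ∀ u < 115200, (fun u => chkO1 tab orb u) u = true := ext_range (a := 114912) (len := 288) h399 o1_399
  have h401 : ∀ u < 115488, (fun u => chkO1 tab orb u) u = true := ext_range (a := 115200) (len := 288) h400 o1_400
  have h402 : ∀ u < 115776, (fun u => chkO1 tab orb u) u = true := ext_range (a := 115488) (len := 288) h401 o1_401
  have h403 : ∀ u < 116064, (fun u => chkO1 tab orb u) u = true := ext_range (a := 115776) (len := 288) h402 o1_402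
  have h404 : ∀ u < 116352, (fun u => chkO1 tab orb u) u = true := ext_range (a := 116064) (len := 288) h403 o1_403
  have h405 : ∀ u < 116640, (fun u => chkO1 tab orb u) u = true := ext_range (a := 116352) (len := 288) h404 o1_404
  have h406 : ∀ u < 116928, (fun u => chkO1 tab orb u) u = true := ext_range (a := 116640) (len := 288) h405 o1_405
  have h407 : ∀ u < 117216, (fun u => chkO1 tab orb u) u = true := ext_range (a := 116928) (len := 288) h406 o1_406
  have h408 : ∀ u < 117504, (fun u => chkO1 tab orb u) u = true := ext_range (a := 117216) (len := 288) h407 o1_407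
  have h409 : ∀ u < 117792, (fun u => chkO1 tab orb u) u = true := ext_range (a := 117504) (len := 288) h408 o1_408
  have h410 : ∀ u < 118080, (fun u => chkO1 tab orb u) u = true := ext_range (a := 117792) (len := 288) h409 o1_409
  have h411 : ∀ u < 118368, (fun u => chkO1 tab orb u) u = true := ext_range (a := 118080) (len := 288) h410 o1_410
  have h412 : ∀ u < 118656, (fun u => chkO1 tab orb u) u = true := ext_range (a := 118368) (len := 288) h411 o1_411
  have h413 : ∀ u < 118944, (fun u => chkO1 tab orb u) u = true := ext_range (a := 118656) (len := 288) h412 o1_412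
  have h414 : ∀ u < 119232, (fun u => chkO1 tab orb u) u = true := ext_range (a := 118944) (len := 288) h413 o1_413
  have h415 : ∀ u < 119520, (fun u => chkO1 tab orb u) u = true := ext_range (a := 119232) (len := 288) h414 o1_414
  have h416 : ∀ u < 119808, (fun u => chkO1 tab orb u) u = true := ext_range (a := 119520) (len := 288) h415 o1_415
  have h417 : ∀ u < 120096, (fun u => chkO1 tab orb u) u = true := ext_range (a := 119808) (len := 288) h416 o1_416
  have h418 : ∀ u < 120384, (fun u => chkO1 tab orb u) u = true := ext_range (a := 120096) (len := 288) h417 o1_417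
  have h419 : ∀ u < 120672, (fun u => chkO1 tab orb u) u = true := ext_range (a := 120384) (len := 288) h418 o1_418
  have h420 : ∀ u < 120960, (fun u => chkO1 tab orb u) u = true := ext_range (a := 120672) (len := 288) h419 o1_419
  have h421 : ∀ u < 121248, (fun u => chkO1 tab orb u) u = true := ext_range (a := 120960) (len := 288) h420 o1_420
  have h422 : ∀ u < 121536, (fun u => chkO1 tab orb u) u = true := ext_range (a := 121248) (len := 288) h421 o1_421
  have h423 : ∀ u < 121824, (fun u => chkO1 tab orb u) u = true := ext_range (a := 121536) (len := 288) h422 o1_422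
  have h424 : ∀ u < 122112, (fun u => chkO1 tab orb u) u = true := ext_range (a := 121824) (len := 288) h423 o1_423
  have h425 : ∀ u < 122400, (fun u => chkO1 tab orb u) u = true := ext_range (a := 122112) (len := 288) h424 o1_424
  have h426 : ∀ u < 122688, (fun u => chkO1 tab orb u) u = true := ext_range (a := 122400) (len := 288) h425 o1_425
  have h427 : ∀ u < 122976, (fun u => chkO1 tab orb u) u = true := ext_range (a := 122688) (len := 288) h426 o1_426
  have h428 : ∀ u < 123264, (fun u => chkO1 tab orb u) u = true := ext_range (a := 122976) (len := 288) h427 o1_427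
  have h429 : ∀ u < 123552, (fun u => chkO1 tab orb u) u = true := ext_range (a := 123264) (len := 288) h428 o1_428
  have h430 : ∀ u < 123840, (fun u => chkO1 tab orb u) u = true := ext_range (a := 123552) (len := 288) h429 o1_429
  have h431 : ∀ u < 124128, (fun u => chkO1 tab orb u) u = true := ext_range (a := 123840) (len := 288) h430 o1_430
  have h432 : ∀ u < 124416, (fun u => chkO1 tab orb u) u = true := ext_range (a := 124128) (len := 288) h431 o1_431
  have h433 : ∀ u < 124704, (fun u => chkO1 tab orb u) u = true := ext_range (a := 124416) (len := 288) h432 o1_432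
  have h434 : ∀ u < 124992, (fun u => chkO1 tab orb u) u = true := ext_range (a := 124704) (len := 288) h433 o1_433
  have h435 : ∀ u < 125280, (fun u => chkO1 tab orb u) u = true := ext_range (a := 124992) (len := 288) h434 o1_434
  have h436 : ∀ u < 125568, (fun u => chkO1 tab orb u) u = true := ext_range (a := 125280) (len := 288) h435 o1_435
  have h437 : ∀ u < 125856, (fun u => chkO1 tab orb u) u = true := ext_range (a := 125568) (len := 288) h436 o1_436
  have h438 : ∀ u < 126144, (fun u => chkO1 tab orb u) u = true := ext_range (a := 125856) (len := 288) h437 o1_437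
  have h439 : ∀ u < 126432, (fun u => chkO1 tab orb u) u = true := ext_range (a := 126144) (len := 288) h438 o1_438
  have h440 : ∀ u < 126720, (fun u => chkO1 tab orb u) u = true := ext_range (a := 126432) (len := 288) h439 o1_439
  have h441 : ∀ u < 127008, (fun u => chkO1 tab orb u) u = true := ext_range (a := 126720) (len := 288) h440 o1_440
  have h442 : ∀ u < 127296, (fun u => chkO1 tab orb u) u = true := ext_range (a := 127008) (len := 288) h441 o1_441
  have h443 : ∀ u < 127584, (fun u => chkO1 tab orb u) u = true := ext_range (a := 127296) (len := 288) h442 o1_442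
  have h444 : ∀ u < 127872, (fun u => chkO1 tab orb u) u = true := ext_range (a := 127584) (len := 288) h443 o1_443
  have h445 : ∀ u < 128160, (fun u => chkO1 tab orb u) u = true := ext_range (a := 127872) (len := 288) h444 o1_444
  have h446 : ∀ u < 128448, (fun u => chkO1 tab orb u) u = true := ext_range (a := 128160) (len := 288) h445 o1_445
  have h447 : ∀ u < 128736, (fun u => chkO1 tab orb u) u = true := ext_range (a := 128448) (len := 288) h446 o1_446
  have h448 : ∀ u < 129024, (fun u => chkO1 tab orb u) u = true := ext_range (a := 128736) (len := 288) h447 o1_447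
  have h449 : ∀ u < 129312, (fun u => chkO1 tab orb u) u = true := ext_range (a := 129024) (len := 288) h448 o1_448
  have h450 : ∀ u < 129600, (fun u => chkO1 tab orb u) u = true := ext_range (a := 129312) (len := 288) h449 o1_449
  have h451 : ∀ u < 129888, (fun u => chkO1 tab orb u) u = true := ext_range (a := 129600) (len := 288) h450 o1_450
  have h452 : ∀ u < 130176, (fun u => chkO1 tab orb u) u = true := ext_range (a := 129888) (len := 288) h451 o1_451
  have h453 : ∀ u < 130464, (fun u => chkO1 tab orb u) u = true := ext_range (a := 130176) (len := 288) h452 o1_452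
  have h454 : ∀ u < 130752, (fun u => chkO1 tab orb u) u = true := ext_range (a := 130464) (len := 288) h453 o1_453
  have h455 : ∀ u < 131040, (fun u => chkO1 tab orb u) u = true := ext_range (a := 130752) (len := 288) h454 o1_454
  have h456 : ∀ u < 131328, (fun u => chkO1 tab orb u) u = true := ext_range (a := 131040) (len := 288) h455 o1_455
  have h457 : ∀ u < 131616, (fun u => chkO1 tab orb u) u = true := ext_range (a := 131328) (len := 288) h456 o1_456
  have h458 : ∀ u < 131904, (fun u => chkO1 tab orb u) u = true := ext_range (a := 131616) (len := 288) h457 o1_457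
  have h459 : ∀ u < 132192, (fun u => chkO1 tab orb u) u = true := ext_range (a := 131904) (len := 288) h458 o1_458
  have h460 : ∀ u < 132480, (fun u => chkO1 tab orb u) u = true := ext_range (a := 132192) (len := 288) h459 o1_459
  have h461 : ∀ u < 132768, (fun u => chkO1 tab orb u) u = true := ext_range (a := 132480) (len := 288) h460 o1_460
  have h462 : ∀ u < 133056, (fun u => chkO1 tab orb u) u = true := ext_range (a := 132768) (len := 288) h461 o1_461
  have h463 : ∀ u < 133344, (fun u => chkO1 tab orb u) u = true := ext_range (a := 133056) (len := 288) h462 o1_462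
  have h464 : ∀ u < 133632, (fun u => chkO1 tab orb u) u = true := ext_range (a := 133344) (len := 288) h463 o1_463
  have h465 : ∀ u < 133920, (fun u => chkO1 tab orb u) u = true := ext_range (a := 133632) (len := 288) h464 o1_464
  have h466 : ∀ u < 134208, (fun u => chkO1 tab orb u) u = true := ext_range (a := 133920) (len := 288) h465 o1_465
  have h467 : ∀ u < 134496, (fun u => chkO1 tab orb u) u = true := ext_range (a := 134208) (len := 288) h466 o1_466
  have h468 : ∀ u < 134784, (fun u => chkO1 tab orb u) u = true := ext_range (a := 134496) (len := 288) h467 o1_467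
  have h469 : ∀ u < 135072, (fun u => chkO1 tab orb u) u = true := ext_range (a := 134784) (len := 288) h468 o1_468
  have h470 : ∀ u < 135360, (fun u => chkO1 tab orb u) u = true := ext_range (a := 135072) (len := 288) h469 o1_469
  have h471 : ∀ u < 135648, (fun u => chkO1 tab orb u) u = true := ext_range (a := 135360) (len := 288) h470 o1_470
  have h472 : ∀ u < 135936, (fun u => chkO1 tab orb u) u = true := ext_range (a := 135648) (len := 288) h471 o1_471
  have h473 : ∀ u < 136224, (fun u => chkO1 tab orb u) u = true := ext_range (a := 135936) (len := 288) h472 o1_472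
  have h474 : ∀ u < 136512, (fun u => chkO1 tab orb u) u = true := ext_range (a := 136224) (len := 288) h473 o1_473
  have h475 : ∀ u < 136800, (fun u => chkO1 tab orb u) u = true := ext_range (a := 136512) (len := 288) h474 o1_474
  have h476 : ∀ u < 137088, (fun u => chkO1 tab orb u) u = true := ext_range (a := 136800) (len := 288) h475 o1_475
  have h477 : ∀ u < 137376, (fun u => chkO1 tab orb u) u = true := ext_range (a := 137088) (len := 288) h476 o1_476
  have h478 : ∀ u < 137664, (fun u => chkO1 tab orb u) u = true := ext_range (a := 137376) (len := 288) h477 o1_477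
  have h479 : ∀ u < 137952, (fun u => chkO1 tab orb u) u = true := ext_range (a := 137664) (len := 288) h478 o1_478
  have h480 : ∀ u < 138240, (fun u => chkO1 tab orb u) u = true := ext_range (a := 137952) (len := 288) h479 o1_479
  have h481 : ∀ u < 138528, (fun u => chkO1 tab orb u) u = true := ext_range (a := 138240) (len := 288) h480 o1_480
  have h482 : ∀ u < 138816, (fun u => chkO1 tab orb u) u = true := ext_range (a := 138528) (len := 288) h481 o1_481
  have h483 : ∀ u < 139104, (fun u => chkO1 tab orb u) u = true := ext_range (a := 138816) (len := 288) h482 o1_482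
  have h484 : ∀ u < 139392, (fun u => chkO1 tab orb u) u = true := ext_range (a := 139104) (len := 288) h483 o1_483
  have h485 : ∀ u < 139680, (fun u => chkO1 tab orb u) u = true := ext_range (a := 139392) (len := 288) h484 o1_484
  have h486 : ∀ u < 139968, (fun u => chkO1 tab orb u) u = true := ext_range (a := 139680) (len := 288) h485 o1_485
  have h487 : ∀ u < 140256, (fun u => chkO1 tab orb u) u = true := ext_range (a := 139968) (len := 288) h486 o1_486
  have h488 : ∀ u < 140544, (fun u => chkO1 tab orb u) u = true := ext_range (a := 140256) (len := 288) h487 o1_487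
  have h489 : ∀ u < 140832, (fun u => chkO1 tab orb u) u = true := ext_range (a := 140544) (len := 288) h488 o1_488
  have h490 : ∀ u < 141120, (fun u => chkO1 tab orb u) u = true := ext_range (a := 140832) (len := 288) h489 o1_489
  have h491 : ∀ u < 141408, (fun u => chkO1 tab orb u) u = true := ext_range (a := 141120) (len := 288) h490 o1_490
  have h492 : ∀ u < 141696, (fun u => chkO1 tab orb u) u = true := ext_range (a := 141408) (len := 288) h491 o1_491
  have h493 : ∀ u < 141984, (fun u => chkO1 tab orb u) u = true := ext_range (a := 141696) (len := 288) h492 o1_492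
  have h494 : ∀ u < 142272, (fun u => chkO1 tab orb u) u = true := ext_range (a := 141984) (len := 288) h493 o1_493
  have h495 : ∀ u < 142560, (fun u => chkO1 tab orb u) u = true := ext_range (a := 142272) (len := 288) h494 o1_494
  have h496 : ∀ u < 142848, (fun u => chkO1 tab orb u) u = true := ext_range (a := 142560) (len := 288) h495 o1_495
  have h497 : ∀ u < 143136, (fun u => chkO1 tab orb u) u = true := ext_range (a := 142848) (len := 288) h496 o1_496
  have h498 : ∀ u < 143424, (fun u => chkO1 tab orb u) u = true := ext_range (a := 143136) (len := 288) h497 o1_497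
  have h499 : ∀ u < 143712, (fun u => chkO1 tab orb u) u = true := ext_range (a := 143424) (len := 288) h498 o1_498
  have h500 : ∀ u < 144000, (fun u => chkO1 tab orb u) u = true := ext_range (a := 143712) (len := 288) h499 o1_499
  have h501 : ∀ u < 144288, (fun u => chkO1 tab orb u) u = true := ext_range (a := 144000) (len := 288) h500 o1_500
  have h502 : ∀ u < 144576, (fun u => chkO1 tab orb u) u = true := ext_range (a := 144288) (len := 288) h501 o1_501
  have h503 : ∀ u < 144864, (fun u => chkO1 tab orb u) u = true := ext_range (a := 144576) (len := 288) h502 o1_502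
  have h504 : ∀ u < 145152, (fun u => chkO1 tab orb u) u = true := ext_range (a := 144864) (len := 288) h503 o1_503
  have h505 : ∀ u < 145440, (fun u => chkO1 tab orb u) u = true := ext_range (a := 145152) (len := 288) h504 o1_504
  have h506 : ∀ u < 145728, (fun u => chkO1 tab orb u) u = true := ext_range (a := 145440) (len := 288) h505 o1_505
  have h507 : ∀ u < 146016, (fun u => chkO1 tab orb u) u = true := ext_range (a := 145728) (len := 288) h506 o1_506
  have h508 : ∀ u < 146304, (fun u => chkO1 tab orb u) u = true := ext_range (a := 146016) (len := 288) h507 o1_507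
  have h509 : ∀ u < 146592, (fun u => chkO1 tab orb u) u = true := ext_range (a := 146304) (len := 288) h508 o1_508
  have h510 : ∀ u < 146880, (fun u => chkO1 tab orb u) u = true := ext_range (a := 146592) (len := 288) h509 o1_509
  have h511 : ∀ u < 147168, (fun u => chkO1 tab orb u) u = true := ext_range (a := 146880) (len := 288) h510 o1_510
  have h512 : ∀ u < 147456, (fun u => chkO1 tab orb u) u = true := ext_range (a := 147168) (len := 288) h511 o1_511
  have h513 : ∀ u < 147744, (fun u => chkO1 tab orb u) u = true := ext_range (a := 147456) (len := 288) h512 o1_512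
  have h514 : ∀ u < 148032, (fun u => chkO1 tab orb u) u = true := ext_range (a := 147744) (len := 288) h513 o1_513
  have h515 : ∀ u < 148320, (fun u => chkO1 tab orb u) u = true := ext_range (a := 148032) (len := 288) h514 o1_514
  have h516 : ∀ u < 148608, (fun u => chkO1 tab orb u) u = true := ext_range (a := 148320) (len := 288) h515 o1_515
  have h517 : ∀ u < 148896, (fun u => chkO1 tab orb u) u = true := ext_range (a := 148608) (len := 288) h516 o1_516
  have h518 : ∀ u < 149184, (fun u => chkO1 tab orb u) u = true := ext_range (a := 148896) (len := 288) h517 o1_517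
  have h519 : ∀ u < 149472, (fun u => chkO1 tab orb u) u = true := ext_range (a := 149184) (len := 288) h518 o1_518
  have h520 : ∀ u < 149760, (fun u => chkO1 tab orb u) u = true := ext_range (a := 149472) (len := 288) h519 o1_519
  have h521 : ∀ u < 150048, (fun u => chkO1 tab orb u) u = true := ext_range (a := 149760) (len := 288) h520 o1_520
  have h522 : ∀ u < 150336, (fun u => chkO1 tab orb u) u = true := ext_range (a := 150048) (len := 288) h521 o1_521
  have h523 : ∀ u < 150624, (fun u => chkO1 tab orb u) u = true := ext_range (a := 150336) (len := 288) h522 o1_522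
  have h524 : ∀ u < 150912, (fun u => chkO1 tab orb u) u = true := ext_range (a := 150624) (len := 288) h523 o1_523
  have h525 : ∀ u < 151200, (fun u => chkO1 tab orb u) u = true := ext_range (a := 150912) (len := 288) h524 o1_524
  have h526 : ∀ u < 151488, (fun u => chkO1 tab orb u) u = true := ext_range (a := 151200) (len := 288) h525 o1_525
  have h527 : ∀ u < 151776, (fun u => chkO1 tab orb u) u = true := ext_range (a := 151488) (len := 288) h526 o1_526
  have h528 : ∀ u < 152064, (fun u => chkO1 tab orb u) u = true := ext_range (a := 151776) (len := 288) h527 o1_527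
  have h529 : ∀ u < 152352, (fun u => chkO1 tab orb u) u = true := ext_range (a := 152064) (len := 288) h528 o1_528
  have h530 : ∀ u < 152640, (fun u => chkO1 tab orb u) u = true := ext_range (a := 152352) (len := 288) h529 o1_529
  have h531 : ∀ u < 152928, (fun u => chkO1 tab orb u) u = true := ext_range (a := 152640) (len := 288) h530 o1_530
  have h532 : ∀ u < 153216, (fun u => chkO1 tab orb u) u = true := ext_range (a := 152928) (len := 288) h531 o1_531
  have h533 : ∀ u < 153504, (fun u => chkO1 tab orb u) u = true := ext_range (a := 153216) (len := 288) h532 o1_532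
  have h534 : ∀ u < 153792, (fun u => chkO1 tab orb u) u = true := ext_range (a := 153504) (len := 288) h533 o1_533
  have h535 : ∀ u < 154080, (fun u => chkO1 tab orb u) u = true := ext_range (a := 153792) (len := 288) h534 o1_534
  have h536 : ∀ u < 154368, (fun u => chkO1 tab orb u) u = true := ext_range (a := 154080) (len := 288) h535 o1_535
  have h537 : ∀ u < 154656, (fun u => chkO1 tab orb u) u = true := ext_range (a := 154368) (len := 288) h536 o1_536
  have h538 : ∀ u < 154944, (fun u => chkO1 tab orb u) u = true := ext_range (a := 154656) (len := 288) h537 o1_537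
  have h539 : ∀ u < 155232, (fun u => chkO1 tab orb u) u = true := ext_range (a := 154944) (len := 288) h538 o1_538
  have h540 : ∀ u < 155520, (fun u => chkO1 tab orb u) u = true := ext_range (a := 155232) (len := 288) h539 o1_539
  have h541 : ∀ u < 155808, (fun u => chkO1 tab orb u) u = true := ext_range (a := 155520) (len := 288) h540 o1_540
  have h542 : ∀ u < 156096, (fun u => chkO1 tab orb u) u = true := ext_range (a := 155808) (len := 288) h541 o1_541
  have h543 : ∀ u < 156384, (fun u => chkO1 tab orb u) u = true := ext_range (a := 156096) (len := 288) h542 o1_542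
  have h544 : ∀ u < 156672, (fun u => chkO1 tab orb u) u = true := ext_range (a := 156384) (len := 288) h543 o1_543
  have h545 : ∀ u < 156960, (fun u => chkO1 tab orb u) u = true := ext_range (a := 156672) (len := 288) h544 o1_544
  have h546 : ∀ u < 157248, (fun u => chkO1 tab orb u) u = true := ext_range (a := 156960) (len := 288) h545 o1_545
  have h547 : ∀ u < 157536, (fun u => chkO1 tab orb u) u = true := ext_range (a := 157248) (len := 288) h546 o1_546
  have h548 : ∀ u < 157824, (fun u => chkO1 tab orb u) u = true := ext_range (a := 157536) (len := 288) h547 o1_547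
  have h549 : ∀ u < 158112, (fun u => chkO1 tab orb u) u = true := ext_range (a := 157824) (len := 288) h548 o1_548
  have h550 : ∀ u < 158400, (fun u => chkO1 tab orb u) u = true := ext_range (a := 158112) (len := 288) h549 o1_549
  have h551 : ∀ u < 158688, (fun u => chkO1 tab orb u) u = true := ext_range (a := 158400) (len := 288) h550 o1_550
  have h552 : ∀ u < 158976, (fun u => chkO1 tab orb u) u = true := ext_range (a := 158688) (len := 288) h551 o1_551
  have h553 : ∀ u < 159264, (fun u => chkO1 tab orb u) u = true := ext_range (a := 158976) (len := 288) h552 o1_552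
  have h554 : ∀ u < 159552, (fun u => chkO1 tab orb u) u = true := ext_range (a := 159264) (len := 288) h553 o1_553
  have h555 : ∀ u < 159840, (fun u => chkO1 tab orb u) u = true := ext_range (a := 159552) (len := 288) h554 o1_554
  have h556 : ∀ u < 160128, (fun u => chkO1 tab orb u) u = true := ext_range (a := 159840) (len := 288) h555 o1_555
  have h557 : ∀ u < 160416, (fun u => chkO1 tab orb u) u = true := ext_range (a := 160128) (len := 288) h556 o1_556
  have h558 : ∀ u < 160704, (fun u => chkO1 tab orb u) u = true := ext_range (a := 160416) (len := 288) h557 o1_557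
  have h559 : ∀ u < 160992, (fun u => chkO1 tab orb u) u = true := ext_range (a := 160704) (len := 288) h558 o1_558
  have h560 : ∀ u < 161280, (fun u => chkO1 tab orb u) u = true := ext_range (a := 160992) (len := 288) h559 o1_559
  have h561 : ∀ u < 161568, (fun u => chkO1 tab orb u) u = true := ext_range (a := 161280) (len := 288) h560 o1_560
  have h562 : ∀ u < 161856, (fun u => chkO1 tab orb u) u = true := ext_range (a := 161568) (len := 288) h561 o1_561
  have h563 : ∀ u < 162144, (fun u => chkO1 tab orb u) u = true := ext_range (a := 161856) (len := 288) h562 o1_562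
  have h564 : ∀ u < 162432, (fun u => chkO1 tab orb u) u = true := ext_range (a := 162144) (len := 288) h563 o1_563
  have h565 : ∀ u < 162720, (fun u => chkO1 tab orb u) u = true := ext_range (a := 162432) (len := 288) h564 o1_564
  have h566 : ∀ u < 163008, (fun u => chkO1 tab orb u) u = true := ext_range (a := 162720) (len := 288) h565 o1_565
  have h567 : ∀ u < 163296, (fun u => chkO1 tab orb u) u = true := ext_range (a := 163008) (len := 288) h566 o1_566
  have h568 : ∀ u < 163584, (fun u => chkO1 tab orb u) u = true := ext_range (a := 163296) (len := 288) h567 o1_567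
  have h569 : ∀ u < 163872, (fun u => chkO1 tab orb u) u = true := ext_range (a := 163584) (len := 288) h568 o1_568
  have h570 : ∀ u < 164160, (fun u => chkO1 tab orb u) u = true := ext_range (a := 163872) (len := 288) h569 o1_569
  have h571 : ∀ u < 164448, (fun u => chkO1 tab orb u) u = true := ext_range (a := 164160) (len := 288) h570 o1_570
  have h572 : ∀ u < 164736, (fun u => chkO1 tab orb u) u = true := ext_range (a := 164448) (len := 288) h571 o1_571
  have h573 : ∀ u < 165024, (fun u => chkO1 tab orb u) u = true := ext_range (a := 164736) (len := 288) h572 o1_572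
  have h574 : ∀ u < 165312, (fun u => chkO1 tab orb u) u = true := ext_range (a := 165024) (len := 288) h573 o1_573
  have h575 : ∀ u < 165600, (fun u => chkO1 tab orb u) u = true := ext_range (a := 165312) (len := 288) h574 o1_574
  have h576 : ∀ u < 165888, (fun u => chkO1 tab orb u) u = true := ext_range (a := 165600) (len := 288) h575 o1_575
  have h577 : ∀ u < 166176, (fun u => chkO1 tab orb u) u = true := ext_range (a := 165888) (len := 288) h576 o1_576
  have h578 : ∀ u < 166464, (fun u => chkO1 tab orb u) u = true := ext_range (a := 166176) (len := 288) h577 o1_577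
  have h579 : ∀ u < 166752, (fun u => chkO1 tab orb u) u = true := ext_range (a := 166464) (len := 288) h578 o1_578
  have h580 : ∀ u < 167040, (fun u => chkO1 tab orb u) u = true := ext_range (a := 166752) (len := 288) h579 o1_579
  have h581 : ∀ u < 167328, (fun u => chkO1 tab orb u) u = true := ext_range (a := 167040) (len := 288) h580 o1_580
  have h582 : ∀ u < 167616, (fun u => chkO1 tab orb u) u = true := ext_range (a := 167328) (len := 288) h581 o1_581
  have h583 : ∀ u < 167904, (fun u => chkO1 tab orb u) u = true := ext_range (a := 167616) (len := 288) h582 o1_582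
  have h584 : ∀ u < 168192, (fun u => chkO1 tab orb u) u = true := ext_range (a := 167904) (len := 288) h583 o1_583
  have h585 : ∀ u < 168480, (fun u => chkO1 tab orb u) u = true := ext_range (a := 168192) (len := 288) h584 o1_584
  have h586 : ∀ u < 168768, (fun u => chkO1 tab orb u) u = true := ext_range (a := 168480) (len := 288) h585 o1_585
  have h587 : ∀ u < 169056, (fun u => chkO1 tab orb u) u = true := ext_range (a := 168768) (len := 288) h586 o1_586
  have h588 : ∀ u < 169344, (fun u => chkO1 tab orb u) u = true := ext_range (a := 169056) (len := 288) h587 o1_587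
  have h589 : ∀ u < 169632, (fun u => chkO1 tab orb u) u = true := ext_range (a := 169344) (len := 288) h588 o1_588
  have h590 : ∀ u < 169920, (fun u => chkO1 tab orb u) u = true := ext_range (a := 169632) (len := 288) h589 o1_589
  have h591 : ∀ u < 170208, (fun u => chkO1 tab orb u) u = true := ext_range (a := 169920) (len := 288) h590 o1_590
  have h592 : ∀ u < 170496, (fun u => chkO1 tab orb u) u = true := ext_range (a := 170208) (len := 288) h591 o1_591
  have h593 : ∀ u < 170784, (fun u => chkO1 tab orb u) u = true := ext_range (a := 170496) (len := 288) h592 o1_592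
  have h594 : ∀ u < 171072, (fun u => chkO1 tab orb u) u = true := ext_range (a := 170784) (len := 288) h593 o1_593
  have h595 : ∀ u < 171360, (fun u => chkO1 tab orb u) u = true := ext_range (a := 171072) (len := 288) h594 o1_594
  have h596 : ∀ u < 171648, (fun u => chkO1 tab orb u) u = true := ext_range (a := 171360) (len := 288) h595 o1_595
  have h597 : ∀ u < 171936, (fun u => chkO1 tab orb u) u = true := ext_range (a := 171648) (len := 288) h596 o1_596
  have h598 : ∀ u < 172224, (fun u => chkO1 tab orb u) u = true := ext_range (a := 171936) (len := 288) h597 o1_597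
  have h599 : ∀ u < 172512, (fun u => chkO1 tab orb u) u = true := ext_range (a := 172224) (len := 288) h598 o1_598
  have h600 : ∀ u < 172800, (fun u => chkO1 tab orb u) u = true := ext_range (a := 172512) (len := 288) h599 o1_599
  have h601 : ∀ u < 173088, (fun u => chkO1 tab orb u) u = true := ext_range (a := 172800) (len := 288) h600 o1_600
  have h602 : ∀ u < 173376, (fun u => chkO1 tab orb u) u = true := ext_range (a := 173088) (len := 288) h601 o1_601
  have h603 : ∀ u < 173664, (fun u => chkO1 tab orb u) u = true := ext_range (a := 173376) (len := 288) h602 o1_602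
  have h604 : ∀ u < 173952, (fun u => chkO1 tab orb u) u = true := ext_range (a := 173664) (len := 288) h603 o1_603
  have h605 : ∀ u < 174240, (fun u => chkO1 tab orb u) u = true := ext_range (a := 173952) (len := 288) h604 o1_604
  have h606 : ∀ u < 174528, (fun u => chkO1 tab orb u) u = true := ext_range (a := 174240) (len := 288) h605 o1_605
  have h607 : ∀ u < 174816, (fun u => chkO1 tab orb u) u = true := ext_range (a := 174528) (len := 288) h606 o1_606
  have h608 : ∀ u < 175104, (fun u => chkO1 tab orb u) u = true := ext_range (a := 174816) (len := 288) h607 o1_607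
  have h609 : ∀ u < 175392, (fun u => chkO1 tab orb u) u = true := ext_range (a := 175104) (len := 288) h608 o1_608
  have h610 : ∀ u < 175680, (fun u => chkO1 tab orb u) u = true := ext_range (a := 175392) (len := 288) h609 o1_609
  have h611 : ∀ u < 175968, (fun u => chkO1 tab orb u) u = true := ext_range (a := 175680) (len := 288) h610 o1_610
  have h612 : ∀ u < 176256, (fun u => chkO1 tab orb u) u = true := ext_range (a := 175968) (len := 288) h611 o1_611
  have h613 : ∀ u < 176544, (fun u => chkO1 tab orb u) u = true := ext_range (a := 176256) (len := 288) h612 o1_612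
  have h614 : ∀ u < 176832, (fun u => chkO1 tab orb u) u = true := ext_range (a := 176544) (len := 288) h613 o1_613
  have h615 : ∀ u < 177120, (fun u => chkO1 tab orb u) u = true := ext_range (a := 176832) (len := 288) h614 o1_614
  have h616 : ∀ u < 177408, (fun u => chkO1 tab orb u) u = true := ext_range (a := 177120) (len := 288) h615 o1_615
  have h617 : ∀ u < 177696, (fun u => chkO1 tab orb u) u = true := ext_range (a := 177408) (len := 288) h616 o1_616
  have h618 : ∀ u < 177984, (fun u => chkO1 tab orb u) u = true := ext_range (a := 177696) (len := 288) h617 o1_617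
  have h619 : ∀ u < 178272, (fun u => chkO1 tab orb u) u = true := ext_range (a := 177984) (len := 288) h618 o1_618
  have h620 : ∀ u < 178560, (fun u => chkO1 tab orb u) u = true := ext_range (a := 178272) (len := 288) h619 o1_619
  have h621 : ∀ u < 178848, (fun u => chkO1 tab orb u) u = true := ext_range (a := 178560) (len := 288) h620 o1_620
  have h622 : ∀ u < 179136, (fun u => chkO1 tab orb u) u = true := ext_range (a := 178848) (len := 288) h621 o1_621
  have h623 : ∀ u < 179424, (fun u => chkO1 tab orb u) u = true := ext_range (a := 179136) (len := 288) h622 o1_622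
  have h624 : ∀ u < 179712, (fun u => chkO1 tab orb u) u = true := ext_range (a := 179424) (len := 288) h623 o1_623
  have h625 : ∀ u < 180000, (fun u => chkO1 tab orb u) u = true := ext_range (a := 179712) (len := 288) h624 o1_624
  have h626 : ∀ u < 180288, (fun u => chkO1 tab orb u) u = true := ext_range (a := 180000) (len := 288) h625 o1_625
  have h627 : ∀ u < 180576, (fun u => chkO1 tab orb u) u = true := ext_range (a := 180288) (len := 288) h626 o1_626
  have h628 : ∀ u < 180864, (fun u => chkO1 tab orb u) u = true := ext_range (a := 180576) (len := 288) h627 o1_627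
  have h629 : ∀ u < 181152, (fun u => chkO1 tab orb u) u = true := ext_range (a := 180864) (len := 288) h628 o1_628
  have h630 : ∀ u < 181440, (fun u => chkO1 tab orb u) u = true := ext_range (a := 181152) (len := 288) h629 o1_629
  have h631 : ∀ u < 181728, (fun u => chkO1 tab orb u) u = true := ext_range (a := 181440) (len := 288) h630 o1_630
  have h632 : ∀ u < 182016, (fun u => chkO1 tab orb u) u = true := ext_range (a := 181728) (len := 288) h631 o1_631
  have h633 : ∀ u < 182304, (fun u => chkO1 tab orb u) u = true := ext_range (a := 182016) (len := 288) h632 o1_632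
  have h634 : ∀ u < 182592, (fun u => chkO1 tab orb u) u = true := ext_range (a := 182304) (len := 288) h633 o1_633
  have h635 : ∀ u < 182880, (fun u => chkO1 tab orb u) u = true := ext_range (a := 182592) (len := 288) h634 o1_634
  have h636 : ∀ u < 183168, (fun u => chkO1 tab orb u) u = true := ext_range (a := 182880) (len := 288) h635 o1_635
  have h637 : ∀ u < 183456, (fun u => chkO1 tab orb u) u = true := ext_range (a := 183168) (len := 288) h636 o1_636
  have h638 : ∀ u < 183744, (fun u => chkO1 tab orb u) u = true := ext_range (a := 183456) (len := 288) h637 o1_637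
  have h639 : ∀ u < 184032, (fun u => chkO1 tab orb u) u = true := ext_range (a := 183744) (len := 288) h638 o1_638
  have h640 : ∀ u < 184320, (fun u => chkO1 tab orb u) u = true := ext_range (a := 184032) (len := 288) h639 o1_639
  have h641 : ∀ u < 184608, (fun u => chkO1 tab orb u) u = true := ext_range (a := 184320) (len := 288) h640 o1_640
  have h642 : ∀ u < 184896, (fun u => chkO1 tab orb u) u = true := ext_range (a := 184608) (len := 288) h641 o1_641
  have h643 : ∀ u < 185184, (fun u => chkO1 tab orb u) u = true := ext_range (a := 184896) (len := 288) h642 o1_642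
  have h644 : ∀ u < 185472, (fun u => chkO1 tab orb u) u = true := ext_range (a := 185184) (len := 288) h643 o1_643
  have h645 : ∀ u < 185760, (fun u => chkO1 tab orb u) u = true := ext_range (a := 185472) (len := 288) h644 o1_644
  have h646 : ∀ u < 186048, (fun u => chkO1 tab orb u) u = true := ext_range (a := 185760) (len := 288) h645 o1_645
  have h647 : ∀ u < 186336, (fun u => chkO1 tab orb u) u = true := ext_range (a := 186048) (len := 288) h646 o1_646
  have h648 : ∀ u < 186624, (fun u => chkO1 tab orb u) u = true := ext_range (a := 186336) (len := 288) h647 o1_647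
  have h649 : ∀ u < 186912, (fun u => chkO1 tab orb u) u = true := ext_range (a := 186624) (len := 288) h648 o1_648
  have h650 : ∀ u < 187200, (fun u => chkO1 tab orb u) u = true := ext_range (a := 186912) (len := 288) h649 o1_649
  have h651 : ∀ u < 187425, (fun u => chkO1 tab orb u) u = true := ext_range (a := 187200) (len := 225) h650 o1_650
  exact h651

theorem hO2 : ∀ u < 187425, chkO2 tab orb u = true := by
  have h0 : ∀ u < 0, (fun u => chkO2 tab orb u) u = true := range_zero
  have h1 : ∀ u < 1334, (fun u => chkO2 tab orb u) u = true := ext_range (a := 0) (len := 1334) h0 o2_0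
  have h2 : ∀ u < 2668, (fun u => chkO2 tab orb u) u = true := ext_range (a := 1334) (len := 1334) h1 o2_1
  have h3 : ∀ u < 4002, (fun u => chkO2 tab orb u) u = true := ext_range (a := 2668) (len := 1334) h2 o2_2
  have h4 : ∀ u < 5336, (fun u => chkO2 tab orb u) u = true := ext_range (a := 4002) (len := 1334) h3 o2_3
  have h5 : ∀ u < 6670, (fun u => chkO2 tab orb u) u = true := ext_range (a := 5336) (len := 1334) h4 o2_4
  have h6 : ∀ u < 8004, (fun u => chkO2 tab orb u) u = true := ext_range (a := 6670) (len := 1334) h5 o2_5
  have h7 : ∀ u < 9338, (fun u => chkO2 tab orb u) u = true := ext_range (a := 8004) (len := 1334) h6 o2_6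
  have h8 : ∀ u < 10672, (fun u => chkO2 tab orb u) u = true := ext_range (a := 9338) (len := 1334) h7 o2_7
  have h9 : ∀ u < 12006, (fun u => chkO2 tab orb u) u = true := ext_range (a := 10672) (len := 1334) h8 o2_8
  have h10 : ∀ u < 13340, (fun u => chkO2 tab orb u) u = true := ext_range (a := 12006) (len := 1334) h9 o2_9
  have h11 : ∀ u < 14674, (fun u => chkO2 tab orb u) u = true := ext_range (a := 13340) (len := 1334) h10 o2_10
  have h12 : ∀ u < 16008, (fun u => chkO2 tab orb u) u = true := ext_range (a := 14674) (len := 1334) h11 o2_11
  have h13 : ∀ u < 17342, (fun u => chkO2 tab orb u) u = true := ext_range (a := 16008) (len := 1334) h12 o2_12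
  have h14 : ∀ u < 18676, (fun u => chkO2 tab orb u) u = true := ext_range (a := 17342) (len := 1334) h13 o2_13
  have h15 : ∀ u < 20010, (fun u => chkO2 tab orb u) u = true := ext_range (a := 18676) (len := 1334) h14 o2_14
  have h16 : ∀ u < 21344, (fun u => chkO2 tab orb u) u = true := ext_range (a := 20010) (len := 1334) h15 o2_15
  have h17 : ∀ u < 22678, (fun u => chkO2 tab orb u) u = true := ext_range (a := 21344) (len := 1334) h16 o2_16
  have h18 : ∀ u < 24012, (fun u => chkO2 tab orb u) u = true := ext_range (a := 22678) (len := 1334) h17 o2_17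
  have h19 : ∀ u < 25346, (fun u => chkO2 tab orb u) u = true := ext_range (a := 24012) (len := 1334) h18 o2_18
  have h20 : ∀ u < 26680, (fun u => chkO2 tab orb u) u = true := ext_range (a := 25346) (len := 1334) h19 o2_19
  have h21 : ∀ u < 28014, (fun u => chkO2 tab orb u) u = true := ext_range (a := 26680) (len := 1334) h20 o2_20
  have h22 : ∀ u < 29348, (fun u => chkO2 tab orb u) u = true := ext_range (a := 28014) (len := 1334) h21 o2_21
  have h23 : ∀ u < 30682, (fun u => chkO2 tab orb u) u = true := ext_range (a := 29348) (len := 1334) h22 o2_22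
  have h24 : ∀ u < 32016, (fun u => chkO2 tab orb u) u = true := ext_range (a := 30682) (len := 1334) h23 o2_23
  have h25 : ∀ u < 33350, (fun u => chkO2 tab orb u) u = true := ext_range (a := 32016) (len := 1334) h24 o2_24
  have h26 : ∀ u < 34684, (fun u => chkO2 tab orb u) u = true := ext_range (a := 33350) (len := 1334) h25 o2_25
  have h27 : ∀ u < 36018, (fun u => chkO2 tab orb u) u = true := ext_range (a := 34684) (len := 1334) h26 o2_26
  have h28 : ∀ u < 37352, (fun u => chkO2 tab orb u) u = true := ext_range (a := 36018) (len := 1334) h27 o2_27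
  have h29 : ∀ u < 38686, (fun u => chkO2 tab orb u) u = true := ext_range (a := 37352) (len := 1334) h28 o2_28
  have h30 : ∀ u < 40020, (fun u => chkO2 tab orb u) u = true := ext_range (a := 38686) (len := 1334) h29 o2_29
  have h31 : ∀ u < 41354, (fun u => chkO2 tab orb u) u = true := ext_range (a := 40020) (len := 1334) h30 o2_30
  have h32 : ∀ u < 42688, (fun u => chkO2 tab orb u) u = true := ext_range (a := 41354) (len := 1334) h31 o2_31
  have h33 : ∀ u < 44022, (fun u => chkO2 tab orb u) u = true := ext_range (a := 42688) (len := 1334) h32 o2_32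
  have h34 : ∀ u < 45356, (fun u => chkO2 tab orb u) u = true := ext_range (a := 44022) (len := 1334) h33 o2_33
  have h35 : ∀ u < 46690, (fun u => chkO2 tab orb u) u = true := ext_range (a := 45356) (len := 1334) h34 o2_34
  have h36 : ∀ u < 48024, (fun u => chkO2 tab orb u) u = true := ext_range (a := 46690) (len := 1334) h35 o2_35
  have h37 : ∀ u < 49358, (fun u => chkO2 tab orb u) u = true := ext_range (a := 48024) (len := 1334) h36 o2_36
  have h38 : ∀ u < 50692, (fun u => chkO2 tab orb u) u = true := ext_range (a := 49358) (len := 1334) h37 o2_37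
  have h39 : ∀ u < 52026, (fun u => chkO2 tab orb u) u = true := ext_range (a := 50692) (len := 1334) h38 o2_38
  have h40 : ∀ u < 53360, (fun u => chkO2 tab orb u) u = true := ext_range (a := 52026) (len := 1334) h39 o2_39
  have h41 : ∀ u < 54694, (fun u => chkO2 tab orb u) u = true := ext_range (a := 53360) (len := 1334) h40 o2_40
  have h42 : ∀ u < 56028, (fun u => chkO2 tab orb u) u = true := ext_range (a := 54694) (len := 1334) h41 o2_41
  have h43 : ∀ u < 57362, (fun u => chkO2 tab orb u) u = true := ext_range (a := 56028) (len := 1334) h42 o2_42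
  have h44 : ∀ u < 58696, (fun u => chkO2 tab orb u) u = true := ext_range (a := 57362) (len := 1334) h43 o2_43
  have h45 : ∀ u < 60030, (fun u => chkO2 tab orb u) u = true := ext_range (a := 58696) (len := 1334) h44 o2_44
  have h46 : ∀ u < 61364, (fun u => chkO2 tab orb u) u = true := ext_range (a := 60030) (len := 1334) h45 o2_45
  have h47 : ∀ u < 62698, (fun u => chkO2 tab orb u) u = true := ext_range (a := 61364) (len := 1334) h46 o2_46
  have h48 : ∀ u < 64032, (fun u => chkO2 tab orb u) u = true := ext_range (a := 62698) (len := 1334) h47 o2_47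
  have h49 : ∀ u < 65366, (fun u => chkO2 tab orb u) u = true := ext_range (a := 64032) (len := 1334) h48 o2_48
  have h50 : ∀ u < 66700, (fun u => chkO2 tab orb u) u = true := ext_range (a := 65366) (len := 1334) h49 o2_49
  have h51 : ∀ u < 68034, (fun u => chkO2 tab orb u) u = true := ext_range (a := 66700) (len := 1334) h50 o2_50
  have h52 : ∀ u < 69368, (fun u => chkO2 tab orb u) u = true := ext_range (a := 68034) (len := 1334) h51 o2_51
  have h53 : ∀ u < 70702, (fun u => chkO2 tab orb u) u = true := ext_range (a := 69368) (len := 1334) h52 o2_52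
  have h54 : ∀ u < 72036, (fun u => chkO2 tab orb u) u = true := ext_range (a := 70702) (len := 1334) h53 o2_53
  have h55 : ∀ u < 73370, (fun u => chkO2 tab orb u) u = true := ext_range (a := 72036) (len := 1334) h54 o2_54
  have h56 : ∀ u < 74704, (fun u => chkO2 tab orb u) u = true := ext_range (a := 73370) (len := 1334) h55 o2_55
  have h57 : ∀ u < 76038, (fun u => chkO2 tab orb u) u = true := ext_range (a := 74704) (len := 1334) h56 o2_56
  have h58 : ∀ u < 77372, (fun u => chkO2 tab orb u) u = true := ext_range (a := 76038) (len := 1334) h57 o2_57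
  have h59 : ∀ u < 78706, (fun u => chkO2 tab orb u) u = true := ext_range (a := 77372) (len := 1334) h58 o2_58
  have h60 : ∀ u < 80040, (fun u => chkO2 tab orb u) u = true := ext_range (a := 78706) (len := 1334) h59 o2_59
  have h61 : ∀ u < 81374, (fun u => chkO2 tab orb u) u = true := ext_range (a := 80040) (len := 1334) h60 o2_60
  have h62 : ∀ u < 82708, (fun u => chkO2 tab orb u) u = true := ext_range (a := 81374) (len := 1334) h61 o2_61
  have h63 : ∀ u < 84042, (fun u => chkO2 tab orb u) u = true := ext_range (a := 82708) (len := 1334) h62 o2_62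
  have h64 : ∀ u < 85376, (fun u => chkO2 tab orb u) u = true := ext_range (a := 84042) (len := 1334) h63 o2_63
  have h65 : ∀ u < 86710, (fun u => chkO2 tab orb u) u = true := ext_range (a := 85376) (len := 1334) h64 o2_64
  have h66 : ∀ u < 88044, (fun u => chkO2 tab orb u) u = true := ext_range (a := 86710) (len := 1334) h65 o2_65
  have h67 : ∀ u < 89378, (fun u => chkO2 tab orb u) u = true := ext_range (a := 88044) (len := 1334) h66 o2_66
  have h68 : ∀ u < 90712, (fun u => chkO2 tab orb u) u = true := ext_range (a := 89378) (len := 1334) h67 o2_67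
  have h69 : ∀ u < 92046, (fun u => chkO2 tab orb u) u = true := ext_range (a := 90712) (len := 1334) h68 o2_68
  have h70 : ∀ u < 93380, (fun u => chkO2 tab orb u) u = true := ext_range (a := 92046) (len := 1334) h69 o2_69
  have h71 : ∀ u < 94714, (fun u => chkO2 tab orb u) u = true := ext_range (a := 93380) (len := 1334) h70 o2_70
  have h72 : ∀ u < 96048, (fun u => chkO2 tab orb u) u = true := ext_range (a := 94714) (len := 1334) h71 o2_71
  have h73 : ∀ u < 97382, (fun u => chkO2 tab orb u) u = true := ext_range (a := 96048) (len := 1334) h72 o2_72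
  have h74 : ∀ u < 98716, (fun u => chkO2 tab orb u) u = true := ext_range (a := 97382) (len := 1334) h73 o2_73
  have h75 : ∀ u < 100050, (fun u => chkO2 tab orb u) u = true := ext_range (a := 98716) (len := 1334) h74 o2_74
  have h76 : ∀ u < 101384, (fun u => chkO2 tab orb u) u = true := ext_range (a := 100050) (len := 1334) h75 o2_75
  have h77 : ∀ u < 102718, (fun u => chkO2 tab orb u) u = true := ext_range (a := 101384) (len := 1334) h76 o2_76
  have h78 : ∀ u < 104052, (fun u => chkO2 tab orb u) u = true := ext_range (a := 102718) (len := 1334) h77 o2_77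
  have h79 : ∀ u < 105386, (fun u => chkO2 tab orb u) u = true := ext_range (a := 104052) (len := 1334) h78 o2_78
  have h80 : ∀ u < 106720, (fun u => chkO2 tab orb u) u = true := ext_range (a := 105386) (len := 1334) h79 o2_79
  have h81 : ∀ u < 108054, (fun u => chkO2 tab orb u) u = true := ext_range (a := 106720) (len := 1334) h80 o2_80
  have h82 : ∀ u < 109388, (fun u => chkO2 tab orb u) u = true := ext_range (a := 108054) (len := 1334) h81 o2_81
  have h83 : ∀ u < 110722, (fun u => chkO2 tab orb u) u = true := ext_range (a := 109388) (len := 1334) h82 o2_82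
  have h84 : ∀ u < 112056, (fun u => chkO2 tab orb u) u = true := ext_range (a := 110722) (len := 1334) h83 o2_83
  have h85 : ∀ u < 113390, (fun u => chkO2 tab orb u) u = true := ext_range (a := 112056) (len := 1334) h84 o2_84
  have h86 : ∀ u < 114724, (fun u => chkO2 tab orb u) u = true := ext_range (a := 113390) (len := 1334) h85 o2_85
  have h87 : ∀ u < 116058, (fun u => chkO2 tab orb u) u = true := ext_range (a := 114724) (len := 1334) h86 o2_86
  have h88 : ∀ u < 117392, (fun u => chkO2 tab orb u) u = true := ext_range (a := 116058) (len := 1334) h87 o2_87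
  have h89 : ∀ u < 118726, (fun u => chkO2 tab orb u) u = true := ext_range (a := 117392) (len := 1334) h88 o2_88
  have h90 : ∀ u < 120060, (fun u => chkO2 tab orb u) u = true := ext_range (a := 118726) (len := 1334) h89 o2_89
  have h91 : ∀ u < 121394, (fun u => chkO2 tab orb u) u = true := ext_range (a := 120060) (len := 1334) h90 o2_90
  have h92 : ∀ u < 122728, (fun u => chkO2 tab orb u) u = true := ext_range (a := 121394) (len := 1334) h91 o2_91
  have h93 : ∀ u < 124062, (fun u => chkO2 tab orb u) u = true := ext_range (a := 122728) (len := 1334) h92 o2_92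
  have h94 : ∀ u < 125396, (fun u => chkO2 tab orb u) u = true := ext_range (a := 124062) (len := 1334) h93 o2_93
  have h95 : ∀ u < 126730, (fun u => chkO2 tab orb u) u = true := ext_range (a := 125396) (len := 1334) h94 o2_94
  have h96 : ∀ u < 128064, (fun u => chkO2 tab orb u) u = true := ext_range (a := 126730) (len := 1334) h95 o2_95
  have h97 : ∀ u < 129398, (fun u => chkO2 tab orb u) u = true := ext_range (a := 128064) (len := 1334) h96 o2_96
  have h98 : ∀ u < 130732, (fun u => chkO2 tab orb u) u = true := ext_range (a := 129398) (len := 1334) h97 o2_97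
  have h99 : ∀ u < 132066, (fun u => chkO2 tab orb u) u = true := ext_range (a := 130732) (len := 1334) h98 o2_98
  have h100 : ∀ u < 133400, (fun u => chkO2 tab orb u) u = true := ext_range (a := 132066) (len := 1334) h99 o2_99
  have h101 : ∀ u < 134734, (fun u => chkO2 tab orb u) u = true := ext_range (a := 133400) (len := 1334) h100 o2_100
  have h102 : ∀ u < 136068, (fun u => chkO2 tab orb u) u = true := ext_range (a := 134734) (len := 1334) h101 o2_101
  have h103 : ∀ u < 137402, (fun u => chkO2 tab orb u) u = true := ext_range (a := 136068) (len := 1334) h102 o2_102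
  have h104 : ∀ u < 138736, (fun u => chkO2 tab orb u) u = true := ext_range (a := 137402) (len := 1334) h103 o2_103
  have h105 : ∀ u < 140070, (fun u => chkO2 tab orb u) u = true := ext_range (a := 138736) (len := 1334) h104 o2_104
  have h106 : ∀ u < 141404, (fun u => chkO2 tab orb u) u = true := ext_range (a := 140070) (len := 1334) h105 o2_105
  have h107 : ∀ u < 142738, (fun u => chkO2 tab orb u) u = true := ext_range (a := 141404) (len := 1334) h106 o2_106
  have h108 : ∀ u < 144072, (fun u => chkO2 tab orb u) u = true := ext_range (a := 142738) (len := 1334) h107 o2_107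
  have h109 : ∀ u < 145406, (fun u => chkO2 tab orb u) u = true := ext_range (a := 144072) (len := 1334) h108 o2_108
  have h110 : ∀ u < 146740, (fun u => chkO2 tab orb u) u = true := ext_range (a := 145406) (len := 1334) h109 o2_109
  have h111 : ∀ u < 148074, (fun u => chkO2 tab orb u) u = true := ext_range (a := 146740) (len := 1334) h110 o2_110
  have h112 : ∀ u < 149408, (fun u => chkO2 tab orb u) u = true := ext_range (a := 148074) (len := 1334) h111 o2_111
  have h113 : ∀ u < 150742, (fun u => chkO2 tab orb u) u = true := ext_range (a := 149408) (len := 1334) h112 o2_112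
  have h114 : ∀ u < 152076, (fun u => chkO2 tab orb u) u = true := ext_range (a := 150742) (len := 1334) h113 o2_113
  have h115 : ∀ u < 153410, (fun u => chkO2 tab orb u) u = true := ext_range (a := 152076) (len := 1334) h114 o2_114
  have h116 : ∀ u < 154744, (fun u => chkO2 tab orb u) u = true := ext_range (a := 153410) (len := 1334) h115 o2_115
  have h117 : ∀ u < 156078, (fun u => chkO2 tab orb u) u = true := ext_range (a := 154744) (len := 1334) h116 o2_116
  have h118 : ∀ u < 157412, (fun u => chkO2 tab orb u) u = true := ext_range (a := 156078) (len := 1334) h117 o2_117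
  have h119 : ∀ u < 158746, (fun u => chkO2 tab orb u) u = true := ext_range (a := 157412) (len := 1334) h118 o2_118
  have h120 : ∀ u < 160080, (fun u => chkO2 tab orb u) u = true := ext_range (a := 158746) (len := 1334) h119 o2_119
  have h121 : ∀ u < 161414, (fun u => chkO2 tab orb u) u = true := ext_range (a := 160080) (len := 1334) h120 o2_120
  have h122 : ∀ u < 162748, (fun u => chkO2 tab orb u) u = true := ext_range (a := 161414) (len := 1334) h121 o2_121
  have h123 : ∀ u < 164082, (fun u => chkO2 tab orb u) u = true := ext_range (a := 162748) (len := 1334) h122 o2_122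
  have h124 : ∀ u < 165416, (fun u => chkO2 tab orb u) u = true := ext_range (a := 164082) (len := 1334) h123 o2_123
  have h125 : ∀ u < 166750, (fun u => chkO2 tab orb u) u = true := ext_range (a := 165416) (len := 1334) h124 o2_124
  have h126 : ∀ u < 168084, (fun u => chkO2 tab orb u) u = true := ext_range (a := 166750) (len := 1334) h125 o2_125
  have h127 : ∀ u < 169418, (fun u => chkO2 tab orb u) u = true := ext_range (a := 168084) (len := 1334) h126 o2_126
  have h128 : ∀ u < 170752, (fun u => chkO2 tab orb u) u = true := ext_range (a := 169418) (len := 1334) h127 o2_127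
  have h129 : ∀ u < 172086, (fun u => chkO2 tab orb u) u = true := ext_range (a := 170752) (len := 1334) h128 o2_128
  have h130 : ∀ u < 173420, (fun u => chkO2 tab orb u) u = true := ext_range (a := 172086) (len := 1334) h129 o2_129
  have h131 : ∀ u < 174754, (fun u => chkO2 tab orb u) u = true := ext_range (a := 173420) (len := 1334) h130 o2_130
  have h132 : ∀ u < 176088, (fun u => chkO2 tab orb u) u = true := ext_range (a := 174754) (len := 1334) h131 o2_131
  have h133 : ∀ u < 177422, (fun u => chkO2 tab orb u) u = true := ext_range (a := 176088) (len := 1334) h132 o2_132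
  have h134 : ∀ u < 178756, (fun u => chkO2 tab orb u) u = true := ext_range (a := 177422) (len := 1334) h133 o2_133
  have h135 : ∀ u < 180090, (fun u => chkO2 tab orb u) u = true := ext_range (a := 178756) (len := 1334) h134 o2_134
  have h136 : ∀ u < 181424, (fun u => chkO2 tab orb u) u = true := ext_range (a := 180090) (len := 1334) h135 o2_135
  have h137 : ∀ u < 182758, (fun u => chkO2 tab orb u) u = true := ext_range (a := 181424) (len := 1334) h136 o2_136
  have h138 : ∀ u < 184092, (fun u => chkO2 tab orb u) u = true := ext_range (a := 182758) (len := 1334) h137 o2_137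
  have h139 : ∀ u < 185426, (fun u => chkO2 tab orb u) u = true := ext_range (a := 184092) (len := 1334) h138 o2_138
  have h140 : ∀ u < 186760, (fun u => chkO2 tab orb u) u = true := ext_range (a := 185426) (len := 1334) h139 o2_139
  have h141 : ∀ u < 187425, (fun u => chkO2 tab orb u) u = true := ext_range (a := 186760) (len := 665) h140 o2_140
  exact h141

theorem hOL : ∀ u < 187425, Nat.blt (orb.lab u) 34 = true := by
  have h0 : ∀ u < 0, (fun u => Nat.blt (orb.lab u) 34) u = true := range_zero
  have h1 : ∀ u < 8000, (fun u => Nat.blt (orb.lab u) 34) u = true := ext_range (a := 0) (len := 8000) h0 ol_0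
  have h2 : ∀ u < 16000, (fun u => Nat.blt (orb.lab u) 34) u = true := ext_range (a := 8000) (len := 8000) h1 ol_1
  have h3 : ∀ u < 24000, (fun u => Nat.blt (orb.lab u) 34) u = true := ext_range (a := 16000) (len := 8000) h2 ol_2
  have h4 : ∀ u < 32000, (fun u => Nat.blt (orb.lab u) 34) u = true := ext_range (a := 24000) (len := 8000) h3 ol_3
  have h5 : ∀ u < 40000, (fun u => Nat.blt (orb.lab u) 34) u = true := ext_range (a := 32000) (len := 8000) h4 ol_4
  have h6 : ∀ u < 48000, (fun u => Nat.blt (orb.lab u) 34) u = true := ext_range (a := 40000) (len := 8000) h5 ol_5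
  have h7 : ∀ u < 56000, (fun u => Nat.blt (orb.lab u) 34) u = true := ext_range (a := 48000) (len := 8000) h6 ol_6
  have h8 : ∀ u < 64000, (fun u => Nat.blt (orb.lab u) 34) u = true := ext_range (a := 56000) (len := 8000) h7 ol_7
  have h9 : ∀ u < 72000, (fun u => Nat.blt (orb.lab u) 34) u = true := ext_range (a := 64000) (len := 8000) h8 ol_8
  have h10 : ∀ u < 80000, (fun u => Nat.blt (orb.lab u) 34) u = true := ext_range (a := 72000) (len := 8000) h9 ol_9
  have h11 : ∀ u < 88000, (fun u => Nat.blt (orb.lab u) 34) u = true := ext_range (a := 80000) (len := 8000) h10 ol_10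
  have h12 : ∀ u < 96000, (fun u => Nat.blt (orb.lab u) 34) u = true := ext_range (a := 88000) (len := 8000) h11 ol_11
  have h13 : ∀ u < 104000, (fun u => Nat.blt (orb.lab u) 34) u = true := ext_range (a := 96000) (len := 8000) h12 ol_12
  have h14 : ∀ u < 112000, (fun u => Nat.blt (orb.lab u) 34) u = true := ext_range (a := 104000) (len := 8000) h13 ol_13
  have h15 : ∀ u < 120000, (fun u => Nat.blt (orb.lab u) 34) u = true := ext_range (a := 112000) (len := 8000) h14 ol_14
  have h16 : ∀ u < 128000, (fun u => Nat.blt (orb.lab u) 34) u = true := ext_range (a := 120000) (len := 8000) h15 ol_15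
  have h17 : ∀ u < 136000, (fun u => Nat.blt (orb.lab u) 34) u = true := ext_range (a := 128000) (len := 8000) h16 ol_16
  have h18 : ∀ u < 144000, (fun u => Nat.blt (orb.lab u) 34) u = true := ext_range (a := 136000) (len := 8000) h17 ol_17
  have h19 : ∀ u < 152000, (fun u => Nat.blt (orb.lab u) 34) u = true := ext_range (a := 144000) (len := 8000) h18 ol_18
  have h20 : ∀ u < 160000, (fun u => Nat.blt (orb.lab u) 34) u = true := ext_range (a := 152000) (len := 8000) h19 ol_19
  have h21 : ∀ u < 168000, (fun u => Nat.blt (orb.lab u) 34) u = true := ext_range (a := 160000) (len := 8000) h20 ol_20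
  have h22 : ∀ u < 176000, (fun u => Nat.blt (orb.lab u) 34) u = true := ext_range (a := 168000) (len := 8000) h21 ol_21
  have h23 : ∀ u < 184000, (fun u => Nat.blt (orb.lab u) 34) u = true := ext_range (a := 176000) (len := 8000) h22 ol_22
  have h24 : ∀ u < 187425, (fun u => Nat.blt (orb.lab u) 34) u = true := ext_range (a := 184000) (len := 3425) h23 ol_23
  exact h24

theorem hE : ∀ c < 7, ∀ u < 189247, chkE tab c u = true := by
  intro c hc
  interval_cases c
  · exact hE0
  · exact hE1
  · exact hE2
  · exact hE3
  · exact hE4
  · exact hE5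
  · exact hE6

end Cfsg.Agent.Helper9.TCData.HeE0
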