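import Cfsg.Agent.Lib.Helper9.TC2Cox
import Cfsg.Agent.Lib.Helper9.TC2Aux
import Cfsg.Agent.Lib.Helper9.TC2BSGS
import Cfsg.Agent.Lib.Helper9.TC2Pack
import Cfsg.Agent.Lib.Helper9.TCData.HeE0.P0
import Cfsg.Agent.Lib.Helper9.TCData.HeE0.P1
import Cfsg.Agent.Lib.Helper9.TCData.HeE0.P2
import Cfsg.Agent.Lib.Helper9.TCData.HeE0.P3
import Cfsg.Agent.Lib.Helper9.TCData.HeE0.P4
import Cfsg.Agent.Lib.Helper9.TCData.HeE0.P5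

set_option autoImplicit false
set_option maxRecDepth 100000

namespace Cfsg.Agent.Helper9.TCData.HeE0
open Cfsg.Agent.Helper9.TC2
/-- The rotated relators. -/
noncomputable def rotT : WT := (WT.node 36 (WT.node 18 (WT.node 9 (WT.node 4 (WT.node 2 (WT.node 1 (WT.leaf [0, 3, 0, 3]) (WT.leaf [0, 2, 0, 2])) (WT.node 3 (WT.leaf [0, 4, 0, 4]) (WT.leaf [0, 5, 0, 5]))) (WT.node 6 (WT.node 5 (WT.leaf [0, 6, 0, 6]) (WT.leaf [0, 4, 2, 1, 0, 2, 1, 0, 2, 1])) (WT.node 7 (WT.leaf [0, 1, 0, 1, 0, 1, 0, 1]) (WT.node 8 (WT.leaf [0, 2, 1, 0, 2, 1, 0, 4, 2, 1]) (WT.leaf [0, 2, 1, 0, 4, 2, 1, 0, 2, 1]))))) (WT.node 13 (WT.node 11 (WT.node 10 (WT.leaf [0, 3, 2, 3, 2, 3, 2, 3, 2, 3, 2]) (WT.leaf [1, 3, 1, 3])) (WT.node 12 (WT.leaf [1, 4, 1, 4]) (WT.leaf [1, 5, 1, 5]))) (WT.node 15 (WT.node 14 (WT.leaf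 [1, 6, 1, 6]) (WT.leaf [1, 0, 2, 1, 0, 4, 2, 1, 0, 2])) (WT.node 16 (WT.leaf [1, 0, 2, 1, 0, 2, 1, 0, 4, 2]) (WT.node 17 (WT.leaf [1, 2, 1, 2, 1, 2]) (WT.leaf [1, 0, 4, 2, 1, 0, 2, 1, 0, 2])))))) (WT.node 27 (WT.node 22 (WT.node 20 (WT.node 19 (WT.leaf [1, 0, 1, 0, 1, 0, 1, 0]) (WT.leaf [2, 4, 2, 4])) (WT.node 21 (WT.leaf [2, 5, 2, 5]) (WT.leaf [2, 6, 2, 6]))) (WT.node 24 (WT.node 23 (WT.leaf [2, 1, 2, 1, 2, 1]) (WT.leaf [2, 0, 2, 0])) (WT.node 25 (WT.leaf [2, 3, 2, 3, 2, 0, 3, 2, 3, 2, 3]) (WT.node 26 (WT.leaf [2, 3, 2, 3, 2, 3, 2, 3, 2, 0, 3]) (WT.leaf [2, 3, 5, 6, 2, 3, 5, 6, 2, 3, 5, 6, 2, 3, 5, 6]))))) (WT.node 31 (WT.node 29 (WT.node 28 (WT.leaf [2, 3, 2, 0, 3, 2, 3, 2, 3, 2, 3]) (WT.leaf [2, 3, 2, 3, 2, 3, 2, 3, 2, 3, 2, 3, 2, 3, 2, 3, 2, 3, 2, 3])) (WT.node 30 (WT.leaf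 [2, 1, 0, 2, 1, 0, 2, 1, 0, 4]) (WT.leaf [2, 1, 0, 4, 2, 1, 0, 2, 1, 0]))) (WT.node 33 (WT.node 32 (WT.leaf [2, 3, 2, 3, 2, 3, 2, 0, 3, 2, 3]) (WT.leaf [2, 0, 3, 2, 3, 2, 3, 2, 3, 2, 3])) (WT.node 34 (WT.leaf [2, 1, 0, 2, 1, 0, 4, 2, 1, 0]) (WT.node 35 (WT.leaf [3, 4, 3, 4, 3, 4]) (WT.leaf [3, 5, 3, 5, 3, 5]))))))) (WT.node 54 (WT.node 45 (WT.node 40 (WT.node 38 (WT.node 37 (WT.leaf [3, 6, 3, 6, 3, 6]) (WT.leaf [3, 2, 3, 2, 3, 2, 3, 2, 0, 3, 2])) (WT.node 39 (WT.leaf [3, 1, 3, 1]) (WT.leaf [3, 0, 3, 0]))) (WT.node 42 (WT.node 41 (WT.leaf [3, 5, 6, 2, 3, 5, 6, 2, 3, 5, 6, 2, 3, 5, 6, 2]) (WT.leaf [3, 2, 0, 3, 2, 3, 2, 3, 2, 3, 2])) (WT.node 43 (WT.leaf [3, 2, 3, 2, 0, 3, 2, 3, 2, 3, 2]) (WT.node 44 (WT.leaf [3, 2, 3, 2, 3, 2, 3, 2, 3, 2, 3, 2, 3, 2, 3, 2, 3, 2, 3, 2]) (WT.leaf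 [3, 2, 3, 2, 3, 2, 0, 3, 2, 3, 2]))))) (WT.node 49 (WT.node 47 (WT.node 46 (WT.leaf [3, 2, 3, 2, 3, 2, 3, 2, 3, 2, 0]) (WT.leaf [4, 6, 5, 6, 5])) (WT.node 48 (WT.leaf [4, 5, 4, 5]) (WT.leaf [4, 6, 4, 6]))) (WT.node 51 (WT.node 50 (WT.leaf [4, 2, 1, 0, 2, 1, 0, 2, 1, 0]) (WT.leaf [4, 3, 4, 3, 4, 3])) (WT.node 52 (WT.leaf [4, 2, 4, 2]) (WT.node 53 (WT.leaf [4, 1, 4, 1]) (WT.leaf [4, 0, 4, 0])))))) (WT.node 63 (WT.node 58 (WT.node 56 (WT.node 55 (WT.leaf [5, 6, 5, 4, 6]) (WT.leaf [5, 3, 5, 3, 5, 3])) (WT.node 57 (WT.leaf [5, 2, 5, 2]) (WT.leaf [5, 4, 5, 4]))) (WT.node 60 (WT.node 59 (WT.leaf [5, 6, 5, 6, 5, 6, 5, 6]) (WT.leaf [5, 1, 5, 1])) (WT.node 61 (WT.leaf [5, 4, 6, 5, 6]) (WT.node 62 (WT.leaf [5, 6, 2, 3, 5, 6, 2, 3, 5, 6, 2, 3, 5, 6, 2, 3]) (WT.leaf [5, 0, 5, 0]))))) (WT.node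 67 (WT.node 65 (WT.node 64 (WT.leaf [6, 5, 6, 5, 6, 5, 6, 5]) (WT.leaf [6, 3, 6, 3, 6, 3])) (WT.node 66 (WT.leaf [6, 2, 6, 2]) (WT.leaf [6, 4, 6, 4]))) (WT.node 69 (WT.node 68 (WT.leaf [6, 5, 4, 6, 5]) (WT.leaf [6, 1, 6, 1])) (WT.node 70 (WT.leaf [6, 2, 3, 5, 6, 2, 3, 5, 6, 2, 3, 5, 6, 2, 3, 5]) (WT.node 71 (WT.leaf [6, 0, 6, 0]) (WT.leaf [6, 5, 6, 5, 4]))))))))

/-- The sources of the rotated relators: relator and rotation. -/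
def rotSrc : List (ℕ × ℕ) := [(3, 2), (2, 2), (4, 2), (5, 2), (6, 2), (50, 9), (1, 2), (50, 3), (50, 6), (51, 0), (10, 2), (11, 2), (12, 2), (13, 2), (50, 5), (50, 2), (9, 2), (50, 8), (1, 1), (18, 2), (19, 2), (20, 2), (9, 1), (2, 1), (51, 6), (51, 2), (52, 4), (51, 8), (17, 2), (50, 1), (50, 7), (51, 4), (51, 10), (50, 4), (25, 2), (26, 2), (27, 2), (51, 3), (10, 1), (3, 1), (52, 1), (51, 9), (51, 7), (17, 1), (51, 5), (51, 1), (49, 0), (33, 2), (34, 2), (50, 0), (25, 1), (18, 1), (11, 1), (4, 3), (49, 2), (26, 1), (19, 1), (33, 1), (41, 2), (12, 1), (49, 4), (52, 2), (5, 1), (41, 1), (27, 1), (20, 1), (34, 1), (49, 3), (13, 1), (52, 15), (6, 1), (49, 1)]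

/-- The relators, as words of columns. -/
def relWords : List (List ℕ) := [[0, 0], [0, 1, 0, 1, 0, 1, 0, 1], [0, 2, 0, 2], [0, 3, 0, 3], [0, 4, 0, 4], [0, 5, 0, 5], [0, 6, 0, 6], [1, 0, 1, 0, 1, 0, 1, 0], [1, 1], [1, 2, 1, 2, 1, 2], [1, 3, 1, 3], [1, 4, 1, 4], [1, 5, 1, 5], [1, 6, 1, 6], [2, 0, 2, 0], [2, 1, 2, 1, 2, 1], [2, 2], [2, 3, 2, 3, 2, 3, 2, 3, 2, 3, 2, 3, 2, 3, 2, 3, 2, 3, 2, 3], [2, 4, 2, 4], [2, 5, 2, 5], [2, 6, 2, 6], [3, 0, 3, 0], [3, 1, 3, 1], [3, 2, 3, 2, 3, 2, 3, 2, 3, 2, 3, 2, 3, 2, 3, 2, 3, 2, 3, 2], [3, 3], [3, 4, 3, 4, 3, 4], [3, 5, 3, 5, 3, 5], [3, 6, 3, 6, 3, 6], [4, 0, 4, 0], [4, 1, 4, 1], [4, 2, 4, 2], [4, 3, 4, 3, 4, 3], [4, 4], [4, 5, 4, 5], [4, 6, 4, 6], [5, 0, 5, 0], [5, 1, 5, 1], [5, 2, 5, 2], [5, 3, 5, 3, 5, 3], [5, 4, 5, 4], [5, 5], [5, 6, 5,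 6, 5, 6, 5, 6], [6, 0, 6, 0], [6, 1, 6, 1], [6, 2, 6, 2], [6, 3, 6, 3, 6, 3], [6, 4, 6, 4], [6, 5, 6, 5, 6, 5, 6, 5], [6, 6], [4, 6, 5, 6, 5], [4, 2, 1, 0, 2, 1, 0, 2, 1, 0], [0, 3, 2, 3, 2, 3, 2, 3, 2, 3, 2], [2, 3, 5, 6, 2, 3, 5, 6, 2, 3, 5, 6, 2, 3, 5, 6]]

/-- The words of the auxiliary columns. -/
def aux : List (List ℕ) := [[2, 3, 2, 3]]

/-- The words checked on the permutation model, with auxiliary columns. -/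
def mwordsA : List (List ℕ) := [[0, 1, 0, 1, 0, 1, 0, 1], [0, 2, 0, 2], [0, 3, 0, 3], [0, 4, 0, 4], [0, 5, 0, 5], [0, 6, 0, 6], [1, 2, 1, 2, 1, 2], [1, 3, 1, 3], [1, 4, 1, 4], [1, 5, 1, 5], [1, 6, 1, 6], [7, 7, 7, 7, 7], [2, 4, 2, 4], [2, 5, 2, 5], [2, 6, 2, 6], [3, 4, 3, 4, 3, 4], [3, 5, 3, 5, 3, 5], [3, 6, 3, 6, 3, 6], [4, 5, 4, 5], [4, 6, 4, 6], [5, 6, 5, 6, 5, 6, 5, 6], [4, 6, 5, 6, 5], [4, 2, 1, 0, 2, 1, 0, 2, 1, 0], [0, 3, 2, 3, 2, 3, 2, 3, 2, 3, 2], [2, 3, 5, 6, 2, 3, 5, 6, 2, 3, 5, 6, 2, 3, 5, 6]]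

/-- The table. -/
noncomputable def tab : Tab where
  k := 7
  inv := fun c => c
  N := 189247
  n := 187425
  Tmax := 1318468
  wn := 18
  mn := 0x3ffff
  subs := [[0], [1], [2], [5], [6], [3, 4, 5, 3, 2, 3, 5, 4, 3], [3, 4, 6, 3, 2, 3, 6, 4, 3]]
  rot := fun i => rotT.getF i
  ent := fun c i => bget2 (BT.node 3442 (BT.node 1579 (BT.node 647 (BT.node 323 entT_0 entT_1) (BT.node 1255 entT_2 entT_3)) (BT.node 2510 (BT.node 2186 entT_4 entT_5) (BT.node 3118 entT_6 entT_7))) (BT.node 5305 (BT.node 4373 (BT.node 3765 entT_8 entT_9) (BT.node 4697 entT_10 entT_11)) (BT.node 6236 (BT.node 5628 entT_12 entT_13) (BT.node 6560 entT_14 entT_15)))) 10 8 39 0x7fffffffff 255 c i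
  cer := fun c i => bget2 (BT.node 1721 (BT.node 789 (BT.node 323 cerT_0 cerT_1) (BT.node 1255 cerT_2 cerT_3)) (BT.node 2652 (BT.node 2186 cerT_4 cerT_5) (BT.node 3118 cerT_6 cerT_7))) 9 9 24 0xffffff 511 c i
  tau := fun c i => bget2 (BT.node 2048 (BT.node 1024 (BT.node 512 tauT_0 tauT_1) (BT.node 1536 tauT_2 tauT_3)) (BT.node 3072 (BT.node 2560 tauT_4 tauT_5) (BT.node 3584 tauT_6 tauT_7))) 9 9 18 0x3ffff 511 c i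
  lk := fun i => bget lkT_0 8 39 0x7fffffffff 255 i
  lc := fun i => bget lcT_0 8 41 0x1ffffffffff 255 i
  pn := fun i => bget pnT_0 9 21 0x1fffff 511 i
  cls := fun i => bget clsT_0 9 18 0x3ffff 511 i
  rep := fun i => bget repT_0 9 18 0x3ffff 511 i

/-- The orbit certificate. -/
noncomputable def orb : OrbData where
  lab := fun i => bget labT_0 11 6 0x3f 2047 i
  dep := fun i => bget depT_0 12 4 0xf 4095 i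
  oj := fun i => bget ojT_0 12 3 0x7 4095 i
  root := fun i => bget rootT_0 10 12 0xfff 1023 i

end Cfsg.Agent.Helper9.TCData.HeE0
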