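import Cfsg.Agent.Lib.Helper9.TCData.HeE0.Main

set_option autoImplicit false
set_option maxRecDepth 1000000

namespace Cfsg.Agent.Helper9.TCData.HeE0
open Cfsg.Agent.Helper9.TC2

theorem e0_0 : allRange 0 2050 (fun u => chkE tab 0 u) = true := by decide +kernel

theorem e0_1 : allRange 2050 2339 (fun u => chkE tab 0 u) = true := by decide +kernel

theorem e0_2 : allRange 4389 1868 (fun u => chkE tab 0 u) = true := by decide +kernel

theorem e0_3 : allRange 6257 2702 (fun u => chkE tab 0 u) = true := by decide +kernel

theorem e0_4 : allRange 8959 1868 (fun u => chkE tab 0 u) = true := by decide +kernel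

theorem e0_5 : allRange 10827 2130 (fun u => chkE tab 0 u) = true := by decide +kernel

theorem e0_6 : allRange 12957 2884 (fun u => chkE tab 0 u) = true := by decide +kernel

theorem e0_7 : allRange 15841 2204 (fun u => chkE tab 0 u) = true := by decide +kernel


end Cfsg.Agent.Helper9.TCData.HeE0
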