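import Cfsg.Agent.Lib.Helper9.TCData.HeE0.Main

set_option autoImplicit false
set_option maxRecDepth 1000000

namespace Cfsg.Agent.Helper9.TCData.HeE0
open Cfsg.Agent.Helper9.TC2

theorem e1_19 : allRange 44543 2430 (fun u => chkE tab 1 u) = true := by decide +kernel

theorem e1_20 : allRange 46973 2433 (fun u => chkE tab 1 u) = true := by decide +kernel

theorem e1_21 : allRange 49406 2386 (fun u => chkE tab 1 u) = true := by decide +kernel

theorem e1_22 : allRange 51792 2425 (fun u => chkE tab 1 u) = true := by decide +kernel

theorem e1_23 : allRange 54217 2383 (fun u => chkE tab 1 u) = true := by decide +kernel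

theorem e1_24 : allRange 56600 2520 (fun u => chkE tab 1 u) = true := by decide +kernel

theorem e1_25 : allRange 59120 2486 (fun u => chkE tab 1 u) = true := by decide +kernel

theorem e1_26 : allRange 61606 2740 (fun u => chkE tab 1 u) = true := by decide +kernel


end Cfsg.Agent.Helper9.TCData.HeE0
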