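import Cfsg.Agent.Lib.Helper9.TCData.HeE0.Main

set_option autoImplicit false
set_option maxRecDepth 1000000

namespace Cfsg.Agent.Helper9.TCData.HeE0
open Cfsg.Agent.Helper9.TC2

theorem f_456 : allRange 158688 348 (fun u => chkFin tab u) = true := by decide +kernel

theorem f_457 : allRange 159036 348 (fun u => chkFin tab u) = true := by decide +kernel

theorem f_458 : allRange 159384 348 (fun u => chkFin tab u) = true := by decide +kernel

theorem f_459 : allRange 159732 348 (fun u => chkFin tab u) = true := by decide +kernel

theorem f_460 : allRange 160080 348 (fun u => chkFin tab u) = true := by decide +kernel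

theorem f_461 : allRange 160428 348 (fun u => chkFin tab u) = true := by decide +kernel

theorem f_462 : allRange 160776 348 (fun u => chkFin tab u) = true := by decide +kernel

theorem f_463 : allRange 161124 348 (fun u => chkFin tab u) = true := by decide +kernel


end Cfsg.Agent.Helper9.TCData.HeE0
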