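import Cfsg.Agent.Lib.Helper9.TCData.HeE0.Main

set_option autoImplicit false
set_option maxRecDepth 1000000

namespace Cfsg.Agent.Helper9.TCData.HeE0
open Cfsg.Agent.Helper9.TC2

theorem e2_41 : allRange 101336 2320 (fun u => chkE tab 2 u) = true := by decide +kernel

theorem e2_42 : allRange 103656 2397 (fun u => chkE tab 2 u) = true := by decide +kernel

theorem e2_43 : allRange 106053 2311 (fun u => chkE tab 2 u) = true := by decide +kernel

theorem e2_44 : allRange 108364 2495 (fun u => chkE tab 2 u) = true := by decide +kernel

theorem e2_45 : allRange 110859 2462 (fun u => chkE tab 2 u) = true := by decide +kernel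

theorem e2_46 : allRange 113321 2401 (fun u => chkE tab 2 u) = true := by decide +kernel

theorem e2_47 : allRange 115722 2202 (fun u => chkE tab 2 u) = true := by decide +kernel

theorem e2_48 : allRange 117924 2358 (fun u => chkE tab 2 u) = true := by decide +kernel


end Cfsg.Agent.Helper9.TCData.HeE0
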