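import Cfsg.Agent.Lib.Helper9.TCData.HeE0.Main

set_option autoImplicit false
set_option maxRecDepth 1000000

namespace Cfsg.Agent.Helper9.TCData.HeE0
open Cfsg.Agent.Helper9.TC2

theorem m2_775 : allRange 72850 94 (fun u => chkFix tab mwordsA u) = true := by decide +kernel

theorem m2_776 : allRange 72944 94 (fun u => chkFix tab mwordsA u) = true := by decide +kernel

theorem m2_777 : allRange 73038 94 (fun u => chkFix tab mwordsA u) = true := by decide +kernel

theorem m2_778 : allRange 73132 94 (fun u => chkFix tab mwordsA u) = true := by decide +kernel

theorem m2_779 : allRange 73226 94 (fun u => chkFix tab mwordsA u) = true := by decide +kernel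

theorem m2_780 : allRange 73320 94 (fun u => chkFix tab mwordsA u) = true := by decide +kernel

theorem m2_781 : allRange 73414 94 (fun u => chkFix tab mwordsA u) = true := by decide +kernel

theorem m2_782 : allRange 73508 94 (fun u => chkFix tab mwordsA u) = true := by decide +kernel


end Cfsg.Agent.Helper9.TCData.HeE0
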