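import Cfsg.Agent.Lib.Helper9.TCData.HeE0.Main

set_option autoImplicit false
set_option maxRecDepth 1000000

namespace Cfsg.Agent.Helper9.TCData.HeE0
open Cfsg.Agent.Helper9.TC2

theorem m2_1351 : allRange 126994 94 (fun u => chkFix tab mwordsA u) = true := by decide +kernel

theorem m2_1352 : allRange 127088 94 (fun u => chkFix tab mwordsA u) = true := by decide +kernel

theorem m2_1353 : allRange 127182 94 (fun u => chkFix tab mwordsA u) = true := by decide +kernel

theorem m2_1354 : allRange 127276 94 (fun u => chkFix tab mwordsA u) = true := by decide +kernel

theorem m2_1355 : allRange 127370 94 (fun u => chkFix tab mwordsA u) = true := by decide +kernel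

theorem m2_1356 : allRange 127464 94 (fun u => chkFix tab mwordsA u) = true := by decide +kernel

theorem m2_1357 : allRange 127558 94 (fun u => chkFix tab mwordsA u) = true := by decide +kernel

theorem m2_1358 : allRange 127652 94 (fun u => chkFix tab mwordsA u) = true := by decide +kernel


end Cfsg.Agent.Helper9.TCData.HeE0
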