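import Cfsg.Agent.Lib.Helper9.TCData.HeE0.Main

set_option autoImplicit false
set_option maxRecDepth 1000000

namespace Cfsg.Agent.Helper9.TCData.HeE0
open Cfsg.Agent.Helper9.TC2

theorem e3_59 : allRange 168616 2510 (fun u => chkE tab 3 u) = true := by decide +kernel

theorem e3_60 : allRange 171126 2656 (fun u => chkE tab 3 u) = true := by decide +kernel

theorem e3_61 : allRange 173782 2661 (fun u => chkE tab 3 u) = true := by decide +kernel

theorem e3_62 : allRange 176443 2691 (fun u => chkE tab 3 u) = true := by decide +kernel

theorem e3_63 : allRange 179134 2437 (fun u => chkE tab 3 u) = true := by decide +kernel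

theorem e3_64 : allRange 181571 2812 (fun u => chkE tab 3 u) = true := by decide +kernel

theorem e3_65 : allRange 184383 3045 (fun u => chkE tab 3 u) = true := by decide +kernel

theorem e3_66 : allRange 187428 1819 (fun u => chkE tab 3 u) = true := by decide +kernel


end Cfsg.Agent.Helper9.TCData.HeE0
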