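import Cfsg.Agent.Lib.Helper9.TCData.HeE0.Main

set_option autoImplicit false
set_option maxRecDepth 1000000

namespace Cfsg.Agent.Helper9.TCData.HeE0
open Cfsg.Agent.Helper9.TC2

theorem m2_1447 : allRange 136018 94 (fun u => chkFix tab mwordsA u) = true := by decide +kernel

theorem m2_1448 : allRange 136112 94 (fun u => chkFix tab mwordsA u) = true := by decide +kernel

theorem m2_1449 : allRange 136206 94 (fun u => chkFix tab mwordsA u) = true := by decide +kernel

theorem m2_1450 : allRange 136300 94 (fun u => chkFix tab mwordsA u) = true := by decide +kernel

theorem m2_1451 : allRange 136394 94 (fun u => chkFix tab mwordsA u) = true := by decide +kernel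

theorem m2_1452 : allRange 136488 94 (fun u => chkFix tab mwordsA u) = true := by decide +kernel

theorem m2_1453 : allRange 136582 94 (fun u => chkFix tab mwordsA u) = true := by decide +kernel

theorem m2_1454 : allRange 136676 94 (fun u => chkFix tab mwordsA u) = true := by decide +kernel


end Cfsg.Agent.Helper9.TCData.HeE0
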