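import Cfsg.Agent.Lib.Helper9.TCData.HeE0.Main

set_option autoImplicit false
set_option maxRecDepth 1000000

namespace Cfsg.Agent.Helper9.TCData.HeE0
open Cfsg.Agent.Helper9.TC2

theorem m2_1735 : allRange 163090 94 (fun u => chkFix tab mwordsA u) = true := by decide +kernel

theorem m2_1736 : allRange 163184 94 (fun u => chkFix tab mwordsA u) = true := by decide +kernel

theorem m2_1737 : allRange 163278 94 (fun u => chkFix tab mwordsA u) = true := by decide +kernel

theorem m2_1738 : allRange 163372 94 (fun u => chkFix tab mwordsA u) = true := by decide +kernel

theorem m2_1739 : allRange 163466 94 (fun u => chkFix tab mwordsA u) = true := by decide +kernel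

theorem m2_1740 : allRange 163560 94 (fun u => chkFix tab mwordsA u) = true := by decide +kernel

theorem m2_1741 : allRange 163654 94 (fun u => chkFix tab mwordsA u) = true := by decide +kernel

theorem m2_1742 : allRange 163748 94 (fun u => chkFix tab mwordsA u) = true := by decide +kernel


end Cfsg.Agent.Helper9.TCData.HeE0
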