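import Cfsg.Agent.Lib.Helper9.TCData.HeE0.Main

set_option autoImplicit false
set_option maxRecDepth 1000000

namespace Cfsg.Agent.Helper9.TCData.HeE0
open Cfsg.Agent.Helper9.TC2

theorem m2_1831 : allRange 172114 94 (fun u => chkFix tab mwordsA u) = true := by decide +kernel

theorem m2_1832 : allRange 172208 94 (fun u => chkFix tab mwordsA u) = true := by decide +kernel

theorem m2_1833 : allRange 172302 94 (fun u => chkFix tab mwordsA u) = true := by decide +kernel

theorem m2_1834 : allRange 172396 94 (fun u => chkFix tab mwordsA u) = true := by decide +kernel

theorem m2_1835 : allRange 172490 94 (fun u => chkFix tab mwordsA u) = true := by decide +kernel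

theorem m2_1836 : allRange 172584 94 (fun u => chkFix tab mwordsA u) = true := by decide +kernel

theorem m2_1837 : allRange 172678 94 (fun u => chkFix tab mwordsA u) = true := by decide +kernel

theorem m2_1838 : allRange 172772 94 (fun u => chkFix tab mwordsA u) = true := by decide +kernel


end Cfsg.Agent.Helper9.TCData.HeE0
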