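import Cfsg.Agent.Lib.Helper9.TCData.HeE0.Main

set_option autoImplicit false
set_option maxRecDepth 1000000

namespace Cfsg.Agent.Helper9.TCData.HeE0
open Cfsg.Agent.Helper9.TC2

theorem o1_120 : allRange 34560 288 (fun u => chkO1 tab orb u) = true := by decide +kernel

theorem o1_121 : allRange 34848 288 (fun u => chkO1 tab orb u) = true := by decide +kernel

theorem o1_122 : allRange 35136 288 (fun u => chkO1 tab orb u) = true := by decide +kernel

theorem o1_123 : allRange 35424 288 (fun u => chkO1 tab orb u) = true := by decide +kernel

theorem o1_124 : allRange 35712 288 (fun u => chkO1 tab orb u) = true := by decide +kernel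

theorem o1_125 : allRange 36000 288 (fun u => chkO1 tab orb u) = true := by decide +kernel

theorem o1_126 : allRange 36288 288 (fun u => chkO1 tab orb u) = true := by decide +kernel

theorem o1_127 : allRange 36576 288 (fun u => chkO1 tab orb u) = true := by decide +kernel


end Cfsg.Agent.Helper9.TCData.HeE0
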