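import Cfsg.Agent.Lib.Helper9.TCData.HeE0.Main

set_option autoImplicit false
set_option maxRecDepth 1000000

namespace Cfsg.Agent.Helper9.TCData.HeE0
open Cfsg.Agent.Helper9.TC2

theorem o1_216 : allRange 62208 288 (fun u => chkO1 tab orb u) = true := by decide +kernel

theorem o1_217 : allRange 62496 288 (fun u => chkO1 tab orb u) = true := by decide +kernel

theorem o1_218 : allRange 62784 288 (fun u => chkO1 tab orb u) = true := by decide +kernel

theorem o1_219 : allRange 63072 288 (fun u => chkO1 tab orb u) = true := by decide +kernel

theorem o1_220 : allRange 63360 288 (fun u => chkO1 tab orb u) = true := by decide +kernel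

theorem o1_221 : allRange 63648 288 (fun u => chkO1 tab orb u) = true := by decide +kernel

theorem o1_222 : allRange 63936 288 (fun u => chkO1 tab orb u) = true := by decide +kernel

theorem o1_223 : allRange 64224 288 (fun u => chkO1 tab orb u) = true := by decide +kernel


end Cfsg.Agent.Helper9.TCData.HeE0
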