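import Cfsg.Agent.Lib.Helper9.TCData.HeE0.Main

set_option autoImplicit false
set_option maxRecDepth 1000000

namespace Cfsg.Agent.Helper9.TCData.HeE0
open Cfsg.Agent.Helper9.TC2

theorem o1_312 : allRange 89856 288 (fun u => chkO1 tab orb u) = true := by decide +kernel

theorem o1_313 : allRange 90144 288 (fun u => chkO1 tab orb u) = true := by decide +kernel

theorem o1_314 : allRange 90432 288 (fun u => chkO1 tab orb u) = true := by decide +kernel

theorem o1_315 : allRange 90720 288 (fun u => chkO1 tab orb u) = true := by decide +kernel

theorem o1_316 : allRange 91008 288 (fun u => chkO1 tab orb u) = true := by decide +kernel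

theorem o1_317 : allRange 91296 288 (fun u => chkO1 tab orb u) = true := by decide +kernel

theorem o1_318 : allRange 91584 288 (fun u => chkO1 tab orb u) = true := by decide +kernel

theorem o1_319 : allRange 91872 288 (fun u => chkO1 tab orb u) = true := by decide +kernel


end Cfsg.Agent.Helper9.TCData.HeE0
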