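import Cfsg.Agent.Lib.Helper9.TCData.HeE0.Main

set_option autoImplicit false
set_option maxRecDepth 1000000

namespace Cfsg.Agent.Helper9.TCData.HeE0
open Cfsg.Agent.Helper9.TC2

theorem e5_23 : allRange 71131 3002 (fun u => chkE tab 5 u) = true := by decide +kernel

theorem e5_24 : allRange 74133 3064 (fun u => chkE tab 5 u) = true := by decide +kernel

theorem e5_25 : allRange 77197 3057 (fun u => chkE tab 5 u) = true := by decide +kernel

theorem e5_26 : allRange 80254 3074 (fun u => chkE tab 5 u) = true := by decide +kernel

theorem e5_27 : allRange 83328 3096 (fun u => chkE tab 5 u) = true := by decide +kernel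

theorem e5_28 : allRange 86424 2900 (fun u => chkE tab 5 u) = true := by decide +kernel

theorem e5_29 : allRange 89324 3027 (fun u => chkE tab 5 u) = true := by decide +kernel

theorem e5_30 : allRange 92351 3056 (fun u => chkE tab 5 u) = true := by decide +kernel


end Cfsg.Agent.Helper9.TCData.HeE0
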