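import Cfsg.Agent.Lib.Helper9.TCData.HeE0.Main

set_option autoImplicit false
set_option maxRecDepth 1000000

namespace Cfsg.Agent.Helper9.TCData.HeE0
open Cfsg.Agent.Helper9.TC2

theorem o1_408 : allRange 117504 288 (fun u => chkO1 tab orb u) = true := by decide +kernel

theorem o1_409 : allRange 117792 288 (fun u => chkO1 tab orb u) = true := by decide +kernel

theorem o1_410 : allRange 118080 288 (fun u => chkO1 tab orb u) = true := by decide +kernel

theorem o1_411 : allRange 118368 288 (fun u => chkO1 tab orb u) = true := by decide +kernel

theorem o1_412 : allRange 118656 288 (fun u => chkO1 tab orb u) = true := by decide +kernel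

theorem o1_413 : allRange 118944 288 (fun u => chkO1 tab orb u) = true := by decide +kernel

theorem o1_414 : allRange 119232 288 (fun u => chkO1 tab orb u) = true := by decide +kernel

theorem o1_415 : allRange 119520 288 (fun u => chkO1 tab orb u) = true := by decide +kernel


end Cfsg.Agent.Helper9.TCData.HeE0
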