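import Cfsg.Agent.Lib.Helper9.TCData.HeE0.Main

set_option autoImplicit false
set_option maxRecDepth 1000000

namespace Cfsg.Agent.Helper9.TCData.HeE0
open Cfsg.Agent.Helper9.TC2

theorem o1_504 : allRange 145152 288 (fun u => chkO1 tab orb u) = true := by decide +kernel

theorem o1_505 : allRange 145440 288 (fun u => chkO1 tab orb u) = true := by decide +kernel

theorem o1_506 : allRange 145728 288 (fun u => chkO1 tab orb u) = true := by decide +kernel

theorem o1_507 : allRange 146016 288 (fun u => chkO1 tab orb u) = true := by decide +kernel

theorem o1_508 : allRange 146304 288 (fun u => chkO1 tab orb u) = true := by decide +kernel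

theorem o1_509 : allRange 146592 288 (fun u => chkO1 tab orb u) = true := by decide +kernel

theorem o1_510 : allRange 146880 288 (fun u => chkO1 tab orb u) = true := by decide +kernel

theorem o1_511 : allRange 147168 288 (fun u => chkO1 tab orb u) = true := by decide +kernel


end Cfsg.Agent.Helper9.TCData.HeE0
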