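import Cfsg.Agent.Lib.Helper9.TCData.HeE0.Main

set_option autoImplicit false
set_option maxRecDepth 1000000

namespace Cfsg.Agent.Helper9.TCData.HeE0
open Cfsg.Agent.Helper9.TC2

theorem o1_600 : allRange 172800 288 (fun u => chkO1 tab orb u) = true := by decide +kernel

theorem o1_601 : allRange 173088 288 (fun u => chkO1 tab orb u) = true := by decide +kernel

theorem o1_602 : allRange 173376 288 (fun u => chkO1 tab orb u) = true := by decide +kernel

theorem o1_603 : allRange 173664 288 (fun u => chkO1 tab orb u) = true := by decide +kernel

theorem o1_604 : allRange 173952 288 (fun u => chkO1 tab orb u) = true := by decide +kernel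

theorem o1_605 : allRange 174240 288 (fun u => chkO1 tab orb u) = true := by decide +kernel

theorem o1_606 : allRange 174528 288 (fun u => chkO1 tab orb u) = true := by decide +kernel

theorem o1_607 : allRange 174816 288 (fun u => chkO1 tab orb u) = true := by decide +kernel


end Cfsg.Agent.Helper9.TCData.HeE0
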