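import Cfsg.Agent.Lib.Helper9.TCData.HeE0.Main

set_option autoImplicit false
set_option maxRecDepth 1000000

namespace Cfsg.Agent.Helper9.TCData.HeE0
open Cfsg.Agent.Helper9.TC2

theorem ol_0 : allRange 0 8000 (fun u => Nat.blt (orb.lab u) 34) = true := by decide +kernel

theorem ol_1 : allRange 8000 8000 (fun u => Nat.blt (orb.lab u) 34) = true := by decide +kernel

theorem ol_2 : allRange 16000 8000 (fun u => Nat.blt (orb.lab u) 34) = true := by decide +kernel

theorem ol_3 : allRange 24000 8000 (fun u => Nat.blt (orb.lab u) 34) = true := by decide +kernel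

theorem ol_4 : allRange 32000 8000 (fun u => Nat.blt (orb.lab u) 34) = true := by decide +kernel

theorem ol_5 : allRange 40000 8000 (fun u => Nat.blt (orb.lab u) 34) = true := by decide +kernel

theorem ol_6 : allRange 48000 8000 (fun u => Nat.blt (orb.lab u) 34) = true := by decide +kernel

theorem ol_7 : allRange 56000 8000 (fun u => Nat.blt (orb.lab u) 34) = true := by decide +kernel


end Cfsg.Agent.Helper9.TCData.HeE0
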