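import Cfsg.Agent.Lib.Helper9.TCData.HeE0.Main

set_option autoImplicit false
set_option maxRecDepth 1000000

namespace Cfsg.Agent.Helper9.TCData.HeE0
open Cfsg.Agent.Helper9.TC2

theorem e6_54 : allRange 153717 2649 (fun u => chkE tab 6 u) = true := by decide +kernel

theorem e6_55 : allRange 156366 2565 (fun u => chkE tab 6 u) = true := by decide +kernel

theorem e6_56 : allRange 158931 2625 (fun u => chkE tab 6 u) = true := by decide +kernel

theorem e6_57 : allRange 161556 2553 (fun u => chkE tab 6 u) = true := by decide +kernel

theorem e6_58 : allRange 164109 2621 (fun u => chkE tab 6 u) = true := by decide +kernel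

theorem e6_59 : allRange 166730 2634 (fun u => chkE tab 6 u) = true := by decide +kernel

theorem e6_60 : allRange 169364 2687 (fun u => chkE tab 6 u) = true := by decide +kernel

theorem e6_61 : allRange 172051 2843 (fun u => chkE tab 6 u) = true := by decide +kernel


end Cfsg.Agent.Helper9.TCData.HeE0
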