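import Cfsg.Agent.Lib.Helper9.TCData.HeE0.Main

set_option autoImplicit false
set_option maxRecDepth 1000000

namespace Cfsg.Agent.Helper9.TCData.HeE0
open Cfsg.Agent.Helper9.TC2

theorem f_264 : allRange 91872 348 (fun u => chkFin tab u) = true := by decide +kernel

theorem f_265 : allRange 92220 348 (fun u => chkFin tab u) = true := by decide +kernel

theorem f_266 : allRange 92568 348 (fun u => chkFin tab u) = true := by decide +kernel

theorem f_267 : allRange 92916 348 (fun u => chkFin tab u) = true := by decide +kernel

theorem f_268 : allRange 93264 348 (fun u => chkFin tab u) = true := by decide +kernel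

theorem f_269 : allRange 93612 348 (fun u => chkFin tab u) = true := by decide +kernel

theorem f_270 : allRange 93960 348 (fun u => chkFin tab u) = true := by decide +kernel

theorem f_271 : allRange 94308 348 (fun u => chkFin tab u) = true := by decide +kernel


end Cfsg.Agent.Helper9.TCData.HeE0
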